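import Mathlib
import Cfsg.Prelude.Def_ClassicalGeometry
import Cfsg.Agent.S0764
import Cfsg.Agent.S0767

set_option autoImplicit false

/-!
Symplectic transvections acting on `F^(2m)`: bilinearity of `Cfsg.sympForm`, the action of
`Cfsg.sympTransvection`, and transitivity of the group generated by transvections with centre in a
non-degenerate subspace on the hyperbolic pairs of that subspace.
-/

namespace Cfsg.Agent.Lib.Helper27.SympTransv

open Matrix Cfsg

variable {F : Type*} [Field F] {m : ℕ}

theorem sf_def (u v : Fin m ⊕ Fin m → F) :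
    sympForm m F u v = u ⬝ᵥ (Matrix.J (Fin m) F *ᵥ v) := rfl

theorem sf_add_left (u u' v : Fin m ⊕ Fin m → F) :
    sympForm m F (u + u') v = sympForm m F u v + sympForm m F u' v := by
  simp only [sf_def, add_dotProduct]

theorem sf_add_right (u v v' : Fin m ⊕ Fin m → F) :
    sympForm m F u (v + v') = sympForm m F u v + sympForm m F u v' := by
  simp only [sf_def, Matrix.mulVec_add, dotProduct_add]

theorem sf_smul_left (c : F) (u v : Fin m ⊕ Fin m → F) :
    sympForm m F (c • u) v = c * sympForm m F u v := by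
  simp only [sf_def, smul_dotProduct, smul_eq_mul]

theorem sf_smul_right (c : F) (u v : Fin m ⊕ Fin m → F) :
    sympForm m F u (c • v) = c * sympForm m F u v := by
  simp only [sf_def, Matrix.mulVec_smul, dotProduct_smul, smul_eq_mul]

theorem sf_self (u : Fin m ⊕ Fin m → F) : sympForm m F u u = 0 :=
  Cfsg.Agent.S0764.dotProduct_J_self m u

theorem sf_swap (u v : Fin m ⊕ Fin m → F) : sympForm m F v u = - sympForm m F u v := by
  have h := sf_self (u + v)
  rw [sf_add_left, sf_add_right, sf_add_right, sf_self, sf_self] at h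
  linear_combination h

theorem sf_neg_right (u v : Fin m ⊕ Fin m → F) : sympForm m F u (-v) = - sympForm m F u v := by
  have := sf_smul_right (-1 : F) u v
  simpa using this

theorem sf_neg_left (u v : Fin m ⊕ Fin m → F) : sympForm m F (-u) v = - sympForm m F u v := by
  have := sf_smul_left (-1 : F) u v
  simpa using this

theorem sf_sub_right (u v v' : Fin m ⊕ Fin m → F) :
    sympForm m F u (v - v') = sympForm m F u v - sympForm m F u v' := by
  rw [sub_eq_add_neg, sf_add_right, sf_neg_right, sub_eq_add_neg]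

theorem sf_sub_left (u u' v : Fin m ⊕ Fin m → F) :
    sympForm m F (u - u') v = sympForm m F u v - sympForm m F u' v := by
  rw [sub_eq_add_neg, sf_add_left, sf_neg_left, sub_eq_add_neg]

theorem sf_zero_left (v : Fin m ⊕ Fin m → F) : sympForm m F 0 v = 0 := by
  have := sf_smul_left (0 : F) (0 : Fin m ⊕ Fin m → F) v
  simpa using this

theorem sf_zero_right (v : Fin m ⊕ Fin m → F) : sympForm m F v 0 = 0 := by
  rw [sf_swap, sf_zero_left, neg_zero]

theorem sf_apply (u v : Fin m ⊕ Fin m → F) :
    sympForm m F u v = ∑ i, (u (Sum.inr i) * v (Sum.inl i) - u (Sum.inl i) * v (Sum.inr i)) := by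
  simp only [sf_def, Matrix.J, dotProduct, Matrix.mulVec, Fintype.sum_sum_type,
    Matrix.fromBlocks_apply₁₁, Matrix.fromBlocks_apply₁₂, Matrix.fromBlocks_apply₂₁,
    Matrix.fromBlocks_apply₂₂, Matrix.zero_apply, Matrix.neg_apply, Matrix.one_apply, zero_mul,
    Finset.sum_const_zero, zero_add, add_zero, neg_mul, ite_mul, one_mul, Finset.sum_neg_distrib,
    Finset.sum_ite_eq, Finset.mem_univ, if_true, mul_neg]
  rw [Finset.sum_sub_distrib]
  ring

/-- `f(u, e_(inl i)) = u_(inr i)`. -/
theorem sf_single_inl (u : Fin m ⊕ Fin m → F) (i : Fin m) :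
    sympForm m F u (Pi.single (Sum.inl i) 1) = u (Sum.inr i) := by
  rw [sf_apply]
  simp [Pi.single_apply, Finset.sum_ite_eq']

/-- `f(u, e_(inr i)) = - u_(inl i)`. -/
theorem sf_single_inr (u : Fin m ⊕ Fin m → F) (i : Fin m) :
    sympForm m F u (Pi.single (Sum.inr i) 1) = - u (Sum.inl i) := by
  rw [sf_apply]
  simp [Pi.single_apply, Finset.sum_ite_eq']

/-- Action of a transvection. -/
theorem transv_mulVec (w : Fin m ⊕ Fin m → F) (c : F) (x : Fin m ⊕ Fin m → F) :
    sympTransvection m w c *ᵥ x = x + (c * sympForm m F x w) • w := by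
  unfold sympTransvection
  rw [Matrix.add_mulVec, Matrix.one_mulVec, Matrix.smul_mulVec, Matrix.vecMulVec_mulVec,
    op_smul_eq_smul, smul_smul, sf_def, dotProduct_comm]

/-- Symplectic matrices preserve the form. -/
theorem sp_preserves (A : Matrix (Fin m ⊕ Fin m) (Fin m ⊕ Fin m) F)
    (hA : A ∈ Matrix.symplecticGroup (Fin m) F) (x y : Fin m ⊕ Fin m → F) :
    sympForm m F (A *ᵥ x) (A *ᵥ y) = sympForm m F x y := by
  have h := SymplecticGroup.mem_iff'.mp hA
  have e1 : (A *ᵥ x) ⬝ᵥ (Matrix.J (Fin m) F *ᵥ (A *ᵥ y)) =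
      x ⬝ᵥ (Aᵀ *ᵥ (Matrix.J (Fin m) F *ᵥ (A *ᵥ y))) := by
    rw [dotProduct_comm]
    exact (Matrix.dotProduct_transpose_mulVec A x _).symm
  rw [sf_def, sf_def, e1, Matrix.mulVec_mulVec, Matrix.mulVec_mulVec, h]

/-- The transvection as an element of the symplectic group. -/
def tv (w : Fin m ⊕ Fin m → F) (c : F) : Matrix.symplecticGroup (Fin m) F :=
  ⟨sympTransvection m w c, Cfsg.Agent.S0764.result m w c⟩

/-- Action of the symplectic group on vectors. -/
def act (A : Matrix.symplecticGroup (Fin m) F) (x : Fin m ⊕ Fin m → F) : Fin m ⊕ Fin m → F :=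
  (A : Matrix (Fin m ⊕ Fin m) (Fin m ⊕ Fin m) F) *ᵥ x

theorem act_mul (A B : Matrix.symplecticGroup (Fin m) F) (x : Fin m ⊕ Fin m → F) :
    act (A * B) x = act A (act B x) := by
  unfold act
  rw [Matrix.mulVec_mulVec]
  rfl

theorem act_one (x : Fin m ⊕ Fin m → F) : act (1 : Matrix.symplecticGroup (Fin m) F) x = x := by
  unfold act
  simp

theorem act_inv_act (A : Matrix.symplecticGroup (Fin m) F) (x : Fin m ⊕ Fin m → F) :
    act A⁻¹ (act A x) = x := by
  rw [← act_mul, inv_mul_cancel, act_one]

theorem act_preserves (A : Matrix.symplecticGroup (Fin m) F) (x y : Fin m ⊕ Fin m → F) :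
    sympForm m F (act A x) (act A y) = sympForm m F x y :=
  sp_preserves A.1 A.2 x y

theorem act_tv (w : Fin m ⊕ Fin m → F) (c : F) (x : Fin m ⊕ Fin m → F) :
    act (tv w c) x = x + (c * sympForm m F x w) • w :=
  transv_mulVec w c x

/-- The subgroup generated by the transvections with centre in `W`. -/
def TW (W : Submodule F (Fin m ⊕ Fin m → F)) : Subgroup (Matrix.symplecticGroup (Fin m) F) :=
  Subgroup.closure {A | ∃ w ∈ W, ∃ c : F,
    (A : Matrix (Fin m ⊕ Fin m) (Fin m ⊕ Fin m) F) = sympTransvection m w c}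

theorem tv_mem_TW (W : Submodule F (Fin m ⊕ Fin m → F)) {w : Fin m ⊕ Fin m → F} (hw : w ∈ W)
    (c : F) : tv w c ∈ TW W :=
  Subgroup.subset_closure ⟨w, hw, c, rfl⟩

theorem TW_mono {W W' : Submodule F (Fin m ⊕ Fin m → F)} (h : W ≤ W') : TW W ≤ TW W' := by
  apply Subgroup.closure_mono
  rintro A ⟨w, hw, c, hA⟩
  exact ⟨w, h hw, c, hA⟩

/-- Elements of `TW W` map `W` into itself. -/
theorem TW_maps (W : Submodule F (Fin m ⊕ Fin m → F)) (A : Matrix.symplecticGroup (Fin m) F)
    (hA : A ∈ TW W) : ∀ x ∈ W, act A x ∈ W := by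
  have key : ∀ B ∈ TW W, (∀ x ∈ W, act B x ∈ W) ∧ (∀ x ∈ W, act B⁻¹ x ∈ W) := by
    intro B hB
    induction hB using Subgroup.closure_induction with
    | mem B hB =>
      obtain ⟨w, hw, c, hBc⟩ := hB
      have hB' : B = tv w c := Subtype.ext hBc
      constructor
      · intro x hx
        rw [hB', act_tv]
        exact W.add_mem hx (W.smul_mem _ hw)
      · intro x hx
        have hinv : (tv w c)⁻¹ = tv w (-c) := by
          rw [inv_eq_iff_mul_eq_one]
          apply Subtype.ext
          change sympTransvection m w c * sympTransvection m w (-c) = 1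
          rw [(Cfsg.Agent.S0767.result m w).1 c (-c), add_neg_cancel]
          simp [sympTransvection]
        rw [hB', hinv, act_tv]
        exact W.add_mem hx (W.smul_mem _ hw)
    | one =>
      constructor
      · intro x hx; rwa [act_one]
      · intro x hx; rwa [inv_one, act_one]
    | mul B C _ _ ihB ihC =>
      constructor
      · intro x hx
        rw [act_mul]
        exact ihB.1 _ (ihC.1 x hx)
      · intro x hx
        rw [_root_.mul_inv_rev, act_mul]
        exact ihC.2 _ (ihB.2 x hx)
    | inv B _ ih =>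
      constructor
      · exact ih.2
      · intro x hx
        rw [inv_inv]
        exact ih.1 x hx
  exact (key A hA).1

/-- Elements of `TW W` fix every vector orthogonal to `W`. -/
theorem TW_fix (W : Submodule F (Fin m ⊕ Fin m → F)) (A : Matrix.symplecticGroup (Fin m) F)
    (hA : A ∈ TW W) (x : Fin m ⊕ Fin m → F) (hx : ∀ w ∈ W, sympForm m F x w = 0) :
    act A x = x := by
  induction hA using Subgroup.closure_induction with
  | mem B hB =>
    obtain ⟨w, hw, c, hBc⟩ := hB
    have hB' : B = tv w c := Subtype.ext hBc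
    rw [hB', act_tv, hx w hw, mul_zero, zero_smul, add_zero]
  | one => exact act_one x
  | mul B C _ _ ihB ihC => rw [act_mul, ihC, ihB]
  | inv B _ ih =>
    have := act_inv_act B x
    rw [ih] at this
    exact this

end Cfsg.Agent.Lib.Helper27.SympTransv
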