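import Mathlib
import Cfsg.Agent.Lib.Helper27.SympTransv

set_option autoImplicit false

/-!
Transitivity of the transvection group of a non-degenerate subspace on its hyperbolic pairs.
-/

namespace Cfsg.Agent.Lib.Helper27.SympTransv

open Matrix Cfsg

variable {F : Type*} [Field F] {m : ℕ}

/-- The form is non-degenerate on `W`. -/
def NondegOn (W : Submodule F (Fin m ⊕ Fin m → F)) : Prop :=
  ∀ u ∈ W, u ≠ 0 → ∃ a ∈ W, sympForm m F u a ≠ 0

theorem move_of_ne (W : Submodule F (Fin m ⊕ Fin m → F)) (u u' : Fin m ⊕ Fin m → F)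
    (hu : u ∈ W) (hu' : u' ∈ W) (h : sympForm m F u u' ≠ 0) :
    ∃ A ∈ TW W, act A u = u' := by
  refine ⟨tv (u' - u) (sympForm m F u u')⁻¹, tv_mem_TW W (W.sub_mem hu' hu) _, ?_⟩
  rw [act_tv, sf_sub_right, sf_self, sub_zero, inv_mul_cancel₀ h, one_smul]
  abel

theorem trans1 (W : Submodule F (Fin m ⊕ Fin m → F)) (hW : NondegOn W)
    (u u' : Fin m ⊕ Fin m → F) (hu : u ∈ W) (hu' : u' ∈ W) (hu0 : u ≠ 0) (hu'0 : u' ≠ 0) :
    ∃ A ∈ TW W, act A u = u' := by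
  by_cases h : sympForm m F u u' ≠ 0
  · exact move_of_ne W u u' hu hu' h
  · obtain ⟨a, haW, ha⟩ := hW u hu hu0
    obtain ⟨b, hbW, hb⟩ := hW u' hu' hu'0
    have hz : ∃ z ∈ W, sympForm m F u z ≠ 0 ∧ sympForm m F z u' ≠ 0 := by
      by_cases h1 : sympForm m F u' a ≠ 0
      · refine ⟨a, haW, ha, ?_⟩
        rw [sf_swap]; exact neg_ne_zero.mpr h1
      · by_cases h2 : sympForm m F u b ≠ 0
        · refine ⟨b, hbW, h2, ?_⟩
          rw [sf_swap]; exact neg_ne_zero.mpr hb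
        · rw [not_not] at h1 h2
          refine ⟨a + b, W.add_mem haW hbW, ?_, ?_⟩
          · rw [sf_add_right, h2, add_zero]; exact ha
          · rw [sf_swap, sf_add_right, h1, zero_add]; exact neg_ne_zero.mpr hb
    obtain ⟨z, hzW, hz1, hz2⟩ := hz
    obtain ⟨A₁, hA₁, hA₁u⟩ := move_of_ne W u z hu hzW hz1
    obtain ⟨A₂, hA₂, hA₂z⟩ := move_of_ne W z u' hzW hu' hz2
    refine ⟨A₂ * A₁, mul_mem hA₂ hA₁, ?_⟩
    rw [act_mul, hA₁u, hA₂z]

theorem trans2_ne (W : Submodule F (Fin m ⊕ Fin m → F)) (u v v' : Fin m ⊕ Fin m → F)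
    (hv : v ∈ W) (hv' : v' ∈ W) (h : sympForm m F u v = 1) (h' : sympForm m F u v' = 1)
    (hne : sympForm m F v v' ≠ 0) :
    ∃ A ∈ TW W, act A u = u ∧ act A v = v' := by
  refine ⟨tv (v' - v) (sympForm m F v v')⁻¹, tv_mem_TW W (W.sub_mem hv' hv) _, ?_, ?_⟩
  · rw [act_tv, sf_sub_right, h, h', sub_self, mul_zero, zero_smul, add_zero]
  · rw [act_tv, sf_sub_right, sf_self, sub_zero, inv_mul_cancel₀ hne, one_smul]
    abel

theorem trans2 (W : Submodule F (Fin m ⊕ Fin m → F)) (u v v' : Fin m ⊕ Fin m → F)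
    (hu : u ∈ W) (hv : v ∈ W) (hv' : v' ∈ W) (h : sympForm m F u v = 1)
    (h' : sympForm m F u v' = 1) :
    ∃ A ∈ TW W, act A u = u ∧ act A v = v' := by
  by_cases hne : sympForm m F v v' ≠ 0
  · exact trans2_ne W u v v' hv hv' h h' hne
  · rw [not_not] at hne
    have hz1 : sympForm m F u (u + v) = 1 := by rw [sf_add_right, sf_self, h, zero_add]
    have hz2 : sympForm m F v (u + v) ≠ 0 := by
      rw [sf_add_right, sf_self, add_zero, sf_swap, h]
      exact neg_ne_zero.mpr one_ne_zero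
    have hz3 : sympForm m F (u + v) v' ≠ 0 := by
      rw [sf_add_left, h', hne, add_zero]
      exact one_ne_zero
    obtain ⟨A₁, hA₁, hA₁u, hA₁v⟩ := trans2_ne W u v (u + v) hv (W.add_mem hu hv) h hz1 hz2
    obtain ⟨A₂, hA₂, hA₂u, hA₂z⟩ := trans2_ne W u (u + v) v' (W.add_mem hu hv) hv' hz1 h' hz3
    refine ⟨A₂ * A₁, mul_mem hA₂ hA₁, ?_, ?_⟩
    · rw [act_mul, hA₁u, hA₂u]
    · rw [act_mul, hA₁v, hA₂z]

theorem trans_pair (W : Submodule F (Fin m ⊕ Fin m → F)) (hW : NondegOn W)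
    (u v u' v' : Fin m ⊕ Fin m → F) (hu : u ∈ W) (hv : v ∈ W) (hu' : u' ∈ W) (hv' : v' ∈ W)
    (h : sympForm m F u v = 1) (h' : sympForm m F u' v' = 1) :
    ∃ A ∈ TW W, act A u = u' ∧ act A v = v' := by
  have hu0 : u ≠ 0 := by
    rintro rfl
    rw [sf_zero_left] at h
    exact zero_ne_one h
  have hu'0 : u' ≠ 0 := by
    rintro rfl
    rw [sf_zero_left] at h'
    exact zero_ne_one h'
  obtain ⟨A₁, hA₁, hA₁u⟩ := trans1 W hW u u' hu hu' hu0 hu'0
  have hv₁ : act A₁ v ∈ W := TW_maps W A₁ hA₁ v hv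
  have hf : sympForm m F u' (act A₁ v) = 1 := by
    rw [← hA₁u, act_preserves, h]
  obtain ⟨A₂, hA₂, hA₂u, hA₂v⟩ := trans2 W u' (act A₁ v) v' hu' hv₁ hv' hf h'
  refine ⟨A₂ * A₁, mul_mem hA₂ hA₁, ?_, ?_⟩
  · rw [act_mul, hA₁u, hA₂u]
  · rw [act_mul, hA₂v]

/-- The whole space is non-degenerate. -/
theorem nondegOn_top : NondegOn (⊤ : Submodule F (Fin m ⊕ Fin m → F)) := by
  intro u _ hu0
  have : ∃ s, u s ≠ 0 := by
    by_contra hne
    apply hu0
    funext s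
    by_contra hs
    exact hne ⟨s, hs⟩
  obtain ⟨s, hs⟩ := this
  rcases s with i | i
  · refine ⟨Pi.single (Sum.inr i) 1, Submodule.mem_top, ?_⟩
    rw [sf_single_inr]
    exact neg_ne_zero.mpr hs
  · refine ⟨Pi.single (Sum.inl i) 1, Submodule.mem_top, ?_⟩
    rw [sf_single_inl]
    exact hs

end Cfsg.Agent.Lib.Helper27.SympTransv
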