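import Mathlib
import Cfsg.Agent.Lib.Helper27.SympTransv2
import Cfsg.Agent.S0765

set_option autoImplicit false

/-!
Algebra of symplectic transvections `tv w c` inside `Matrix.symplecticGroup`: extensionality through
the action on vectors, products, inverses, conjugates, and generation of the whole group.
-/

namespace Cfsg.Agent.Lib.Helper27.SympTransv

open Matrix Cfsg

variable {F : Type*} [Field F] {m : ℕ}

/-- Two symplectic matrices with the same action on vectors are equal. -/
theorem act_ext {A B : Matrix.symplecticGroup (Fin m) F} (h : ∀ x, act A x = act B x) : A = B := by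
  apply Subtype.ext
  ext a b
  have := congrFun (h (Pi.single b 1)) a
  unfold act at this
  rw [Matrix.mulVec_single_one, Matrix.mulVec_single_one] at this
  exact this

theorem act_add (A : Matrix.symplecticGroup (Fin m) F) (x y : Fin m ⊕ Fin m → F) :
    act A (x + y) = act A x + act A y := Matrix.mulVec_add _ _ _

theorem act_smul (A : Matrix.symplecticGroup (Fin m) F) (a : F) (x : Fin m ⊕ Fin m → F) :
    act A (a • x) = a • act A x := Matrix.mulVec_smul _ _ _

theorem act_zero (A : Matrix.symplecticGroup (Fin m) F) : act A 0 = 0 := Matrix.mulVec_zero _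

theorem act_act_inv (A : Matrix.symplecticGroup (Fin m) F) (x : Fin m ⊕ Fin m → F) :
    act A (act A⁻¹ x) = x := by
  rw [← act_mul, mul_inv_cancel, act_one]

theorem act_preserves_inv (A : Matrix.symplecticGroup (Fin m) F) (x y : Fin m ⊕ Fin m → F) :
    sympForm m F (act A⁻¹ x) y = sympForm m F x (act A y) := by
  rw [← act_preserves A, act_act_inv]

theorem tv_zero_left (c : F) : tv (0 : Fin m ⊕ Fin m → F) c = 1 := by
  apply act_ext
  intro x
  rw [act_tv, smul_zero, add_zero, act_one]

theorem tv_zero_right (w : Fin m ⊕ Fin m → F) : tv w (0 : F) = 1 := by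
  apply act_ext
  intro x
  rw [act_tv, zero_mul, zero_smul, add_zero, act_one]

theorem tv_mul (w : Fin m ⊕ Fin m → F) (c d : F) : tv w c * tv w d = tv w (c + d) := by
  apply act_ext
  intro x
  rw [act_mul, act_tv, act_tv, act_tv, sf_add_left, sf_smul_left, sf_self, mul_zero, add_zero]
  module

theorem tv_inv (w : Fin m ⊕ Fin m → F) (c : F) : (tv w c)⁻¹ = tv w (-c) := by
  rw [inv_eq_iff_mul_eq_one, tv_mul, add_neg_cancel, tv_zero_right]

theorem tv_smul (a : F) (w : Fin m ⊕ Fin m → F) (c : F) : tv (a • w) c = tv w (a ^ 2 * c) := by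
  apply act_ext
  intro x
  rw [act_tv, act_tv, sf_smul_right, smul_smul]
  congr 2
  ring

/-- Conjugating a transvection moves its centre. -/
theorem conj_tv (A : Matrix.symplecticGroup (Fin m) F) (w : Fin m ⊕ Fin m → F) (c : F) :
    A * tv w c * A⁻¹ = tv (act A w) c := by
  apply act_ext
  intro x
  rw [act_mul, act_mul, act_tv, act_tv, act_add, act_smul, act_act_inv, act_preserves_inv]

/-- Transvections with orthogonal centres commute. -/
theorem tv_comm_of_perp (u v : Fin m ⊕ Fin m → F) (h : sympForm m F u v = 0) (c d : F) :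
    tv u c * tv v d = tv v d * tv u c := by
  have h' : sympForm m F v u = 0 := by rw [sf_swap, h, neg_zero]
  apply act_ext
  intro x
  rw [act_mul, act_mul, act_tv, act_tv, act_tv, act_tv, sf_add_left, sf_add_left, sf_smul_left,
    sf_smul_left, h, h', mul_zero, mul_zero, add_zero, add_zero]
  abel

/-- A subgroup containing all transvections is everything. -/
theorem eq_top_of_tv_mem (H : Subgroup (Matrix.symplecticGroup (Fin m) F))
    (h : ∀ (w : Fin m ⊕ Fin m → F) (c : F), tv w c ∈ H) : H = ⊤ := by
  rw [eq_top_iff, ← Cfsg.Agent.S0765.result m, Subgroup.closure_le]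
  rintro A ⟨w, c, hA⟩
  have : A = tv w c := Subtype.ext hA
  rw [this]
  exact h w c

end Cfsg.Agent.Lib.Helper27.SympTransv
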