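import Mathlib
import Cfsg.Agent.Lib.Helper27.SympTransv3

set_option autoImplicit false

/-!
The order of the finite symplectic group, through the subgroups `GW W` of elements fixing `W^⊥`
pointwise and stabilising a non-degenerate subspace `W`: orbit-stabiliser on the hyperbolic pairs
of `W`, by induction on the size of `W`.
-/

namespace Cfsg.Agent.Lib.Helper27.SympTransv

open Matrix Cfsg

variable {F : Type*} [Field F] {m : ℕ}

theorem act_neg (A : Matrix.symplecticGroup (Fin m) F) (x : Fin m ⊕ Fin m → F) :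
    act A (-x) = -act A x := Matrix.mulVec_neg _ _

theorem act_sub (A : Matrix.symplecticGroup (Fin m) F) (x y : Fin m ⊕ Fin m → F) :
    act A (x - y) = act A x - act A y := Matrix.mulVec_sub _ _ _

/-- Elements fixing `W^⊥` pointwise and stabilising `W`. -/
def GW (W : Submodule F (Fin m ⊕ Fin m → F)) : Subgroup (Matrix.symplecticGroup (Fin m) F) where
  carrier := {g | (∀ x, (∀ w ∈ W, sympForm m F x w = 0) → act g x = x) ∧
    ∀ w, w ∈ W ↔ act g w ∈ W}
  mul_mem' := by
    rintro a b ⟨ha1, ha2⟩ ⟨hb1, hb2⟩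
    refine ⟨fun x hx => by rw [act_mul, hb1 x hx, ha1 x hx], fun w => ?_⟩
    rw [act_mul]
    exact (hb2 w).trans (ha2 _)
  one_mem' := ⟨fun x _ => act_one x, fun w => by rw [act_one]⟩
  inv_mem' := by
    rintro a ⟨ha1, ha2⟩
    refine ⟨fun x hx => ?_, fun w => ?_⟩
    · have := act_inv_act a x
      rw [ha1 x hx] at this
      exact this
    · rw [ha2 (act a⁻¹ w), act_act_inv]

theorem TW_le_GW (W : Submodule F (Fin m ⊕ Fin m → F)) : TW W ≤ GW W := by
  intro A hA
  refine ⟨fun x hx => TW_fix W A hA x hx, fun w => ⟨TW_maps W A hA w, fun h => ?_⟩⟩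
  have := TW_maps W A⁻¹ (inv_mem hA) _ h
  rwa [act_inv_act] at this

/-- Component of `x` orthogonal to the hyperbolic pair `u, v`. -/
def compl (u v x : Fin m ⊕ Fin m → F) : Fin m ⊕ Fin m → F :=
  x - (sympForm m F x v • u - sympForm m F x u • v)

theorem sf_compl_left (u v x y : Fin m ⊕ Fin m → F) :
    sympForm m F (compl u v x) y =
      sympForm m F x y - (sympForm m F x v * sympForm m F u y -
        sympForm m F x u * sympForm m F v y) := by
  unfold compl
  rw [sf_sub_left, sf_sub_left, sf_smul_left, sf_smul_left]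

theorem compl_perp_left (u v x : Fin m ⊕ Fin m → F) (h : sympForm m F u v = 1) :
    sympForm m F (compl u v x) u = 0 := by
  have hvu : sympForm m F v u = -1 := by rw [sf_swap, h]
  rw [sf_compl_left, sf_self, hvu]
  ring

theorem compl_perp_right (u v x : Fin m ⊕ Fin m → F) (h : sympForm m F u v = 1) :
    sympForm m F (compl u v x) v = 0 := by
  rw [sf_compl_left, sf_self, h]
  ring

theorem compl_add_eq (u v x : Fin m ⊕ Fin m → F) :
    compl u v x + (sympForm m F x v • u - sympForm m F x u • v) = x := by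
  unfold compl
  exact sub_add_cancel _ _

/-- The orthogonal complement of the hyperbolic pair `u, v` inside `W`. -/
def Wperp (W : Submodule F (Fin m ⊕ Fin m → F)) (u v : Fin m ⊕ Fin m → F) :
    Submodule F (Fin m ⊕ Fin m → F) where
  carrier := {x | x ∈ W ∧ sympForm m F x u = 0 ∧ sympForm m F x v = 0}
  add_mem' := by
    rintro x y ⟨hx, hxu, hxv⟩ ⟨hy, hyu, hyv⟩
    exact ⟨W.add_mem hx hy, by rw [sf_add_left, hxu, hyu, add_zero],
      by rw [sf_add_left, hxv, hyv, add_zero]⟩
  zero_mem' := ⟨W.zero_mem, sf_zero_left _, sf_zero_left _⟩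
  smul_mem' := by
    rintro c x ⟨hx, hxu, hxv⟩
    exact ⟨W.smul_mem c hx, by rw [sf_smul_left, hxu, mul_zero],
      by rw [sf_smul_left, hxv, mul_zero]⟩

theorem mem_Wperp {W : Submodule F (Fin m ⊕ Fin m → F)} {u v x : Fin m ⊕ Fin m → F} :
    x ∈ Wperp W u v ↔ x ∈ W ∧ sympForm m F x u = 0 ∧ sympForm m F x v = 0 := Iff.rfl

theorem Wperp_le (W : Submodule F (Fin m ⊕ Fin m → F)) (u v : Fin m ⊕ Fin m → F) :
    Wperp W u v ≤ W := fun _ hx => hx.1

theorem compl_mem_Wperp (W : Submodule F (Fin m ⊕ Fin m → F)) (u v x : Fin m ⊕ Fin m → F)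
    (hu : u ∈ W) (hv : v ∈ W) (h : sympForm m F u v = 1) (hx : x ∈ W) :
    compl u v x ∈ Wperp W u v :=
  ⟨W.sub_mem hx (W.sub_mem (W.smul_mem _ hu) (W.smul_mem _ hv)), compl_perp_left u v x h,
    compl_perp_right u v x h⟩

theorem nondegOn_Wperp (W : Submodule F (Fin m ⊕ Fin m → F)) (hW : NondegOn W)
    (u v : Fin m ⊕ Fin m → F) (hu : u ∈ W) (hv : v ∈ W) (h : sympForm m F u v = 1) :
    NondegOn (Wperp W u v) := by
  rintro y ⟨hyW, hyu, hyv⟩ hy0
  obtain ⟨a, haW, ha⟩ := hW y hyW hy0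
  refine ⟨compl u v a, compl_mem_Wperp W u v a hu hv h haW, ?_⟩
  unfold compl
  rw [sf_sub_right, sf_sub_right, sf_smul_right, sf_smul_right, hyu, hyv, mul_zero, mul_zero,
    sub_zero, sub_zero]
  exact ha

/-- `W` is the product of the hyperbolic plane and its complement. -/
def splitEquiv (W : Submodule F (Fin m ⊕ Fin m → F)) (u v : Fin m ⊕ Fin m → F)
    (hu : u ∈ W) (hv : v ∈ W) (h : sympForm m F u v = 1) : ↥W ≃ F × F × ↥(Wperp W u v) where
  toFun x := (sympForm m F x.1 u, sympForm m F x.1 v,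
    ⟨compl u v x.1, compl_mem_Wperp W u v x.1 hu hv h x.2⟩)
  invFun p := ⟨p.2.2.1 + (p.2.1 • u - p.1 • v),
    W.add_mem p.2.2.2.1 (W.sub_mem (W.smul_mem _ hu) (W.smul_mem _ hv))⟩
  left_inv x := Subtype.ext (compl_add_eq u v x.1)
  right_inv := by
    rintro ⟨a, b, ⟨y, hyW, hyu, hyv⟩⟩
    have hvu : sympForm m F v u = -1 := by rw [sf_swap, h]
    have e1 : sympForm m F (y + (b • u - a • v)) u = a := by
      rw [sf_add_left, sf_sub_left, sf_smul_left, sf_smul_left, sf_self, hvu, hyu]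
      ring
    have e2 : sympForm m F (y + (b • u - a • v)) v = b := by
      rw [sf_add_left, sf_sub_left, sf_smul_left, sf_smul_left, sf_self, h, hyv]
      ring
    refine Prod.ext e1 (Prod.ext e2 (Subtype.ext ?_))
    change compl u v (y + (b • u - a • v)) = y
    unfold compl
    rw [e1, e2]
    abel

theorem card_eq_sq_mul [Fintype F] (W : Submodule F (Fin m ⊕ Fin m → F))
    (u v : Fin m ⊕ Fin m → F) (hu : u ∈ W) (hv : v ∈ W) (h : sympForm m F u v = 1) :
    Nat.card W = Fintype.card F ^ 2 * Nat.card (Wperp W u v) := by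
  rw [Nat.card_congr (splitEquiv W u v hu hv h), Nat.card_prod, Nat.card_prod,
    Nat.card_eq_fintype_card]
  ring

/-- The group of the complement is the stabiliser of the hyperbolic pair. -/
theorem GW_Wperp_iff (W : Submodule F (Fin m ⊕ Fin m → F)) (u v : Fin m ⊕ Fin m → F)
    (hu : u ∈ W) (hv : v ∈ W) (h : sympForm m F u v = 1)
    (g : Matrix.symplecticGroup (Fin m) F) :
    g ∈ GW (Wperp W u v) ↔ g ∈ GW W ∧ act g u = u ∧ act g v = v := by
  constructor
  · intro hg
    have hfix : ∀ k ∈ GW (Wperp W u v), act k u = u ∧ act k v = v := by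
      intro k hk
      constructor
      · exact hk.1 u (fun w hw => by rw [sf_swap, hw.2.1, neg_zero])
      · exact hk.1 v (fun w hw => by rw [sf_swap, hw.2.2, neg_zero])
    have hfwd : ∀ k ∈ GW (Wperp W u v), ∀ w ∈ W, act k w ∈ W := by
      intro k hk w hw
      rw [← compl_add_eq u v w, act_add, act_sub, act_smul, act_smul, (hfix k hk).1,
        (hfix k hk).2]
      exact W.add_mem (Wperp_le W u v ((hk.2 _).mp (compl_mem_Wperp W u v w hu hv h hw)))
        (W.sub_mem (W.smul_mem _ hu) (W.smul_mem _ hv))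
    refine ⟨⟨fun x hx => hg.1 x (fun w hw => hx w hw.1),
      fun w => ⟨hfwd g hg w, fun hw => ?_⟩⟩, (hfix g hg).1, (hfix g hg).2⟩
    have := hfwd g⁻¹ (inv_mem hg) _ hw
    rwa [act_inv_act] at this
  · rintro ⟨⟨h1, h2⟩, hgu, hgv⟩
    refine ⟨fun x hx => ?_, fun w => ?_⟩
    · have hc : ∀ w ∈ W, sympForm m F (compl u v x) w = 0 := by
        intro w hw
        have hcw := compl_mem_Wperp W u v w hu hv h hw
        rw [← compl_add_eq u v w, sf_add_right, sf_sub_right, sf_smul_right, sf_smul_right,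
          compl_perp_left u v x h, compl_perp_right u v x h, mul_zero, mul_zero, sub_zero,
          add_zero, sf_compl_left, hx _ hcw]
        have e1 : sympForm m F u (compl u v w) = 0 := by rw [sf_swap, hcw.2.1, neg_zero]
        have e2 : sympForm m F v (compl u v w) = 0 := by rw [sf_swap, hcw.2.2, neg_zero]
        rw [e1, e2]
        ring
      have hx' := compl_add_eq u v x
      calc act g x = act g (compl u v x + (sympForm m F x v • u - sympForm m F x u • v)) := by
            rw [hx']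
        _ = compl u v x + (sympForm m F x v • u - sympForm m F x u • v) := by
            rw [act_add, act_sub, act_smul, act_smul, hgu, hgv, h1 _ hc]
        _ = x := hx'
    · have e1 : sympForm m F (act g w) u = sympForm m F w u := by
        have := act_preserves g w u
        rwa [hgu] at this
      have e2 : sympForm m F (act g w) v = sympForm m F w v := by
        have := act_preserves g w v
        rwa [hgv] at this
      rw [mem_Wperp, mem_Wperp, ← h2 w, e1, e2]

theorem orbit_eq (W : Submodule F (Fin m ⊕ Fin m → F)) (hW : NondegOn W)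
    (u v : Fin m ⊕ Fin m → F) (hu : u ∈ W) (hv : v ∈ W) (h : sympForm m F u v = 1) :
    MulAction.orbit (GW W) ((u, v) : (Fin m ⊕ Fin m → F) × (Fin m ⊕ Fin m → F)) =
      {p | p.1 ∈ W ∧ p.2 ∈ W ∧ sympForm m F p.1 p.2 = 1} := by
  ext ⟨u', v'⟩
  constructor
  · rintro ⟨⟨g, hg⟩, hgp⟩
    have h1 : act g u = u' := congrArg Prod.fst hgp
    have h2 : act g v = v' := congrArg Prod.snd hgp
    refine ⟨?_, ?_, ?_⟩
    · change u' ∈ W
      rw [← h1]
      exact (hg.2 u).mp hu
    · change v' ∈ W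
      rw [← h2]
      exact (hg.2 v).mp hv
    · change sympForm m F u' v' = 1
      rw [← h1, ← h2, act_preserves]
      exact h
  · rintro ⟨hu', hv', h'⟩
    obtain ⟨A, hA, hAu, hAv⟩ := trans_pair W hW u v u' v' hu hv hu' hv' h h'
    exact ⟨⟨A, TW_le_GW W hA⟩, Prod.ext hAu hAv⟩

theorem card_stabilizer (W : Submodule F (Fin m ⊕ Fin m → F))
    (u v : Fin m ⊕ Fin m → F) (hu : u ∈ W) (hv : v ∈ W) (h : sympForm m F u v = 1) :
    Nat.card (MulAction.stabilizer (GW W)
      ((u, v) : (Fin m ⊕ Fin m → F) × (Fin m ⊕ Fin m → F))) = Nat.card (GW (Wperp W u v)) := by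
  apply Nat.card_congr
  exact
    { toFun := fun g => ⟨g.1.1, (GW_Wperp_iff W u v hu hv h g.1.1).mpr
        ⟨g.1.2, congrArg Prod.fst (MulAction.mem_stabilizer_iff.mp g.2),
          congrArg Prod.snd (MulAction.mem_stabilizer_iff.mp g.2)⟩⟩
      invFun := fun g => ⟨⟨g.1, ((GW_Wperp_iff W u v hu hv h g.1).mp g.2).1⟩,
        MulAction.mem_stabilizer_iff.mpr (Prod.ext ((GW_Wperp_iff W u v hu hv h g.1).mp g.2).2.1
          ((GW_Wperp_iff W u v hu hv h g.1).mp g.2).2.2)⟩
      left_inv := fun g => rfl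
      right_inv := fun g => rfl }

/-! ### Counting hyperbolic pairs -/

theorem exists_dual (W : Submodule F (Fin m ⊕ Fin m → F)) (hW : NondegOn W)
    (u : Fin m ⊕ Fin m → F) (hu : u ∈ W) (hu0 : u ≠ 0) : ∃ a ∈ W, sympForm m F u a = 1 := by
  obtain ⟨a, ha, hne⟩ := hW u hu hu0
  exact ⟨(sympForm m F u a)⁻¹ • a, W.smul_mem _ ha, by rw [sf_smul_right, inv_mul_cancel₀ hne]⟩

open Classical in
/-- A chosen partner of `u` in `W`. -/
noncomputable def dual (W : Submodule F (Fin m ⊕ Fin m → F)) (hW : NondegOn W)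
    (u : Fin m ⊕ Fin m → F) : Fin m ⊕ Fin m → F :=
  if h : u ∈ W ∧ u ≠ 0 then Classical.choose (exists_dual W hW u h.1 h.2) else 0

theorem dual_mem (W : Submodule F (Fin m ⊕ Fin m → F)) (hW : NondegOn W)
    (u : Fin m ⊕ Fin m → F) : dual W hW u ∈ W := by
  unfold dual
  split_ifs with h
  · exact (Classical.choose_spec (exists_dual W hW u h.1 h.2)).1
  · exact W.zero_mem

theorem sf_dual (W : Submodule F (Fin m ⊕ Fin m → F)) (hW : NondegOn W)
    (u : Fin m ⊕ Fin m → F) (hu : u ∈ W) (hu0 : u ≠ 0) : sympForm m F u (dual W hW u) = 1 := by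
  unfold dual
  rw [dif_pos ⟨hu, hu0⟩]
  exact (Classical.choose_spec (exists_dual W hW u hu hu0)).2

/-- Scalars times hyperbolic pairs of `W` correspond to non-zero vectors times vectors. -/
noncomputable def hpEquiv (W : Submodule F (Fin m ⊕ Fin m → F)) (hW : NondegOn W) :
    F × {p : (Fin m ⊕ Fin m → F) × (Fin m ⊕ Fin m → F) //
        p.1 ∈ W ∧ p.2 ∈ W ∧ sympForm m F p.1 p.2 = 1} ≃
      {u : ↥W // u ≠ 0} × ↥W where
  toFun x := (⟨⟨x.2.1.1, x.2.2.1⟩, by
      intro h0
      have h1 : x.2.1.1 = 0 := congrArg Subtype.val h0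
      have h2 := x.2.2.2.2
      rw [h1, sf_zero_left] at h2
      exact zero_ne_one h2⟩,
    ⟨x.2.1.2 + (x.1 - 1) • dual W hW x.2.1.1,
      W.add_mem x.2.2.2.1 (W.smul_mem _ (dual_mem W hW _))⟩)
  invFun y := (sympForm m F y.1.1.1 y.2.1,
    ⟨(y.1.1.1, y.2.1 - (sympForm m F y.1.1.1 y.2.1 - 1) • dual W hW y.1.1.1),
      y.1.1.2, W.sub_mem y.2.2 (W.smul_mem _ (dual_mem W hW _)), by
        have hu0 : y.1.1.1 ≠ 0 := fun h0 => y.1.2 (Subtype.ext h0)
        change sympForm m F y.1.1.1 (y.2.1 - (sympForm m F y.1.1.1 y.2.1 - 1) • dual W hW y.1.1.1)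
          = 1
        rw [sf_sub_right, sf_smul_right, sf_dual W hW _ y.1.1.2 hu0]
        ring⟩)
  left_inv := by
    rintro ⟨c, ⟨⟨u, v⟩, hu, hv, h⟩⟩
    have hu0 : u ≠ 0 := by
      rintro rfl
      rw [sf_zero_left] at h
      exact zero_ne_one h
    have e1 : sympForm m F u (v + (c - 1) • dual W hW u) = c := by
      rw [sf_add_right, sf_smul_right, sf_dual W hW u hu hu0]
      change sympForm m F u v = 1 at h
      rw [h]
      ring
    refine Prod.ext e1 (Subtype.ext (Prod.ext rfl ?_))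
    change v + (c - 1) • dual W hW u -
      (sympForm m F u (v + (c - 1) • dual W hW u) - 1) • dual W hW u = v
    rw [e1]
    abel
  right_inv := by
    rintro ⟨⟨⟨u, hu⟩, hu0⟩, ⟨w, hw⟩⟩
    refine Prod.ext rfl (Subtype.ext ?_)
    change w - (sympForm m F u w - 1) • dual W hW u + (sympForm m F u w - 1) • dual W hW u = w
    abel

theorem card_hp [Fintype F] (W : Submodule F (Fin m ⊕ Fin m → F)) (hW : NondegOn W) :
    Fintype.card F * Nat.card {p : (Fin m ⊕ Fin m → F) × (Fin m ⊕ Fin m → F) //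
        p.1 ∈ W ∧ p.2 ∈ W ∧ sympForm m F p.1 p.2 = 1} = (Nat.card W - 1) * Nat.card W := by
  classical
  have h1 := Nat.card_congr (hpEquiv W hW)
  rw [Nat.card_prod, Nat.card_prod, Nat.card_eq_fintype_card] at h1
  rw [h1]
  congr 1
  have h2 := Nat.card_congr (Equiv.optionSubtypeNe (0 : ↥W))
  rw [Finite.card_option] at h2
  omega

/-- The order of `GW W` for a non-degenerate `W` with `q^(2k)` elements. -/
theorem card_GW [Fintype F] {q : ℕ} (hq : Fintype.card F = q) (k : ℕ) :
    ∀ W : Submodule F (Fin m ⊕ Fin m → F), NondegOn W → Nat.card W = q ^ (2 * k) →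
      Nat.card (GW W) = q ^ (k ^ 2) * ∏ i ∈ Finset.range k, (q ^ (2 * (i + 1)) - 1) := by
  induction k with
  | zero =>
    intro W _ hc
    rw [mul_zero, pow_zero] at hc
    have hsub : ∀ w ∈ W, w = 0 := by
      have hs : Subsingleton W := (Nat.card_eq_one_iff_unique.mp hc).1
      intro w hw
      exact congrArg Subtype.val (Subsingleton.elim (⟨w, hw⟩ : W) 0)
    have hbot : GW W = ⊥ := by
      rw [eq_bot_iff]
      intro g hg
      rw [Subgroup.mem_bot]
      apply act_ext
      intro x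
      rw [act_one]
      exact hg.1 x (fun w hw => by rw [hsub w hw, sf_zero_right])
    rw [hbot]
    simp
  | succ k ih =>
    intro W hW hc
    have hq2 : 2 ≤ q := by
      rw [← hq]
      exact Fintype.one_lt_card
    have hq0 : 0 < q := by omega
    have hnt : Nontrivial W := by
      rw [← Finite.one_lt_card_iff_nontrivial, hc]
      exact Nat.one_lt_pow (by omega) (by omega)
    obtain ⟨⟨u, hu⟩, hu0'⟩ := exists_ne (0 : W)
    have hu0 : u ≠ 0 := fun h0 => hu0' (Subtype.ext h0)
    obtain ⟨v, hv, huv⟩ := exists_dual W hW u hu hu0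
    have hW' := nondegOn_Wperp W hW u v hu hv huv
    have hcW' : Nat.card (Wperp W u v) = q ^ (2 * k) := by
      have := card_eq_sq_mul W u v hu hv huv
      rw [hc, hq] at this
      have h2 : q ^ (2 * (k + 1)) = q ^ 2 * q ^ (2 * k) := by ring
      rw [h2] at this
      exact (Nat.eq_of_mul_eq_mul_left (by positivity) this).symm
    have hih := ih (Wperp W u v) hW' hcW'
    have hos := Nat.card_congr (MulAction.orbitProdStabilizerEquivGroup (GW W)
      ((u, v) : (Fin m ⊕ Fin m → F) × (Fin m ⊕ Fin m → F)))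
    rw [Nat.card_prod, card_stabilizer W u v hu hv huv, hih, orbit_eq W hW u v hu hv huv] at hos
    have hhp := card_hp W hW
    rw [hc, hq] at hhp
    rw [← hos]
    apply Nat.eq_of_mul_eq_mul_left hq0
    have e : q * (Nat.card ↑{p : (Fin m ⊕ Fin m → F) × (Fin m ⊕ Fin m → F) |
          p.1 ∈ W ∧ p.2 ∈ W ∧ sympForm m F p.1 p.2 = 1} *
        (q ^ (k ^ 2) * ∏ i ∈ Finset.range k, (q ^ (2 * (i + 1)) - 1))) =
        (q * Nat.card {p : (Fin m ⊕ Fin m → F) × (Fin m ⊕ Fin m → F) //
          p.1 ∈ W ∧ p.2 ∈ W ∧ sympForm m F p.1 p.2 = 1}) *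
        (q ^ (k ^ 2) * ∏ i ∈ Finset.range k, (q ^ (2 * (i + 1)) - 1)) := by
      rw [mul_assoc]
      rfl
    rw [e, hhp, Finset.prod_range_succ]
    ring

/-- The order of the symplectic group. -/
theorem card_symplecticGroup [Fintype F] {q : ℕ} (hq : Fintype.card F = q) (m : ℕ) :
    Nat.card (Matrix.symplecticGroup (Fin m) F) =
      q ^ (m ^ 2) * ∏ i ∈ Finset.range m, (q ^ (2 * (i + 1)) - 1) := by
  have htop : GW (⊤ : Submodule F (Fin m ⊕ Fin m → F)) = ⊤ := by
    rw [eq_top_iff]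
    intro g _
    refine ⟨fun x hx => ?_, fun w => ⟨fun _ => Submodule.mem_top, fun _ => Submodule.mem_top⟩⟩
    have hx0 : x = 0 := by
      by_contra hne
      obtain ⟨a, -, ha⟩ := nondegOn_top x Submodule.mem_top hne
      exact ha (hx a Submodule.mem_top)
    rw [hx0, act_zero]
  have hc : Nat.card (⊤ : Submodule F (Fin m ⊕ Fin m → F)) = q ^ (2 * m) := by
    rw [Nat.card_congr (Submodule.topEquiv (R := F) (M := Fin m ⊕ Fin m → F)).toEquiv,
      Nat.card_eq_fintype_card, Fintype.card_fun, Fintype.card_sum, Fintype.card_fin, hq]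
    ring_nf
  have := card_GW hq m (⊤ : Submodule F (Fin m ⊕ Fin m → F)) nondegOn_top hc
  rw [htop] at this
  rw [← this]
  exact (Nat.card_congr Subgroup.topEquiv.toEquiv).symm

end Cfsg.Agent.Lib.Helper27.SympTransv
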