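import Mathlib
import Cfsg.Agent.Lib.Helper27.SympTransv3
import Cfsg.Agent.S0270
import Cfsg.Agent.S0749

set_option autoImplicit false

/-!
Bridge between `Cfsg.sympForm` and Mathlib bilinear forms, and Witt's lemma for the matrix
symplectic group.
-/

namespace Cfsg.Agent.Lib.Helper27.SympTransv

open Matrix Cfsg

variable {F : Type*} [Field F] {m : ℕ}

/-- `sympForm` as a Mathlib bilinear form. -/
def sympB (m : ℕ) (F : Type*) [Field F] : LinearMap.BilinForm F (Fin m ⊕ Fin m → F) :=
  Matrix.toBilin' (Matrix.J (Fin m) F)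

theorem sympB_apply (x y : Fin m ⊕ Fin m → F) : sympB m F x y = sympForm m F x y :=
  Matrix.toBilin'_apply' _ x y

theorem sympB_isAlt : (sympB m F).IsAlt := by
  intro x
  rw [sympB_apply]
  exact sf_self x

theorem sympB_nondegenerate : (sympB m F).Nondegenerate := by
  constructor
  · intro x hx
    by_contra hne
    obtain ⟨a, -, ha⟩ := nondegOn_top x Submodule.mem_top hne
    apply ha
    rw [← sympB_apply]
    exact hx a
  · intro y hy
    by_contra hne
    obtain ⟨a, -, ha⟩ := nondegOn_top y Submodule.mem_top hne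
    apply ha
    rw [sf_swap, ← sympB_apply, hy a, neg_zero]

/-- An isometry of `sympForm` as an element of the symplectic group. -/
noncomputable def toSp (g : (Fin m ⊕ Fin m → F) ≃ₗ[F] (Fin m ⊕ Fin m → F))
    (hg : ∀ u v, sympForm m F (g u) (g v) = sympForm m F u v) :
    Matrix.symplecticGroup (Fin m) F :=
  ⟨LinearMap.toMatrix' (g : (Fin m ⊕ Fin m → F) →ₗ[F] (Fin m ⊕ Fin m → F)),
    Cfsg.Agent.S0270.mem_symplectic_of_preserves _ (by
      intro u v
      rw [LinearMap.toMatrix'_mulVec, LinearMap.toMatrix'_mulVec]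
      exact hg u v)⟩

theorem act_toSp (g : (Fin m ⊕ Fin m → F) ≃ₗ[F] (Fin m ⊕ Fin m → F))
    (hg : ∀ u v, sympForm m F (g u) (g v) = sympForm m F u v) (x : Fin m ⊕ Fin m → F) :
    act (toSp g hg) x = g x :=
  LinearMap.toMatrix'_mulVec _ x

/-- Witt's lemma for the symplectic group: a linear map which is isometric and injective on a
finitely generated subspace agrees there with a symplectic matrix. -/
theorem witt_sp (s : Finset (Fin m ⊕ Fin m → F))
    (f : (Fin m ⊕ Fin m → F) →ₗ[F] (Fin m ⊕ Fin m → F))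
    (hf : ∀ x ∈ Submodule.span F (s : Set (Fin m ⊕ Fin m → F)),
      ∀ x' ∈ Submodule.span F (s : Set (Fin m ⊕ Fin m → F)),
        sympForm m F (f x) (f x') = sympForm m F x x')
    (hinj : ∀ x ∈ Submodule.span F (s : Set (Fin m ⊕ Fin m → F)), f x = 0 → x = 0) :
    ∃ A : Matrix.symplecticGroup (Fin m) F,
      ∀ x ∈ Submodule.span F (s : Set (Fin m ⊕ Fin m → F)), act A x = f x := by
  obtain ⟨g, hg, hgs⟩ := Cfsg.Agent.S0749.main (sympB m F) sympB_nondegenerate sympB_isAlt s f
    (by
      intro x hx x' hx'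
      rw [sympB_apply, sympB_apply]
      exact hf x hx x' hx')
    hinj
  refine ⟨toSp g (by intro u v; rw [← sympB_apply, ← sympB_apply]; exact hg u v), ?_⟩
  intro x hx
  rw [act_toSp]
  exact hgs x hx

/-- Witt's lemma for a subspace. -/
theorem witt_sp_submodule (X : Submodule F (Fin m ⊕ Fin m → F))
    (f : (Fin m ⊕ Fin m → F) →ₗ[F] (Fin m ⊕ Fin m → F))
    (hf : ∀ x ∈ X, ∀ x' ∈ X, sympForm m F (f x) (f x') = sympForm m F x x')
    (hinj : ∀ x ∈ X, f x = 0 → x = 0) :
    ∃ A : Matrix.symplecticGroup (Fin m) F, ∀ x ∈ X, act A x = f x := by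
  obtain ⟨s, hs⟩ := (IsNoetherian.noetherian X : X.FG)
  obtain ⟨A, hA⟩ := witt_sp s f (by rw [hs]; exact hf) (by rw [hs]; exact hinj)
  exact ⟨A, by rw [hs] at hA; exact hA⟩

end Cfsg.Agent.Lib.Helper27.SympTransv
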