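import Mathlib
import Cfsg.Agent.Lib.Helper27.SympTransv3

set_option autoImplicit false

/-!
Elements `g` of the symplectic group with `g - 1` of rank one are exactly the transvections.
-/

namespace Cfsg.Agent.Lib.Helper27.SympTransv

open Matrix Cfsg

variable {F : Type*} [Field F] {m : ℕ}

/-- A square matrix of rank one is a product of a column and a row. -/
theorem exists_vecMulVec_of_rank_one {n : Type*} [Fintype n] [DecidableEq n] (M : Matrix n n F)
    (h : M.rank = 1) : ∃ a b : n → F, a ≠ 0 ∧ b ≠ 0 ∧ M = Matrix.vecMulVec a b := by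
  unfold Matrix.rank at h
  obtain ⟨⟨a, ha_mem⟩, ha0, hspan⟩ := finrank_eq_one_iff'.mp h
  have ha0' : a ≠ 0 := fun h0 => ha0 (Subtype.ext h0)
  have hcol : ∀ j : n, ∃ c : F, c • a = M *ᵥ Pi.single j 1 := by
    intro j
    obtain ⟨c, hc⟩ := hspan ⟨M *ᵥ Pi.single j 1, ⟨Pi.single j 1, rfl⟩⟩
    exact ⟨c, congrArg Subtype.val hc⟩
  choose b hb using hcol
  have hM : M = Matrix.vecMulVec a b := by
    ext i j
    have := congrFun (hb j) i
    rw [Matrix.mulVec_single_one] at this
    rw [Matrix.vecMulVec_apply, mul_comm]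
    exact this.symm
  refine ⟨a, b, ha0', ?_, hM⟩
  rintro rfl
  obtain ⟨x, hx⟩ := ha_mem
  apply ha0'
  rw [← hx, hM]
  ext i
  simp [Matrix.mulVecLin_apply, Matrix.mulVec, dotProduct, Matrix.vecMulVec_apply]

theorem tv_coe_sub_one (w : Fin m ⊕ Fin m → F) (c : F) :
    ((tv w c : Matrix.symplecticGroup (Fin m) F) : Matrix (Fin m ⊕ Fin m) (Fin m ⊕ Fin m) F) - 1 =
      Matrix.vecMulVec (c • w) (Matrix.J (Fin m) F *ᵥ w) := by
  change sympTransvection m w c - 1 = _
  unfold sympTransvection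
  rw [add_sub_cancel_left, Matrix.smul_vecMulVec]

theorem tv_ne_one (w : Fin m ⊕ Fin m → F) (hw : w ≠ 0) (c : F) (hc : c ≠ 0) : tv w c ≠ 1 := by
  intro h
  obtain ⟨a, -, ha⟩ := nondegOn_top w Submodule.mem_top hw
  have h1 := congrArg (fun A => act A a) h
  simp only [act_tv, act_one] at h1
  have h2 : (c * sympForm m F a w) • w = 0 := by
    have := h1
    rwa [add_eq_left] at this
  rcases smul_eq_zero.mp h2 with h3 | h3
  · rcases mul_eq_zero.mp h3 with h4 | h4
    · exact hc h4
    · apply ha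
      rw [sf_swap, h4, neg_zero]
  · exact hw h3

theorem rank_tv_sub_one (w : Fin m ⊕ Fin m → F) (hw : w ≠ 0) (c : F) (hc : c ≠ 0) :
    (((tv w c : Matrix.symplecticGroup (Fin m) F) :
      Matrix (Fin m ⊕ Fin m) (Fin m ⊕ Fin m) F) - 1).rank = 1 := by
  apply le_antisymm
  · rw [tv_coe_sub_one]
    exact Matrix.rank_vecMulVec_le _ _
  · rw [Nat.one_le_iff_ne_zero]
    intro h0
    unfold Matrix.rank at h0
    rw [Submodule.finrank_eq_zero, LinearMap.range_eq_bot] at h0
    have h1 : ((tv w c : Matrix.symplecticGroup (Fin m) F) :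
        Matrix (Fin m ⊕ Fin m) (Fin m ⊕ Fin m) F) - 1 = 0 := by
      ext i j
      have := congrFun (LinearMap.congr_fun h0 (Pi.single j 1)) i
      rw [Matrix.mulVecLin_apply, Matrix.mulVec_single_one] at this
      exact this
    apply tv_ne_one w hw c hc
    apply Subtype.ext
    exact sub_eq_zero.mp h1

/-- A symplectic matrix `g` with `g - 1` of rank one is a transvection. -/
theorem exists_tv_of_rank_one (g : Matrix.symplecticGroup (Fin m) F)
    (h : ((g : Matrix (Fin m ⊕ Fin m) (Fin m ⊕ Fin m) F) - 1).rank = 1) :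
    ∃ (w : Fin m ⊕ Fin m → F) (c : F), w ≠ 0 ∧ c ≠ 0 ∧ g = tv w c := by
  obtain ⟨a, b, ha0, hb0, hM⟩ := exists_vecMulVec_of_rank_one _ h
  have hact : ∀ x, act g x = x + (b ⬝ᵥ x) • a := by
    intro x
    have hg : (g : Matrix (Fin m ⊕ Fin m) (Fin m ⊕ Fin m) F) = 1 + Matrix.vecMulVec a b := by
      rw [← hM]
      abel
    unfold act
    rw [hg, Matrix.add_mulVec, Matrix.one_mulVec, Matrix.vecMulVec_mulVec, op_smul_eq_smul]
  have hpres : ∀ x y, (b ⬝ᵥ y) * sympForm m F x a = (b ⬝ᵥ x) * sympForm m F y a := by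
    intro x y
    have := act_preserves g x y
    rw [hact, hact, sf_add_left, sf_add_right, sf_add_right, sf_smul_left, sf_smul_left,
      sf_smul_right, sf_smul_right, sf_self, sf_swap y a] at this
    linear_combination this
  obtain ⟨j, hj⟩ : ∃ j, b j ≠ 0 := by
    by_contra hne
    apply hb0
    funext j
    by_contra hj
    exact hne ⟨j, hj⟩
  have hbj : b ⬝ᵥ (Pi.single j 1 : Fin m ⊕ Fin m → F) = b j := dotProduct_single_one b j
  set y₀ : Fin m ⊕ Fin m → F := Pi.single j 1 with hy₀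
  set c₀ : F := sympForm m F y₀ a / b j with hc₀
  have hfa : ∀ x, sympForm m F x a = c₀ * (b ⬝ᵥ x) := by
    intro x
    have := hpres x y₀
    rw [hbj] at this
    rw [hc₀]
    field_simp
    linear_combination this
  have hc₀0 : c₀ ≠ 0 := by
    intro h0
    obtain ⟨x, -, hx⟩ := nondegOn_top a Submodule.mem_top ha0
    apply hx
    rw [sf_swap, hfa, h0, zero_mul, neg_zero]
  refine ⟨a, c₀⁻¹, ha0, inv_ne_zero hc₀0, ?_⟩
  apply act_ext
  intro x
  rw [hact, act_tv, hfa, ← mul_assoc, inv_mul_cancel₀ hc₀0, one_mul]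

theorem rank_sub_one_eq_one_iff (g : Matrix.symplecticGroup (Fin m) F) :
    ((g : Matrix (Fin m ⊕ Fin m) (Fin m ⊕ Fin m) F) - 1).rank = 1 ↔
      ∃ (w : Fin m ⊕ Fin m → F) (c : F), w ≠ 0 ∧ c ≠ 0 ∧ g = tv w c := by
  constructor
  · exact exists_tv_of_rank_one g
  · rintro ⟨w, c, hw, hc, rfl⟩
    exact rank_tv_sub_one w hw c hc

/-- Two transvections coincide only for proportional centres. -/
theorem tv_eq_tv (w w' : Fin m ⊕ Fin m → F) (hw : w ≠ 0) (c : F) (hc : c ≠ 0)
    (h : tv w' c = tv w c) : ∃ a : F, a ^ 2 = 1 ∧ w' = a • w := by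
  obtain ⟨x, -, hx⟩ := nondegOn_top w Submodule.mem_top hw
  have hx' : sympForm m F x w ≠ 0 := by
    rw [sf_swap]
    exact neg_ne_zero.mpr hx
  have key : ∀ y, sympForm m F y w' • w' = sympForm m F y w • w := by
    intro y
    have h1 := congrArg (fun A => act A y) h
    simp only [act_tv] at h1
    have h2 : (c * sympForm m F y w') • w' = (c * sympForm m F y w) • w := add_left_cancel h1
    rw [mul_smul, mul_smul] at h2
    exact smul_right_injective _ hc h2
  have h3 := key x
  have hne : sympForm m F x w' ≠ 0 := by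
    intro h0
    rw [h0, zero_smul] at h3
    rcases smul_eq_zero.mp h3.symm with h4 | h4
    · exact hx' h4
    · exact hw h4
  set a : F := sympForm m F x w / sympForm m F x w' with ha
  have hw' : w' = a • w := by
    rw [ha, div_eq_inv_mul, mul_smul, ← h3, smul_smul, inv_mul_cancel₀ hne, one_smul]
  refine ⟨a, ?_, hw'⟩
  have h5 : sympForm m F x w' = a * sympForm m F x w := by
    rw [hw', sf_smul_right]
  have h6 : a * sympForm m F x w' = sympForm m F x w := by
    rw [ha]
    field_simp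
  have : (a ^ 2 - 1) * sympForm m F x w = 0 := by
    rw [h5] at h6
    linear_combination h6
  rcases mul_eq_zero.mp this with h7 | h7
  · exact sub_eq_zero.mp h7
  · exact absurd h7 hx'

end Cfsg.Agent.Lib.Helper27.SympTransv
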