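import Mathlib
import Cfsg.Prelude.Def_ClassicalGeometry
import Cfsg.Agent.Lib.Helper12.Herm
import Cfsg.Agent.S0751
import Cfsg.Agent.S0754
import Cfsg.Agent.S0755

set_option autoImplicit false

/-!
Field-level facts for the unitary groups: in a field `F` with `q ^ 2` elements the map
`x ↦ x ^ q` is an involutive automorphism; trace and norm are surjective onto its fixed field.
-/

namespace Cfsg.Agent.Lib.Helper27.Unitary

open Cfsg

variable {F : Type*} [Field F] [Fintype F] {q : ℕ}

theorem two_le_q (hF : Fintype.card F = q ^ 2) : 2 ≤ q := by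
  have h1 : 1 < Fintype.card F := Fintype.one_lt_card
  rw [hF] at h1
  by_contra h
  have : q = 0 ∨ q = 1 := by omega
  rcases this with rfl | rfl <;> simp at h1

theorem cj_add (hF : Fintype.card F = q ^ 2) (a b : F) : (a + b) ^ q = a ^ q + b ^ q :=
  Cfsg.Agent.Lib.Helper12.add_pow_of_card hF a b

theorem cj_cj (hF : Fintype.card F = q ^ 2) (a : F) : (a ^ q) ^ q = a :=
  Cfsg.Agent.Lib.Helper12.pow_pow_of_card hF a

theorem cj_zero (hF : Fintype.card F = q ^ 2) : (0 : F) ^ q = 0 :=
  zero_pow (by have := two_le_q hF; omega)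

theorem cj_neg (hF : Fintype.card F = q ^ 2) (a : F) : (-a) ^ q = -(a ^ q) := by
  have h := cj_add hF a (-a)
  rw [add_neg_cancel, cj_zero hF] at h
  exact (neg_eq_of_add_eq_zero_right h.symm).symm

theorem cj_sub (hF : Fintype.card F = q ^ 2) (a b : F) : (a - b) ^ q = a ^ q - b ^ q := by
  rw [sub_eq_add_neg, cj_add hF, cj_neg hF, ← sub_eq_add_neg]

theorem cj_sum (hF : Fintype.card F = q ^ 2) {ι : Type*} (s : Finset ι) (f : ι → F) :
    (∑ i ∈ s, f i) ^ q = ∑ i ∈ s, f i ^ q :=
  Cfsg.Agent.Lib.Helper12.sum_pow_of_card hF s f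

/-- The involution `x ↦ x ^ q` as a ring homomorphism. -/
def conjHom (hF : Fintype.card F = q ^ 2) : F →+* F where
  toFun x := x ^ q
  map_one' := one_pow q
  map_mul' a b := mul_pow a b q
  map_zero' := cj_zero hF
  map_add' a b := cj_add hF a b

@[simp] theorem conjHom_apply (hF : Fintype.card F = q ^ 2) (x : F) : conjHom hF x = x ^ q := rfl

theorem conjHom_conjHom (hF : Fintype.card F = q ^ 2) (x : F) :
    conjHom hF (conjHom hF x) = x := cj_cj hF x

theorem exists_not_fixed (hF : Fintype.card F = q ^ 2) : ∃ x : F, x ^ q ≠ x := by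
  classical
  by_contra hcon
  have hall : ∀ x : F, x ^ q = x := by
    intro x
    by_contra h
    exact hcon ⟨x, h⟩
  have hq := two_le_q hF
  have hP0 : (Polynomial.X ^ q - Polynomial.X : Polynomial F) ≠ 0 :=
    FiniteField.X_pow_card_sub_X_ne_zero F (by omega)
  have hdeg : (Polynomial.X ^ q - Polynomial.X : Polynomial F).natDegree = q :=
    FiniteField.X_pow_card_sub_X_natDegree_eq F (by omega)
  have hsub : (Finset.univ : Finset F) ⊆ (Polynomial.X ^ q - Polynomial.X : Polynomial F).roots.toFinset := by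
    intro x _
    rw [Multiset.mem_toFinset, Polynomial.mem_roots hP0, Polynomial.IsRoot.def]
    simp [hall x]
  have h1 := Finset.card_le_card hsub
  have h2 := Multiset.toFinset_card_le (Polynomial.X ^ q - Polynomial.X : Polynomial F).roots
  have h3 := Polynomial.card_roots' (Polynomial.X ^ q - Polynomial.X : Polynomial F)
  rw [hdeg] at h3
  rw [Finset.card_univ, hF] at h1
  nlinarith

theorem conjHom_ne_id (hF : Fintype.card F = q ^ 2) : conjHom hF ≠ RingHom.id F := by
  obtain ⟨x, hx⟩ := exists_not_fixed hF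
  intro h
  apply hx
  have := congrArg (fun f : F →+* F => f x) h
  simpa using this

/-- The norm `x ↦ x * x ^ q` is onto the fixed field. -/
theorem nm_surj (hF : Fintype.card F = q ^ 2) (a : F) (ha : a ^ q = a) :
    ∃ x : F, x * x ^ q = a := by
  by_cases h0 : a = 0
  · exact ⟨0, by rw [h0, zero_mul]⟩
  · obtain ⟨x, hx⟩ := Cfsg.Agent.S0755.norm_surj (conjHom hF) (conjHom_ne_id hF)
      (conjHom_conjHom hF) a h0 ha
    exact ⟨x, by rw [mul_comm]; exact hx⟩

/-- The trace `x ↦ x + x ^ q` is onto the fixed field. -/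
theorem tr_surj (hF : Fintype.card F = q ^ 2) (a : F) (ha : a ^ q = a) :
    ∃ x : F, x + x ^ q = a := by
  obtain ⟨ν, -, hν⟩ := Cfsg.Agent.S0751.exists_trace (conjHom hF) (conjHom_conjHom hF)
    (conjHom_ne_id hF) (-a) (by rw [conjHom_apply, cj_neg hF, ha])
  exact ⟨ν, by rw [neg_neg] at hν; exact hν⟩

/-- A non-zero element of trace zero. -/
theorem exists_theta (hF : Fintype.card F = q ^ 2) : ∃ θ : F, θ ≠ 0 ∧ θ + θ ^ q = 0 := by
  obtain ⟨ν, hν0, hν⟩ := Cfsg.Agent.S0751.exists_trace (conjHom hF) (conjHom_conjHom hF)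
    (conjHom_ne_id hF) 0 (map_zero _)
  exact ⟨ν, hν0, by rw [neg_zero] at hν; exact hν⟩

/-- Norms are fixed. -/
theorem nm_fixed (hF : Fintype.card F = q ^ 2) (x : F) : (x * x ^ q) ^ q = x * x ^ q := by
  rw [mul_pow, cj_cj hF, mul_comm]

/-- Traces are fixed. -/
theorem tr_fixed (hF : Fintype.card F = q ^ 2) (x : F) : (x + x ^ q) ^ q = x + x ^ q := by
  rw [cj_add hF, cj_cj hF, add_comm]

theorem cj_eq_zero (hF : Fintype.card F = q ^ 2) {x : F} : x ^ q = 0 ↔ x = 0 := by
  constructor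
  · intro h
    exact pow_eq_zero_iff (by have := two_le_q hF; omega) |>.mp h
  · rintro rfl
    exact cj_zero hF

theorem cj_inv (x : F) : (x⁻¹) ^ q = (x ^ q)⁻¹ := inv_pow x q

theorem cj_div (x y : F) : (x / y) ^ q = x ^ q / y ^ q := div_pow x y q

/-- An element of norm one other than `1`. -/
theorem exists_norm_one_ne_one (hF : Fintype.card F = q ^ 2) :
    ∃ ζ : F, ζ ≠ 1 ∧ ζ * ζ ^ q = 1 := by
  obtain ⟨x, hx⟩ := exists_not_fixed hF
  have hx0 : x ≠ 0 := by
    rintro rfl
    exact hx (cj_zero hF)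
  have hxq0 : x ^ q ≠ 0 := fun h => hx0 ((cj_eq_zero hF).mp h)
  refine ⟨x / x ^ q, ?_, ?_⟩
  · intro h
    rw [div_eq_one_iff_eq hxq0] at h
    exact hx h.symm
  · rw [cj_div, cj_cj hF]
    field_simp

end Cfsg.Agent.Lib.Helper27.Unitary
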