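import Mathlib
import Cfsg.Agent.Lib.Helper27.UField

set_option autoImplicit false

/-!
Sesquilinearity and non-degeneracy of the standard Hermitian form `Cfsg.hermForm n F q` over a
field with `q ^ 2` elements.
-/

namespace Cfsg.Agent.Lib.Helper27.Unitary

open Cfsg Matrix

variable {F : Type*} [Field F] [Fintype F] {q n : ℕ}

theorem hf_def (u v : Fin n → F) : hermForm n F q u v = ∑ i, u i * (v i) ^ q := rfl

theorem hf_add_left (u u' v : Fin n → F) :
    hermForm n F q (u + u') v = hermForm n F q u v + hermForm n F q u' v :=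
  Cfsg.Agent.Lib.Helper12.hermForm_add_left n q u u' v

theorem hf_smul_left (a : F) (u v : Fin n → F) :
    hermForm n F q (a • u) v = a * hermForm n F q u v :=
  Cfsg.Agent.Lib.Helper12.hermForm_smul_left n q a u v

theorem hf_smul_right (a : F) (u v : Fin n → F) :
    hermForm n F q u (a • v) = a ^ q * hermForm n F q u v :=
  Cfsg.Agent.Lib.Helper12.hermForm_smul_right n q a u v

theorem hf_add_right (hF : Fintype.card F = q ^ 2) (u v v' : Fin n → F) :
    hermForm n F q u (v + v') = hermForm n F q u v + hermForm n F q u v' :=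
  Cfsg.Agent.Lib.Helper12.hermForm_add_right hF n u v v'

/-- Conjugate symmetry. -/
theorem hf_swap (hF : Fintype.card F = q ^ 2) (u v : Fin n → F) :
    hermForm n F q v u = (hermForm n F q u v) ^ q :=
  (Cfsg.Agent.Lib.Helper12.hermForm_pow hF n u v).symm

theorem hf_zero_left (v : Fin n → F) : hermForm n F q 0 v = 0 := by
  have := hf_smul_left (q := q) (0 : F) (0 : Fin n → F) v
  simpa using this

theorem hf_zero_right (hF : Fintype.card F = q ^ 2) (v : Fin n → F) :
    hermForm n F q v 0 = 0 := by
  rw [hf_swap hF, hf_zero_left, cj_zero hF]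

theorem hf_neg_left (u v : Fin n → F) : hermForm n F q (-u) v = - hermForm n F q u v := by
  have := hf_smul_left (q := q) (-1 : F) u v
  simpa using this

theorem hf_neg_right (hF : Fintype.card F = q ^ 2) (u v : Fin n → F) :
    hermForm n F q u (-v) = - hermForm n F q u v := by
  rw [hf_swap hF, hf_neg_left, cj_neg hF, ← hf_swap hF]

theorem hf_sub_left (u u' v : Fin n → F) :
    hermForm n F q (u - u') v = hermForm n F q u v - hermForm n F q u' v := by
  rw [sub_eq_add_neg, hf_add_left, hf_neg_left, sub_eq_add_neg]

theorem hf_sub_right (hF : Fintype.card F = q ^ 2) (u v v' : Fin n → F) :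
    hermForm n F q u (v - v') = hermForm n F q u v - hermForm n F q u v' := by
  rw [sub_eq_add_neg, hf_add_right hF, hf_neg_right hF, sub_eq_add_neg]

theorem hf_sum_left {ι : Type*} (s : Finset ι) (f : ι → Fin n → F) (v : Fin n → F) :
    hermForm n F q (∑ i ∈ s, f i) v = ∑ i ∈ s, hermForm n F q (f i) v := by
  classical
  induction s using Finset.induction_on with
  | empty => simp [hf_zero_left]
  | insert a s ha ih => rw [Finset.sum_insert ha, Finset.sum_insert ha, hf_add_left, ih]

theorem hf_sum_right (hF : Fintype.card F = q ^ 2) {ι : Type*} (s : Finset ι)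
    (f : ι → Fin n → F) (v : Fin n → F) :
    hermForm n F q v (∑ i ∈ s, f i) = ∑ i ∈ s, hermForm n F q v (f i) := by
  classical
  induction s using Finset.induction_on with
  | empty => simp [hf_zero_right hF]
  | insert a s ha ih => rw [Finset.sum_insert ha, Finset.sum_insert ha, hf_add_right hF, ih]

/-- `h(u, e_i) = u_i`. -/
theorem hf_single_right (hF : Fintype.card F = q ^ 2) (u : Fin n → F) (i : Fin n) :
    hermForm n F q u (Pi.single i 1) = u i := by
  classical
  rw [hf_def, Finset.sum_eq_single i]
  · simp
  · intro j _ hj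
    rw [Pi.single_eq_of_ne hj, cj_zero hF, mul_zero]
  · intro h
    exact absurd (Finset.mem_univ i) h

/-- `h(e_i, u) = u_i ^ q`. -/
theorem hf_single_left (hF : Fintype.card F = q ^ 2) (u : Fin n → F) (i : Fin n) :
    hermForm n F q (Pi.single i 1) u = (u i) ^ q := by
  rw [hf_swap hF, hf_single_right hF]

/-- Non-degeneracy. -/
theorem hf_nondeg (hF : Fintype.card F = q ^ 2) (u : Fin n → F)
    (h : ∀ v, hermForm n F q u v = 0) : u = 0 := by
  funext i
  have := h (Pi.single i 1)
  rw [hf_single_right hF] at this
  exact this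

theorem hf_nondeg' (hF : Fintype.card F = q ^ 2) (u : Fin n → F)
    (h : ∀ v, hermForm n F q v u = 0) : u = 0 := by
  apply hf_nondeg hF
  intro v
  rw [hf_swap hF, h v, cj_zero hF]

/-- `h(u, u)` is fixed by the involution. -/
theorem hf_self_fixed (hF : Fintype.card F = q ^ 2) (u : Fin n → F) :
    (hermForm n F q u u) ^ q = hermForm n F q u u :=
  (hf_swap hF u u).symm

theorem hf_eq_zero_swap (hF : Fintype.card F = q ^ 2) {u v : Fin n → F}
    (h : hermForm n F q u v = 0) : hermForm n F q v u = 0 := by
  rw [hf_swap hF, h, cj_zero hF]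

/-- The norm of a sum. -/
theorem hf_add_self (hF : Fintype.card F = q ^ 2) (u v : Fin n → F) :
    hermForm n F q (u + v) (u + v) =
      hermForm n F q u u + hermForm n F q v v + (hermForm n F q u v + (hermForm n F q u v) ^ q) := by
  rw [hf_add_left, hf_add_right hF, hf_add_right hF, hf_swap hF u v]
  ring

theorem hf_smul_self (a : F) (u : Fin n → F) :
    hermForm n F q (a • u) (a • u) = (a * a ^ q) * hermForm n F q u u := by
  rw [hf_smul_left, hf_smul_right]
  ring

end Cfsg.Agent.Lib.Helper27.Unitary
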