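import Mathlib
import Cfsg.Prelude.Def_GeometricClasses
import Cfsg.Agent.S0772
import Cfsg.Agent.Lib.Helper28.SLn

set_option autoImplicit false

/-!
Stabilisers of arbitrary subspaces in `GL_n` and `SL_n` (as the kernel of the determinant in
`GL_n`): functionals as dot products, generalised transvections as elements of `GL_n`, and
transitivity statements.
-/

namespace Cfsg.Agent.Lib.Helper27.GLStab

open Matrix Cfsg Cfsg.Agent.S0772

variable {F : Type*} [Field F] {n : ℕ}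

/-- A linear functional on `F^n` is a dot product. -/
theorem functional_eq_dot (f : (Fin n → F) →ₗ[F] F) :
    ∃ φ : Fin n → F, ∀ x, f x = φ ⬝ᵥ x := by
  refine ⟨fun i => f (Pi.single i 1), fun x => ?_⟩
  rw [LinearMap.pi_apply_eq_sum_univ f x, dotProduct]
  apply Finset.sum_congr rfl
  intro i _
  rw [smul_eq_mul, mul_comm]
  congr 2
  funext j
  rw [Pi.single_apply]
  by_cases h : i = j
  · rw [if_pos h, if_pos h.symm]
  · rw [if_neg h, if_neg (Ne.symm h)]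

/-- A vector outside a subspace is separated from it by a dot-product functional. -/
theorem exists_functional (W : Submodule F (Fin n → F)) (x : Fin n → F) (hx : x ∉ W) :
    ∃ φ : Fin n → F, (∀ w ∈ W, φ ⬝ᵥ w = 0) ∧ φ ⬝ᵥ x ≠ 0 := by
  obtain ⟨f, hfx, hfW⟩ := Submodule.exists_le_ker_of_notMem hx
  obtain ⟨φ, hφ⟩ := functional_eq_dot f
  refine ⟨φ, fun w hw => ?_, ?_⟩
  · rw [← hφ]
    exact hfW hw
  · rw [← hφ]
    exact hfx

/-- A functional vanishing on `W` and non-zero at two given vectors outside `W`. -/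
theorem exists_functional₂ (W : Submodule F (Fin n → F)) (x y : Fin n → F) (hx : x ∉ W)
    (hy : y ∉ W) :
    ∃ φ : Fin n → F, (∀ w ∈ W, φ ⬝ᵥ w = 0) ∧ φ ⬝ᵥ x ≠ 0 ∧ φ ⬝ᵥ y ≠ 0 := by
  obtain ⟨φ₁, h1W, h1x⟩ := exists_functional W x hx
  obtain ⟨φ₂, h2W, h2y⟩ := exists_functional W y hy
  by_cases h1y : φ₁ ⬝ᵥ y ≠ 0
  · exact ⟨φ₁, h1W, h1x, h1y⟩
  by_cases h2x : φ₂ ⬝ᵥ x ≠ 0
  · exact ⟨φ₂, h2W, h2x, h2y⟩
  rw [not_not] at h1y h2x
  refine ⟨φ₁ + φ₂, fun w hw => ?_, ?_, ?_⟩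
  · rw [add_dotProduct, h1W w hw, h2W w hw, add_zero]
  · rw [add_dotProduct, h2x, add_zero]; exact h1x
  · rw [add_dotProduct, h1y, zero_add]; exact h2y

theorem mem_stab_iff (W : Submodule F (Fin n → F)) (g : GL (Fin n) F) :
    g ∈ Cfsg.Geo.subspaceStabilizer W ↔
      ∀ v, v ∈ W ↔ (g : Matrix (Fin n) (Fin n) F) *ᵥ v ∈ W := Iff.rfl

theorem inv_mulVec_mulVec (g : GL (Fin n) F) (v : Fin n → F) :
    ((g⁻¹ : GL (Fin n) F) : Matrix (Fin n) (Fin n) F) *ᵥ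
      ((g : Matrix (Fin n) (Fin n) F) *ᵥ v) = v := by
  rw [Matrix.mulVec_mulVec]
  have : ((g⁻¹ : GL (Fin n) F) : Matrix (Fin n) (Fin n) F) *
      (g : Matrix (Fin n) (Fin n) F) = 1 := Units.inv_mul g
  rw [this, Matrix.one_mulVec]

theorem mulVec_inv_mulVec (g : GL (Fin n) F) (v : Fin n → F) :
    (g : Matrix (Fin n) (Fin n) F) *ᵥ
      (((g⁻¹ : GL (Fin n) F) : Matrix (Fin n) (Fin n) F) *ᵥ v) = v := by
  have := inv_mulVec_mulVec g⁻¹ v
  rwa [inv_inv] at this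

/-- An invertible matrix mapping `W` into itself stabilises `W`. -/
theorem mem_stab_of_maps (W : Submodule F (Fin n → F)) (g : GL (Fin n) F)
    (h : ∀ v ∈ W, (g : Matrix (Fin n) (Fin n) F) *ᵥ v ∈ W) :
    g ∈ Cfsg.Geo.subspaceStabilizer W := by
  rw [mem_stab_iff]
  intro v
  refine ⟨h v, fun hv => ?_⟩
  let f : W →ₗ[F] W :=
    (Matrix.toLin' (g : Matrix (Fin n) (Fin n) F)).restrict (fun v hv => by
      rw [Matrix.toLin'_apply]; exact h v hv)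
  have hfinj : Function.Injective f := by
    intro x y hxy
    apply Subtype.ext
    have h1 := congrArg Subtype.val hxy
    have h2 : (g : Matrix (Fin n) (Fin n) F) *ᵥ x.1 = (g : Matrix (Fin n) (Fin n) F) *ᵥ y.1 := by
      simpa [f, LinearMap.restrict_apply] using h1
    have h3 := congrArg (fun u => ((g⁻¹ : GL (Fin n) F) : Matrix (Fin n) (Fin n) F) *ᵥ u) h2
    simp only [inv_mulVec_mulVec] at h3
    exact h3
  have hfsurj := LinearMap.injective_iff_surjective.mp hfinj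
  obtain ⟨w, hw⟩ := hfsurj ⟨_, hv⟩
  have h2 : (g : Matrix (Fin n) (Fin n) F) *ᵥ (w : Fin n → F) =
      (g : Matrix (Fin n) (Fin n) F) *ᵥ v := by
    have := congrArg Subtype.val hw
    simpa [f, LinearMap.restrict_apply] using this
  have h3 := congrArg (fun u => ((g⁻¹ : GL (Fin n) F) : Matrix (Fin n) (Fin n) F) *ᵥ u) h2
  simp only [inv_mulVec_mulVec] at h3
  rw [← h3]
  exact w.2

theorem stab_maps {W : Submodule F (Fin n → F)} {g : GL (Fin n) F}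
    (hg : g ∈ Cfsg.Geo.subspaceStabilizer W) {v : Fin n → F} (hv : v ∈ W) :
    (g : Matrix (Fin n) (Fin n) F) *ᵥ v ∈ W := ((mem_stab_iff W g).mp hg v).mp hv

theorem mem_specialLinear_iff (g : GL (Fin n) F) :
    g ∈ Cfsg.Geo.specialLinear (Fin n) F ↔ (g : Matrix (Fin n) (Fin n) F).det = 1 := by
  unfold Cfsg.Geo.specialLinear
  rw [MonoidHom.mem_ker]
  constructor
  · intro h
    have := congrArg Units.val h
    exact this
  · intro h
    apply Units.ext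
    exact h

/-- The generalised transvection `x ↦ x + (φ ⬝ x) a` as an element of `GL_n`. -/
noncomputable def TmGL (a φ : Fin n → F) (h : 1 + φ ⬝ᵥ a ≠ 0) : GL (Fin n) F :=
  Matrix.GeneralLinearGroup.mkOfDetNeZero (Tm a φ) (by rw [det_Tm]; exact h)

theorem TmGL_coe (a φ : Fin n → F) (h : 1 + φ ⬝ᵥ a ≠ 0) :
    (TmGL a φ h : Matrix (Fin n) (Fin n) F) = Tm a φ := rfl

theorem TmGL_mulVec (a φ : Fin n → F) (h : 1 + φ ⬝ᵥ a ≠ 0) (x : Fin n → F) :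
    (TmGL a φ h : Matrix (Fin n) (Fin n) F) *ᵥ x = x + (φ ⬝ᵥ x) • a := by
  rw [TmGL_coe, Tm_mulVec]

theorem det_TmGL (a φ : Fin n → F) (h : 1 + φ ⬝ᵥ a ≠ 0) :
    (TmGL a φ h : Matrix (Fin n) (Fin n) F).det = 1 + φ ⬝ᵥ a := by
  rw [TmGL_coe, det_Tm]

/-- `TmGL a φ` stabilises `W` when `a ∈ W`. -/
theorem TmGL_mem_stab_of_mem (W : Submodule F (Fin n → F)) (a φ : Fin n → F)
    (h : 1 + φ ⬝ᵥ a ≠ 0) (ha : a ∈ W) : TmGL a φ h ∈ Cfsg.Geo.subspaceStabilizer W := by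
  apply mem_stab_of_maps
  intro v hv
  rw [TmGL_mulVec]
  exact W.add_mem hv (W.smul_mem _ ha)

/-- `TmGL a φ` stabilises `W` when `φ` vanishes on `W`. -/
theorem TmGL_mem_stab_of_vanish (W : Submodule F (Fin n → F)) (a φ : Fin n → F)
    (h : 1 + φ ⬝ᵥ a ≠ 0) (hφ : ∀ w ∈ W, φ ⬝ᵥ w = 0) :
    TmGL a φ h ∈ Cfsg.Geo.subspaceStabilizer W := by
  apply mem_stab_of_maps
  intro v hv
  rw [TmGL_mulVec, hφ v hv, zero_smul, add_zero]
  exact hv

/-- The stabiliser of `W` in `SL_n` is transitive on the vectors outside `W` (for `W ≠ 0`). -/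
theorem trans_outside (W : Submodule F (Fin n → F)) (hW0 : W ≠ ⊥) (x y : Fin n → F)
    (hx : x ∉ W) (hy : y ∉ W) :
    ∃ p : GL (Fin n) F, p ∈ Cfsg.Geo.subspaceStabilizer W ⊓ Cfsg.Geo.specialLinear (Fin n) F ∧
      (p : Matrix (Fin n) (Fin n) F) *ᵥ x = y := by
  obtain ⟨φ, hφW, hφx, hφy⟩ := exists_functional₂ W x y hx hy
  obtain ⟨w₁, hw₁, hw₁0⟩ := Submodule.exists_mem_ne_zero_of_ne_bot hW0
  -- first step: move `x` to `y`
  set a₀ : Fin n → F := (φ ⬝ᵥ x)⁻¹ • (y - x) with ha₀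
  have hd₀ : 1 + φ ⬝ᵥ a₀ = (φ ⬝ᵥ y) / (φ ⬝ᵥ x) := by
    rw [ha₀, dotProduct_smul, dotProduct_sub, smul_eq_mul]
    field_simp
    ring
  have hd₀' : 1 + φ ⬝ᵥ a₀ ≠ 0 := by
    rw [hd₀]
    exact div_ne_zero hφy hφx
  set p₀ := TmGL a₀ φ hd₀' with hp₀
  have hp₀x : (p₀ : Matrix (Fin n) (Fin n) F) *ᵥ x = y := by
    rw [hp₀, TmGL_mulVec, ha₀, smul_smul, mul_inv_cancel₀ hφx, one_smul]
    abel
  have hp₀W : p₀ ∈ Cfsg.Geo.subspaceStabilizer W := TmGL_mem_stab_of_vanish W a₀ φ hd₀' hφW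
  -- second step: correct the determinant
  have hw₁y : w₁ ∉ Submodule.span F {y} := by
    intro hmem
    obtain ⟨c, hc⟩ := Submodule.mem_span_singleton.mp hmem
    apply hy
    have hc0 : c ≠ 0 := by
      rintro rfl
      rw [zero_smul] at hc
      exact hw₁0 hc.symm
    have : y = c⁻¹ • w₁ := by
      rw [← hc, smul_smul, inv_mul_cancel₀ hc0, one_smul]
    rw [this]
    exact W.smul_mem _ hw₁
  obtain ⟨ψ₀, hψ₀y, hψ₀w⟩ := exists_functional (Submodule.span F {y}) w₁ hw₁y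
  set ψ : Fin n → F := (ψ₀ ⬝ᵥ w₁)⁻¹ • ψ₀ with hψ
  have hψw : ψ ⬝ᵥ w₁ = 1 := by
    rw [hψ, smul_dotProduct, smul_eq_mul, inv_mul_cancel₀ hψ₀w]
  have hψy : ψ ⬝ᵥ y = 0 := by
    rw [hψ, smul_dotProduct, hψ₀y y (Submodule.mem_span_singleton_self y), smul_zero]
  set δ : F := (φ ⬝ᵥ y) / (φ ⬝ᵥ x) with hδ
  have hδ0 : δ ≠ 0 := div_ne_zero hφy hφx
  set a₁ : Fin n → F := (δ⁻¹ - 1) • w₁ with ha₁
  have hd₁ : 1 + ψ ⬝ᵥ a₁ = δ⁻¹ := by
    rw [ha₁, dotProduct_smul, hψw, smul_eq_mul, mul_one]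
    ring
  have hd₁' : 1 + ψ ⬝ᵥ a₁ ≠ 0 := by
    rw [hd₁]
    exact inv_ne_zero hδ0
  set q := TmGL a₁ ψ hd₁' with hq
  have hqy : (q : Matrix (Fin n) (Fin n) F) *ᵥ y = y := by
    rw [hq, TmGL_mulVec, hψy, zero_smul, add_zero]
  have hqW : q ∈ Cfsg.Geo.subspaceStabilizer W :=
    TmGL_mem_stab_of_mem W a₁ ψ hd₁' (W.smul_mem _ hw₁)
  refine ⟨q * p₀, ⟨mul_mem hqW hp₀W, ?_⟩, ?_⟩
  · change q * p₀ ∈ Cfsg.Geo.specialLinear (Fin n) F
    rw [mem_specialLinear_iff, Units.val_mul, Matrix.det_mul, hq, hp₀, det_TmGL, det_TmGL, hd₁,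
      hd₀, inv_mul_cancel₀ hδ0]
  · rw [Units.val_mul, ← Matrix.mulVec_mulVec, hp₀x, hqy]

end Cfsg.Agent.Lib.Helper27.GLStab
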