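import Mathlib
import Cfsg.Prelude.Def_LieClassical
import Cfsg.Prelude.Def_GeometricClasses
import Cfsg.Agent.Lib.Helper27.UForm
import Cfsg.Agent.Lib.Helper27.GLStab

set_option autoImplicit false

/-!
The unitary group `Cfsg.GU n F q` inside `GL_n`: action on vectors, rank-one isometries
(transvections and quasi-reflections), and the subgroup generated by the transvections with
centre in a given subspace.
-/

namespace Cfsg.Agent.Lib.Helper27.Unitary

open Cfsg Matrix Cfsg.Agent.Lib.Helper27.GLStab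

variable {F : Type*} [Field F] [Fintype F] {q n : ℕ}

/-- Action of `GL_n` on column vectors. -/
def gact (g : GL (Fin n) F) (x : Fin n → F) : Fin n → F := (g : Matrix (Fin n) (Fin n) F) *ᵥ x

theorem gact_def (g : GL (Fin n) F) (x : Fin n → F) :
    gact g x = (g : Matrix (Fin n) (Fin n) F) *ᵥ x := rfl

theorem gact_mul (g h : GL (Fin n) F) (x : Fin n → F) : gact (g * h) x = gact g (gact h x) := by
  unfold gact
  rw [Matrix.mulVec_mulVec]
  rfl

theorem gact_one (x : Fin n → F) : gact (1 : GL (Fin n) F) x = x := by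
  unfold gact
  simp

theorem gact_inv_gact (g : GL (Fin n) F) (x : Fin n → F) : gact g⁻¹ (gact g x) = x := by
  rw [← gact_mul, inv_mul_cancel, gact_one]

theorem gact_gact_inv (g : GL (Fin n) F) (x : Fin n → F) : gact g (gact g⁻¹ x) = x := by
  rw [← gact_mul, mul_inv_cancel, gact_one]

theorem gact_add (g : GL (Fin n) F) (x y : Fin n → F) : gact g (x + y) = gact g x + gact g y :=
  Matrix.mulVec_add _ _ _

theorem gact_smul (g : GL (Fin n) F) (a : F) (x : Fin n → F) : gact g (a • x) = a • gact g x :=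
  Matrix.mulVec_smul _ _ _

theorem gact_zero (g : GL (Fin n) F) : gact g (0 : Fin n → F) = 0 := Matrix.mulVec_zero _

theorem gact_neg (g : GL (Fin n) F) (x : Fin n → F) : gact g (-x) = - gact g x :=
  Matrix.mulVec_neg _ _

theorem gact_sub (g : GL (Fin n) F) (x y : Fin n → F) : gact g (x - y) = gact g x - gact g y := by
  rw [sub_eq_add_neg, gact_add, gact_neg, sub_eq_add_neg]

theorem gact_ext {g h : GL (Fin n) F} (H : ∀ x, gact g x = gact h x) : g = h :=
  Units.ext (Matrix.ext_iff_mulVec.mpr H)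

theorem gact_injective (g : GL (Fin n) F) {x y : Fin n → F} (h : gact g x = gact g y) : x = y := by
  have := congrArg (gact g⁻¹) h
  rwa [gact_inv_gact, gact_inv_gact] at this

theorem gact_eq_zero (g : GL (Fin n) F) {x : Fin n → F} : gact g x = 0 ↔ x = 0 := by
  constructor
  · intro h
    apply gact_injective g
    rw [h, gact_zero]
  · rintro rfl
    exact gact_zero g

/-- The action as a linear equivalence. -/
def gactL (g : GL (Fin n) F) : (Fin n → F) ≃ₗ[F] (Fin n → F) where
  toFun := gact g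
  map_add' := gact_add g
  map_smul' := gact_smul g
  invFun := gact g⁻¹
  left_inv := gact_inv_gact g
  right_inv := gact_gact_inv g

@[simp] theorem gactL_apply (g : GL (Fin n) F) (x : Fin n → F) : gactL g x = gact g x := rfl

theorem mem_GU_iff (g : GL (Fin n) F) :
    g ∈ GU n F q ↔ ∀ u v, hermForm n F q (gact g u) (gact g v) = hermForm n F q u v := Iff.rfl

theorem GU_preserves {g : GL (Fin n) F} (hg : g ∈ GU n F q) (u v : Fin n → F) :
    hermForm n F q (gact g u) (gact g v) = hermForm n F q u v := hg u v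

/-- Moving a unitary element across the form. -/
theorem GU_adjoint {g : GL (Fin n) F} (hg : g ∈ GU n F q) (u v : Fin n → F) :
    hermForm n F q (gact g u) v = hermForm n F q u (gact g⁻¹ v) := by
  rw [← GU_preserves hg u (gact g⁻¹ v), gact_gact_inv]

theorem mem_SUg_iff (g : GL (Fin n) F) :
    g ∈ GU n F q ⊓ Cfsg.Geo.specialLinear (Fin n) F ↔
      g ∈ GU n F q ∧ (g : Matrix (Fin n) (Fin n) F).det = 1 := by
  rw [Subgroup.mem_inf, mem_specialLinear_iff]

theorem hf_dot (x v : Fin n → F) : (fun j => v j ^ q) ⬝ᵥ x = hermForm n F q x v := by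
  rw [hf_def, dotProduct]
  exact Finset.sum_congr rfl fun i _ => mul_comm _ _

/-- The map `x ↦ x + κ h(x, v) v` as an element of `GL_n`. -/
noncomputable def ru (q : ℕ) (v : Fin n → F) (κ : F) (h : 1 + κ * hermForm n F q v v ≠ 0) :
    GL (Fin n) F :=
  TmGL (κ • v) (fun j => v j ^ q) (by
    rw [hf_dot, hf_smul_left]
    exact h)

theorem ru_gact (v : Fin n → F) (κ : F) (h : 1 + κ * hermForm n F q v v ≠ 0) (x : Fin n → F) :
    gact (ru q v κ h) x = x + (κ * hermForm n F q x v) • v := by
  unfold ru gact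
  rw [TmGL_mulVec, hf_dot, smul_smul, mul_comm]

theorem det_ru (v : Fin n → F) (κ : F) (h : 1 + κ * hermForm n F q v v ≠ 0) :
    (ru q v κ h : Matrix (Fin n) (Fin n) F).det = 1 + κ * hermForm n F q v v := by
  unfold ru
  rw [det_TmGL, hf_dot, hf_smul_left]

section Finite

theorem ru_mem_GU (hF : Fintype.card F = q ^ 2) (v : Fin n → F) (κ : F)
    (h : 1 + κ * hermForm n F q v v ≠ 0)
    (hκ : κ + κ ^ q + κ * κ ^ q * hermForm n F q v v = 0) : ru q v κ h ∈ GU n F q := by
  rw [mem_GU_iff]
  intro x y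
  rw [ru_gact, ru_gact, hf_add_left, hf_add_right hF, hf_add_right hF, hf_smul_left,
    hf_smul_left, hf_smul_right, hf_smul_right, mul_pow, hf_swap hF y v]
  linear_combination (hermForm n F q x v * (hermForm n F q y v) ^ q) * hκ

open scoped Classical in
/-- The unitary transvection `x ↦ x + c h(x, v) v` (for isotropic `v`; the identity otherwise). -/
noncomputable def tv (q : ℕ) (v : Fin n → F) (c : F) : GL (Fin n) F :=
  if h : hermForm n F q v v = 0 then
    ru q v c (by rw [h, mul_zero, add_zero]; exact one_ne_zero)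
  else 1

theorem tv_gact {v : Fin n → F} (hv : hermForm n F q v v = 0) (c : F) (x : Fin n → F) :
    gact (tv q v c) x = x + (c * hermForm n F q x v) • v := by
  unfold tv
  rw [dif_pos hv, ru_gact]

theorem det_tv (v : Fin n → F) (c : F) : (tv q v c : Matrix (Fin n) (Fin n) F).det = 1 := by
  unfold tv
  split_ifs with h
  · rw [det_ru, h, mul_zero, add_zero]
  · simp

theorem tv_coe {v : Fin n → F} (hv : hermForm n F q v v = 0) (c : F) :
    (tv q v c : Matrix (Fin n) (Fin n) F) = unitaryTransvection n q v c := by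
  rw [Matrix.ext_iff_mulVec]
  intro x
  rw [Cfsg.Agent.Lib.Helper12.unitaryTransvection_mulVec]
  exact tv_gact hv c x

theorem tv_mem_GU (hF : Fintype.card F = q ^ 2) (v : Fin n → F) {c : F} (hc : c + c ^ q = 0) :
    tv q v c ∈ GU n F q := by
  unfold tv
  split_ifs with h
  · apply ru_mem_GU hF
    rw [h, mul_zero, add_zero]
    exact hc
  · exact one_mem _

theorem tv_mem_SUg (hF : Fintype.card F = q ^ 2) (v : Fin n → F) {c : F} (hc : c + c ^ q = 0) :
    tv q v c ∈ GU n F q ⊓ Cfsg.Geo.specialLinear (Fin n) F := by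
  rw [mem_SUg_iff]
  exact ⟨tv_mem_GU hF v hc, det_tv v c⟩

theorem tv_zero_right (v : Fin n → F) : tv q v (0 : F) = 1 := by
  apply gact_ext
  intro x
  rw [gact_one]
  by_cases hv : hermForm n F q v v = 0
  · rw [tv_gact hv, zero_mul, zero_smul, add_zero]
  · unfold tv
    rw [dif_neg hv, gact_one]

theorem tv_mul (hF : Fintype.card F = q ^ 2) {v : Fin n → F} (hv : hermForm n F q v v = 0)
    (c d : F) : tv q v c * tv q v d = tv q v (c + d) := by
  apply gact_ext
  intro x
  rw [gact_mul, tv_gact hv, tv_gact hv, tv_gact hv, hf_add_left, hf_smul_left, hv, mul_zero,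
    add_zero, add_assoc, ← add_smul]
  congr 2
  ring

theorem tv_inv (hF : Fintype.card F = q ^ 2) {v : Fin n → F} (hv : hermForm n F q v v = 0)
    (c : F) : (tv q v c)⁻¹ = tv q v (-c) := by
  rw [inv_eq_iff_mul_eq_one, tv_mul hF hv, add_neg_cancel, tv_zero_right]

/-- Conjugating a transvection by a unitary element. -/
theorem conj_tv (hF : Fintype.card F = q ^ 2) {g : GL (Fin n) F} (hg : g ∈ GU n F q)
    {v : Fin n → F} (hv : hermForm n F q v v = 0) (c : F) :
    g * tv q v c * g⁻¹ = tv q (gact g v) c := by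
  have hgv : hermForm n F q (gact g v) (gact g v) = 0 := by rw [GU_preserves hg, hv]
  apply gact_ext
  intro x
  rw [gact_mul, gact_mul, tv_gact hv, tv_gact hgv, gact_add, gact_gact_inv, gact_smul,
    GU_adjoint (inv_mem hg), inv_inv]

/-- Rescaling the centre of a transvection. -/
theorem tv_smul (hF : Fintype.card F = q ^ 2) {v : Fin n → F} (hv : hermForm n F q v v = 0)
    (a c : F) : tv q (a • v) c = tv q v (a * a ^ q * c) := by
  have hav : hermForm n F q (a • v) (a • v) = 0 := by rw [hf_smul_self, hv, mul_zero]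
  apply gact_ext
  intro x
  rw [tv_gact hav, tv_gact hv, hf_smul_right, smul_smul]
  congr 2
  ring

/-- The subgroup generated by the transvections with centre in `W`. -/
def TW (q : ℕ) (W : Submodule F (Fin n → F)) : Subgroup (GL (Fin n) F) :=
  Subgroup.closure {g | ∃ v ∈ W, ∃ c : F, hermForm n F q v v = 0 ∧ c + c ^ q = 0 ∧ g = tv q v c}

theorem tv_mem_TW {W : Submodule F (Fin n → F)} {v : Fin n → F} (hvW : v ∈ W)
    (hv : hermForm n F q v v = 0) {c : F} (hc : c + c ^ q = 0) : tv q v c ∈ TW q W :=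
  Subgroup.subset_closure ⟨v, hvW, c, hv, hc, rfl⟩

theorem TW_mono {W W' : Submodule F (Fin n → F)} (h : W ≤ W') : TW q W ≤ TW q W' := by
  apply Subgroup.closure_mono
  rintro g ⟨v, hvW, c, hv, hc, rfl⟩
  exact ⟨v, h hvW, c, hv, hc, rfl⟩

theorem TW_le_SUg (hF : Fintype.card F = q ^ 2) (W : Submodule F (Fin n → F)) :
    TW q W ≤ GU n F q ⊓ Cfsg.Geo.specialLinear (Fin n) F := by
  unfold TW
  rw [Subgroup.closure_le]
  rintro g ⟨v, -, c, -, hc, rfl⟩
  exact tv_mem_SUg hF v hc

theorem TW_le_GU (hF : Fintype.card F = q ^ 2) (W : Submodule F (Fin n → F)) :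
    TW q W ≤ GU n F q := (TW_le_SUg hF W).trans inf_le_left

/-- Elements of `TW W` move every vector by an element of `W`. -/
theorem TW_sub_mem (W : Submodule F (Fin n → F)) {t : GL (Fin n) F} (ht : t ∈ TW q W)
    (x : Fin n → F) : gact t x - x ∈ W := by
  revert x
  refine Subgroup.closure_induction (p := fun t _ => ∀ x, gact t x - x ∈ W) ?_ ?_ ?_ ?_ ht
  · rintro g ⟨v, hvW, c, hv, hc, rfl⟩ x
    rw [tv_gact hv, add_sub_cancel_left]
    exact W.smul_mem _ hvW
  · intro x
    rw [gact_one, sub_self]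
    exact W.zero_mem
  · intro a b _ _ ha hb x
    rw [gact_mul]
    have := W.add_mem (ha (gact b x)) (hb x)
    rwa [sub_add_sub_cancel] at this
  · intro a _ ha x
    have := W.neg_mem (ha (gact a⁻¹ x))
    rwa [gact_gact_inv, neg_sub] at this

theorem TW_maps (W : Submodule F (Fin n → F)) {t : GL (Fin n) F} (ht : t ∈ TW q W)
    {x : Fin n → F} (hx : x ∈ W) : gact t x ∈ W := by
  have := W.add_mem (TW_sub_mem W ht x) hx
  rwa [sub_add_cancel] at this

/-- Elements of `TW W` fix every vector orthogonal to `W`. -/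
theorem TW_fix (W : Submodule F (Fin n → F)) {t : GL (Fin n) F} (ht : t ∈ TW q W)
    (x : Fin n → F) (hx : ∀ w ∈ W, hermForm n F q x w = 0) : gact t x = x := by
  refine Subgroup.closure_induction (p := fun t _ => gact t x = x) ?_ ?_ ?_ ?_ ht
  · rintro g ⟨v, hvW, c, hv, hc, rfl⟩
    rw [tv_gact hv, hx v hvW, mul_zero, zero_smul, add_zero]
  · exact gact_one x
  · intro a b _ _ ha hb
    rw [gact_mul, hb, ha]
  · intro a _ ha
    have := congrArg (gact a⁻¹) ha
    rw [gact_inv_gact] at this
    exact this.symm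

/-- Conjugation by a unitary element maps `TW W` into `TW W'` when it maps `W` into `W'`. -/
theorem TW_conj (hF : Fintype.card F = q ^ 2) {W W' : Submodule F (Fin n → F)}
    {g : GL (Fin n) F} (hg : g ∈ GU n F q) (hW : ∀ w ∈ W, gact g w ∈ W')
    {t : GL (Fin n) F} (ht : t ∈ TW q W) : g * t * g⁻¹ ∈ TW q W' := by
  refine Subgroup.closure_induction (p := fun t _ => g * t * g⁻¹ ∈ TW q W') ?_ ?_ ?_ ?_ ht
  · rintro _ ⟨v, hvW, c, hv, hc, rfl⟩
    rw [conj_tv hF hg hv]
    exact tv_mem_TW (hW v hvW) (by rw [GU_preserves hg, hv]) hc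
  · rw [mul_one, mul_inv_cancel]
    exact one_mem _
  · intro a b _ _ ha hb
    have : g * (a * b) * g⁻¹ = (g * a * g⁻¹) * (g * b * g⁻¹) := by group
    rw [this]
    exact mul_mem ha hb
  · intro a _ ha
    have : g * a⁻¹ * g⁻¹ = (g * a * g⁻¹)⁻¹ := by group
    rw [this]
    exact inv_mem ha

/-- `TW ⊤` is normalised by the unitary group. -/
theorem TW_top_conj (hF : Fintype.card F = q ^ 2) {g : GL (Fin n) F} (hg : g ∈ GU n F q)
    {t : GL (Fin n) F} (ht : t ∈ TW q (⊤ : Submodule F (Fin n → F))) :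
    g * t * g⁻¹ ∈ TW q (⊤ : Submodule F (Fin n → F)) :=
  TW_conj hF hg (fun _ _ => Submodule.mem_top) ht

/-- The determinant of a unitary matrix has norm one. -/
theorem GU_det (hF : Fintype.card F = q ^ 2) {g : GL (Fin n) F} (hg : g ∈ GU n F q) :
    (g : Matrix (Fin n) (Fin n) F).det * (g : Matrix (Fin n) (Fin n) F).det ^ q = 1 := by
  have h1 : (g : Matrix (Fin n) (Fin n) F)ᵀ * (conjHom hF).mapMatrix (g : Matrix (Fin n) (Fin n) F)
      = 1 := by
    ext i j
    rw [Matrix.mul_apply, Matrix.one_apply]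
    have h2 := GU_preserves hg (Pi.single i 1) (Pi.single j 1)
    rw [hf_single_right hF, hf_def] at h2
    have h3 : ∀ k, gact g (Pi.single i 1) k = (g : Matrix (Fin n) (Fin n) F) k i := by
      intro k
      unfold gact
      simp
    have h4 : ∀ k, gact g (Pi.single j 1) k = (g : Matrix (Fin n) (Fin n) F) k j := by
      intro k
      unfold gact
      simp
    simp only [h3, h4] at h2
    rw [Pi.single_apply] at h2
    simp only [Matrix.transpose_apply, RingHom.mapMatrix_apply, Matrix.map_apply, conjHom_apply]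
    rw [h2]
    by_cases hij : i = j
    · rw [if_pos hij, if_pos hij.symm]
    · rw [if_neg hij, if_neg (Ne.symm hij)]
  have h5 := congrArg Matrix.det h1
  rw [Matrix.det_mul, Matrix.det_transpose, ← RingHom.map_det, Matrix.det_one, conjHom_apply] at h5
  exact h5

end Finite

end Cfsg.Agent.Lib.Helper27.Unitary
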