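import Mathlib
import Cfsg.Agent.Lib.Helper27.UForm

set_option autoImplicit false

/-!
Counting vectors of given norm for the standard Hermitian form.
-/

namespace Cfsg.Agent.Lib.Helper27.Unitary

open Cfsg Matrix

variable {F : Type*} [Field F] [Fintype F] {q : ℕ}

/-- Number of vectors of norm `a`. -/
noncomputable def cnt (n q : ℕ) (a : F) : ℕ := Nat.card {v : Fin n → F // hermForm n F q v v = a}

theorem cnt_scale (hF : Fintype.card F = q ^ 2) (n : ℕ) (a : F) (ha0 : a ≠ 0) (ha : a ^ q = a) :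
    cnt n q a = cnt n q (1 : F) := by
  obtain ⟨l, hl⟩ := nm_surj hF a ha
  have hl0 : l ≠ 0 := by
    rintro rfl
    rw [zero_mul] at hl
    exact ha0 hl.symm
  unfold cnt
  symm
  refine Nat.card_congr ⟨fun v => ⟨l • v.1, ?_⟩, fun v => ⟨l⁻¹ • v.1, ?_⟩, ?_, ?_⟩
  · rw [hf_smul_self, v.2, mul_one, hl]
  · rw [hf_smul_self, v.2, cj_inv, ← mul_inv, hl, inv_mul_cancel₀ ha0]
  · intro v
    apply Subtype.ext
    simp [smul_smul, inv_mul_cancel₀ hl0]
  · intro v
    apply Subtype.ext
    simp [smul_smul, mul_inv_cancel₀ hl0]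

theorem hf_cons (n : ℕ) (x : F) (v : Fin n → F) :
    hermForm (n + 1) F q (Fin.cons x v : Fin (n + 1) → F) (Fin.cons x v) =
      x * x ^ q + hermForm n F q v v := by
  rw [hf_def, Fin.sum_univ_succ, hf_def]
  simp

theorem cnt_succ (n : ℕ) (a : F) :
    cnt (n + 1) q a = ∑ x : F, cnt n q (a - x * x ^ q) := by
  classical
  unfold cnt
  rw [← Nat.card_sigma]
  refine Nat.card_congr ⟨fun w => ⟨w.1 0, ⟨Fin.tail w.1, ?_⟩⟩,
    fun p => ⟨Fin.cons p.1 p.2.1, ?_⟩, ?_, ?_⟩
  · have h : hermForm (n + 1) F q (Fin.cons (w.1 0) (Fin.tail w.1) : Fin (n + 1) → F)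
        (Fin.cons (w.1 0) (Fin.tail w.1)) = a := by
      rw [Fin.cons_self_tail]; exact w.2
    rw [hf_cons] at h
    exact eq_sub_of_add_eq' h
  · rw [hf_cons, p.2.2]
    ring
  · intro w
    apply Subtype.ext
    exact Fin.cons_self_tail w.1
  · rintro ⟨x, v, hv⟩
    apply Sigma.subtype_ext
    · simp
    · simp

theorem cnt_zero_zero : cnt 0 q (0 : F) = 1 := by
  unfold cnt
  rw [Nat.card_eq_one_iff_unique]
  refine ⟨⟨fun a b => Subtype.ext (Subsingleton.elim _ _)⟩, ⟨⟨0, ?_⟩⟩⟩
  rw [hf_def]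
  simp

theorem cnt_zero_one : cnt 0 q (1 : F) = 0 := by
  unfold cnt
  rw [Nat.card_eq_zero]
  left
  constructor
  rintro ⟨v, hv⟩
  rw [hf_def] at hv
  simp at hv

theorem card_nm_zero [DecidableEq F] (hF : Fintype.card F = q ^ 2) :
    (Finset.univ.filter (fun x : F => x * x ^ q = 0)).card = 1 := by
  classical
  rw [Finset.card_eq_one]
  refine ⟨0, ?_⟩
  ext x
  simp only [Finset.mem_filter, Finset.mem_univ, true_and, Finset.mem_singleton, mul_eq_zero]
  constructor
  · rintro (h | h)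
    · exact h
    · exact (cj_eq_zero hF).mp h
  · intro h
    left; exact h

theorem card_nm_one [DecidableEq F] (hF : Fintype.card F = q ^ 2) :
    (Finset.univ.filter (fun x : F => x * x ^ q = 1)).card = q + 1 := by
  classical
  have h := Cfsg.Agent.S0754.result hF (1 : F) one_ne_zero (one_pow q)
  rw [Nat.card_eq_fintype_card, Fintype.card_subtype] at h
  rw [← h]
  congr 1
  ext x
  simp only [Finset.mem_filter, Finset.mem_univ, true_and]
  rw [pow_succ']

/-- The recurrence, for `a` in the fixed field. -/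
theorem cnt_succ' [DecidableEq F] (hF : Fintype.card F = q ^ 2) (n : ℕ) (a : F) (ha : a ^ q = a) :
    cnt (n + 1) q a = (Finset.univ.filter (fun x : F => x * x ^ q = a)).card * cnt n q (0 : F) +
      (q ^ 2 - (Finset.univ.filter (fun x : F => x * x ^ q = a)).card) * cnt n q (1 : F) := by
  classical
  rw [cnt_succ, ← Finset.sum_filter_add_sum_filter_not Finset.univ (fun x : F => x * x ^ q = a)]
  congr 1
  · rw [Finset.sum_congr rfl (g := fun _ => cnt n q (0 : F)), Finset.sum_const, smul_eq_mul]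
    intro x hx
    rw [Finset.mem_filter] at hx
    rw [hx.2, sub_self]
  · rw [Finset.sum_congr rfl (g := fun _ => cnt n q (1 : F)), Finset.sum_const, smul_eq_mul]
    · congr 1
      rw [← hF, ← Finset.card_univ, ← Finset.card_filter_add_card_filter_not
        (s := (Finset.univ : Finset F)) (fun x : F => x * x ^ q = a)]
      omega
    · intro x hx
      rw [Finset.mem_filter] at hx
      apply cnt_scale hF
      · intro h
        exact hx.2 (sub_eq_zero.mp h).symm
      · rw [cj_sub hF, ha, nm_fixed hF]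

/-- Closed forms, multiplied by `q` to avoid truncated subtraction. -/
theorem cnt_closed (hF : Fintype.card F = q ^ 2) (n : ℕ) :
    (q : ℤ) * (cnt n q (0 : F) : ℤ) = (q : ℤ) ^ (2 * n) + (-1) ^ n * ((q : ℤ) ^ (n + 1) - (q : ℤ) ^ n) ∧
    (q : ℤ) * (cnt n q (1 : F) : ℤ) = (q : ℤ) ^ (2 * n) - (-1) ^ n * (q : ℤ) ^ n := by
  classical
  have hq := two_le_q hF
  induction n with
  | zero =>
    rw [cnt_zero_zero, cnt_zero_one]
    constructor <;> simp
  | succ n ih =>
    obtain ⟨ih0, ih1⟩ := ih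
    have h0 := cnt_succ' hF n (0 : F) (cj_zero hF)
    have h1 := cnt_succ' hF n (1 : F) (one_pow q)
    rw [card_nm_zero hF] at h0
    rw [card_nm_one hF] at h1
    have hle0 : 1 ≤ q ^ 2 := Nat.one_le_pow _ _ (by omega)
    have hle1 : q + 1 ≤ q ^ 2 := by nlinarith
    constructor
    · rw [h0]
      push_cast [Nat.cast_sub hle0]
      have e1 : (2 * (n + 1)) = 2 * n + 2 := by ring
      rw [e1]
      linear_combination (1 : ℤ) * ih0 + ((q : ℤ) ^ 2 - 1) * ih1
    · rw [h1]
      push_cast [Nat.cast_sub hle1]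
      have e1 : (2 * (n + 1)) = 2 * n + 2 := by ring
      rw [e1]
      linear_combination ((q : ℤ) + 1) * ih0 + ((q : ℤ) ^ 2 - ((q : ℤ) + 1)) * ih1

end Cfsg.Agent.Lib.Helper27.Unitary
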