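import Mathlib
import Cfsg.Agent.Lib.Helper27.UGroup

set_option autoImplicit false

/-!
Geometry of the standard Hermitian form: Witt's lemma for `GU_n`, orthogonal complements and
their dimension, non-degenerate subspaces.
-/

namespace Cfsg.Agent.Lib.Helper27.Unitary

open Cfsg Matrix

variable {F : Type*} [Field F] [Fintype F] {q n : ℕ}

/-- The Hermitian form as a sesquilinear map (semilinear in the first variable):
`hermB x y = h(y, x)`. -/
noncomputable def hermB (hF : Fintype.card F = q ^ 2) (n : ℕ) :
    (Fin n → F) →ₛₗ[conjHom hF] (Fin n → F) →ₗ[F] F :=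
  LinearMap.mk₂'ₛₗ (conjHom hF) (RingHom.id F) (fun x y => hermForm n F q y x)
    (fun x x' y => hf_add_right hF y x x')
    (fun c x y => by rw [hf_smul_right, conjHom_apply, smul_eq_mul])
    (fun x y y' => hf_add_left y y' x)
    (fun c x y => by rw [hf_smul_left, RingHom.id_apply, smul_eq_mul])

theorem hermB_apply (hF : Fintype.card F = q ^ 2) (x y : Fin n → F) :
    hermB hF n x y = hermForm n F q y x := rfl

theorem hermB_isSymm (hF : Fintype.card F = q ^ 2) : (hermB hF n).IsSymm := by
  constructor
  intro x y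
  rw [hermB_apply, hermB_apply, conjHom_apply, ← hf_swap hF]

theorem hermB_nondegenerate (hF : Fintype.card F = q ^ 2) : (hermB hF n).Nondegenerate := by
  constructor
  · intro x hx
    apply hf_nondeg' hF
    intro v
    have := hx v
    rwa [hermB_apply] at this
  · intro y hy
    apply hf_nondeg hF
    intro v
    have := hy v
    rwa [hermB_apply] at this

/-- A linear isometry as an element of `GL_n`. -/
noncomputable def toGL' (g : (Fin n → F) ≃ₗ[F] (Fin n → F)) : GL (Fin n) F :=
  ⟨LinearMap.toMatrix' (g : (Fin n → F) →ₗ[F] (Fin n → F)),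
    LinearMap.toMatrix' (g.symm : (Fin n → F) →ₗ[F] (Fin n → F)),
    by rw [← LinearMap.toMatrix'_comp]; simp,
    by rw [← LinearMap.toMatrix'_comp]; simp⟩

theorem gact_toGL' (g : (Fin n → F) ≃ₗ[F] (Fin n → F)) (x : Fin n → F) :
    gact (toGL' g) x = g x :=
  LinearMap.toMatrix'_mulVec _ x

theorem toGL'_mem_GU (g : (Fin n → F) ≃ₗ[F] (Fin n → F))
    (hg : ∀ u v, hermForm n F q (g u) (g v) = hermForm n F q u v) : toGL' g ∈ GU n F q := by
  rw [mem_GU_iff]
  intro u v
  rw [gact_toGL', gact_toGL']
  exact hg u v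

/-- Witt's lemma for `GU_n`. -/
theorem witt_gu (hF : Fintype.card F = q ^ 2) (s : Finset (Fin n → F))
    (f : (Fin n → F) →ₗ[F] (Fin n → F))
    (hf : ∀ x ∈ Submodule.span F (s : Set (Fin n → F)),
      ∀ x' ∈ Submodule.span F (s : Set (Fin n → F)),
        hermForm n F q (f x) (f x') = hermForm n F q x x')
    (hinj : ∀ x ∈ Submodule.span F (s : Set (Fin n → F)), f x = 0 → x = 0) :
    ∃ g : GL (Fin n) F, g ∈ GU n F q ∧
      ∀ x ∈ Submodule.span F (s : Set (Fin n → F)), gact g x = f x := by
  obtain ⟨g, hg, hgs⟩ := Cfsg.Agent.S0751.main (conjHom hF) (hermB hF n) (conjHom_conjHom hF)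
    (conjHom_ne_id hF) (hermB_isSymm hF) (hermB_nondegenerate hF) s f
    (by
      intro x hx x' hx'
      rw [hermB_apply, hermB_apply]
      exact hf x' hx' x hx)
    hinj
  refine ⟨toGL' g, toGL'_mem_GU g (by
    intro u v
    have := hg v u
    rwa [hermB_apply, hermB_apply] at this), ?_⟩
  intro x hx
  rw [gact_toGL']
  exact hgs x hx

theorem witt_gu_submodule (hF : Fintype.card F = q ^ 2) (X : Submodule F (Fin n → F))
    (f : (Fin n → F) →ₗ[F] (Fin n → F))
    (hf : ∀ x ∈ X, ∀ x' ∈ X, hermForm n F q (f x) (f x') = hermForm n F q x x')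
    (hinj : ∀ x ∈ X, f x = 0 → x = 0) :
    ∃ g : GL (Fin n) F, g ∈ GU n F q ∧ ∀ x ∈ X, gact g x = f x := by
  obtain ⟨s, hs⟩ := (IsNoetherian.noetherian X : X.FG)
  obtain ⟨A, hA⟩ := witt_gu hF s f (by rw [hs]; exact hf) (by rw [hs]; exact hinj)
  exact ⟨A, by rw [hs] at hA; exact hA⟩

/-! ### Orthogonal complements -/

/-- The orthogonal complement `{x | h(x, w) = 0 for all w ∈ W}`. -/
def uperp (q : ℕ) (W : Submodule F (Fin n → F)) : Submodule F (Fin n → F) where
  carrier := {x | ∀ w ∈ W, hermForm n F q x w = 0}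
  add_mem' := by
    intro a b ha hb w hw
    rw [hf_add_left, ha w hw, hb w hw, add_zero]
  zero_mem' := by
    intro w _
    exact hf_zero_left w
  smul_mem' := by
    intro c x hx w hw
    rw [hf_smul_left, hx w hw, mul_zero]

theorem mem_uperp {W : Submodule F (Fin n → F)} {x : Fin n → F} :
    x ∈ uperp q W ↔ ∀ w ∈ W, hermForm n F q x w = 0 := Iff.rfl

theorem mem_uperp' (hF : Fintype.card F = q ^ 2) {W : Submodule F (Fin n → F)} {x : Fin n → F} :
    x ∈ uperp q W ↔ ∀ w ∈ W, hermForm n F q w x = 0 := by
  rw [mem_uperp]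
  constructor
  · intro h w hw
    exact hf_eq_zero_swap hF (h w hw)
  · intro h w hw
    exact hf_eq_zero_swap hF (h w hw)

theorem uperp_anti {W W' : Submodule F (Fin n → F)} (h : W ≤ W') : uperp q W' ≤ uperp q W :=
  fun _ hx w hw => hx w (h hw)

/-- Entrywise conjugate of a vector. -/
def cjv (q : ℕ) (v : Fin n → F) : Fin n → F := fun i => v i ^ q

theorem cjv_cjv (hF : Fintype.card F = q ^ 2) (v : Fin n → F) : cjv q (cjv q v) = v := by
  funext i
  exact cj_cj hF (v i)

/-- The conjugate subspace. -/
def conjSub (hF : Fintype.card F = q ^ 2) (W : Submodule F (Fin n → F)) :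
    Submodule F (Fin n → F) where
  carrier := {y | cjv q y ∈ W}
  add_mem' := by
    intro a b ha hb
    have : cjv q (a + b) = cjv q a + cjv q b := by
      funext i
      exact cj_add hF (a i) (b i)
    change cjv q (a + b) ∈ W
    rw [this]
    exact W.add_mem ha hb
  zero_mem' := by
    have : cjv q (0 : Fin n → F) = 0 := by
      funext i
      exact cj_zero hF
    change cjv q (0 : Fin n → F) ∈ W
    rw [this]
    exact W.zero_mem
  smul_mem' := by
    intro c x hx
    have : cjv q (c • x) = c ^ q • cjv q x := by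
      funext i
      exact mul_pow c (x i) q
    change cjv q (c • x) ∈ W
    rw [this]
    exact W.smul_mem _ hx

theorem mem_conjSub (hF : Fintype.card F = q ^ 2) {W : Submodule F (Fin n → F)} {y : Fin n → F} :
    y ∈ conjSub hF W ↔ cjv q y ∈ W := Iff.rfl

theorem finrank_conjSub (hF : Fintype.card F = q ^ 2) (W : Submodule F (Fin n → F)) :
    Module.finrank F (conjSub hF W) = Module.finrank F W := by
  have hcard : Nat.card (conjSub hF W) = Nat.card W := by
    refine Nat.card_congr ⟨fun y => ⟨cjv q y.1, y.2⟩, fun w => ⟨cjv q w.1, ?_⟩, ?_, ?_⟩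
    · rw [mem_conjSub, cjv_cjv hF]
      exact w.2
    · intro y
      exact Subtype.ext (cjv_cjv hF y.1)
    · intro w
      exact Subtype.ext (cjv_cjv hF w.1)
  rw [Module.natCard_eq_pow_finrank (K := F) (V := ↥(conjSub hF W)),
    Module.natCard_eq_pow_finrank (K := F) (V := ↥W)] at hcard
  have h1 : 1 < Nat.card F := by
    rw [Nat.card_eq_fintype_card]
    exact Fintype.one_lt_card
  exact Nat.pow_right_injective h1 hcard

/-- The dot product as a bilinear form. -/
noncomputable def dotB (n : ℕ) (F : Type*) [Field F] : LinearMap.BilinForm F (Fin n → F) :=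
  LinearMap.mk₂ F (fun x y => x ⬝ᵥ y) (fun x x' y => add_dotProduct x x' y)
    (fun c x y => smul_dotProduct c x y) (fun x y y' => dotProduct_add x y y')
    (fun c x y => dotProduct_smul c x y)

theorem dotB_apply (x y : Fin n → F) : dotB n F x y = x ⬝ᵥ y := rfl

theorem dotB_nondegenerate : (dotB n F).Nondegenerate := by
  constructor
  · intro x hx
    funext i
    have := hx (Pi.single i 1)
    rw [dotB_apply, dotProduct_single_one] at this
    exact this
  · intro y hy
    funext i
    have := hy (Pi.single i 1)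
    rw [dotB_apply, single_one_dotProduct] at this
    exact this

theorem uperp_eq_orthogonal (hF : Fintype.card F = q ^ 2) (W : Submodule F (Fin n → F)) :
    uperp q W = (dotB n F).orthogonal (conjSub hF W) := by
  ext x
  rw [mem_uperp, LinearMap.BilinForm.mem_orthogonal_iff]
  constructor
  · intro h y hy
    rw [dotB_apply]
    have := h (cjv q y) hy
    rw [hf_def] at this
    rw [dotProduct_comm, dotProduct]
    convert this using 2 with i
    unfold cjv
    rw [cj_cj hF]
  · intro h w hw
    have hy : cjv q w ∈ conjSub hF W := by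
      rw [mem_conjSub, cjv_cjv hF]
      exact hw
    have := h (cjv q w) hy
    rw [dotB_apply, dotProduct_comm, dotProduct] at this
    rw [hf_def]
    exact this

theorem finrank_uperp (hF : Fintype.card F = q ^ 2) (W : Submodule F (Fin n → F)) :
    Module.finrank F (uperp q W) = n - Module.finrank F W := by
  rw [uperp_eq_orthogonal hF, LinearMap.BilinForm.finrank_orthogonal dotB_nondegenerate,
    finrank_conjSub hF, Module.finrank_fin_fun]

theorem finrank_add_uperp (hF : Fintype.card F = q ^ 2) (W : Submodule F (Fin n → F)) :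
    Module.finrank F W + Module.finrank F (uperp q W) = n := by
  rw [finrank_uperp hF]
  have : Module.finrank F W ≤ n := by
    have := Submodule.finrank_le W
    rwa [Module.finrank_fin_fun] at this
  omega

theorem le_uperp_uperp (hF : Fintype.card F = q ^ 2) (W : Submodule F (Fin n → F)) :
    W ≤ uperp q (uperp q W) := by
  intro w hw
  rw [mem_uperp]
  intro x hx
  exact hf_eq_zero_swap hF (hx w hw)

theorem uperp_uperp (hF : Fintype.card F = q ^ 2) (W : Submodule F (Fin n → F)) :
    uperp q (uperp q W) = W := by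
  symm
  apply Submodule.eq_of_le_of_finrank_eq (le_uperp_uperp hF W)
  have h1 := finrank_add_uperp hF W
  have h2 := finrank_add_uperp hF (uperp q W)
  omega

end Cfsg.Agent.Lib.Helper27.Unitary
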