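import Mathlib
import Cfsg.Agent.Lib.Helper27.UGeom
import Cfsg.Agent.Lib.Helper27.UCount
import Cfsg.Agent.S0284

set_option autoImplicit false

/-!
The order of `GU_n(q)`: orbit–stabiliser on vectors of norm one.
-/

namespace Cfsg.Agent.Lib.Helper27.Unitary

open Cfsg Matrix

variable {F : Type*} [Field F] [Fintype F] {q n : ℕ}

/-- Vectors of norm one. -/
def N1 (n : ℕ) (F : Type*) [Field F] (q : ℕ) : Type _ :=
  {v : Fin n → F // hermForm n F q v v = 1}

instance instMulActionN1 : MulAction ↥(GU n F q) (N1 n F q) where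
  smul g v := ⟨gact (g : GL (Fin n) F) v.1, by rw [GU_preserves g.2, v.2]⟩
  one_smul v := Subtype.ext (gact_one v.1)
  mul_smul g h v := Subtype.ext (gact_mul _ _ v.1)

theorem smul_N1_coe (g : ↥(GU n F q)) (v : N1 n F q) :
    (g • v).1 = gact (g : GL (Fin n) F) v.1 := rfl

theorem isPretransitive_N1 (hF : Fintype.card F = q ^ 2) :
    MulAction.IsPretransitive ↥(GU n F q) (N1 n F q) := by
  constructor
  intro u v
  obtain ⟨g, hg, hgX⟩ := witt_gu_submodule hF (Submodule.span F {u.1})
    ((hermB hF n u.1).smulRight v.1)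
    (by
      intro x hx x' hx'
      obtain ⟨a, rfl⟩ := Submodule.mem_span_singleton.mp hx
      obtain ⟨a', rfl⟩ := Submodule.mem_span_singleton.mp hx'
      simp only [LinearMap.smulRight_apply, hermB_apply]
      have e1 : hermForm n F q (a • u.1) (a' • u.1) = a * a' ^ q := by
        rw [hf_smul_left, hf_smul_right, u.2]
        ring
      rw [hf_smul_left (a := a), hf_smul_left (a := a'), u.2, mul_one, mul_one, e1,
        hf_smul_left, hf_smul_right, v.2]
      ring)
    (by
      intro x hx hx0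
      obtain ⟨a, rfl⟩ := Submodule.mem_span_singleton.mp hx
      simp only [LinearMap.smulRight_apply, hermB_apply] at hx0
      rw [hf_smul_left, u.2, mul_one] at hx0
      have hv0 : v.1 ≠ 0 := by
        intro h
        have := v.2
        rw [h, hf_zero_left] at this
        exact zero_ne_one this
      rcases smul_eq_zero.mp hx0 with h0 | h0
      · rw [h0, zero_smul]
      · exact absurd h0 hv0)
  refine ⟨⟨g, hg⟩, ?_⟩
  apply Subtype.ext
  rw [smul_N1_coe]
  change gact g u.1 = v.1
  rw [hgX u.1 (Submodule.mem_span_singleton_self u.1)]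
  simp only [LinearMap.smulRight_apply, hermB_apply]
  rw [u.2, one_smul]

/-! ### The stabiliser of the first basis vector -/

/-- Prepending a zero coordinate. -/
def consL (n : ℕ) (F : Type*) [Field F] : (Fin n → F) →ₗ[F] (Fin (n + 1) → F) where
  toFun x := Fin.cons 0 x
  map_add' x y := by
    ext i
    refine Fin.cases ?_ (fun j => ?_) i <;> simp
  map_smul' c x := by
    ext i
    refine Fin.cases ?_ (fun j => ?_) i <;> simp

/-- Dropping the first coordinate. -/
def tailL (n : ℕ) (F : Type*) [Field F] : (Fin (n + 1) → F) →ₗ[F] (Fin n → F) where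
  toFun v := Fin.tail v
  map_add' _ _ := rfl
  map_smul' _ _ := rfl

theorem consL_apply (x : Fin n → F) : consL n F x = Fin.cons 0 x := rfl

theorem tailL_apply (v : Fin (n + 1) → F) : tailL n F v = Fin.tail v := rfl

theorem consL_zero (x : Fin n → F) : consL n F x 0 = 0 := rfl

theorem tailL_consL (x : Fin n → F) : tailL n F (consL n F x) = x := by
  rw [consL_apply, tailL_apply, Fin.tail_cons]

theorem consL_tailL (v : Fin (n + 1) → F) (h : v 0 = 0) : consL n F (tailL n F v) = v := by
  rw [consL_apply, tailL_apply, ← h]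
  exact Fin.cons_self_tail v

theorem hf_succ (v w : Fin (n + 1) → F) :
    hermForm (n + 1) F q v w = v 0 * (w 0) ^ q + hermForm n F q (Fin.tail v) (Fin.tail w) := by
  rw [hf_def, Fin.sum_univ_succ, hf_def]
  rfl

theorem hf_consL (x y : Fin n → F) :
    hermForm (n + 1) F q (consL n F x) (consL n F y) = hermForm n F q x y := by
  rw [hf_succ, consL_zero, zero_mul, zero_add]
  rfl

/-- The first basis vector. -/
def e0 (n : ℕ) (F : Type*) [Field F] : Fin (n + 1) → F := Pi.single 0 1

theorem e0_zero : e0 n F 0 = 1 := by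
  unfold e0
  simp

theorem tail_e0 : Fin.tail (e0 n F) = 0 := by
  ext i
  unfold e0 Fin.tail
  simp [Fin.succ_ne_zero]

theorem hf_e0 (hF : Fintype.card F = q ^ 2) (v : Fin (n + 1) → F) :
    hermForm (n + 1) F q v (e0 n F) = v 0 := hf_single_right hF v 0

theorem hf_e0_self (hF : Fintype.card F = q ^ 2) :
    hermForm (n + 1) F q (e0 n F) (e0 n F) = 1 := by
  rw [hf_e0 hF, e0_zero]

theorem eq_smul_e0_add (v : Fin (n + 1) → F) :
    v = (v 0) • e0 n F + consL n F (tailL n F v) := by
  ext i
  refine Fin.cases ?_ (fun j => ?_) i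
  · simp [e0_zero, consL_zero]
  · simp [e0, consL_apply, tailL_apply, Fin.tail, Fin.succ_ne_zero]

/-- A unitary element fixing `e0` preserves the first coordinate. -/
theorem coord0_of_fix (hF : Fintype.card F = q ^ 2) {g : GL (Fin (n + 1)) F}
    (hg : g ∈ GU (n + 1) F q) (he : gact g (e0 n F) = e0 n F) (v : Fin (n + 1) → F) :
    gact g v 0 = v 0 := by
  rw [← hf_e0 (q := q) hF (gact g v), ← hf_e0 (q := q) hF v]
  conv_lhs => rw [← he]
  exact GU_preserves hg v (e0 n F)

theorem inv_fix {g : GL (Fin (n + 1)) F} (he : gact g (e0 n F) = e0 n F) :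
    gact g⁻¹ (e0 n F) = e0 n F := by
  conv_lhs => rw [← he]
  exact gact_inv_gact g _

/-- The restriction to the last `n` coordinates of a unitary element fixing `e0`. -/
noncomputable def downL (hF : Fintype.card F = q ^ 2) (g : GL (Fin (n + 1)) F)
    (hg : g ∈ GU (n + 1) F q) (he : gact g (e0 n F) = e0 n F) :
    (Fin n → F) ≃ₗ[F] (Fin n → F) :=
  LinearEquiv.ofLinear (tailL n F ∘ₗ (gactL g).toLinearMap ∘ₗ consL n F)
    (tailL n F ∘ₗ (gactL g⁻¹).toLinearMap ∘ₗ consL n F)
    (by
      apply LinearMap.ext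
      intro x
      simp only [LinearMap.comp_apply, LinearEquiv.coe_coe, gactL_apply, LinearMap.id_apply]
      rw [consL_tailL _ (by
        rw [coord0_of_fix hF (inv_mem hg) (inv_fix he), consL_zero]), gact_gact_inv, tailL_consL])
    (by
      apply LinearMap.ext
      intro x
      simp only [LinearMap.comp_apply, LinearEquiv.coe_coe, gactL_apply, LinearMap.id_apply]
      rw [consL_tailL _ (by
        rw [coord0_of_fix hF hg he, consL_zero]), gact_inv_gact, tailL_consL])

theorem downL_apply (hF : Fintype.card F = q ^ 2) (g : GL (Fin (n + 1)) F)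
    (hg : g ∈ GU (n + 1) F q) (he : gact g (e0 n F) = e0 n F) (x : Fin n → F) :
    downL hF g hg he x = tailL n F (gact g (consL n F x)) := rfl

/-- Extending an element of `GL_n` by the identity on the first coordinate, as a linear map. -/
noncomputable def upLin (A : GL (Fin n) F) : (Fin (n + 1) → F) →ₗ[F] (Fin (n + 1) → F) :=
  (LinearMap.proj 0 : (Fin (n + 1) → F) →ₗ[F] F).smulRight (e0 n F) +
    consL n F ∘ₗ (gactL A).toLinearMap ∘ₗ tailL n F

theorem upLin_apply (A : GL (Fin n) F) (v : Fin (n + 1) → F) :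
    upLin A v = (v 0) • e0 n F + consL n F (gact A (tailL n F v)) := rfl

theorem upLin_zero (A : GL (Fin n) F) (v : Fin (n + 1) → F) : upLin A v 0 = v 0 := by
  rw [upLin_apply, Pi.add_apply, Pi.smul_apply, e0_zero, consL_zero, smul_eq_mul, mul_one,
    add_zero]

theorem tailL_upLin (A : GL (Fin n) F) (v : Fin (n + 1) → F) :
    tailL n F (upLin A v) = gact A (tailL n F v) := by
  rw [upLin_apply, map_add, map_smul, tailL_consL]
  have h1 : tailL n F (e0 n F) = 0 := tail_e0
  rw [h1, smul_zero, zero_add]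

theorem upLin_upLin (A B : GL (Fin n) F) (v : Fin (n + 1) → F) :
    upLin A (upLin B v) = upLin (A * B) v := by
  rw [upLin_apply A, upLin_zero, tailL_upLin, upLin_apply, gact_mul]

theorem upLin_one (v : Fin (n + 1) → F) : upLin (1 : GL (Fin n) F) v = v := by
  rw [upLin_apply, gact_one]
  exact (eq_smul_e0_add v).symm

/-- Extending an element of `GL_n` by the identity on the first coordinate. -/
noncomputable def upL (A : GL (Fin n) F) : (Fin (n + 1) → F) ≃ₗ[F] (Fin (n + 1) → F) :=
  LinearEquiv.ofLinear (upLin A) (upLin A⁻¹)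
    (by
      apply LinearMap.ext
      intro v
      rw [LinearMap.comp_apply, upLin_upLin, mul_inv_cancel, upLin_one, LinearMap.id_apply])
    (by
      apply LinearMap.ext
      intro v
      rw [LinearMap.comp_apply, upLin_upLin, inv_mul_cancel, upLin_one, LinearMap.id_apply])

theorem upL_apply (A : GL (Fin n) F) (v : Fin (n + 1) → F) :
    upL A v = (v 0) • e0 n F + consL n F (gact A (tailL n F v)) := rfl

theorem upL_mem_GU {A : GL (Fin n) F} (hA : A ∈ GU n F q) :
    toGL' (upL A) ∈ GU (n + 1) F q := by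
  apply toGL'_mem_GU
  intro u v
  have h0 : ∀ w : Fin (n + 1) → F, upL A w 0 = w 0 := upLin_zero A
  have h1 : ∀ w : Fin (n + 1) → F, Fin.tail (upL A w) = gact A (Fin.tail w) := tailL_upLin A
  rw [hf_succ, h0, h0, h1, h1, GU_preserves hA, ← hf_succ]

theorem upL_e0 (A : GL (Fin n) F) : upL A (e0 n F) = e0 n F := by
  rw [upL_apply, e0_zero, one_smul]
  have h1 : tailL n F (e0 n F) = 0 := tail_e0
  rw [h1, gact_zero, map_zero, add_zero]

theorem consL_tailL_gact (hF : Fintype.card F = q ^ 2) {g : GL (Fin (n + 1)) F}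
    (hg : g ∈ GU (n + 1) F q) (he : gact g (e0 n F) = e0 n F) (x : Fin n → F) :
    consL n F (tailL n F (gact g (consL n F x))) = gact g (consL n F x) :=
  consL_tailL _ (by rw [coord0_of_fix hF hg he, consL_zero])

theorem downL_mem_GU (hF : Fintype.card F = q ^ 2) {g : GL (Fin (n + 1)) F}
    (hg : g ∈ GU (n + 1) F q) (he : gact g (e0 n F) = e0 n F) :
    toGL' (downL hF g hg he) ∈ GU n F q := by
  apply toGL'_mem_GU
  intro x y
  rw [downL_apply, downL_apply, ← hf_consL, consL_tailL_gact hF hg he, consL_tailL_gact hF hg he,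
    GU_preserves hg, hf_consL]

/-- `e0` as a vector of norm one. -/
def e0N (hF : Fintype.card F = q ^ 2) (n : ℕ) : N1 (n + 1) F q := ⟨e0 n F, hf_e0_self hF⟩

theorem mem_stab_e0 (hF : Fintype.card F = q ^ 2) (g : ↥(GU (n + 1) F q)) :
    g ∈ MulAction.stabilizer ↥(GU (n + 1) F q) (e0N hF n) ↔
      gact (g : GL (Fin (n + 1)) F) (e0 n F) = e0 n F := by
  rw [MulAction.mem_stabilizer_iff]
  constructor
  · intro h
    exact congrArg Subtype.val h
  · intro h
    exact Subtype.ext h

/-- The stabiliser of `e0` in `GU_{n+1}` is `GU_n`. -/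
noncomputable def stabEquiv (hF : Fintype.card F = q ^ 2) (n : ℕ) :
    ↥(MulAction.stabilizer ↥(GU (n + 1) F q) (e0N hF n)) ≃ ↥(GU n F q) where
  toFun s := ⟨toGL' (downL hF s.1.1 s.1.2 ((mem_stab_e0 hF s.1).mp s.2)),
    downL_mem_GU hF s.1.2 ((mem_stab_e0 hF s.1).mp s.2)⟩
  invFun A := ⟨⟨toGL' (upL A.1), upL_mem_GU A.2⟩, by
    rw [mem_stab_e0]
    change gact (toGL' (upL A.1)) (e0 n F) = e0 n F
    rw [gact_toGL', upL_e0]⟩
  left_inv s := by
    apply Subtype.ext
    apply Subtype.ext
    apply gact_ext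
    intro v
    have he := (mem_stab_e0 hF s.1).mp s.2
    change gact (toGL' (upL (toGL' (downL hF s.1.1 s.1.2 he)))) v = gact s.1.1 v
    rw [gact_toGL', upL_apply, gact_toGL', downL_apply, consL_tailL_gact hF s.1.2 he]
    conv_rhs => rw [eq_smul_e0_add v, gact_add, gact_smul, he]
  right_inv A := by
    apply Subtype.ext
    apply gact_ext
    intro x
    change gact (toGL' (downL hF (toGL' (upL A.1)) _ _)) x = gact A.1 x
    rw [gact_toGL', downL_apply, gact_toGL']
    have : tailL n F (upL A.1 (consL n F x)) = gact A.1 (tailL n F (consL n F x)) :=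
      tailL_upLin A.1 _
    rw [this, tailL_consL]

theorem card_GU_succ (hF : Fintype.card F = q ^ 2) (n : ℕ) :
    Nat.card ↥(GU (n + 1) F q) = Nat.card ↥(GU n F q) * Nat.card (N1 (n + 1) F q) := by
  have : MulAction.IsPretransitive ↥(GU (n + 1) F q) (N1 (n + 1) F q) := isPretransitive_N1 hF
  have h := (MulAction.stabilizer ↥(GU (n + 1) F q) (e0N hF n)).card_mul_index
  rw [MulAction.index_stabilizer_of_transitive, Nat.card_congr (stabEquiv hF n)] at h
  exact h.symm

theorem card_GU_zero : Nat.card ↥(GU 0 F q) = 1 := by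
  rw [Nat.card_eq_one_iff_unique]
  refine ⟨⟨fun a b => ?_⟩, ⟨1⟩⟩
  apply Subtype.ext
  apply Units.ext
  ext i
  exact Fin.elim0 i

theorem triangle_succ (n : ℕ) : (n + 1) * (n + 1 - 1) / 2 = n * (n - 1) / 2 + n := by
  obtain ⟨k, hk⟩ := Nat.even_mul_pred_self n
  rw [hk]
  have h1 : (n + 1) * (n + 1 - 1) = 2 * (k + n) := by
    rw [Nat.add_sub_cancel]
    have : (n + 1) * n = n * (n - 1) + 2 * n := by
      cases n with
      | zero => rfl
      | succ m =>
        rw [Nat.add_sub_cancel]
        ring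
    rw [this, hk]
    ring
  rw [h1, Nat.mul_div_cancel_left _ (by norm_num : 0 < 2)]
  have : k + k = 2 * k := by ring
  rw [this, Nat.mul_div_cancel_left _ (by norm_num : 0 < 2)]

/-- The order of `GU_n(q)`. -/
theorem card_GU (hF : Fintype.card F = q ^ 2) (n : ℕ) :
    Nat.card ↥(GU n F q) = q ^ (n * (n - 1) / 2) *
      ∏ i ∈ Finset.range n, (if Even i then q ^ (i + 1) + 1 else q ^ (i + 1) - 1) := by
  induction n with
  | zero =>
    rw [card_GU_zero]
    simp
  | succ n ih =>
    rw [card_GU_succ hF, ih, Finset.prod_range_succ, triangle_succ, pow_add]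
    have h1 : Nat.card (N1 (n + 1) F q) =
        (if Even (n + 1) then q ^ (n + 1 - 1) * (q ^ (n + 1) - 1)
          else q ^ (n + 1 - 1) * (q ^ (n + 1) + 1)) := Cfsg.Agent.S0284.result hF (n + 1)
    rw [h1, Nat.add_sub_cancel]
    by_cases hev : Even n
    · have : ¬ Even (n + 1) := by
        rw [Nat.even_add_one]
        exact not_not.mpr hev
      rw [if_neg this, if_pos hev]
      ring
    · have : Even (n + 1) := by
        rw [Nat.even_add_one]
        exact hev
      rw [if_pos this, if_neg hev]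
      ring

end Cfsg.Agent.Lib.Helper27.Unitary
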