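import Mathlib
import Cfsg.Agent.Lib.Helper27.UGeom

set_option autoImplicit false

/-!
Non-degenerate subspaces for the standard Hermitian form; anisotropic vectors and hyperbolic
partners.
-/

namespace Cfsg.Agent.Lib.Helper27.Unitary

open Cfsg Matrix

variable {F : Type*} [Field F] [Fintype F] {q n : ℕ}

/-- `W` is non-degenerate for the Hermitian form. -/
def UNondeg (q : ℕ) (W : Submodule F (Fin n → F)) : Prop :=
  ∀ u ∈ W, (∀ w ∈ W, hermForm n F q u w = 0) → u = 0

theorem unondeg_top (hF : Fintype.card F = q ^ 2) : UNondeg q (⊤ : Submodule F (Fin n → F)) :=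
  fun u _ h => hf_nondeg hF u (fun v => h v Submodule.mem_top)

theorem unondeg_of_geo {W : Submodule F (Fin n → F)}
    (hW : Cfsg.Geo.IsNondegenerateOn (hermForm n F q) W) : UNondeg q W := by
  intro u hu h
  by_contra hne
  obtain ⟨-, x, hx, hxu⟩ := hW u hu hne
  exact hxu (h x hx)

theorem geo_of_unondeg (hF : Fintype.card F = q ^ 2) {W : Submodule F (Fin n → F)}
    (hW : UNondeg q W) : Cfsg.Geo.IsNondegenerateOn (hermForm n F q) W := by
  intro w hw hw0
  have : ∃ x ∈ W, hermForm n F q w x ≠ 0 := by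
    by_contra hne
    apply hw0
    apply hW w hw
    intro x hx
    by_contra h
    exact hne ⟨x, hx, h⟩
  obtain ⟨x, hx, hxw⟩ := this
  refine ⟨⟨x, hx, ?_⟩, ⟨x, hx, hxw⟩⟩
  intro h
  exact hxw (hf_eq_zero_swap hF h)

theorem unondeg_disjoint {W : Submodule F (Fin n → F)} (hW : UNondeg q W) :
    Disjoint W (uperp q W) := by
  rw [Submodule.disjoint_def]
  intro x hx hx'
  exact hW x hx (fun w hw => hx' w hw)

theorem unondeg_isCompl (hF : Fintype.card F = q ^ 2) {W : Submodule F (Fin n → F)}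
    (hW : UNondeg q W) : IsCompl W (uperp q W) := by
  refine ⟨unondeg_disjoint hW, ?_⟩
  rw [codisjoint_iff]
  apply Submodule.eq_top_of_disjoint
  · rw [finrank_add_uperp hF, Module.finrank_fin_fun]
  · exact unondeg_disjoint hW

theorem exists_decomp (hF : Fintype.card F = q ^ 2) {W : Submodule F (Fin n → F)}
    (hW : UNondeg q W) (x : Fin n → F) : ∃ x₁ ∈ W, ∃ x₂ ∈ uperp q W, x₁ + x₂ = x := by
  have hx : x ∈ W ⊔ uperp q W := by rw [(unondeg_isCompl hF hW).sup_eq_top]; trivial
  exact Submodule.mem_sup.mp hx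

theorem unondeg_uperp (hF : Fintype.card F = q ^ 2) {W : Submodule F (Fin n → F)}
    (hW : UNondeg q W) : UNondeg q (uperp q W) := by
  intro u hu h
  apply hf_nondeg hF
  intro v
  obtain ⟨v₁, hv₁, v₂, hv₂, rfl⟩ := exists_decomp hF hW v
  rw [hf_add_right hF, hu v₁ hv₁, h v₂ hv₂, add_zero]

/-- A non-zero non-degenerate subspace contains an anisotropic vector. -/
theorem exists_aniso (hF : Fintype.card F = q ^ 2) {W : Submodule F (Fin n → F)}
    (hW : UNondeg q W) (hW0 : W ≠ ⊥) : ∃ z ∈ W, hermForm n F q z z ≠ 0 := by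
  obtain ⟨w, hw, hw0⟩ := Submodule.exists_mem_ne_zero_of_ne_bot hW0
  by_cases hww : hermForm n F q w w ≠ 0
  · exact ⟨w, hw, hww⟩
  rw [not_not] at hww
  have : ∃ x ∈ W, hermForm n F q w x ≠ 0 := by
    by_contra hne
    apply hw0
    apply hW w hw
    intro x hx
    by_contra h
    exact hne ⟨x, hx, h⟩
  obtain ⟨x, hx, hwx⟩ := this
  by_cases hxx : hermForm n F q x x ≠ 0
  · exact ⟨x, hx, hxx⟩
  rw [not_not] at hxx
  obtain ⟨s, hs⟩ := tr_surj hF (1 : F) (one_pow q)
  set l : F := (s / hermForm n F q w x) ^ q with hl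
  refine ⟨l • x + w, W.add_mem (W.smul_mem _ hx) hw, ?_⟩
  rw [hf_add_self hF, hf_smul_self, hxx, hww, mul_zero, zero_add, zero_add, hf_smul_left]
  have h1 : hermForm n F q x w = (hermForm n F q w x) ^ q := hf_swap hF w x
  have h2 : l * hermForm n F q x w = s ^ q := by
    rw [hl, h1, cj_div]
    have : (hermForm n F q w x) ^ q ≠ 0 := fun h => hwx ((cj_eq_zero hF).mp h)
    field_simp
  rw [h2, cj_cj hF, add_comm, hs]
  exact one_ne_zero

/-- A non-zero non-degenerate subspace contains vectors of every non-zero norm in the fixed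
field. -/
theorem exists_norm (hF : Fintype.card F = q ^ 2) {W : Submodule F (Fin n → F)}
    (hW : UNondeg q W) (hW0 : W ≠ ⊥) (a : F) (ha : a ^ q = a) :
    ∃ z ∈ W, z ≠ 0 ∧ hermForm n F q z z = a ∨ a = 0 := by
  by_cases ha0 : a = 0
  · obtain ⟨z, hz, -⟩ := exists_aniso hF hW hW0
    exact ⟨z, hz, Or.inr ha0⟩
  obtain ⟨z, hz, hzz⟩ := exists_aniso hF hW hW0
  have hb : (a / hermForm n F q z z) ^ q = a / hermForm n F q z z := by
    rw [cj_div, ha, hf_self_fixed hF]
  obtain ⟨l, hl⟩ := nm_surj hF _ hb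
  refine ⟨l • z, W.smul_mem _ hz, Or.inl ⟨?_, ?_⟩⟩
  · intro h
    have h2 : hermForm n F q (l • z) (l • z) = 0 := by rw [h, hf_zero_left]
    rw [hf_smul_self, hl, div_mul_cancel₀ _ hzz] at h2
    exact ha0 h2
  · rw [hf_smul_self, hl, div_mul_cancel₀ _ hzz]

theorem exists_norm' (hF : Fintype.card F = q ^ 2) {W : Submodule F (Fin n → F)}
    (hW : UNondeg q W) (hW0 : W ≠ ⊥) (a : F) (ha : a ^ q = a) (ha0 : a ≠ 0) :
    ∃ z ∈ W, hermForm n F q z z = a := by
  obtain ⟨z, hz, h⟩ := exists_norm hF hW hW0 a ha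
  rcases h with h | h
  · exact ⟨z, hz, h.2⟩
  · exact absurd h ha0

/-- A hyperbolic partner of an isotropic vector `e` inside `span {e, z}` when `h(e, z) ≠ 0`. -/
theorem exists_partner (hF : Fintype.card F = q ^ 2) (e z : Fin n → F)
    (he : hermForm n F q e e = 0) (hez : hermForm n F q e z ≠ 0) :
    ∃ a b : F, hermForm n F q (a • e + b • z) (a • e + b • z) = 0 ∧
      hermForm n F q e (a • e + b • z) = 1 := by
  set β := hermForm n F q e z with hβ
  have hze : hermForm n F q z e = β ^ q := hf_swap hF e z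
  have hβq : β ^ q ≠ 0 := fun h => hez ((cj_eq_zero hF).mp h)
  obtain ⟨s, hs⟩ := tr_surj hF (- hermForm n F q z z) (by rw [cj_neg hF, hf_self_fixed hF])
  -- ρ with ρ^q * h(z,e) = s
  set ρ : F := (s / β ^ q) ^ q with hρ
  have hρ1 : ρ ^ q * β ^ q = s := by
    rw [hρ, cj_cj hF]
    field_simp
  have hiso : hermForm n F q (ρ • e + z) (ρ • e + z) = 0 := by
    rw [hf_add_self hF, hf_smul_self, he, mul_zero, zero_add, hf_smul_left, mul_pow, hρ1,
      ← hβ]
    have : ρ * β = s ^ q := by
      rw [← hρ1, mul_pow, cj_cj hF, cj_cj hF]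
    rw [this, add_comm (s ^ q)]
    linear_combination hs
  -- κ with κ^q β = 1
  set κ : F := (1 / β) ^ q with hκ
  have hκ1 : κ ^ q * β = 1 := by
    rw [hκ, cj_cj hF]
    field_simp
  refine ⟨κ * ρ, κ, ?_, ?_⟩
  · have : (κ * ρ) • e + κ • z = κ • (ρ • e + z) := by
      rw [smul_add, smul_smul]
    rw [this, hf_smul_self, hiso, mul_zero]
  · rw [hf_add_right hF, hf_smul_right, hf_smul_right, he, mul_zero, zero_add, ← hβ]
    exact hκ1

/-- Hyperbolic pair. -/
structure HypPair (q : ℕ) (e f : Fin n → F) : Prop where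
  ee : hermForm n F q e e = 0
  ff : hermForm n F q f f = 0
  ef : hermForm n F q e f = 1

theorem HypPair.fe (hF : Fintype.card F = q ^ 2) {e f : Fin n → F} (h : HypPair q e f) :
    hermForm n F q f e = 1 := by
  rw [hf_swap hF e f, h.ef, one_pow]

/-- The form on a combination of a hyperbolic pair. -/
theorem HypPair.form (hF : Fintype.card F = q ^ 2) {e f : Fin n → F} (h : HypPair q e f)
    (x y x' y' : F) :
    hermForm n F q (x • e + y • f) (x' • e + y' • f) = x * y' ^ q + y * x' ^ q := by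
  rw [hf_add_left, hf_add_right hF, hf_add_right hF, hf_smul_left, hf_smul_left, hf_smul_left,
    hf_smul_left, hf_smul_right, hf_smul_right, hf_smul_right, hf_smul_right, h.ee, h.ff, h.ef,
    h.fe hF]
  ring

theorem HypPair.linearIndependent (hF : Fintype.card F = q ^ 2) {e f : Fin n → F}
    (h : HypPair q e f) : LinearIndependent F ![e, f] := by
  rw [LinearIndependent.pair_iff]
  intro s t hst
  have h1 : hermForm n F q (s • e + t • f) ((0 : F) • e + (1 : F) • f) = 0 := by
    rw [hst, hf_zero_left]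
  have h2 : hermForm n F q (s • e + t • f) ((1 : F) • e + (0 : F) • f) = 0 := by
    rw [hst, hf_zero_left]
  rw [h.form hF] at h1 h2
  rw [one_pow, zero_pow (by have := two_le_q hF; omega), mul_one, mul_zero] at h1 h2
  rw [add_zero] at h1
  rw [zero_add] at h2
  exact ⟨h1, h2⟩

/-- A subspace of dimension at most two containing a hyperbolic pair is spanned by it. -/
theorem HypPair.span_eq (hF : Fintype.card F = q ^ 2) {e f : Fin n → F} (h : HypPair q e f)
    (L : Submodule F (Fin n → F)) (he : e ∈ L) (hf' : f ∈ L) (hL : Module.finrank F L ≤ 2) :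
    ∀ u ∈ L, ∃ x y : F, u = x • e + y • f := by
  have hspan : Submodule.span F (Set.range ![e, f]) = L := by
    apply Submodule.eq_of_le_of_finrank_le
    · rw [Submodule.span_le]
      rintro _ ⟨i, rfl⟩
      fin_cases i
      · exact he
      · exact hf'
    · rw [finrank_span_eq_card (h.linearIndependent hF)]
      simpa using hL
  intro u hu
  rw [← hspan] at hu
  have : Set.range ![e, f] = {e, f} := by
    ext v
    simp only [Set.mem_range, Set.mem_insert_iff, Set.mem_singleton_iff]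
    constructor
    · rintro ⟨i, rfl⟩
      fin_cases i
      · left; rfl
      · right; rfl
    · rintro (rfl | rfl)
      · exact ⟨0, rfl⟩
      · exact ⟨1, rfl⟩
  rw [this, Submodule.mem_span_pair] at hu
  obtain ⟨x, y, hxy⟩ := hu
  exact ⟨x, y, hxy.symm⟩

end Cfsg.Agent.Lib.Helper27.Unitary
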