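import Mathlib
import Cfsg.Agent.Lib.Helper27.UGeom2
import Cfsg.Agent.Lib.Helper27.UCount

set_option autoImplicit false

/-!
More on non-degenerate subspaces: orthogonal sums, relative complements.
-/

namespace Cfsg.Agent.Lib.Helper27.Unitary

open Cfsg Matrix

variable {F : Type*} [Field F] [Fintype F] {q n : ℕ}

theorem unondeg_bot : UNondeg q (⊥ : Submodule F (Fin n → F)) := by
  intro u hu _
  exact (Submodule.mem_bot F).mp hu

/-- Orthogonal sum of non-degenerate subspaces. -/
theorem unondeg_sup (hF : Fintype.card F = q ^ 2) {S₁ S₂ : Submodule F (Fin n → F)}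
    (h₁ : UNondeg q S₁) (h₂ : UNondeg q S₂)
    (horth : ∀ x ∈ S₁, ∀ y ∈ S₂, hermForm n F q x y = 0) : UNondeg q (S₁ ⊔ S₂) := by
  intro u hu h
  obtain ⟨x₁, hx₁, x₂, hx₂, rfl⟩ := Submodule.mem_sup.mp hu
  have e1 : x₁ = 0 := by
    apply h₁ x₁ hx₁
    intro w hw
    have := h w (Submodule.mem_sup_left hw)
    rw [hf_add_left, hf_eq_zero_swap hF (horth w hw x₂ hx₂), add_zero] at this
    exact this
  have e2 : x₂ = 0 := by
    apply h₂ x₂ hx₂
    intro w hw
    have := h w (Submodule.mem_sup_right hw)
    rw [hf_add_left, horth x₁ hx₁ w hw, zero_add] at this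
    exact this
  rw [e1, e2, add_zero]

theorem unondeg_span_singleton {u : Fin n → F} (hu : hermForm n F q u u ≠ 0) :
    UNondeg q (Submodule.span F {u}) := by
  intro x hx h
  obtain ⟨c, rfl⟩ := Submodule.mem_span_singleton.mp hx
  have := h u (Submodule.mem_span_singleton_self u)
  rw [hf_smul_left] at this
  rcases mul_eq_zero.mp this with h0 | h0
  · rw [h0, zero_smul]
  · exact absurd h0 hu

theorem unondeg_span_hyp (hF : Fintype.card F = q ^ 2) {e f : Fin n → F} (h : HypPair q e f) :
    UNondeg q (Submodule.span F {e, f}) := by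
  intro x hx hx0
  obtain ⟨a, b, rfl⟩ := Submodule.mem_span_pair.mp hx
  have he : e ∈ Submodule.span F {e, f} := Submodule.subset_span (by simp)
  have hf' : f ∈ Submodule.span F {e, f} := Submodule.subset_span (by simp)
  have h1 := hx0 e he
  have h2 := hx0 f hf'
  have h1' := h.form hF a b 1 0
  have h2' := h.form hF a b 0 1
  rw [one_smul, zero_smul, add_zero] at h1'
  rw [one_smul, zero_smul, zero_add] at h2'
  rw [h1', one_pow, zero_pow (by have := two_le_q hF; omega), mul_zero, zero_add, mul_one] at h1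
  rw [h2', one_pow, zero_pow (by have := two_le_q hF; omega), mul_zero, add_zero, mul_one] at h2
  rw [h1, h2, zero_smul, zero_smul, add_zero]

/-- Relative orthogonal complement of a non-degenerate subspace. -/
theorem rel_sup (hF : Fintype.card F = q ^ 2) {S U : Submodule F (Fin n → F)} (hSU : S ≤ U)
    (hS : UNondeg q S) : S ⊔ (U ⊓ uperp q S) = U := by
  have h1 : S ⊔ uperp q S = ⊤ := (unondeg_isCompl hF hS).sup_eq_top
  have h2 : (S ⊔ uperp q S) ⊓ U = S ⊔ (uperp q S ⊓ U) := sup_inf_assoc_of_le _ hSU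
  rw [h1, top_inf_eq] at h2
  rw [inf_comm, ← h2]

theorem rel_finrank (hF : Fintype.card F = q ^ 2) {S U : Submodule F (Fin n → F)} (hSU : S ≤ U)
    (hS : UNondeg q S) :
    Module.finrank F S + Module.finrank F ↥(U ⊓ uperp q S) = Module.finrank F U := by
  have h1 := Submodule.finrank_sup_add_finrank_inf_eq S (U ⊓ uperp q S)
  rw [rel_sup hF hSU hS] at h1
  have h2 : S ⊓ (U ⊓ uperp q S) = ⊥ := by
    rw [eq_bot_iff]
    intro x hx
    have := (unondeg_disjoint hS)
    rw [Submodule.disjoint_def] at this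
    rw [Submodule.mem_bot]
    exact this x hx.1 hx.2.2
  rw [h2, finrank_bot, add_zero] at h1
  exact h1.symm

theorem rel_unondeg (hF : Fintype.card F = q ^ 2) {S U : Submodule F (Fin n → F)} (hSU : S ≤ U)
    (hS : UNondeg q S) (hU : UNondeg q U) : UNondeg q (U ⊓ uperp q S) := by
  intro x hx h
  apply hU x hx.1
  intro w hw
  rw [← rel_sup hF hSU hS] at hw
  obtain ⟨w₁, hw₁, w₂, hw₂, rfl⟩ := Submodule.mem_sup.mp hw
  rw [hf_add_right hF, hx.2 w₁ hw₁, h w₂ hw₂, add_zero]

/-- A vector of prescribed non-zero norm in `U`, orthogonal to a smaller non-degenerate `S`. -/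
theorem exists_norm_rel (hF : Fintype.card F = q ^ 2) {S U : Submodule F (Fin n → F)}
    (hSU : S ≤ U) (hS : UNondeg q S) (hU : UNondeg q U)
    (hdim : Module.finrank F S < Module.finrank F U) (a : F) (ha : a ^ q = a) (ha0 : a ≠ 0) :
    ∃ z ∈ U, z ∈ uperp q S ∧ hermForm n F q z z = a := by
  have hne : U ⊓ uperp q S ≠ ⊥ := by
    intro h
    have := rel_finrank hF hSU hS
    rw [h, finrank_bot] at this
    omega
  obtain ⟨z, hz, hzz⟩ := exists_norm' hF (rel_unondeg hF hSU hS hU) hne a ha ha0
  exact ⟨z, hz.1, hz.2, hzz⟩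

theorem finrank_span_pair_le (u w : Fin n → F) :
    Module.finrank F (Submodule.span F ({u, w} : Set (Fin n → F))) ≤ 2 := by
  classical
  have h : Module.finrank F (Submodule.span F
      ((({u, w} : Finset (Fin n → F)) : Set (Fin n → F)))) ≤ ({u, w} : Finset (Fin n → F)).card :=
    finrank_span_finset_le_card _
  rw [Finset.coe_pair] at h
  exact h.trans Finset.card_le_two

theorem finrank_span_single_le (u : Fin n → F) :
    Module.finrank F (Submodule.span F ({u} : Set (Fin n → F))) ≤ 1 := by
  classical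
  have h : Module.finrank F (Submodule.span F
      ((({u} : Finset (Fin n → F)) : Set (Fin n → F)))) ≤ ({u} : Finset (Fin n → F)).card :=
    finrank_span_finset_le_card _
  rw [Finset.coe_singleton, Finset.card_singleton] at h
  exact h

theorem card_nm_eq [DecidableEq F] (hF : Fintype.card F = q ^ 2) (μ : F) (hμ0 : μ ≠ 0)
    (hμ : μ ^ q = μ) : (Finset.univ.filter (fun x : F => x * x ^ q = μ)).card = q + 1 := by
  have h := Cfsg.Agent.S0754.result hF μ hμ0 hμ
  rw [Nat.card_eq_fintype_card, Fintype.card_subtype] at h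
  rw [← h]
  congr 1
  ext x
  simp only [Finset.mem_filter, Finset.mem_univ, true_and]
  rw [pow_succ']

/-- For `q ≥ 3` there is an element whose norm avoids `0` and a given value. -/
theorem exists_nm_avoid (hF : Fintype.card F = q ^ 2) (hq : 3 ≤ q) (μ : F) :
    ∃ η : F, η * η ^ q ≠ 0 ∧ η * η ^ q ≠ μ := by
  classical
  by_contra hcon
  have hall : ∀ η : F, η * η ^ q = 0 ∨ η * η ^ q = μ := by
    intro η
    by_contra h
    rw [not_or] at h
    exact hcon ⟨η, h.1, h.2⟩
  have hsub : (Finset.univ : Finset F) ⊆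
      (Finset.univ.filter (fun x : F => x * x ^ q = 0)) ∪
        (Finset.univ.filter (fun x : F => x * x ^ q = μ)) := by
    intro η _
    rw [Finset.mem_union, Finset.mem_filter, Finset.mem_filter]
    rcases hall η with h | h
    · left; exact ⟨Finset.mem_univ _, h⟩
    · right; exact ⟨Finset.mem_univ _, h⟩
  have h1 := (Finset.card_le_card hsub).trans (Finset.card_union_le _ _)
  rw [Finset.card_univ, hF, card_nm_zero hF] at h1
  by_cases hμ0 : μ = 0
  · rw [hμ0, card_nm_zero hF] at h1
    nlinarith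
  · by_cases hμ : μ ^ q = μ
    · rw [card_nm_eq hF μ hμ0 hμ] at h1
      nlinarith
    · have : (Finset.univ.filter (fun x : F => x * x ^ q = μ)) = ∅ := by
        rw [Finset.filter_eq_empty_iff]
        intro x _ hx
        apply hμ
        rw [← hx, nm_fixed hF]
      rw [this, Finset.card_empty] at h1
      nlinarith

end Cfsg.Agent.Lib.Helper27.Unitary
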