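import Mathlib
import Cfsg.Agent.Lib.Helper27.UGeom2

set_option autoImplicit false

/-!
The group generated by the unitary transvections centred at the two vectors of a hyperbolic pair
is transitive on the vectors of given non-zero norm of the hyperbolic plane.
-/

namespace Cfsg.Agent.Lib.Helper27.Unitary

open Cfsg Matrix

variable {F : Type*} [Field F] [Fintype F] {q n : ℕ}

/-- Three elementary moves suffice when `x' / x₀` is not fixed by the involution. -/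
theorem three_moves (hF : Fintype.card F = q ^ 2) (x₀ y x' y' : F)
    (hn : x₀ * y ^ q + y * x₀ ^ q = x' * y' ^ q + y' * x' ^ q)
    (hn0 : x₀ * y ^ q + y * x₀ ^ q ≠ 0)
    (hΔ : x' * x₀ ^ q - x₀ * x' ^ q ≠ 0) :
    ∃ c₁ c₂ c₃ : F, c₁ + c₁ ^ q = 0 ∧ c₂ + c₂ ^ q = 0 ∧ c₃ + c₃ ^ q = 0 ∧
      x₀ + c₂ * (y + c₁ * x₀) = x' ∧ (y + c₁ * x₀) + c₃ * x' = y' := by
  obtain ⟨Δ, hΔdef⟩ : ∃ Δ : F, Δ = x' * x₀ ^ q - x₀ * x' ^ q := ⟨_, rfl⟩
  rw [← hΔdef] at hΔ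
  obtain ⟨d, hd⟩ : ∃ d : F, d = y' - y := ⟨_, rfl⟩
  obtain ⟨n₁, hn₁⟩ : ∃ n₁ : F, n₁ = -(d * x' ^ q + d ^ q * x') := ⟨_, rfl⟩
  obtain ⟨n₃, hn₃⟩ : ∃ n₃ : F, n₃ = d * x₀ ^ q + d ^ q * x₀ := ⟨_, rfl⟩
  have hΔq : Δ ^ q = -Δ := by
    rw [hΔdef, cj_sub hF, mul_pow, mul_pow, cj_cj hF, cj_cj hF]
    ring
  have hn₁q : n₁ ^ q = n₁ := by
    rw [hn₁, cj_neg hF, cj_add hF, mul_pow, mul_pow, cj_cj hF, cj_cj hF]
    ring
  have hn₃q : n₃ ^ q = n₃ := by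
    rw [hn₃, cj_add hF, mul_pow, mul_pow, cj_cj hF, cj_cj hF]
    ring
  have hkey : n₁ * x₀ + n₃ * x' = d * Δ := by
    rw [hn₁, hn₃, hΔdef]
    ring
  obtain ⟨c₁, hc₁def⟩ : ∃ c₁ : F, c₁ = n₁ / Δ := ⟨_, rfl⟩
  obtain ⟨c₃, hc₃def⟩ : ∃ c₃ : F, c₃ = n₃ / Δ := ⟨_, rfl⟩
  have hc₁ : c₁ + c₁ ^ q = 0 := by
    rw [hc₁def, div_pow, hn₁q, hΔq]
    field_simp
    ring
  have hc₃ : c₃ + c₃ ^ q = 0 := by
    rw [hc₃def, div_pow, hn₃q, hΔq]
    field_simp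
    ring
  have hsum : c₁ * x₀ + c₃ * x' = d := by
    rw [hc₁def, hc₃def]
    field_simp
    linear_combination hkey
  obtain ⟨y₁, hy₁⟩ : ∃ y₁ : F, y₁ = y + c₁ * x₀ := ⟨_, rfl⟩
  have hy₁' : y₁ = y' - c₃ * x' := by
    rw [hy₁]
    linear_combination hsum + hd
  have hN : x₀ * y₁ ^ q + y₁ * x₀ ^ q = x₀ * y ^ q + y * x₀ ^ q := by
    rw [hy₁, cj_add hF, mul_pow]
    linear_combination (x₀ * x₀ ^ q) * hc₁
  have hN' : x' * y₁ ^ q + y₁ * x' ^ q = x' * y' ^ q + y' * x' ^ q := by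
    rw [hy₁', cj_sub hF, mul_pow]
    linear_combination (-(x' * x' ^ q)) * hc₃
  have hy₁0 : y₁ ≠ 0 := by
    intro h0
    apply hn0
    rw [← hN, h0, cj_zero hF]
    ring
  have hy₁q0 : y₁ ^ q ≠ 0 := fun h => hy₁0 ((cj_eq_zero hF).mp h)
  obtain ⟨c₂, hc₂def⟩ : ∃ c₂ : F, c₂ = (x' - x₀) / y₁ := ⟨_, rfl⟩
  have hc₂ : c₂ + c₂ ^ q = 0 := by
    rw [hc₂def, div_pow, cj_sub hF]
    field_simp
    linear_combination hN' - hN - hn
  refine ⟨c₁, c₂, c₃, hc₁, hc₂, hc₃, ?_, ?_⟩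
  · rw [← hy₁, hc₂def]
    field_simp
    ring
  · rw [← hy₁, hy₁']
    ring

/-- Four elementary moves always suffice. -/
theorem four_moves (hF : Fintype.card F = q ^ 2) (x y x' y' : F)
    (hn : x * y ^ q + y * x ^ q = x' * y' ^ q + y' * x' ^ q)
    (hn0 : x * y ^ q + y * x ^ q ≠ 0) :
    ∃ c₀ c₁ c₂ c₃ : F, c₀ + c₀ ^ q = 0 ∧ c₁ + c₁ ^ q = 0 ∧ c₂ + c₂ ^ q = 0 ∧ c₃ + c₃ ^ q = 0 ∧
      (x + c₀ * y) + c₂ * (y + c₁ * (x + c₀ * y)) = x' ∧
      (y + c₁ * (x + c₀ * y)) + c₃ * x' = y' := by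
  have hx'0 : x' ≠ 0 := by
    intro h0
    apply hn0
    rw [hn, h0, cj_zero hF]
    ring
  have hx'q0 : x' ^ q ≠ 0 := fun h => hx'0 ((cj_eq_zero hF).mp h)
  by_cases hΔ₀ : x' * x ^ q - x * x' ^ q ≠ 0
  · obtain ⟨c₁, c₂, c₃, hc₁, hc₂, hc₃, h1, h2⟩ := three_moves hF x y x' y' hn hn0 hΔ₀
    refine ⟨0, c₁, c₂, c₃, by rw [cj_zero hF, add_zero], hc₁, hc₂, hc₃, ?_, ?_⟩
    · rw [zero_mul, add_zero]; exact h1
    · rw [zero_mul, add_zero]; exact h2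
  · rw [not_not] at hΔ₀
    obtain ⟨θ, hθ0, hθ⟩ := exists_theta hF
    have hθq : θ ^ q = -θ := by linear_combination hθ
    have hτ : x' * y ^ q + y * x' ^ q ≠ 0 := by
      intro hτ0
      apply hn0
      have h1 : (x * y ^ q + y * x ^ q) * (x' * x' ^ q) = 0 := by
        linear_combination (x * x' ^ q) * hτ0 + (y * x' ^ q) * hΔ₀
      rcases mul_eq_zero.mp h1 with h | h
      · exact h
      · exact absurd h (mul_ne_zero hx'0 hx'q0)
    have hn' : (x + θ * y) * y ^ q + y * (x + θ * y) ^ q = x' * y' ^ q + y' * x' ^ q := by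
      rw [← hn, cj_add hF, mul_pow, hθq]
      ring
    have hn0' : (x + θ * y) * y ^ q + y * (x + θ * y) ^ q ≠ 0 := by
      rw [hn', ← hn]; exact hn0
    have hΔ : x' * (x + θ * y) ^ q - (x + θ * y) * x' ^ q ≠ 0 := by
      have : x' * (x + θ * y) ^ q - (x + θ * y) * x' ^ q = -θ * (x' * y ^ q + y * x' ^ q) := by
        rw [cj_add hF, mul_pow, hθq]
        linear_combination hΔ₀
      rw [this]
      exact mul_ne_zero (neg_ne_zero.mpr hθ0) hτ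
    obtain ⟨c₁, c₂, c₃, hc₁, hc₂, hc₃, h1, h2⟩ :=
      three_moves hF (x + θ * y) y x' y' hn' hn0' hΔ
    exact ⟨θ, c₁, c₂, c₃, hθ, hc₁, hc₂, hc₃, h1, h2⟩

/-- The two elementary moves. -/
theorem move_e (hF : Fintype.card F = q ^ 2) {e f : Fin n → F} (h : HypPair q e f) (c x y : F) :
    gact (tv q e c) (x • e + y • f) = (x + c * y) • e + y • f := by
  rw [tv_gact h.ee]
  have : hermForm n F q (x • e + y • f) e = y := by
    have := h.form hF x y 1 0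
    rw [one_smul, zero_smul, add_zero] at this
    rw [this, one_pow, zero_pow (by have := two_le_q hF; omega)]
    ring
  rw [this, add_smul]
  abel

theorem move_f (hF : Fintype.card F = q ^ 2) {e f : Fin n → F} (h : HypPair q e f) (c x y : F) :
    gact (tv q f c) (x • e + y • f) = x • e + (y + c * x) • f := by
  rw [tv_gact h.ff]
  have : hermForm n F q (x • e + y • f) f = x := by
    have := h.form hF x y 0 1
    rw [one_smul, zero_smul, zero_add] at this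
    rw [this, one_pow, zero_pow (by have := two_le_q hF; omega)]
    ring
  rw [this, add_smul]
  abel

/-- Transitivity on vectors of equal non-zero norm in a hyperbolic plane. -/
theorem plane_trans (hF : Fintype.card F = q ^ 2) {e f : Fin n → F} (h : HypPair q e f)
    (W : Submodule F (Fin n → F)) (heW : e ∈ W) (hfW : f ∈ W) (x y x' y' : F)
    (hn : x * y ^ q + y * x ^ q = x' * y' ^ q + y' * x' ^ q)
    (hn0 : x * y ^ q + y * x ^ q ≠ 0) :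
    ∃ t ∈ TW q W, gact t (x • e + y • f) = x' • e + y' • f := by
  obtain ⟨c₀, c₁, c₂, c₃, hc₀, hc₁, hc₂, hc₃, h1, h2⟩ := four_moves hF x y x' y' hn hn0
  refine ⟨tv q f c₃ * tv q e c₂ * tv q f c₁ * tv q e c₀, ?_, ?_⟩
  · exact mul_mem (mul_mem (mul_mem (tv_mem_TW hfW h.ff hc₃) (tv_mem_TW heW h.ee hc₂))
      (tv_mem_TW hfW h.ff hc₁)) (tv_mem_TW heW h.ee hc₀)
  · rw [gact_mul, gact_mul, gact_mul, move_e hF h, move_f hF h, move_e hF h, move_f hF h, h1, h2]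

end Cfsg.Agent.Lib.Helper27.Unitary
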