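import Mathlib
import Cfsg.Agent.Lib.Helper27.UPlane
import Cfsg.Agent.Lib.Helper27.UGeom3

set_option autoImplicit false

/-!
Transitivity of the group generated by unitary transvections on the vectors of a given
non-zero norm.
-/

namespace Cfsg.Agent.Lib.Helper27.Unitary

open Cfsg Matrix

variable {F : Type*} [Field F] [Fintype F] {q n : ℕ}

/-- Two vectors of the same non-zero norm spanning a non-degenerate plane are interchanged by a
product of transvections centred in that plane. -/
theorem good_pair (hF : Fintype.card F = q ^ 2) (u w : Fin n → F) (a : F) (ha0 : a ≠ 0)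
    (hu : hermForm n F q u u = a) (hw : hermForm n F q w w = a)
    (hgood : hermForm n F q u w * (hermForm n F q u w) ^ q ≠ a * a) :
    ∃ t ∈ TW q (Submodule.span F ({u, w} : Set (Fin n → F))), gact t u = w := by
  have haq : a ^ q = a := by rw [← hu, hf_self_fixed hF]
  obtain ⟨b, hb⟩ : ∃ b : F, b = hermForm n F q w u := ⟨_, rfl⟩
  have huw : hermForm n F q u w = b ^ q := by rw [hb, ← hf_swap hF]
  rw [huw, cj_cj hF] at hgood
  obtain ⟨κ, hκ⟩ : ∃ κ : F, κ = b / a := ⟨_, rfl⟩
  have hκq : κ ^ q = b ^ q / a := by rw [hκ, cj_div, haq]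
  obtain ⟨w₁, hw₁⟩ : ∃ w₁ : Fin n → F, w₁ = w - κ • u := ⟨_, rfl⟩
  have hw₁u : hermForm n F q w₁ u = 0 := by
    rw [hw₁, hf_sub_left, hf_smul_left, hu, ← hb, hκ]
    field_simp
    ring
  have huw₁ : hermForm n F q u w₁ = 0 := hf_eq_zero_swap hF hw₁u
  obtain ⟨a', ha'⟩ : ∃ a' : F, a' = a - b * b ^ q / a := ⟨_, rfl⟩
  have hw₁w₁ : hermForm n F q w₁ w₁ = a' := by
    have : hermForm n F q w₁ w₁ = hermForm n F q w w₁ := by
      have h1 : hermForm n F q (w - κ • u) w₁ = hermForm n F q w w₁ := by
        rw [hf_sub_left, hf_smul_left, huw₁, mul_zero, sub_zero]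
      rw [← hw₁] at h1
      exact h1
    rw [this, hw₁, hf_sub_right hF, hf_smul_right, hw, ← hb, hκq, ha']
    field_simp
  have ha'0 : a' ≠ 0 := by
    rw [ha']
    intro h
    apply hgood
    field_simp at h
    linear_combination -h
  have ha'q : a' ^ q = a' := by rw [← hw₁w₁, hf_self_fixed hF]
  obtain ⟨l, hl⟩ := nm_surj hF (-a / a') (by rw [cj_div, cj_neg hF, haq, ha'q])
  obtain ⟨e, he⟩ : ∃ e : Fin n → F, e = u + l • w₁ := ⟨_, rfl⟩
  have hee : hermForm n F q e e = 0 := by
    rw [he, hf_add_self hF, hf_smul_self, hf_smul_right, huw₁, mul_zero, cj_zero hF, hu, hw₁w₁,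
      hl]
    field_simp
    ring
  have heu : hermForm n F q e u = a := by
    rw [he, hf_add_left, hf_smul_left, hw₁u, hu]
    ring
  obtain ⟨α, β, hff, hef⟩ := exists_partner hF e u hee (by rw [heu]; exact ha0)
  obtain ⟨f, hf'⟩ : ∃ f : Fin n → F, f = α • e + β • u := ⟨_, rfl⟩
  rw [← hf'] at hff hef
  have hp : HypPair q e f := ⟨hee, hff, hef⟩
  set L := Submodule.span F ({u, w} : Set (Fin n → F)) with hL
  have huL : u ∈ L := Submodule.subset_span (by simp)
  have hwL : w ∈ L := Submodule.subset_span (by simp)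
  have heL : e ∈ L := by
    rw [he, hw₁]
    exact L.add_mem huL (L.smul_mem _ (L.sub_mem hwL (L.smul_mem _ huL)))
  have hfL : f ∈ L := by
    rw [hf']
    exact L.add_mem (L.smul_mem _ heL) (L.smul_mem _ huL)
  obtain ⟨x, y, hxy⟩ := hp.span_eq hF L heL hfL (finrank_span_pair_le u w) u huL
  obtain ⟨x', y', hxy'⟩ := hp.span_eq hF L heL hfL (finrank_span_pair_le u w) w hwL
  have h1 : x * y ^ q + y * x ^ q = a := by
    rw [← hp.form hF, ← hxy, hu]
  have h2 : x' * y' ^ q + y' * x' ^ q = a := by
    rw [← hp.form hF, ← hxy', hw]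
  obtain ⟨t, ht, htu⟩ := plane_trans hF hp L heL hfL x y x' y' (by rw [h1, h2])
    (by rw [h1]; exact ha0)
  exact ⟨t, ht, by rw [hxy, hxy', htu]⟩

theorem span_pair_le {U : Submodule F (Fin n → F)} {u w : Fin n → F} (hu : u ∈ U) (hw : w ∈ U) :
    Submodule.span F ({u, w} : Set (Fin n → F)) ≤ U := by
  rw [Submodule.span_le]
  rintro x (rfl | rfl)
  · exact hu
  · exact hw

/-- A vector connecting two vectors of the same norm through good pairs. -/
theorem exists_connect (hF : Fintype.card F = q ^ 2) (U : Submodule F (Fin n → F))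
    (hU : UNondeg q U) (hdim : 3 ≤ Module.finrank F U)
    (hex : ¬ (Module.finrank F U = 3 ∧ q = 2)) (u w : Fin n → F) (huU : u ∈ U) (hwU : w ∈ U)
    (a : F) (ha0 : a ≠ 0) (hu : hermForm n F q u u = a) (hw : hermForm n F q w w = a) :
    ∃ z ∈ U, hermForm n F q z z = a ∧
      hermForm n F q u z * (hermForm n F q u z) ^ q ≠ a * a ∧
      hermForm n F q z w * (hermForm n F q z w) ^ q ≠ a * a := by
  have haq : a ^ q = a := by rw [← hu, hf_self_fixed hF]
  have haa : a * a ≠ 0 := mul_ne_zero ha0 ha0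
  obtain ⟨μ, hμ⟩ : ∃ μ : F, μ = hermForm n F q w u / a := ⟨_, rfl⟩
  obtain ⟨w', hw'⟩ : ∃ w' : Fin n → F, w' = w - μ • u := ⟨_, rfl⟩
  have hw'U : w' ∈ U := by
    rw [hw']
    exact U.sub_mem hwU (U.smul_mem _ huU)
  have hw'u : hermForm n F q w' u = 0 := by
    rw [hw', hf_sub_left, hf_smul_left, hu, hμ]
    field_simp
    ring
  have huw' : hermForm n F q u w' = 0 := hf_eq_zero_swap hF hw'u
  have hwdec : w = w' + μ • u := by rw [hw']; abel
  -- reduction
  suffices h : ∃ z ∈ U, hermForm n F q z z = a ∧ hermForm n F q z u = 0 ∧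
      hermForm n F q z w' * (hermForm n F q z w') ^ q ≠ a * a by
    obtain ⟨z, hzU, hzz, hzu, hzw'⟩ := h
    refine ⟨z, hzU, hzz, ?_, ?_⟩
    · rw [hf_eq_zero_swap hF hzu, zero_mul]
      exact haa.symm
    · rw [hwdec, hf_add_right hF, hf_smul_right, hzu, mul_zero, add_zero]
      exact hzw'
  have hSu : UNondeg q (Submodule.span F {u}) := unondeg_span_singleton (by rw [hu]; exact ha0)
  have hSuU : Submodule.span F {u} ≤ U := by
    rw [Submodule.span_singleton_le_iff_mem]; exact huU
  by_cases hcaseA : w' = 0 ∨ hermForm n F q w' w' ≠ 0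
  · -- Case A
    have hSw : UNondeg q (Submodule.span F {w'}) := by
      rcases hcaseA with h | h
      · rw [h, Submodule.span_zero_singleton]
        exact unondeg_bot
      · exact unondeg_span_singleton h
    have horth : ∀ x ∈ Submodule.span F {u}, ∀ y ∈ Submodule.span F {w'},
        hermForm n F q x y = 0 := by
      intro x hx y hy
      obtain ⟨c, rfl⟩ := Submodule.mem_span_singleton.mp hx
      obtain ⟨d, rfl⟩ := Submodule.mem_span_singleton.mp hy
      rw [hf_smul_left, hf_smul_right, huw', mul_zero, mul_zero]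
    have hS := unondeg_sup hF hSu hSw horth
    have hSU : Submodule.span F {u} ⊔ Submodule.span F {w'} ≤ U :=
      sup_le hSuU (by rw [Submodule.span_singleton_le_iff_mem]; exact hw'U)
    have hSdim : Module.finrank F ↥(Submodule.span F {u} ⊔ Submodule.span F {w'}) <
        Module.finrank F U := by
      have h1 := Submodule.finrank_add_le_finrank_add_finrank (Submodule.span F {u})
        (Submodule.span F {w'})
      have h2 := finrank_span_single_le u
      have h3 := finrank_span_single_le w'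
      omega
    obtain ⟨z, hzU, hzS, hzz⟩ := exists_norm_rel hF hSU hS hU hSdim a haq ha0
    refine ⟨z, hzU, hzz, ?_, ?_⟩
    · exact hzS u (Submodule.mem_sup_left (Submodule.mem_span_singleton_self u))
    · rw [hzS w' (Submodule.mem_sup_right (Submodule.mem_span_singleton_self w')), zero_mul]
      exact haa.symm
  · -- Case B
    rw [not_or, not_not] at hcaseA
    obtain ⟨hw'0, hw'w'⟩ := hcaseA
    set U₁ := U ⊓ uperp q (Submodule.span F {u}) with hU₁
    have hU₁nd : UNondeg q U₁ := rel_unondeg hF hSuU hSu hU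
    have hmemU₁ : ∀ x ∈ U, hermForm n F q x u = 0 → x ∈ U₁ := by
      intro x hx hxu
      refine ⟨hx, ?_⟩
      intro y hy
      obtain ⟨c, rfl⟩ := Submodule.mem_span_singleton.mp hy
      rw [hf_smul_right, hxu, mul_zero]
    have hU₁u : ∀ x ∈ U₁, hermForm n F q x u = 0 := fun x hx =>
      hx.2 u (Submodule.mem_span_singleton_self u)
    have hw'U₁ : w' ∈ U₁ := hmemU₁ w' hw'U hw'u
    have : ∃ x ∈ U₁, hermForm n F q w' x ≠ 0 := by
      by_contra hne
      apply hw'0
      apply hU₁nd w' hw'U₁
      intro x hx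
      by_contra h
      exact hne ⟨x, hx, h⟩
    obtain ⟨x, hxU₁, hw'x⟩ := this
    obtain ⟨α, β, hff, hef⟩ := exists_partner hF w' x hw'w' hw'x
    obtain ⟨w'', hw''⟩ : ∃ w'' : Fin n → F, w'' = α • w' + β • x := ⟨_, rfl⟩
    rw [← hw''] at hff hef
    have hp : HypPair q w' w'' := ⟨hw'w', hff, hef⟩
    have hw''U₁ : w'' ∈ U₁ := by
      rw [hw'']
      exact U₁.add_mem (U₁.smul_mem _ hw'U₁) (U₁.smul_mem _ hxU₁)
    by_cases h4 : 4 ≤ Module.finrank F U
    · -- B1
      have hSh := unondeg_span_hyp hF hp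
      have horth : ∀ x ∈ Submodule.span F {u}, ∀ y ∈ Submodule.span F {w', w''},
          hermForm n F q x y = 0 := by
        intro x hx y hy
        obtain ⟨c, rfl⟩ := Submodule.mem_span_singleton.mp hx
        obtain ⟨d, d', rfl⟩ := Submodule.mem_span_pair.mp hy
        rw [hf_smul_left, hf_add_right hF, hf_smul_right, hf_smul_right, huw',
          hf_eq_zero_swap hF (hU₁u w'' hw''U₁)]
        ring
      have hS := unondeg_sup hF hSu hSh horth
      have hSU : Submodule.span F {u} ⊔ Submodule.span F {w', w''} ≤ U :=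
        sup_le hSuU (span_pair_le hw'U hw''U₁.1)
      have hSdim : Module.finrank F ↥(Submodule.span F {u} ⊔ Submodule.span F {w', w''}) <
          Module.finrank F U := by
        have h1 := Submodule.finrank_add_le_finrank_add_finrank (Submodule.span F {u})
          (Submodule.span F {w', w''})
        have h2 := finrank_span_single_le u
        have h3 := finrank_span_pair_le w' w''
        omega
      obtain ⟨z, hzU, hzS, hzz⟩ := exists_norm_rel hF hSU hS hU hSdim a haq ha0
      refine ⟨z, hzU, hzz, ?_, ?_⟩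
      · exact hzS u (Submodule.mem_sup_left (Submodule.mem_span_singleton_self u))
      · rw [hzS w' (Submodule.mem_sup_right (Submodule.subset_span (by simp))), zero_mul]
        exact haa.symm
    · -- B2
      have hdim3 : Module.finrank F U = 3 := by omega
      have hq3 : 3 ≤ q := by
        have := two_le_q hF
        by_contra h
        exact hex ⟨hdim3, by omega⟩
      obtain ⟨η, hη0, hηa⟩ := exists_nm_avoid hF hq3 (a * a)
      have hη : η ≠ 0 := by
        rintro rfl
        exact hη0 (zero_mul _)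
      have hηq : η ^ q ≠ 0 := fun h => hη ((cj_eq_zero hF).mp h)
      obtain ⟨s, hs⟩ := tr_surj hF a haq
      obtain ⟨ξ, hξ⟩ : ∃ ξ : F, ξ = s / η ^ q := ⟨_, rfl⟩
      refine ⟨ξ • w' + η • w'', ?_, ?_, ?_, ?_⟩
      · exact (U₁.add_mem (U₁.smul_mem _ hw'U₁) (U₁.smul_mem _ hw''U₁)).1
      · rw [hp.form hF, hξ, cj_div, cj_cj hF, ← hs]
        field_simp
      · exact hU₁u _ (U₁.add_mem (U₁.smul_mem _ hw'U₁) (U₁.smul_mem _ hw''U₁))
      · have : hermForm n F q (ξ • w' + η • w'') w' = η := by
          have := hp.form hF ξ η 1 0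
          rw [one_smul, zero_smul, add_zero] at this
          rw [this, one_pow, zero_pow (by have := two_le_q hF; omega)]
          ring
        rw [this]
        exact hηa

/-- The group generated by the transvections centred in a non-degenerate subspace `U` of
dimension at least three (other than dimension three over the field with four elements) is
transitive on the vectors of `U` of a given non-zero norm. -/
theorem TW_trans (hF : Fintype.card F = q ^ 2) (U : Submodule F (Fin n → F))
    (hU : UNondeg q U) (hdim : 3 ≤ Module.finrank F U)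
    (hex : ¬ (Module.finrank F U = 3 ∧ q = 2)) (u w : Fin n → F) (huU : u ∈ U) (hwU : w ∈ U)
    (a : F) (ha0 : a ≠ 0) (hu : hermForm n F q u u = a) (hw : hermForm n F q w w = a) :
    ∃ t ∈ TW q U, gact t u = w := by
  obtain ⟨z, hzU, hzz, h1, h2⟩ := exists_connect hF U hU hdim hex u w huU hwU a ha0 hu hw
  obtain ⟨t₁, ht₁, ht₁u⟩ := good_pair hF u z a ha0 hu hzz h1
  obtain ⟨t₂, ht₂, ht₂z⟩ := good_pair hF z w a ha0 hzz hw h2
  refine ⟨t₂ * t₁, mul_mem (TW_mono (span_pair_le hzU hwU) ht₂)
    (TW_mono (span_pair_le huU hzU) ht₁), ?_⟩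
  rw [gact_mul, ht₁u, ht₂z]

end Cfsg.Agent.Lib.Helper27.Unitary
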