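import Mathlib
import Cfsg.Agent.Lib.Helper27.UTrans

set_option autoImplicit false

/-!
Generation of the special unitary group of a non-degenerate subspace by transvections.
-/

namespace Cfsg.Agent.Lib.Helper27.Unitary

open Cfsg Matrix

variable {F : Type*} [Field F] [Fintype F] {q n : ℕ}

/-- The special unitary group of the subspace `U`: determinant-one isometries fixing every
vector orthogonal to `U`. -/
def FixU (q : ℕ) (U : Submodule F (Fin n → F)) : Subgroup (GL (Fin n) F) where
  carrier := {g | g ∈ GU n F q ⊓ Cfsg.Geo.specialLinear (Fin n) F ∧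
    ∀ x ∈ uperp q U, gact g x = x}
  mul_mem' := by
    rintro a b ⟨ha, ha'⟩ ⟨hb, hb'⟩
    refine ⟨mul_mem ha hb, fun x hx => ?_⟩
    rw [gact_mul, hb' x hx, ha' x hx]
  one_mem' := ⟨one_mem _, fun x _ => gact_one x⟩
  inv_mem' := by
    rintro a ⟨ha, ha'⟩
    refine ⟨inv_mem ha, fun x hx => ?_⟩
    have := congrArg (gact a⁻¹) (ha' x hx)
    rw [gact_inv_gact] at this
    exact this.symm

theorem mem_FixU {U : Submodule F (Fin n → F)} {g : GL (Fin n) F} :
    g ∈ FixU q U ↔ g ∈ GU n F q ⊓ Cfsg.Geo.specialLinear (Fin n) F ∧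
      ∀ x ∈ uperp q U, gact g x = x := Iff.rfl

theorem TW_le_FixU (hF : Fintype.card F = q ^ 2) (U : Submodule F (Fin n → F)) :
    TW q U ≤ FixU q U := by
  intro t ht
  refine ⟨TW_le_SUg hF U ht, fun x hx => TW_fix U ht x hx⟩

/-- Elements of `FixU U` preserve `U`. -/
theorem FixU_maps (hF : Fintype.card F = q ^ 2) {U : Submodule F (Fin n → F)}
    {g : GL (Fin n) F} (hg : g ∈ FixU q U) {x : Fin n → F} (hx : x ∈ U) : gact g x ∈ U := by
  rw [← uperp_uperp hF U, mem_uperp]
  intro y hy
  have h1 : hermForm n F q (gact g x) (gact g y) = hermForm n F q x y :=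
    GU_preserves hg.1.1 x y
  rw [hg.2 y hy] at h1
  rw [h1]
  exact hf_eq_zero_swap hF (hy x hx)

/-- Determinant of a map fixing the hyperplane orthogonal to an anisotropic vector. -/
theorem det_of_fix (z : Fin n → F) (hz : hermForm n F q z z ≠ 0) (g : GL (Fin n) F)
    (hfix : ∀ x, hermForm n F q x z = 0 → gact g x = x) (l : F) (hgz : gact g z = l • z) :
    (g : Matrix (Fin n) (Fin n) F).det = l := by
  have hz0 : z ≠ 0 := by
    rintro rfl
    exact hz (hf_zero_left _)
  have hl0 : l ≠ 0 := by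
    rintro rfl
    rw [zero_smul, gact_eq_zero] at hgz
    exact hz0 hgz
  obtain ⟨κ, hκ⟩ : ∃ κ : F, κ = (l - 1) / hermForm n F q z z := ⟨_, rfl⟩
  have h1 : 1 + κ * hermForm n F q z z = l := by
    rw [hκ]
    field_simp
    ring
  have hne : 1 + κ * hermForm n F q z z ≠ 0 := by rw [h1]; exact hl0
  have hg : g = ru q z κ hne := by
    apply gact_ext
    intro x
    obtain ⟨c, hc⟩ : ∃ c : F, c = hermForm n F q x z / hermForm n F q z z := ⟨_, rfl⟩
    have hx₀ : hermForm n F q (x - c • z) z = 0 := by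
      rw [hf_sub_left, hf_smul_left, hc]
      field_simp
      ring
    have hx : x = (x - c • z) + c • z := by abel
    rw [ru_gact]
    conv_lhs => rw [hx, gact_add, gact_smul, hfix _ hx₀, hgz]
    have h2 : κ * hermForm n F q x z = c * (l - 1) := by
      rw [hκ, hc]
      field_simp
    rw [h2, smul_smul, mul_sub, sub_smul, mul_one]
    abel
  rw [hg, det_ru, h1]

/-- An element of `FixU U` fixing a unit vector `u ∈ U` lies in `FixU (U ∩ u^⊥)`. -/
theorem FixU_of_fix (hF : Fintype.card F = q ^ 2) (U : Submodule F (Fin n → F))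
    (u : Fin n → F) (huU : u ∈ U) (hu : hermForm n F q u u = 1) {g : GL (Fin n) F}
    (hg : g ∈ FixU q U) (hgu : gact g u = u) :
    g ∈ FixU q (U ⊓ uperp q (Submodule.span F {u})) := by
  have hSu : UNondeg q (Submodule.span F {u}) :=
    unondeg_span_singleton (by rw [hu]; exact one_ne_zero)
  have hSuU : Submodule.span F {u} ≤ U := by
    rw [Submodule.span_singleton_le_iff_mem]; exact huU
  refine ⟨hg.1, ?_⟩
  intro x hx
  obtain ⟨c, hc⟩ : ∃ c : F, c = hermForm n F q x u := ⟨_, rfl⟩
  have hx₀u : hermForm n F q (x - c • u) u = 0 := by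
    rw [hf_sub_left, hf_smul_left, hu, hc]
    ring
  have hx₀ : x - c • u ∈ uperp q U := by
    intro w hw
    rw [← rel_sup hF hSuU hSu] at hw
    obtain ⟨w₁, hw₁, w₂, hw₂, rfl⟩ := Submodule.mem_sup.mp hw
    obtain ⟨d, rfl⟩ := Submodule.mem_span_singleton.mp hw₁
    rw [hf_add_right hF, hf_smul_right, hx₀u, mul_zero, zero_add, hf_sub_left, hx w₂ hw₂,
      hf_smul_left]
    have : hermForm n F q u w₂ = 0 := by
      apply hf_eq_zero_swap hF
      exact hw₂.2 u (Submodule.mem_span_singleton_self u)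
    rw [this, mul_zero, sub_zero]
  have hx' : x = (x - c • u) + c • u := by abel
  conv_lhs => rw [hx', gact_add, gact_smul, hg.2 _ hx₀, hgu]
  abel

/-- The inductive step, for a target subgroup `K`. -/
theorem FixU_step (hF : Fintype.card F = q ^ 2) (U : Submodule F (Fin n → F))
    (u : Fin n → F) (huU : u ∈ U) (hu : hermForm n F q u u = 1) (K : Subgroup (GL (Fin n) F))
    (htrans : ∀ w ∈ U, hermForm n F q w w = 1 → ∃ t ∈ K, t ∈ FixU q U ∧ gact t w = u)
    (hind : FixU q (U ⊓ uperp q (Submodule.span F {u})) ≤ K) :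
    FixU q U ≤ K := by
  intro g hg
  have hguU : gact g u ∈ U := FixU_maps hF hg huU
  have hgu1 : hermForm n F q (gact g u) (gact g u) = 1 := by
    rw [GU_preserves hg.1.1, hu]
  obtain ⟨t, htK, ht, htgu⟩ := htrans _ hguU hgu1
  have hg' : t * g ∈ FixU q U := mul_mem ht hg
  have hg'u : gact (t * g) u = u := by rw [gact_mul, htgu]
  have h1 := hind (FixU_of_fix hF U u huU hu hg' hg'u)
  have : g = t⁻¹ * (t * g) := by group
  rw [this]
  exact mul_mem (inv_mem htK) h1

/-- Dimension zero. -/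
theorem FixU_bot (hF : Fintype.card F = q ^ 2) {g : GL (Fin n) F}
    (hg : g ∈ FixU q (⊥ : Submodule F (Fin n → F))) : g = 1 := by
  apply gact_ext
  intro x
  rw [gact_one]
  apply hg.2
  intro w hw
  rw [(Submodule.mem_bot F).mp hw, hf_zero_right hF]

/-- Dimension one. -/
theorem FixU_line (hF : Fintype.card F = q ^ 2) (U : Submodule F (Fin n → F))
    (hU : UNondeg q U) (hdim : Module.finrank F U = 1) {g : GL (Fin n) F}
    (hg : g ∈ FixU q U) : g = 1 := by
  have hU0 : U ≠ ⊥ := by
    intro h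
    rw [h, finrank_bot] at hdim
    omega
  obtain ⟨z, hzU, hzz⟩ := exists_aniso hF hU hU0
  have hz0 : z ≠ 0 := by
    rintro rfl
    exact hzz (hf_zero_left _)
  have hspan : ∀ w ∈ U, ∃ c : F, c • z = w := by
    intro w hw
    have h1 := (finrank_eq_one_iff_of_nonzero' (⟨z, hzU⟩ : U)
      (fun h => hz0 (congrArg Subtype.val h))).mp hdim ⟨w, hw⟩
    obtain ⟨c, hc⟩ := h1
    exact ⟨c, congrArg Subtype.val hc⟩
  obtain ⟨l, hl⟩ := hspan _ (FixU_maps hF hg hzU)
  have hfix : ∀ x, hermForm n F q x z = 0 → gact g x = x := by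
    intro x hx
    apply hg.2
    intro w hw
    obtain ⟨c, rfl⟩ := hspan w hw
    rw [hf_smul_right, hx, mul_zero]
  have hdet := det_of_fix z hzz g hfix l hl.symm
  have hdet1 : (g : Matrix (Fin n) (Fin n) F).det = 1 := ((mem_SUg_iff g).mp hg.1).2
  rw [hdet1] at hdet
  rw [← hdet, one_smul] at hl
  apply gact_ext
  intro x
  rw [gact_one]
  obtain ⟨c, hc⟩ : ∃ c : F, c = hermForm n F q x z / hermForm n F q z z := ⟨_, rfl⟩
  have hx₀ : hermForm n F q (x - c • z) z = 0 := by
    rw [hf_sub_left, hf_smul_left, hc]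
    field_simp
    ring
  have hx : x = (x - c • z) + c • z := by abel
  conv_lhs => rw [hx, gact_add, gact_smul, hfix _ hx₀, ← hl]
  abel

/-- Transitivity in a non-degenerate plane. -/
theorem plane_trans' (hF : Fintype.card F = q ^ 2) (U : Submodule F (Fin n → F))
    (hU : UNondeg q U) (hdim : Module.finrank F U = 2) (u w : Fin n → F) (huU : u ∈ U)
    (hwU : w ∈ U) (a : F) (ha0 : a ≠ 0) (hu : hermForm n F q u u = a)
    (hw : hermForm n F q w w = a) : ∃ t ∈ TW q U, gact t u = w := by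
  have haq : a ^ q = a := by rw [← hu, hf_self_fixed hF]
  have hSu : UNondeg q (Submodule.span F {u}) := unondeg_span_singleton (by rw [hu]; exact ha0)
  have hSuU : Submodule.span F {u} ≤ U := by
    rw [Submodule.span_singleton_le_iff_mem]; exact huU
  have hlt : Module.finrank F ↥(Submodule.span F {u}) < Module.finrank F U := by
    have := finrank_span_single_le u
    omega
  obtain ⟨z, hzU, hzS, hzz⟩ := exists_norm_rel hF hSuU hSu hU hlt (-a)
    (by rw [cj_neg hF, haq]) (neg_ne_zero.mpr ha0)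
  have hzu : hermForm n F q z u = 0 := hzS u (Submodule.mem_span_singleton_self u)
  have huz : hermForm n F q u z = 0 := hf_eq_zero_swap hF hzu
  obtain ⟨e, he⟩ : ∃ e : Fin n → F, e = u + z := ⟨_, rfl⟩
  have hee : hermForm n F q e e = 0 := by
    rw [he, hf_add_self hF, hu, hzz, huz, cj_zero hF]
    ring
  have heu : hermForm n F q e u = a := by
    rw [he, hf_add_left, hu, hzu, add_zero]
  obtain ⟨α, β, hff, hef⟩ := exists_partner hF e u hee (by rw [heu]; exact ha0)
  obtain ⟨f, hf'⟩ : ∃ f : Fin n → F, f = α • e + β • u := ⟨_, rfl⟩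
  rw [← hf'] at hff hef
  have hp : HypPair q e f := ⟨hee, hff, hef⟩
  have heU : e ∈ U := by rw [he]; exact U.add_mem huU hzU
  have hfU : f ∈ U := by rw [hf']; exact U.add_mem (U.smul_mem _ heU) (U.smul_mem _ huU)
  obtain ⟨x, y, hxy⟩ := hp.span_eq hF U heU hfU hdim.le u huU
  obtain ⟨x', y', hxy'⟩ := hp.span_eq hF U heU hfU hdim.le w hwU
  have h1 : x * y ^ q + y * x ^ q = a := by
    rw [← hp.form hF, ← hxy, hu]
  have h2 : x' * y' ^ q + y' * x' ^ q = a := by
    rw [← hp.form hF, ← hxy', hw]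
  obtain ⟨t, ht, htu⟩ := plane_trans hF hp U heU hfU x y x' y' (by rw [h1, h2])
    (by rw [h1]; exact ha0)
  exact ⟨t, ht, by rw [hxy, hxy', htu]⟩

end Cfsg.Agent.Lib.Helper27.Unitary
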