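import Mathlib
import Cfsg.Agent.Lib.Helper27.UGen

set_option autoImplicit false

/-!
The special case `q = 2`: in a non-degenerate subspace of dimension four, the group generated by
transvections contains elements fixing a unit vector and moving any unit vector orthogonal to it
to any other.
-/

namespace Cfsg.Agent.Lib.Helper27.Unitary

open Cfsg Matrix

variable {F : Type*} [Field F] [Fintype F] {n : ℕ}

theorem two_eq_zero_of_card_four (hF : Fintype.card F = 2 ^ 2) : (2 : F) = 0 := by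
  have h := FiniteField.cast_card_eq_zero F
  rw [hF] at h
  have h4 : (2 : F) * 2 = 0 := by
    have : ((2 ^ 2 : ℕ) : F) = (2 : F) * 2 := by norm_num
    rw [← this]
    exact h
  exact mul_self_eq_zero.mp h4

theorem cube_eq_one_of_card_four (hF : Fintype.card F = 2 ^ 2) {c : F} (hc : c ≠ 0) :
    c * c ^ 2 = 1 := by
  have h := FiniteField.pow_card_sub_one_eq_one c hc
  rw [hF] at h
  have : 2 ^ 2 - 1 = 3 := by norm_num
  rw [this] at h
  rw [← h]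
  ring

theorem exists_omega (hF : Fintype.card F = 2 ^ 2) : ∃ ω : F, ω ^ 2 + ω + 1 = 0 := by
  obtain ⟨x, hx⟩ := exists_not_fixed hF
  have hx0 : x ≠ 0 := by
    rintro rfl
    exact hx (by norm_num)
  have hx1 : x - 1 ≠ 0 := by
    intro h
    have : x = 1 := sub_eq_zero.mp h
    rw [this] at hx
    exact hx (by norm_num)
  have h3 := cube_eq_one_of_card_four hF hx0
  refine ⟨x, ?_⟩
  have : (x - 1) * (x ^ 2 + x + 1) = 0 := by linear_combination h3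
  rcases mul_eq_zero.mp this with h | h
  · exact absurd h hx1
  · exact h

/-- Linear combinations of three vectors. -/
def L3 (p b₃ b₄ : Fin n → F) (x y z : F) : Fin n → F := x • p + y • b₃ + z • b₄

theorem L3_congr (p b₃ b₄ : Fin n → F) {x y z x' y' z' : F} (hx : x = x') (hy : y = y')
    (hz : z = z') : L3 p b₃ b₄ x y z = L3 p b₃ b₄ x' y' z' := by
  rw [hx, hy, hz]

/-- An isotropic vector orthogonal to an orthonormal pair. -/
structure Frame3 (p b₃ b₄ : Fin n → F) : Prop where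
  pp : hermForm n F 2 p p = 0
  pb₃ : hermForm n F 2 p b₃ = 0
  pb₄ : hermForm n F 2 p b₄ = 0
  b₃b₃ : hermForm n F 2 b₃ b₃ = 1
  b₄b₄ : hermForm n F 2 b₄ b₄ = 1
  b₃b₄ : hermForm n F 2 b₃ b₄ = 0

theorem form3 (hF : Fintype.card F = 2 ^ 2) {p b₃ b₄ : Fin n → F} (h : Frame3 p b₃ b₄)
    (x y z x' y' z' : F) :
    hermForm n F 2 (L3 p b₃ b₄ x y z) (L3 p b₃ b₄ x' y' z') = y * y' ^ 2 + z * z' ^ 2 := by
  have h1 : hermForm n F 2 b₃ p = 0 := hf_eq_zero_swap hF h.pb₃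
  have h2 : hermForm n F 2 b₄ p = 0 := hf_eq_zero_swap hF h.pb₄
  have h3 : hermForm n F 2 b₄ b₃ = 0 := hf_eq_zero_swap hF h.b₃b₄
  simp only [L3, hf_add_left, hf_add_right hF, hf_smul_left, hf_smul_right, h.pp, h.pb₃, h.pb₄,
    h.b₃b₃, h.b₄b₄, h.b₃b₄, h1, h2, h3]
  ring

theorem tvL (hF : Fintype.card F = 2 ^ 2) {p b₃ b₄ : Fin n → F} (h : Frame3 p b₃ b₄)
    (x₀ y₀ z₀ : F) (hiso : y₀ * y₀ ^ 2 + z₀ * z₀ ^ 2 = 0) (x y z : F) :
    gact (tv 2 (L3 p b₃ b₄ x₀ y₀ z₀) 1) (L3 p b₃ b₄ x y z) =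
      L3 p b₃ b₄ (x + (y * y₀ ^ 2 + z * z₀ ^ 2) * x₀) (y + (y * y₀ ^ 2 + z * z₀ ^ 2) * y₀)
        (z + (y * y₀ ^ 2 + z * z₀ ^ 2) * z₀) := by
  have hv : hermForm n F 2 (L3 p b₃ b₄ x₀ y₀ z₀) (L3 p b₃ b₄ x₀ y₀ z₀) = 0 := by
    rw [form3 hF h, hiso]
  rw [tv_gact hv, form3 hF h, one_mul]
  unfold L3
  module

/-- The four-transvection word. -/
theorem word42 (hF : Fintype.card F = 2 ^ 2) (U : Submodule F (Fin n → F))
    {p b₃ b₄ : Fin n → F} (hp : p ∈ U) (hb₃ : b₃ ∈ U) (hb₄ : b₄ ∈ U) (h : Frame3 p b₃ b₄) :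
    ∃ t ∈ TW 2 U, gact t b₄ = b₄ ∧ gact t (p + b₃) = b₃ := by
  have h2 : (2 : F) = 0 := two_eq_zero_of_card_four hF
  obtain ⟨ω, hω⟩ := exists_omega hF
  have hiso1 : 1 * 1 ^ 2 + 1 * 1 ^ 2 = (0 : F) := by linear_combination ((1)) * h2
  have hiso2 : 1 * 1 ^ 2 + ω * ω ^ 2 = (0 : F) := by linear_combination ((-1) + (1) * ω) * hω + ((1)) * h2
  have hiso3 : ω * ω ^ 2 + 1 * 1 ^ 2 = (0 : F) := by linear_combination ((-1) + (1) * ω) * hω + ((1)) * h2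
  have hiso4 : ω * ω ^ 2 + (1 + ω) * (1 + ω) ^ 2 = (0 : F) := by linear_combination ((1) + (2) * ω) * hω
  have hb1 : gact (tv 2 (L3 p b₃ b₄ 0 1 1) 1) (L3 p b₃ b₄ 0 0 1) = L3 p b₃ b₄ 0 1 0 := by
    rw [tvL hF h _ _ _ hiso1]
    refine L3_congr p b₃ b₄ ?_ ?_ ?_
    · ring
    · ring
    · linear_combination ((1)) * h2
  have hb2 : gact (tv 2 (L3 p b₃ b₄ 0 1 ω) 1) (L3 p b₃ b₄ 0 1 0) = L3 p b₃ b₄ 0 0 ω := by
    rw [tvL hF h _ _ _ hiso2]
    refine L3_congr p b₃ b₄ ?_ ?_ ?_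
    · ring
    · linear_combination ((1)) * h2
    · ring
  have hb3 : gact (tv 2 (L3 p b₃ b₄ 1 ω 1) 1) (L3 p b₃ b₄ 0 0 ω) = L3 p b₃ b₄ ω (1 + ω) 0 := by
    rw [tvL hF h _ _ _ hiso3]
    refine L3_congr p b₃ b₄ ?_ ?_ ?_
    · ring
    · linear_combination ((1)) * hω + ((-1) + (-1) * ω) * h2
    · linear_combination ((1) * ω) * h2
  have hb4 : gact (tv 2 (L3 p b₃ b₄ 1 ω (1 + ω)) 1) (L3 p b₃ b₄ ω (1 + ω) 0) = L3 p b₃ b₄ 0 0 1 := by
    rw [tvL hF h _ _ _ hiso4]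
    refine L3_congr p b₃ b₄ ?_ ?_ ?_
    · linear_combination ((1) * ω) * hω
    · linear_combination ((-1) + (1) * ω ^ 2) * hω + ((1) + (1) * ω) * h2
    · linear_combination ((-1) + (1) * ω + (1) * ω ^ 2) * hω
  have hp1 : gact (tv 2 (L3 p b₃ b₄ 0 1 1) 1) (L3 p b₃ b₄ 1 1 0) = L3 p b₃ b₄ 1 0 1 := by
    rw [tvL hF h _ _ _ hiso1]
    refine L3_congr p b₃ b₄ ?_ ?_ ?_
    · ring
    · linear_combination ((1)) * h2
    · ring
  have hp2 : gact (tv 2 (L3 p b₃ b₄ 0 1 ω) 1) (L3 p b₃ b₄ 1 0 1) = L3 p b₃ b₄ 1 (1 + ω) 0 := by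
    rw [tvL hF h _ _ _ hiso2]
    refine L3_congr p b₃ b₄ ?_ ?_ ?_
    · ring
    · linear_combination ((1)) * hω + ((-1) + (-1) * ω) * h2
    · linear_combination ((-1) + (1) * ω) * hω + ((1)) * h2
  have hp3 : gact (tv 2 (L3 p b₃ b₄ 1 ω 1) 1) (L3 p b₃ b₄ 1 (1 + ω) 0) = L3 p b₃ b₄ (1 + ω) 0 ω := by
    rw [tvL hF h _ _ _ hiso3]
    refine L3_congr p b₃ b₄ ?_ ?_ ?_
    · linear_combination ((1) * ω) * hω + ((-1) * ω) * h2
    · linear_combination ((-1) + (1) * ω ^ 2) * hω + ((1) + (1) * ω) * h2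
    · linear_combination ((1) * ω) * hω + ((-1) * ω) * h2
  have hp4 : gact (tv 2 (L3 p b₃ b₄ 1 ω (1 + ω)) 1) (L3 p b₃ b₄ (1 + ω) 0 ω) = L3 p b₃ b₄ 0 1 0 := by
    rw [tvL hF h _ _ _ hiso4]
    refine L3_congr p b₃ b₄ ?_ ?_ ?_
    · linear_combination ((1) + (1) * ω) * hω
    · linear_combination ((-1) + (1) * ω + (1) * ω ^ 2) * hω
    · linear_combination ((2) * ω + (1) * ω ^ 2) * hω

  have hmemU : ∀ x y z : F, L3 p b₃ b₄ x y z ∈ U := fun x y z =>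
    U.add_mem (U.add_mem (U.smul_mem _ hp) (U.smul_mem _ hb₃)) (U.smul_mem _ hb₄)
  have hc1 : (1 : F) + 1 ^ 2 = 0 := by linear_combination h2
  have hisoL : ∀ x₀ y₀ z₀ : F, y₀ * y₀ ^ 2 + z₀ * z₀ ^ 2 = 0 →
      hermForm n F 2 (L3 p b₃ b₄ x₀ y₀ z₀) (L3 p b₃ b₄ x₀ y₀ z₀) = 0 := by
    intro x₀ y₀ z₀ hiso
    rw [form3 hF h, hiso]
  have e4 : L3 p b₃ b₄ 0 0 1 = b₄ := by unfold L3; module
  have e3 : L3 p b₃ b₄ 0 1 0 = b₃ := by unfold L3; module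
  have epb : L3 p b₃ b₄ 1 1 0 = p + b₃ := by unfold L3; module
  refine ⟨tv 2 (L3 p b₃ b₄ 1 ω (1 + ω)) 1 * tv 2 (L3 p b₃ b₄ 1 ω 1) 1 *
    tv 2 (L3 p b₃ b₄ 0 1 ω) 1 * tv 2 (L3 p b₃ b₄ 0 1 1) 1, ?_, ?_, ?_⟩
  · exact mul_mem (mul_mem (mul_mem
      (tv_mem_TW (hmemU _ _ _) (hisoL _ _ _ hiso4) hc1)
      (tv_mem_TW (hmemU _ _ _) (hisoL _ _ _ hiso3) hc1))
      (tv_mem_TW (hmemU _ _ _) (hisoL _ _ _ hiso2) hc1))
      (tv_mem_TW (hmemU _ _ _) (hisoL _ _ _ hiso1) hc1)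
  · have := hb4
    rw [← hb3, ← hb2, ← hb1, e4] at this
    rw [gact_mul, gact_mul, gact_mul]
    exact this
  · have := hp4
    rw [← hp3, ← hp2, ← hp1, epb, e3] at this
    rw [gact_mul, gact_mul, gact_mul]
    exact this

/-- For `q = 2` and `U` of dimension four: the stabiliser of a unit vector `u₁` in the group
generated by transvections is transitive on the unit vectors of `U` orthogonal to `u₁`. -/
theorem trans42 (hF : Fintype.card F = 2 ^ 2) (U : Submodule F (Fin n → F)) (hU : UNondeg 2 U)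
    (hdim : Module.finrank F U = 4) (u₁ : Fin n → F) (hu₁U : u₁ ∈ U)
    (hu₁ : hermForm n F 2 u₁ u₁ = 1) (v w : Fin n → F)
    (hv : v ∈ U ⊓ uperp 2 (Submodule.span F {u₁}))
    (hw : w ∈ U ⊓ uperp 2 (Submodule.span F {u₁}))
    (hvv : hermForm n F 2 v v = 1) (hww : hermForm n F 2 w w = 1) :
    ∃ t ∈ TW 2 U, gact t u₁ = u₁ ∧ gact t v = w := by
  have hu₁0 : u₁ ≠ 0 := by
    rintro rfl
    rw [hf_zero_left] at hu₁
    exact zero_ne_one hu₁
  have hSu : UNondeg 2 (Submodule.span F {u₁}) :=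
    unondeg_span_singleton (by rw [hu₁]; exact one_ne_zero)
  have hSuU : Submodule.span F {u₁} ≤ U := by
    rw [Submodule.span_singleton_le_iff_mem]; exact hu₁U
  set U' := U ⊓ uperp 2 (Submodule.span F {u₁}) with hU'def
  have hU' : UNondeg 2 U' := rel_unondeg hF hSuU hSu hU
  have hU'dim : Module.finrank F U' = 3 := by
    have h1 : Module.finrank F ↥(Submodule.span F {u₁}) + Module.finrank F U' =
        Module.finrank F U := rel_finrank hF hSuU hSu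
    rw [finrank_span_singleton hu₁0, hdim] at h1
    omega
  have hU'u : ∀ x ∈ U', hermForm n F 2 x u₁ = 0 := fun x hx =>
    hx.2 u₁ (Submodule.mem_span_singleton_self u₁)
  -- orthogonal unit vectors are equivalent
  have orth : ∀ x ∈ U', ∀ y ∈ U', hermForm n F 2 x x = 1 → hermForm n F 2 y y = 1 →
      hermForm n F 2 x y = 0 → ∃ t ∈ TW 2 U, gact t u₁ = u₁ ∧ gact t x = y := by
    intro x hx y hy hxx hyy hxy
    obtain ⟨t, ht, htx⟩ := good_pair hF x y 1 one_ne_zero hxx hyy (by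
      rw [hxy, zero_mul, one_mul]; exact zero_ne_one)
    refine ⟨t, TW_mono (span_pair_le hx.1 hy.1) ht, ?_, htx⟩
    apply TW_fix _ ht
    intro z hz
    obtain ⟨α, β, rfl⟩ := Submodule.mem_span_pair.mp hz
    rw [hf_add_right hF, hf_smul_right, hf_smul_right, hf_eq_zero_swap hF (hU'u x hx),
      hf_eq_zero_swap hF (hU'u y hy)]
    ring
  obtain ⟨c, hc⟩ : ∃ c : F, c = hermForm n F 2 w v := ⟨_, rfl⟩
  by_cases hc0 : c = 0
  · apply orth v hv w hw hvv hww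
    apply hf_eq_zero_swap hF
    rw [← hc, hc0]
  have hNc : c * c ^ 2 = 1 := cube_eq_one_of_card_four hF hc0
  obtain ⟨w₀, hw₀⟩ : ∃ w₀ : Fin n → F, w₀ = w - c • v := ⟨_, rfl⟩
  have hw₀U' : w₀ ∈ U' := by
    rw [hw₀]; exact U'.sub_mem hw (U'.smul_mem _ hv)
  have hw₀v : hermForm n F 2 w₀ v = 0 := by
    rw [hw₀, hf_sub_left, hf_smul_left, hvv, ← hc]
    ring
  have hvw₀ : hermForm n F 2 v w₀ = 0 := hf_eq_zero_swap hF hw₀v
  have hw₀w₀ : hermForm n F 2 w₀ w₀ = 0 := by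
    have h1 : hermForm n F 2 (w - c • v) w₀ = hermForm n F 2 w w₀ := by
      rw [hf_sub_left, hf_smul_left, hvw₀, mul_zero, sub_zero]
    rw [← hw₀] at h1
    rw [h1, hw₀, hf_sub_right hF, hf_smul_right, hww, ← hc]
    linear_combination -hNc
  -- a unit vector orthogonal to v
  have hSv : UNondeg 2 (Submodule.span F {v}) :=
    unondeg_span_singleton (by rw [hvv]; exact one_ne_zero)
  have hSvU' : Submodule.span F {v} ≤ U' := by
    rw [Submodule.span_singleton_le_iff_mem]; exact hv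
  have hlt : Module.finrank F ↥(Submodule.span F {v}) < Module.finrank F U' := by
    have := finrank_span_single_le v
    omega
  obtain ⟨z, hzU', hzS, hzz⟩ := exists_norm_rel hF hSvU' hSv hU' hlt 1 (one_pow 2) one_ne_zero
  have hzv : hermForm n F 2 z v = 0 := hzS v (Submodule.mem_span_singleton_self v)
  obtain ⟨t₁, ht₁, ht₁u, ht₁v⟩ := orth v hv z hzU' hvv hzz (hf_eq_zero_swap hF hzv)
  obtain ⟨t₂, ht₂, ht₂u, ht₂z⟩ := orth z hzU' (c • v) (U'.smul_mem _ hv) hzz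
    (by rw [hf_smul_self, hvv, mul_one, hNc])
    (by rw [hf_smul_right, hzv, mul_zero])
  -- the word
  have hc0' : c⁻¹ ≠ 0 := inv_ne_zero hc0
  obtain ⟨p, hp⟩ : ∃ p : Fin n → F, p = c⁻¹ • w₀ := ⟨_, rfl⟩
  have hpU' : p ∈ U' := by rw [hp]; exact U'.smul_mem _ hw₀U'
  have hfr : Frame3 p v u₁ := by
    refine ⟨?_, ?_, hU'u p hpU', hvv, hu₁, hU'u v hv⟩
    · rw [hp, hf_smul_self, hw₀w₀, mul_zero]
    · rw [hp, hf_smul_left, hw₀v, mul_zero]
  obtain ⟨t₃, ht₃, ht₃u, ht₃p⟩ := word42 hF U hpU'.1 hv.1 hu₁U hfr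
  have hwp : w = c • (p + v) := by
    rw [hp, smul_add, smul_smul, mul_inv_cancel₀ hc0, one_smul, hw₀]
    abel
  have ht₃w : gact t₃ w = c • v := by
    rw [hwp, gact_smul, ht₃p]
  refine ⟨t₃⁻¹ * t₂ * t₁, mul_mem (mul_mem (inv_mem ht₃) ht₂) ht₁, ?_, ?_⟩
  · rw [gact_mul, gact_mul, ht₁u, ht₂u]
    have := congrArg (gact t₃⁻¹) ht₃u
    rw [gact_inv_gact] at this
    exact this.symm
  · rw [gact_mul, gact_mul, ht₁v, ht₂z, ← ht₃w, gact_inv_gact]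

end Cfsg.Agent.Lib.Helper27.Unitary
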