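import Mathlib
import Cfsg.Agent.Lib.Helper27.UQ2

set_option autoImplicit false

/-!
The special unitary group of a non-degenerate subspace is generated by the transvections centred
in it (except in dimension three over the field with four elements).
-/

namespace Cfsg.Agent.Lib.Helper27.Unitary

open Cfsg Matrix

variable {F : Type*} [Field F] [Fintype F] {q n : ℕ}

theorem rel_finrank_unit (hF : Fintype.card F = q ^ 2) (U : Submodule F (Fin n → F))
    (u : Fin n → F) (huU : u ∈ U) (hu : hermForm n F q u u = 1) :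
    Module.finrank F ↥(U ⊓ uperp q (Submodule.span F {u})) + 1 = Module.finrank F U := by
  have hu0 : u ≠ 0 := by
    rintro rfl
    rw [hf_zero_left] at hu
    exact zero_ne_one hu
  have hSu : UNondeg q (Submodule.span F {u}) :=
    unondeg_span_singleton (by rw [hu]; exact one_ne_zero)
  have hSuU : Submodule.span F {u} ≤ U := by
    rw [Submodule.span_singleton_le_iff_mem]; exact huU
  have h1 := rel_finrank hF hSuU hSu
  rw [finrank_span_singleton hu0] at h1
  omega

theorem rel_unondeg_unit (hF : Fintype.card F = q ^ 2) (U : Submodule F (Fin n → F))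
    (hU : UNondeg q U) (u : Fin n → F) (huU : u ∈ U) (hu : hermForm n F q u u = 1) :
    UNondeg q (U ⊓ uperp q (Submodule.span F {u})) := by
  have hSu : UNondeg q (Submodule.span F {u}) :=
    unondeg_span_singleton (by rw [hu]; exact one_ne_zero)
  have hSuU : Submodule.span F {u} ≤ U := by
    rw [Submodule.span_singleton_le_iff_mem]; exact huU
  exact rel_unondeg hF hSuU hSu hU

theorem exists_unit (hF : Fintype.card F = q ^ 2) (U : Submodule F (Fin n → F))
    (hU : UNondeg q U) (hdim : 1 ≤ Module.finrank F U) :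
    ∃ u ∈ U, hermForm n F q u u = 1 := by
  have hU0 : U ≠ ⊥ := by
    intro h
    rw [h, finrank_bot] at hdim
    omega
  exact exists_norm' hF hU hU0 1 (one_pow q) one_ne_zero

/-- Generation by transvections. -/
theorem FixU_le_TW (hF : Fintype.card F = q ^ 2) :
    ∀ k : ℕ, ∀ U : Submodule F (Fin n → F), UNondeg q U → Module.finrank F U = k →
      ¬ (k = 3 ∧ q = 2) → FixU q U ≤ TW q U := by
  intro k
  induction k using Nat.strong_induction_on with
  | _ k ih =>
  intro U hU hk hex
  rcases Nat.lt_or_ge k 2 with hk2 | hk2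
  · interval_cases k
    · have : U = ⊥ := Submodule.finrank_eq_zero.mp hk
      subst this
      intro g hg
      rw [FixU_bot hF hg]
      exact one_mem _
    · intro g hg
      rw [FixU_line hF U hU hk hg]
      exact one_mem _
  obtain ⟨u, huU, hu⟩ := exists_unit hF U hU (by omega)
  have hU' := rel_unondeg_unit hF U hU u huU hu
  have hU'dim := rel_finrank_unit hF U u huU hu
  by_cases h2 : k = 2
  · apply FixU_step hF U u huU hu (TW q U)
    · intro w hw hww
      obtain ⟨t, ht, htw⟩ := plane_trans' hF U hU (by omega) w u hw huU 1 one_ne_zero hww hu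
      exact ⟨t, ht, TW_le_FixU hF U ht, htw⟩
    · exact (ih 1 (by omega) _ hU' (by omega) (by omega)).trans (TW_mono inf_le_left)
  by_cases h42 : k = 4 ∧ q = 2
  · obtain ⟨rfl, rfl⟩ := h42
    apply FixU_step hF U u huU hu (TW 2 U)
    · intro w hw hww
      obtain ⟨t, ht, htw⟩ := TW_trans hF U hU (by omega) (by omega) w u hw huU 1 one_ne_zero
        hww hu
      exact ⟨t, ht, TW_le_FixU hF U ht, htw⟩
    · obtain ⟨u₂, hu₂U', hu₂⟩ := exists_unit hF _ hU' (by omega)
      have hU'' := rel_unondeg_unit hF _ hU' u₂ hu₂U' hu₂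
      have hU''dim := rel_finrank_unit hF _ u₂ hu₂U' hu₂
      apply FixU_step hF _ u₂ hu₂U' hu₂ (TW 2 U)
      · intro w hw hww
        obtain ⟨t, ht, htu, htw⟩ := trans42 hF U hU hk u huU hu w u₂ hw hu₂U' hww hu₂
        exact ⟨t, ht, FixU_of_fix hF U u huU hu (TW_le_FixU hF U ht) htu, htw⟩
      · exact (ih 2 (by omega) _ hU'' (by omega) (by omega)).trans
          (TW_mono (inf_le_left.trans inf_le_left))
  · apply FixU_step hF U u huU hu (TW q U)
    · intro w hw hww
      obtain ⟨t, ht, htw⟩ := TW_trans hF U hU (by omega) (by rw [hk]; exact hex) w u hw huU 1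
        one_ne_zero hww hu
      exact ⟨t, ht, TW_le_FixU hF U ht, htw⟩
    · refine (ih (k - 1) (by omega) _ hU' (by omega) ?_).trans (TW_mono inf_le_left)
      rintro ⟨h3, hq2⟩
      exact h42 ⟨by omega, hq2⟩

/-- `SU_n(q)` is generated by unitary transvections. -/
theorem SUg_le_TW (hF : Fintype.card F = q ^ 2) (hex : ¬ (n = 3 ∧ q = 2)) :
    GU n F q ⊓ Cfsg.Geo.specialLinear (Fin n) F ≤ TW q (⊤ : Submodule F (Fin n → F)) := by
  intro g hg
  apply FixU_le_TW hF n ⊤ (unondeg_top hF) (by rw [finrank_top, Module.finrank_fin_fun]) hex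
  refine ⟨hg, ?_⟩
  intro x hx
  have : x = 0 := hf_nondeg hF x (fun v => hx v Submodule.mem_top)
  rw [this, gact_zero]

theorem SUg_eq_TW (hF : Fintype.card F = q ^ 2) (hex : ¬ (n = 3 ∧ q = 2)) :
    GU n F q ⊓ Cfsg.Geo.specialLinear (Fin n) F = TW q (⊤ : Submodule F (Fin n → F)) :=
  le_antisymm (SUg_le_TW hF hex) (TW_le_SUg hF ⊤)

end Cfsg.Agent.Lib.Helper27.Unitary
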