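import Mathlib
import Cfsg.Agent.Lib.Helper27.UGeom2

set_option autoImplicit false

/-!
Quasi-reflections in `GU_n` and the centraliser of `GU_n` in `GL_n`.
-/

namespace Cfsg.Agent.Lib.Helper27.Unitary

open Cfsg Matrix

variable {F : Type*} [Field F] [Fintype F] {q n : ℕ}

/-- The quasi-reflection in an anisotropic vector `v` with multiplier `l` of norm one. -/
theorem exists_qr (hF : Fintype.card F = q ^ 2) (v : Fin n → F) (hv : hermForm n F q v v ≠ 0)
    (l : F) (hl : l * l ^ q = 1) :
    ∃ g : GL (Fin n) F, g ∈ GU n F q ∧ (g : Matrix (Fin n) (Fin n) F).det = l ∧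
      ∀ x, gact g x = x + ((l - 1) / hermForm n F q v v * hermForm n F q x v) • v := by
  have haq : (hermForm n F q v v) ^ q = hermForm n F q v v := hf_self_fixed hF v
  have hl0 : l ≠ 0 := by
    rintro rfl
    rw [zero_mul] at hl
    exact zero_ne_one hl
  have h1 : 1 + (l - 1) / hermForm n F q v v * hermForm n F q v v = l := by
    field_simp
    ring
  have hne : 1 + (l - 1) / hermForm n F q v v * hermForm n F q v v ≠ 0 := by
    rw [h1]; exact hl0
  refine ⟨ru q v ((l - 1) / hermForm n F q v v) hne, ?_, ?_, ?_⟩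
  · apply ru_mem_GU hF
    rw [cj_div, cj_sub hF, one_pow, haq]
    field_simp
    linear_combination hl
  · rw [det_ru, h1]
  · intro x
    rw [ru_gact]

/-- For every non-zero vector there is a non-trivial rank-one unitary map centred at it. -/
theorem exists_rank_one (hF : Fintype.card F = q ^ 2) (v : Fin n → F) :
    ∃ κ : F, κ ≠ 0 ∧ ∃ g : GL (Fin n) F, g ∈ GU n F q ∧
      ∀ x, gact g x = x + (κ * hermForm n F q x v) • v := by
  by_cases hv : hermForm n F q v v = 0
  · obtain ⟨θ, hθ0, hθ⟩ := exists_theta hF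
    exact ⟨θ, hθ0, tv q v θ, tv_mem_GU hF v hθ, fun x => tv_gact hv θ x⟩
  · obtain ⟨l, hl1, hl⟩ := exists_norm_one_ne_one hF
    obtain ⟨g, hg, -, hgx⟩ := exists_qr hF v hv l hl
    refine ⟨(l - 1) / hermForm n F q v v, ?_, g, hg, hgx⟩
    exact div_ne_zero (sub_ne_zero.mpr hl1) hv

/-- An invertible matrix commuting with `GU_n` is scalar. -/
theorem scalar_of_commute (hF : Fintype.card F = q ^ 2) (z : GL (Fin n) F)
    (hz : ∀ g ∈ GU n F q, z * g = g * z) : ∃ a : F, ∀ x, gact z x = a • x := by
  have hcol : ∀ v : Fin n → F, ∃ μ : F, gact z v = μ • v := by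
    intro v
    by_cases hv0 : v = 0
    · exact ⟨0, by rw [hv0, gact_zero, smul_zero]⟩
    obtain ⟨κ, hκ0, g, hg, hgx⟩ := exists_rank_one hF v
    have : ∃ x, hermForm n F q x v ≠ 0 := by
      by_contra hne
      apply hv0
      apply hf_nondeg' hF
      intro x
      by_contra h
      exact hne ⟨x, h⟩
    obtain ⟨x, hx⟩ := this
    have h1 : gact (z * g) x = gact (g * z) x := by rw [hz g hg]
    rw [gact_mul, gact_mul, hgx, hgx, gact_add, gact_smul] at h1
    have h2 : (κ * hermForm n F q x v) • gact z v = (κ * hermForm n F q (gact z x) v) • v :=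
      add_left_cancel h1
    refine ⟨(κ * hermForm n F q x v)⁻¹ * (κ * hermForm n F q (gact z x) v), ?_⟩
    have hne : κ * hermForm n F q x v ≠ 0 := mul_ne_zero hκ0 hx
    rw [mul_smul, ← h2, smul_smul, inv_mul_cancel₀ hne, one_smul]
  have h : ∀ v, ¬ LinearIndependent F ![v, (gactL z : (Fin n → F) →ₗ[F] (Fin n → F)) v] := by
    intro v hli
    obtain ⟨μ, hμ⟩ := hcol v
    rw [LinearIndependent.pair_iff] at hli
    have := hli μ (-1) (by
      change μ • v + (-1 : F) • gact z v = 0
      rw [hμ]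
      module)
    exact one_ne_zero (neg_eq_zero.mp this.2)
  obtain ⟨a, ha⟩ := LinearMap.exists_eq_smul_id_of_forall_notLinearIndependent h
  refine ⟨a, fun x => ?_⟩
  have := congrArg (fun f : (Fin n → F) →ₗ[F] (Fin n → F) => f x) ha
  simpa using this

end Cfsg.Agent.Lib.Helper27.Unitary
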