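import Mathlib
import Cfsg.Agent.Lib.Helper27.UOrder
import Cfsg.Agent.S0780
import Cfsg.Agent.S0783

set_option autoImplicit false

/-!
The order of `SU_n(q)`.
-/

namespace Cfsg.Agent.Lib.Helper27.Unitary

open Cfsg Matrix Cfsg.Agent.S0780 Cfsg.Agent.S0783

variable {F : Type*} [Field F] [Fintype F] {q n : ℕ}

theorem mem_ker_detU (hF : Fintype.card F = q ^ 2) (g : ↥(GU n F q)) :
    g ∈ (detU hF n).ker ↔ ((g : GL (Fin n) F) : Matrix (Fin n) (Fin n) F).det = 1 := by
  rw [MonoidHom.mem_ker]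
  constructor
  · intro h
    rw [← detU_coe hF g, h]
    rfl
  · intro h
    apply Subtype.ext
    apply Units.ext
    rw [detU_coe hF g, h]
    rfl

/-- `SU_n` as the kernel of the determinant on `GU_n`. -/
noncomputable def suToKer (hF : Fintype.card F = q ^ 2) (A : ↥(Cfsg.SU n F q)) :
    ↥(detU hF n).ker :=
  ⟨⟨phi n F q A, ((mem_SUg_iff _).mp (phi_mem A)).1⟩, by
    rw [mem_ker_detU]
    exact ((mem_SUg_iff _).mp (phi_mem A)).2⟩

theorem suToKer_bijective (hF : Fintype.card F = q ^ 2) :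
    Function.Bijective (suToKer (n := n) hF) := by
  constructor
  · intro A B h
    apply phi_injective
    have := congrArg (fun k : ↥(detU hF n).ker => ((k : ↥(GU n F q)) : GL (Fin n) F)) h
    exact this
  · intro k
    have hk : ((k : ↥(GU n F q)) : GL (Fin n) F) ∈
        GU n F q ⊓ Cfsg.Geo.specialLinear (Fin n) F := by
      rw [mem_SUg_iff]
      exact ⟨k.1.2, (mem_ker_detU hF k.1).mp k.2⟩
    obtain ⟨A, hA⟩ := exists_lift hk
    refine ⟨A, ?_⟩
    apply Subtype.ext
    apply Subtype.ext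
    exact hA

/-- `(q + 1) |SU_n(q)| = |GU_n(q)|` for `n ≥ 1`. -/
theorem card_SU_mul (hF : Fintype.card F = q ^ 2) (hn : 1 ≤ n) :
    (q + 1) * Nat.card ↥(Cfsg.SU n F q) = Nat.card ↥(GU n F q) := by
  have h1 := (detU hF n).ker.card_mul_index
  rw [Subgroup.index_ker, MonoidHom.range_eq_top.mpr (detU_surjective hF hn), Subgroup.card_top,
    card_mu hF, ← Nat.card_congr (Equiv.ofBijective _ (suToKer_bijective (n := n) hF))] at h1
  rw [← h1, mul_comm]

end Cfsg.Agent.Lib.Helper27.Unitary
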