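import Mathlib
import Cfsg.Prelude.Def_RootSubgroups
import Cfsg.Agent.Lib.Helper24.SLGen
import Cfsg.Agent.Lib.Helper27.GLStab

set_option autoImplicit false

/-!
Transvections `1 + c · a ⊗ φ` of `SL_N(k)` and the transvection subgroups `T a φ` attached to an
incident point-hyperplane pair.
-/

namespace Cfsg.Agent.Lib.Helper27.SLTransv

open Matrix Cfsg
open scoped Classical

variable {k : Type*} [Field k] {N : ℕ}

/-- Action on column vectors. -/
def sact (g : Matrix.SpecialLinearGroup (Fin N) k) (x : Fin N → k) : Fin N → k :=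
  (g : Matrix (Fin N) (Fin N) k) *ᵥ x

/-- Action on row vectors. -/
def ract (φ : Fin N → k) (g : Matrix.SpecialLinearGroup (Fin N) k) : Fin N → k :=
  φ ᵥ* (g : Matrix (Fin N) (Fin N) k)

theorem sact_mul (g h : Matrix.SpecialLinearGroup (Fin N) k) (x : Fin N → k) :
    sact (g * h) x = sact g (sact h x) := by
  unfold sact
  rw [Matrix.SpecialLinearGroup.coe_mul, Matrix.mulVec_mulVec]

theorem sact_one (x : Fin N → k) : sact (1 : Matrix.SpecialLinearGroup (Fin N) k) x = x := by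
  unfold sact
  rw [Matrix.SpecialLinearGroup.coe_one, Matrix.one_mulVec]

theorem sact_inv_sact (g : Matrix.SpecialLinearGroup (Fin N) k) (x : Fin N → k) :
    sact g⁻¹ (sact g x) = x := by
  rw [← sact_mul, inv_mul_cancel, sact_one]

theorem sact_sact_inv (g : Matrix.SpecialLinearGroup (Fin N) k) (x : Fin N → k) :
    sact g (sact g⁻¹ x) = x := by
  rw [← sact_mul, mul_inv_cancel, sact_one]

theorem sact_add (g : Matrix.SpecialLinearGroup (Fin N) k) (x y : Fin N → k) :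
    sact g (x + y) = sact g x + sact g y := Matrix.mulVec_add _ _ _

theorem sact_smul (g : Matrix.SpecialLinearGroup (Fin N) k) (c : k) (x : Fin N → k) :
    sact g (c • x) = c • sact g x := Matrix.mulVec_smul _ _ _

theorem sact_zero (g : Matrix.SpecialLinearGroup (Fin N) k) : sact g 0 = 0 := Matrix.mulVec_zero _

theorem sact_ext {g h : Matrix.SpecialLinearGroup (Fin N) k} (H : ∀ x, sact g x = sact h x) :
    g = h :=
  Subtype.ext (Matrix.ext_iff_mulVec.mpr H)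

theorem sact_ne_zero (g : Matrix.SpecialLinearGroup (Fin N) k) {x : Fin N → k} (hx : x ≠ 0) :
    sact g x ≠ 0 := by
  intro h
  apply hx
  have := congrArg (sact g⁻¹) h
  rwa [sact_inv_sact, sact_zero] at this

theorem ract_mul (φ : Fin N → k) (g h : Matrix.SpecialLinearGroup (Fin N) k) :
    ract φ (g * h) = ract (ract φ g) h := by
  unfold ract
  rw [Matrix.SpecialLinearGroup.coe_mul, Matrix.vecMul_vecMul]

theorem ract_one (φ : Fin N → k) : ract φ (1 : Matrix.SpecialLinearGroup (Fin N) k) = φ := by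
  unfold ract
  rw [Matrix.SpecialLinearGroup.coe_one, Matrix.vecMul_one]

theorem ract_ne_zero (g : Matrix.SpecialLinearGroup (Fin N) k) {φ : Fin N → k} (hφ : φ ≠ 0) :
    ract φ g ≠ 0 := by
  intro h
  apply hφ
  have h1 : ract (ract φ g) g⁻¹ = φ := by rw [← ract_mul, mul_inv_cancel, ract_one]
  rw [← h1, h]
  unfold ract
  exact Matrix.zero_vecMul _

theorem dot_sact (φ : Fin N → k) (g : Matrix.SpecialLinearGroup (Fin N) k) (x : Fin N → k) :
    φ ⬝ᵥ sact g x = ract φ g ⬝ᵥ x :=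
  Matrix.dotProduct_mulVec φ _ x

theorem ract_dot_sact (φ : Fin N → k) (g : Matrix.SpecialLinearGroup (Fin N) k) (x : Fin N → k) :
    ract φ g⁻¹ ⬝ᵥ sact g x = φ ⬝ᵥ x := by
  rw [← dot_sact, sact_inv_sact]

/-- The transvection `1 + c · a ⊗ φ` (trivial unless `φ a = 0`). -/
def tvl0 (a φ : Fin N → k) (h : φ ⬝ᵥ a = 0) (c : k) : Matrix.SpecialLinearGroup (Fin N) k :=
  ⟨1 + Matrix.vecMulVec (c • a) φ, by
    rw [Matrix.vecMulVec_eq Unit, Matrix.det_one_add_replicateCol_mul_replicateRow,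
      dotProduct_smul, h, smul_zero, add_zero]⟩

/-- The transvection `1 + c · a ⊗ φ` (trivial unless `φ a = 0`). -/
noncomputable def tvl (a φ : Fin N → k) (c : k) : Matrix.SpecialLinearGroup (Fin N) k :=
  if h : φ ⬝ᵥ a = 0 then tvl0 a φ h c else 1

theorem tvl_coe {a φ : Fin N → k} (h : φ ⬝ᵥ a = 0) (c : k) :
    (tvl a φ c : Matrix (Fin N) (Fin N) k) = 1 + Matrix.vecMulVec (c • a) φ := by
  unfold tvl
  rw [dif_pos h]
  rfl

theorem sact_tvl {a φ : Fin N → k} (h : φ ⬝ᵥ a = 0) (c : k) (x : Fin N → k) :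
    sact (tvl a φ c) x = x + (c * (φ ⬝ᵥ x)) • a := by
  unfold sact
  rw [tvl_coe h, Matrix.add_mulVec, Matrix.one_mulVec, Matrix.vecMulVec_mulVec, op_smul_eq_smul,
    smul_smul, mul_comm]

theorem ract_tvl {a φ : Fin N → k} (h : φ ⬝ᵥ a = 0) (c : k) (ψ : Fin N → k) :
    ract ψ (tvl a φ c) = ψ + (c * (ψ ⬝ᵥ a)) • φ := by
  unfold ract
  rw [tvl_coe h, Matrix.vecMul_add, Matrix.vecMul_one, Matrix.vecMul_vecMulVec, dotProduct_smul,
    smul_eq_mul]

theorem tvl_zero (a φ : Fin N → k) : tvl a φ (0 : k) = 1 := by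
  by_cases h : φ ⬝ᵥ a = 0
  · apply sact_ext
    intro x
    rw [sact_tvl h, zero_mul, zero_smul, add_zero, sact_one]
  · unfold tvl
    rw [dif_neg h]

theorem tvl_mul (a φ : Fin N → k) (c d : k) : tvl a φ c * tvl a φ d = tvl a φ (c + d) := by
  by_cases h : φ ⬝ᵥ a = 0
  · apply sact_ext
    intro x
    rw [sact_mul, sact_tvl h, sact_tvl h, sact_tvl h, dotProduct_add, dotProduct_smul, h,
      smul_zero, add_zero]
    module
  · unfold tvl
    rw [dif_neg h, dif_neg h, dif_neg h, one_mul]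

theorem tvl_inv (a φ : Fin N → k) (c : k) : (tvl a φ c)⁻¹ = tvl a φ (-c) := by
  rw [inv_eq_iff_mul_eq_one, tvl_mul, add_neg_cancel, tvl_zero]

theorem sact_tvl_inv {a φ : Fin N → k} (h : φ ⬝ᵥ a = 0) (c : k) (x : Fin N → k) :
    sact (tvl a φ c)⁻¹ x = x - (c * (φ ⬝ᵥ x)) • a := by
  rw [tvl_inv, sact_tvl h, neg_mul, neg_smul, sub_eq_add_neg]

theorem conj_tvl (g : Matrix.SpecialLinearGroup (Fin N) k) {a φ : Fin N → k} (h : φ ⬝ᵥ a = 0)
    (c : k) : g * tvl a φ c * g⁻¹ = tvl (sact g a) (ract φ g⁻¹) c := by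
  have h' : ract φ g⁻¹ ⬝ᵥ sact g a = 0 := by rw [ract_dot_sact, h]
  apply sact_ext
  intro x
  rw [sact_mul, sact_mul, sact_tvl h, sact_tvl h', sact_add, sact_smul, sact_sact_inv, dot_sact]

theorem tvl_smul_left {a φ : Fin N → k} (h : φ ⬝ᵥ a = 0) (l c : k) :
    tvl (l • a) φ c = tvl a φ (l * c) := by
  have h' : φ ⬝ᵥ (l • a) = 0 := by rw [dotProduct_smul, h, smul_zero]
  apply sact_ext
  intro x
  rw [sact_tvl h, sact_tvl h', smul_smul]
  congr 2
  ring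

theorem tvl_smul_right {a φ : Fin N → k} (h : φ ⬝ᵥ a = 0) (l c : k) :
    tvl a (l • φ) c = tvl a φ (l * c) := by
  have h' : (l • φ) ⬝ᵥ a = 0 := by rw [smul_dotProduct, h, smul_zero]
  apply sact_ext
  intro x
  rw [sact_tvl h, sact_tvl h', smul_dotProduct, smul_eq_mul]
  congr 2
  ring

/-- `tvl a φ c ≠ 1` when everything is non-zero. -/
theorem tvl_ne_one {a φ : Fin N → k} (h : φ ⬝ᵥ a = 0) (ha : a ≠ 0) (hφ : φ ≠ 0) {c : k}
    (hc : c ≠ 0) : tvl a φ c ≠ 1 := by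
  intro h1
  obtain ⟨j, hj⟩ : ∃ j, φ j ≠ 0 := by
    by_contra hne
    apply hφ
    funext j
    by_contra hj
    exact hne ⟨j, hj⟩
  have h3 := congrArg (fun g => sact g (Pi.single j 1)) h1
  simp only [sact_one] at h3
  rw [sact_tvl h, dotProduct_single_one] at h3
  have h4 : (c * φ j) • a = 0 := by
    have := h3
    rwa [add_eq_left] at this
  rcases smul_eq_zero.mp h4 with h5 | h5
  · exact mul_ne_zero hc hj h5
  · exact ha h5

/-- The product of two transvections. -/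
theorem sact_tvl_tvl {a φ b ψ : Fin N → k} (h : φ ⬝ᵥ a = 0) (h' : ψ ⬝ᵥ b = 0) (c d : k)
    (x : Fin N → k) :
    sact (tvl a φ c * tvl b ψ d) x =
      x + (d * (ψ ⬝ᵥ x)) • b + (c * (φ ⬝ᵥ x + d * (ψ ⬝ᵥ x) * (φ ⬝ᵥ b))) • a := by
  rw [sact_mul, sact_tvl h', sact_tvl h, dotProduct_add, dotProduct_smul, smul_eq_mul]

theorem tvl_comm {a φ b ψ : Fin N → k} (h : φ ⬝ᵥ a = 0) (h' : ψ ⬝ᵥ b = 0) (hα : φ ⬝ᵥ b = 0)
    (hβ : ψ ⬝ᵥ a = 0) (c d : k) : tvl a φ c * tvl b ψ d = tvl b ψ d * tvl a φ c := by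
  apply sact_ext
  intro x
  rw [sact_tvl_tvl h h', sact_tvl_tvl h' h, hα, hβ]
  module

/-- The commutator formula when `ψ a = 0`. -/
theorem tvl_commutator {a φ b ψ : Fin N → k} (h : φ ⬝ᵥ a = 0) (h' : ψ ⬝ᵥ b = 0)
    (hβ : ψ ⬝ᵥ a = 0) (c d : k) :
    tvl a φ c * tvl b ψ d * (tvl a φ c)⁻¹ * (tvl b ψ d)⁻¹ = tvl a ψ (c * d * (φ ⬝ᵥ b)) := by
  have key : tvl a φ c * tvl b ψ d = tvl a ψ (c * d * (φ ⬝ᵥ b)) * (tvl b ψ d * tvl a φ c) := by
    apply sact_ext
    intro x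
    rw [sact_tvl_tvl h h', sact_mul, sact_tvl hβ, sact_tvl_tvl h' h, hβ]
    simp only [dotProduct_add, dotProduct_smul, smul_eq_mul, hβ, h', mul_zero, add_zero]
    module
  rw [key]
  group

/-- The commutator formula when `φ b = 0`. -/
theorem tvl_commutator' {a φ b ψ : Fin N → k} (h : φ ⬝ᵥ a = 0) (h' : ψ ⬝ᵥ b = 0)
    (hα : φ ⬝ᵥ b = 0) (c d : k) :
    tvl a φ c * tvl b ψ d * (tvl a φ c)⁻¹ * (tvl b ψ d)⁻¹ = tvl b φ (-(c * d * (ψ ⬝ᵥ a))) := by
  have h1 := tvl_commutator h' h hα d c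
  have h2 : tvl a φ c * tvl b ψ d * (tvl a φ c)⁻¹ * (tvl b ψ d)⁻¹ =
      (tvl b ψ d * tvl a φ c * (tvl b ψ d)⁻¹ * (tvl a φ c)⁻¹)⁻¹ := by group
  rw [h2, h1, tvl_inv]
  congr 1
  ring

end Cfsg.Agent.Lib.Helper27.SLTransv
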