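import Mathlib
import Cfsg.Agent.Lib.Helper27.SLTransv

set_option autoImplicit false

/-!
The transvection subgroups `T a φ` of `SL_N(k)`: pair analysis.
-/

namespace Cfsg.Agent.Lib.Helper27.SLTransv

open Matrix Cfsg
open scoped Classical

variable {k : Type*} [Field k] {N : ℕ}

/-- The transvection subgroup with centre `a` and axis `ker φ`. -/
noncomputable def T (a φ : Fin N → k) : Subgroup (Matrix.SpecialLinearGroup (Fin N) k) where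
  carrier := {g | ∃ c : k, g = tvl a φ c}
  one_mem' := ⟨0, (tvl_zero a φ).symm⟩
  mul_mem' := by
    rintro _ _ ⟨c, rfl⟩ ⟨d, rfl⟩
    exact ⟨c + d, tvl_mul a φ c d⟩
  inv_mem' := by
    rintro _ ⟨c, rfl⟩
    exact ⟨-c, tvl_inv a φ c⟩

theorem tvl_mem_T (a φ : Fin N → k) (c : k) : tvl a φ c ∈ T a φ := ⟨c, rfl⟩

/-- Incident point-hyperplane pairs. -/
def Inc (a φ : Fin N → k) : Prop := a ≠ 0 ∧ φ ≠ 0 ∧ φ ⬝ᵥ a = 0

/-- The set of transvection subgroups. -/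
def Sset (k : Type*) [Field k] (N : ℕ) : Set (Subgroup (Matrix.SpecialLinearGroup (Fin N) k)) :=
  {A | ∃ a φ : Fin N → k, Inc a φ ∧ A = T a φ}

theorem T_smul {a φ : Fin N → k} (h : φ ⬝ᵥ a = 0) {l m : k} (hl : l ≠ 0) (hm : m ≠ 0) :
    T (l • a) (m • φ) = T a φ := by
  have h1 : (m • φ) ⬝ᵥ a = 0 := by rw [smul_dotProduct, h, smul_zero]
  ext g
  constructor
  · rintro ⟨c, rfl⟩
    exact ⟨m * (l * c), by rw [tvl_smul_left h1, tvl_smul_right h]⟩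
  · rintro ⟨c, rfl⟩
    refine ⟨l⁻¹ * (m⁻¹ * c), ?_⟩
    rw [tvl_smul_left h1, tvl_smul_right h]
    congr 1
    field_simp

theorem conj_T (g : Matrix.SpecialLinearGroup (Fin N) k) {a φ : Fin N → k} (h : φ ⬝ᵥ a = 0) :
    conjBy (T a φ) g = T (sact g a) (ract φ g⁻¹) := by
  ext x
  constructor
  · rintro ⟨y, ⟨c, rfl⟩, rfl⟩
    exact ⟨c, conj_tvl g h c⟩
  · rintro ⟨c, rfl⟩
    exact ⟨tvl a φ c, tvl_mem_T a φ c, conj_tvl g h c⟩

theorem inc_conj (g : Matrix.SpecialLinearGroup (Fin N) k) {a φ : Fin N → k} (h : Inc a φ) :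
    Inc (sact g a) (ract φ g⁻¹) :=
  ⟨sact_ne_zero g h.1, ract_ne_zero g⁻¹ h.2.1, by rw [ract_dot_sact, h.2.2]⟩

theorem T_ne_bot {a φ : Fin N → k} (h : Inc a φ) : T a φ ≠ ⊥ := by
  intro h0
  have h1 : tvl a φ (1 : k) ∈ T a φ := tvl_mem_T a φ 1
  rw [h0, Subgroup.mem_bot] at h1
  exact tvl_ne_one h.2.2 h.1 h.2.1 one_ne_zero h1

theorem T_comm (a φ : Fin N → k) : IsMulCommutative ↥(T a φ) := by
  refine ⟨⟨?_⟩⟩
  rintro ⟨x, c, rfl⟩ ⟨y, d, rfl⟩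
  apply Subtype.ext
  show tvl a φ c * tvl a φ d = tvl a φ d * tvl a φ c
  rw [tvl_mul, tvl_mul, add_comm]

theorem T_nilpotent (a φ : Fin N → k) : Group.IsNilpotent ↥(T a φ) := by
  letI : CommGroup ↥(T a φ) :=
    { (inferInstance : Group ↥(T a φ)) with
      mul_comm := (T_comm a φ).is_comm.comm }
  exact CommGroup.isNilpotent

theorem T_le_centralizer {a φ b ψ : Fin N → k} (h : φ ⬝ᵥ a = 0) (h' : ψ ⬝ᵥ b = 0)
    (hα : φ ⬝ᵥ b = 0) (hβ : ψ ⬝ᵥ a = 0) :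
    T a φ ≤ Subgroup.centralizer (T b ψ : Set (Matrix.SpecialLinearGroup (Fin N) k)) := by
  rintro _ ⟨c, rfl⟩
  rw [Subgroup.mem_centralizer_iff]
  rintro _ ⟨d, rfl⟩
  exact (tvl_comm h h' hα hβ c d).symm

theorem T_commute {a φ b ψ : Fin N → k} (h : φ ⬝ᵥ a = 0) (h' : ψ ⬝ᵥ b = 0)
    (hα : φ ⬝ᵥ b = 0) (hβ : ψ ⬝ᵥ a = 0) : ⁅T a φ, T b ψ⁆ = ⊥ := by
  rw [Subgroup.commutator_eq_bot_iff_le_centralizer]
  exact T_le_centralizer h h' hα hβ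

/-- Equal transvections have proportional centres. -/
theorem centre_of_tvl_eq {a φ b ψ : Fin N → k} (h : φ ⬝ᵥ a = 0) (h' : ψ ⬝ᵥ b = 0)
    (hψ : ψ ≠ 0) {c d : k} (hd : d ≠ 0) (heq : tvl b ψ d = tvl a φ c) : ∃ l : k, b = l • a := by
  obtain ⟨j, hj⟩ : ∃ j, ψ j ≠ 0 := by
    by_contra hne
    apply hψ
    funext j
    by_contra hj
    exact hne ⟨j, hj⟩
  have h3 : sact (tvl b ψ d) (Pi.single j 1) = sact (tvl a φ c) (Pi.single j 1) := by rw [heq]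
  rw [sact_tvl h, sact_tvl h', dotProduct_single_one, dotProduct_single_one] at h3
  have h4 : (d * ψ j) • b = (c * φ j) • a := add_left_cancel h3
  refine ⟨(d * ψ j)⁻¹ * (c * φ j), ?_⟩
  rw [← smul_smul, ← h4, smul_smul, inv_mul_cancel₀ (mul_ne_zero hd hj), one_smul]

theorem centre_of_T_eq {a φ b ψ : Fin N → k} (h : φ ⬝ᵥ a = 0) (h' : ψ ⬝ᵥ b = 0)
    (hψ : ψ ≠ 0) (heq : T b ψ = T a φ) : ∃ l : k, b = l • a := by
  have h1 : tvl b ψ (1 : k) ∈ T a φ := by rw [← heq]; exact tvl_mem_T b ψ 1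
  obtain ⟨c, hc⟩ := h1
  exact centre_of_tvl_eq h h' hψ one_ne_zero hc

/-- The rank one condition. -/
theorem rankOneCondition {a φ b ψ : Fin N → k} (hi : Inc a φ) (hi' : Inc b ψ)
    (hα : φ ⬝ᵥ b ≠ 0) (hβ : ψ ⬝ᵥ a ≠ 0) : RankOneCondition (T a φ) (T b ψ) := by
  rintro _ ⟨c, rfl⟩ hne
  have h := hi.2.2
  have h' := hi'.2.2
  have hc : c ≠ 0 := by
    rintro rfl
    exact hne (tvl_zero a φ)
  obtain ⟨α, hα'⟩ : ∃ α, α = φ ⬝ᵥ b := ⟨_, rfl⟩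
  obtain ⟨β, hβ'⟩ : ∃ β, β = ψ ⬝ᵥ a := ⟨_, rfl⟩
  rw [← hα'] at hα
  rw [← hβ'] at hβ
  have hd0 : (c * α * β)⁻¹ ≠ 0 := inv_ne_zero (mul_ne_zero (mul_ne_zero hc hα) hβ)
  refine ⟨tvl b ψ (c * α * β)⁻¹, tvl_mem_T _ _ _, tvl_ne_one h' hi'.1 hi'.2.1 hd0, ?_⟩
  rw [conj_T _ h, conj_T _ h', inv_inv, inv_inv, sact_tvl_inv h', sact_tvl_inv h, ract_tvl h',
    ract_tvl h, ← hα', ← hβ']
  have e1 : a - ((c * α * β)⁻¹ * β) • b = (-(c * α)⁻¹) • (b - (c * α) • a) := by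
    rw [smul_sub, smul_smul, neg_mul, inv_mul_cancel₀ (mul_ne_zero hc hα), neg_smul, neg_smul,
      one_smul]
    have : (c * α * β)⁻¹ * β = (c * α)⁻¹ := by field_simp
    rw [this]
    abel
  have e2 : φ + ((c * α * β)⁻¹ * α) • ψ = (c * β)⁻¹ • (ψ + (c * β) • φ) := by
    rw [smul_add, smul_smul, inv_mul_cancel₀ (mul_ne_zero hc hβ), one_smul]
    have : (c * α * β)⁻¹ * α = (c * β)⁻¹ := by field_simp
    rw [this]
    abel
  have hinc : (ψ + (c * β) • φ) ⬝ᵥ (b - (c * α) • a) = 0 := by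
    rw [add_dotProduct, dotProduct_sub, dotProduct_sub, smul_dotProduct, smul_dotProduct,
      dotProduct_smul, dotProduct_smul, h, h', ← hα', ← hβ']
    simp only [smul_eq_mul, mul_zero, sub_zero]
    ring
  rw [e1, e2, T_smul hinc (neg_ne_zero.mpr (inv_ne_zero (mul_ne_zero hc hα)))
    (inv_ne_zero (mul_ne_zero hc hβ))]

theorem T_ne_of_hyp {a φ b ψ : Fin N → k} (hi : Inc a φ) (hi' : Inc b ψ)
    (hα : φ ⬝ᵥ b ≠ 0) : T a φ ≠ T b ψ := by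
  intro heq
  obtain ⟨l, hl⟩ := centre_of_T_eq hi.2.2 hi'.2.2 hi'.2.1 heq.symm
  apply hα
  rw [hl, dotProduct_smul, hi.2.2, smul_zero]

theorem rankOnePair {a φ b ψ : Fin N → k} (hi : Inc a φ) (hi' : Inc b ψ)
    (hα : φ ⬝ᵥ b ≠ 0) (hβ : ψ ⬝ᵥ a ≠ 0) : IsRankOnePair (T a φ) (T b ψ) where
  ne := T_ne_of_hyp hi hi' hα
  nilpotent_left := T_nilpotent a φ
  nilpotent_right := T_nilpotent b ψ
  cond_left := rankOneCondition hi hi' hα hβ
  cond_right := rankOneCondition hi' hi hβ hα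

/-- A general criterion for the commutator case. -/
theorem rootCommutatorCase_of_formula {a φ b ψ a' ψ' : Fin N → k} (hi : Inc a φ) (hi' : Inc b ψ)
    (hC : Inc a' ψ') (κ : k) (hκ : κ ≠ 0)
    (hform : ∀ c d : k, tvl a φ c * tvl b ψ d * (tvl a φ c)⁻¹ * (tvl b ψ d)⁻¹ =
      tvl a' ψ' (κ * c * d))
    (hcA : T a φ ≤ Subgroup.centralizer (T a' ψ' : Set (Matrix.SpecialLinearGroup (Fin N) k)))
    (hcB : T b ψ ≤ Subgroup.centralizer (T a' ψ' : Set (Matrix.SpecialLinearGroup (Fin N) k))) :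
    RootCommutatorCase (Sset k N) (T a φ) (T b ψ) := by
  have hcomm : ⁅T a φ, T b ψ⁆ = T a' ψ' := by
    apply le_antisymm
    · rw [Subgroup.commutator_le]
      rintro _ ⟨c, rfl⟩ _ ⟨d, rfl⟩
      rw [commutatorElement_def, hform]
      exact tvl_mem_T _ _ _
    · rintro _ ⟨e, rfl⟩
      have h1 := Subgroup.commutator_mem_commutator (tvl_mem_T a φ 1) (tvl_mem_T b ψ (κ⁻¹ * e))
      rw [commutatorElement_def, hform] at h1
      have h2 : κ * 1 * (κ⁻¹ * e) = e := by field_simp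
      rw [h2] at h1
      exact h1
  refine ⟨?_, ?_, ?_, ?_⟩
  · rw [hcomm]
    exact ⟨a', ψ', hC, rfl⟩
  · intro c hc x hx
    rw [hcomm] at hc
    have hle : T a φ ⊔ T b ψ ≤
        Subgroup.centralizer (T a' ψ' : Set (Matrix.SpecialLinearGroup (Fin N) k)) :=
      sup_le hcA hcB
    have := hle hx
    rw [Subgroup.mem_centralizer_iff] at this
    exact this c hc
  · rintro _ ⟨c, rfl⟩ hne
    have hc : c ≠ 0 := by
      rintro rfl
      exact hne (tvl_zero a φ)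
    rw [hcomm]
    have hset : (fun y => tvl a φ c * y * (tvl a φ c)⁻¹ * y⁻¹) ''
        (T b ψ : Set (Matrix.SpecialLinearGroup (Fin N) k)) = (T a' ψ' : Set _) := by
      ext g
      constructor
      · rintro ⟨_, ⟨d, rfl⟩, rfl⟩
        exact ⟨_, hform c d⟩
      · rintro ⟨e, rfl⟩
        refine ⟨tvl b ψ ((κ * c)⁻¹ * e), tvl_mem_T _ _ _, ?_⟩
        show tvl a φ c * tvl b ψ ((κ * c)⁻¹ * e) * (tvl a φ c)⁻¹ * (tvl b ψ ((κ * c)⁻¹ * e))⁻¹ = _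
        rw [hform]
        congr 1
        field_simp
    rw [hset, Subgroup.closure_eq]
  · rintro _ ⟨d, rfl⟩ hne
    have hd : d ≠ 0 := by
      rintro rfl
      exact hne (tvl_zero b ψ)
    rw [hcomm]
    have hset : (fun x => x * tvl b ψ d * x⁻¹ * (tvl b ψ d)⁻¹) ''
        (T a φ : Set (Matrix.SpecialLinearGroup (Fin N) k)) = (T a' ψ' : Set _) := by
      ext g
      constructor
      · rintro ⟨_, ⟨c, rfl⟩, rfl⟩
        exact ⟨_, hform c d⟩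
      · rintro ⟨e, rfl⟩
        refine ⟨tvl a φ ((κ * d)⁻¹ * e), tvl_mem_T _ _ _, ?_⟩
        show tvl a φ ((κ * d)⁻¹ * e) * tvl b ψ d * (tvl a φ ((κ * d)⁻¹ * e))⁻¹ * (tvl b ψ d)⁻¹ = _
        rw [hform]
        congr 1
        field_simp
    rw [hset, Subgroup.closure_eq]

theorem rootCommutatorCase_left {a φ b ψ : Fin N → k} (hi : Inc a φ) (hi' : Inc b ψ)
    (hα : φ ⬝ᵥ b ≠ 0) (hβ : ψ ⬝ᵥ a = 0) : RootCommutatorCase (Sset k N) (T a φ) (T b ψ) := by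
  apply rootCommutatorCase_of_formula hi hi' (a' := a) (ψ' := ψ) ⟨hi.1, hi'.2.1, hβ⟩ (φ ⬝ᵥ b) hα
  · intro c d
    rw [tvl_commutator hi.2.2 hi'.2.2 hβ]
    congr 1
    ring
  · exact T_le_centralizer hi.2.2 hβ hi.2.2 hβ
  · exact T_le_centralizer hi'.2.2 hβ hβ hi'.2.2

theorem rootCommutatorCase_right {a φ b ψ : Fin N → k} (hi : Inc a φ) (hi' : Inc b ψ)
    (hα : φ ⬝ᵥ b = 0) (hβ : ψ ⬝ᵥ a ≠ 0) : RootCommutatorCase (Sset k N) (T a φ) (T b ψ) := by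
  apply rootCommutatorCase_of_formula hi hi' (a' := b) (ψ' := φ) ⟨hi'.1, hi.2.1, hα⟩
    (-(ψ ⬝ᵥ a)) (neg_ne_zero.mpr hβ)
  · intro c d
    rw [tvl_commutator' hi.2.2 hi'.2.2 hα]
    congr 1
    ring
  · exact T_le_centralizer hi.2.2 hα hα hi.2.2
  · exact T_le_centralizer hi'.2.2 hα hi'.2.2 hα

end Cfsg.Agent.Lib.Helper27.SLTransv
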