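import Mathlib
import Cfsg.Prelude.Def_RootSubgroups
import Cfsg.Agent.Lib.Helper27.SympRankOne
import Cfsg.Agent.Lib.Helper27.SympTransv2

set_option autoImplicit false

/-!
The symplectic transvection subgroups `T p` and their basic properties (abstract root subgroups).
-/

namespace Cfsg.Agent.Lib.Helper27.SpRoot

open Matrix Cfsg Cfsg.Agent.Lib.Helper27.SympTransv

variable {F : Type*} [Field F] {m : ℕ}

/-- The transvection subgroup with centre `p`. -/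
def T (p : Fin m ⊕ Fin m → F) : Subgroup ↥(Matrix.symplecticGroup (Fin m) F) where
  carrier := {g | ∃ c : F, g = tv p c}
  one_mem' := ⟨0, (tv_zero_right p).symm⟩
  mul_mem' := by
    rintro _ _ ⟨c, rfl⟩ ⟨d, rfl⟩
    exact ⟨c + d, tv_mul p c d⟩
  inv_mem' := by
    rintro _ ⟨c, rfl⟩
    exact ⟨-c, tv_inv p c⟩

theorem mem_T {p : Fin m ⊕ Fin m → F} {g : ↥(Matrix.symplecticGroup (Fin m) F)} :
    g ∈ T p ↔ ∃ c : F, g = tv p c := Iff.rfl

theorem tv_mem_T (p : Fin m ⊕ Fin m → F) (c : F) : tv p c ∈ T p := ⟨c, rfl⟩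

/-- The description in the statement. -/
theorem closure_eq_T (p : Fin m ⊕ Fin m → F) :
    Subgroup.closure {g : ↥(Matrix.symplecticGroup (Fin m) F) | ∃ c : F,
      ∀ v : Fin m ⊕ Fin m → F,
        (g : Matrix (Fin m ⊕ Fin m) (Fin m ⊕ Fin m) F) *ᵥ v =
          v + (c * (v ⬝ᵥ (Matrix.J (Fin m) F *ᵥ p))) • p} = T p := by
  have h : {g : ↥(Matrix.symplecticGroup (Fin m) F) | ∃ c : F,
      ∀ v : Fin m ⊕ Fin m → F,
        (g : Matrix (Fin m ⊕ Fin m) (Fin m ⊕ Fin m) F) *ᵥ v =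
          v + (c * (v ⬝ᵥ (Matrix.J (Fin m) F *ᵥ p))) • p} = (T p : Set _) := by
    ext g
    constructor
    · rintro ⟨c, hc⟩
      refine ⟨c, ?_⟩
      apply act_ext
      intro x
      rw [act_tv]
      exact hc x
    · rintro ⟨c, rfl⟩
      refine ⟨c, fun v => ?_⟩
      exact act_tv p c v
  rw [h, Subgroup.closure_eq]

theorem T_smul (a : F) (ha : a ≠ 0) (p : Fin m ⊕ Fin m → F) : T (a • p) = T p := by
  ext g
  constructor
  · rintro ⟨c, rfl⟩
    exact ⟨a ^ 2 * c, tv_smul a p c⟩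
  · rintro ⟨c, rfl⟩
    refine ⟨(a ^ 2)⁻¹ * c, ?_⟩
    rw [tv_smul, ← mul_assoc, mul_inv_cancel₀ (pow_ne_zero 2 ha), one_mul]

theorem conj_T (g : ↥(Matrix.symplecticGroup (Fin m) F)) (p : Fin m ⊕ Fin m → F) :
    conjBy (T p) g = T (act g p) := by
  ext x
  constructor
  · rintro ⟨y, ⟨c, rfl⟩, rfl⟩
    exact ⟨c, conj_tv g p c⟩
  · rintro ⟨c, rfl⟩
    exact ⟨tv p c, tv_mem_T p c, conj_tv g p c⟩

theorem T_ne_bot (p : Fin m ⊕ Fin m → F) (hp : p ≠ 0) : T p ≠ ⊥ := by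
  intro h
  have h1 : tv p (1 : F) ∈ T p := tv_mem_T p 1
  rw [h, Subgroup.mem_bot] at h1
  exact tv_ne_one p hp 1 one_ne_zero h1

theorem T_comm (p : Fin m ⊕ Fin m → F) : IsMulCommutative ↥(T p) := by
  refine ⟨⟨?_⟩⟩
  rintro ⟨a, c, rfl⟩ ⟨b, d, rfl⟩
  apply Subtype.ext
  show tv p c * tv p d = tv p d * tv p c
  rw [tv_mul, tv_mul, add_comm]

theorem T_nilpotent (p : Fin m ⊕ Fin m → F) : Group.IsNilpotent ↥(T p) := by
  letI : CommGroup ↥(T p) :=
    { (inferInstance : Group ↥(T p)) with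
      mul_comm := (T_comm p).is_comm.comm }
  exact CommGroup.isNilpotent

theorem T_commute_of_perp (p p' : Fin m ⊕ Fin m → F) (h : sympForm m F p p' = 0) :
    ⁅T p, T p'⁆ = ⊥ := by
  rw [Subgroup.commutator_eq_bot_iff_le_centralizer]
  rintro _ ⟨c, rfl⟩
  rw [Subgroup.mem_centralizer_iff]
  rintro _ ⟨d, rfl⟩
  exact (tv_comm_of_perp p p' h c d).symm

theorem act_tv_inv (w : Fin m ⊕ Fin m → F) (c : F) (x : Fin m ⊕ Fin m → F) :
    act (tv w c)⁻¹ x = x - (c * sympForm m F x w) • w := by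
  rw [tv_inv, act_tv, neg_mul, neg_smul, sub_eq_add_neg]

/-- The rank one condition for a hyperbolic pair of centres. -/
theorem rankOneCondition (p p' : Fin m ⊕ Fin m → F) (hp' : p' ≠ 0)
    (h : sympForm m F p p' ≠ 0) : RankOneCondition (T p) (T p') := by
  rintro _ ⟨c, rfl⟩ hne
  have hc : c ≠ 0 := by
    rintro rfl
    exact hne (tv_zero_right p)
  obtain ⟨γ, hγ⟩ : ∃ γ, γ = sympForm m F p p' := ⟨_, rfl⟩
  have hγ0 : γ ≠ 0 := by rw [hγ]; exact h
  have hγ' : sympForm m F p' p = -γ := by rw [sf_swap, hγ]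
  have hd0 : -(c * γ ^ 2)⁻¹ ≠ 0 := neg_ne_zero.mpr (inv_ne_zero (mul_ne_zero hc (pow_ne_zero 2 hγ0)))
  refine ⟨tv p' (-(c * γ ^ 2)⁻¹), tv_mem_T _ _, tv_ne_one p' hp' _ hd0, ?_⟩
  rw [conj_T, conj_T, act_tv_inv, act_tv_inv, ← hγ, hγ']
  have hvec : p - (-(c * γ ^ 2)⁻¹ * γ) • p' = (c * γ)⁻¹ • (p' - (c * -γ) • p) := by
    rw [smul_sub, smul_smul, sub_eq_add_neg, sub_eq_add_neg, ← neg_smul, ← neg_smul, add_comm]
    congr 1
    · congr 1
      field_simp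
    · rw [show -((c * γ)⁻¹ * (c * -γ)) = (1 : F) by field_simp, one_smul]
  rw [hvec, T_smul _ (inv_ne_zero (mul_ne_zero hc hγ0))]

theorem T_ne_of_hyp (p p' : Fin m ⊕ Fin m → F) (hp' : p' ≠ 0)
    (h : sympForm m F p p' ≠ 0) : T p ≠ T p' := by
  intro heq
  have h1 : tv p' (1 : F) ∈ T p := by rw [heq]; exact tv_mem_T p' 1
  obtain ⟨c, hc⟩ := h1
  have h2 := congrArg (fun A => act A p) hc
  simp only [act_tv, sf_self, mul_zero, zero_smul, add_zero, one_mul] at h2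
  have h3 : sympForm m F p p' • p' = 0 := by
    have := h2
    rwa [add_eq_left] at this
  rcases smul_eq_zero.mp h3 with h4 | h4
  · exact h h4
  · exact hp' h4

theorem rankOnePair (p p' : Fin m ⊕ Fin m → F) (hp : p ≠ 0) (hp' : p' ≠ 0)
    (h : sympForm m F p p' ≠ 0) : IsRankOnePair (T p) (T p') where
  ne := T_ne_of_hyp p p' hp' h
  nilpotent_left := T_nilpotent p
  nilpotent_right := T_nilpotent p'
  cond_left := rankOneCondition p p' hp' h
  cond_right := rankOneCondition p' p hp (by rw [sf_swap]; exact neg_ne_zero.mpr h)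

end Cfsg.Agent.Lib.Helper27.SpRoot
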