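import Mathlib
import Cfsg.Agent.Lib.Helper27.SpRoot

set_option autoImplicit false

/-!
The set of symplectic transvection subgroups is a degenerate class of abstract root subgroups.
-/

namespace Cfsg.Agent.Lib.Helper27.SpRoot

open Matrix Cfsg Cfsg.Agent.Lib.Helper27.SympTransv

variable {F : Type*} [Field F] {m : ℕ}

/-- The set of all transvection subgroups. -/
def Sset (F : Type*) [Field F] (m : ℕ) : Set (Subgroup ↥(Matrix.symplecticGroup (Fin m) F)) :=
  {A | ∃ p : Fin m ⊕ Fin m → F, p ≠ 0 ∧ A = T p}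

theorem act_ne_zero (g : ↥(Matrix.symplecticGroup (Fin m) F)) {p : Fin m ⊕ Fin m → F}
    (hp : p ≠ 0) : act g p ≠ 0 := by
  intro h
  apply hp
  have := congrArg (act g⁻¹) h
  rwa [act_inv_act, act_zero] at this

theorem exists_both (p p' : Fin m ⊕ Fin m → F) (hp : p ≠ 0) (hp' : p' ≠ 0) :
    ∃ z : Fin m ⊕ Fin m → F, sympForm m F p z ≠ 0 ∧ sympForm m F z p' ≠ 0 := by
  obtain ⟨a, -, ha⟩ := nondegOn_top p Submodule.mem_top hp
  obtain ⟨b, -, hb⟩ := nondegOn_top p' Submodule.mem_top hp'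
  by_cases h1 : sympForm m F p' a ≠ 0
  · refine ⟨a, ha, ?_⟩
    rw [sf_swap]; exact neg_ne_zero.mpr h1
  · by_cases h2 : sympForm m F p b ≠ 0
    · refine ⟨b, h2, ?_⟩
      rw [sf_swap]; exact neg_ne_zero.mpr hb
    · rw [not_not] at h1 h2
      refine ⟨a + b, ?_, ?_⟩
      · rw [sf_add_right, h2, add_zero]; exact ha
      · rw [sf_swap, sf_add_right, h1, zero_add]; exact neg_ne_zero.mpr hb

theorem isRootSubgroupSet : IsRootSubgroupSet (Sset F m) where
  commutative := by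
    rintro _ ⟨p, -, rfl⟩
    exact T_comm p
  ne_bot := by
    rintro _ ⟨p, hp, rfl⟩
    exact T_ne_bot p hp
  generates := by
    apply eq_top_of_tv_mem
    intro w c
    by_cases hw : w = 0
    · rw [hw, tv_zero_left]
      exact one_mem _
    · have h1 : T w ≤ ⨆ A ∈ Sset F m, A := le_iSup₂_of_le (T w) ⟨w, hw, rfl⟩ le_rfl
      exact h1 (tv_mem_T w c)
  conj_mem := by
    rintro _ ⟨p, hp, rfl⟩ g
    exact ⟨act g p, act_ne_zero g hp, conj_T g p⟩
  pair := by
    rintro _ ⟨p, hp, rfl⟩ _ ⟨p', hp', rfl⟩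
    by_cases h : sympForm m F p p' = 0
    · left
      exact T_commute_of_perp p p' h
    · right; left
      exact rankOnePair p p' hp hp' h

theorem isConjClass (hm : 0 < m) : IsConjClassOfSubgroups (Sset F m) := by
  constructor
  · refine ⟨T (Pi.single (Sum.inl ⟨0, hm⟩) 1), Pi.single (Sum.inl ⟨0, hm⟩) 1, ?_, rfl⟩
    intro h
    have := congrFun h (Sum.inl ⟨0, hm⟩)
    simp at this
  · rintro _ ⟨p, hp, rfl⟩ _ ⟨p', hp', rfl⟩
    obtain ⟨A, -, hA⟩ := trans1 ⊤ nondegOn_top p p' Submodule.mem_top Submodule.mem_top hp hp'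
    exact ⟨A, by rw [conj_T, hA]⟩

/-- If two transvections commute, their centres are perpendicular. -/
theorem perp_of_commute (r p : Fin m ⊕ Fin m → F) (hp : p ≠ 0)
    (h : tv r (1 : F) * tv p 1 = tv p 1 * tv r 1) : sympForm m F p r = 0 := by
  by_contra hne
  have h1 : tv (act (tv r (1 : F)) p) (1 : F) = tv p 1 := by
    rw [← conj_tv, h, mul_inv_cancel_right]
  obtain ⟨a, -, ha⟩ := tv_eq_tv p (act (tv r (1 : F)) p) hp 1 one_ne_zero h1
  rw [act_tv, one_mul] at ha
  -- `r` is a multiple of `p`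
  have h3 : sympForm m F p r • r = (a - 1) • p := by
    rw [sub_smul, one_smul, ← ha]
    abel
  have h4 : r = ((sympForm m F p r)⁻¹ * (a - 1)) • p := by
    rw [← smul_smul, ← h3, smul_smul, inv_mul_cancel₀ hne, one_smul]
  apply hne
  rw [h4, sf_smul_right, sf_self, mul_zero]

theorem T_le_TW_span (p p' : Fin m ⊕ Fin m → F) :
    T p ⊔ T p' ≤ TW (Submodule.span F {p, p'}) := by
  rw [sup_le_iff]
  constructor
  · rintro _ ⟨c, rfl⟩
    exact tv_mem_TW _ (Submodule.subset_span (by simp)) c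
  · rintro _ ⟨c, rfl⟩
    exact tv_mem_TW _ (Submodule.subset_span (by simp)) c

theorem isDegenerate : IsDegenerateRootSet (Sset F m) := by
  rintro _ ⟨p, hp, rfl⟩ _ ⟨p', hp', rfl⟩ ⟨⟨r, hr, hcomm⟩, hcentral, -, -⟩
  by_cases h : sympForm m F p p' = 0
  · rw [T_commute_of_perp p p' h] at hcomm
    exact T_ne_bot r hr hcomm.symm
  · have hmem : tv r (1 : F) ∈ ⁅T p, T p'⁆ := by rw [hcomm]; exact tv_mem_T r 1
    have hle : ⁅T p, T p'⁆ ≤ T p ⊔ T p' := by
      rw [Subgroup.commutator_le]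
      intro g₁ h₁ g₂ h₂
      have e1 : g₁ ∈ T p ⊔ T p' := Subgroup.mem_sup_left h₁
      have e2 : g₂ ∈ T p ⊔ T p' := Subgroup.mem_sup_right h₂
      exact mul_mem (mul_mem (mul_mem e1 e2) (inv_mem e1)) (inv_mem e2)
    have hpr : sympForm m F p r = 0 :=
      perp_of_commute r p hp (hcentral _ hmem _ (Subgroup.mem_sup_left (tv_mem_T p 1)))
    have hp'r : sympForm m F p' r = 0 :=
      perp_of_commute r p' hp' (hcentral _ hmem _ (Subgroup.mem_sup_right (tv_mem_T p' 1)))
    -- a vector perpendicular to `p, p'` but not to `r`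
    obtain ⟨y, -, hy⟩ := nondegOn_top r Submodule.mem_top hr
    obtain ⟨γ, hγ⟩ : ∃ γ, γ = sympForm m F p p' := ⟨_, rfl⟩
    have hγ0 : γ ≠ 0 := by rw [hγ]; exact h
    obtain ⟨x, hx⟩ : ∃ x, x = y + (-(sympForm m F y p' / γ)) • p + (sympForm m F y p / γ) • p' :=
      ⟨_, rfl⟩
    have hxp : sympForm m F x p = 0 := by
      rw [hx, sf_add_left, sf_add_left, sf_smul_left, sf_smul_left, sf_self, sf_swap p p', ← hγ]
      field_simp
      ring
    have hxp' : sympForm m F x p' = 0 := by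
      rw [hx, sf_add_left, sf_add_left, sf_smul_left, sf_smul_left, sf_self, ← hγ]
      field_simp
      ring
    have hxr : sympForm m F x r ≠ 0 := by
      rw [hx, sf_add_left, sf_add_left, sf_smul_left, sf_smul_left, hpr, hp'r, mul_zero, mul_zero,
        add_zero, add_zero, sf_swap]
      exact neg_ne_zero.mpr hy
    have hfix : act (tv r (1 : F)) x = x := by
      apply TW_fix (Submodule.span F {p, p'}) _ (T_le_TW_span p p' (hle hmem))
      intro w hw
      rw [Submodule.mem_span_pair] at hw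
      obtain ⟨a, b, rfl⟩ := hw
      rw [sf_add_right, sf_smul_right, sf_smul_right, hxp, hxp', mul_zero, mul_zero, add_zero]
    rw [act_tv, one_mul] at hfix
    have h3 : sympForm m F x r • r = 0 := by
      have := hfix
      rwa [add_eq_left] at this
    rcases smul_eq_zero.mp h3 with h4 | h4
    · exact hxr h4
    · exact hr h4

theorem isConnected : IsConnectedFamily (FAdj (Sset F m)) (Sset F m) := by
  rintro _ ⟨p, hp, rfl⟩ _ ⟨p', hp', rfl⟩
  obtain ⟨z, hz1, hz2⟩ := exists_both p p' hp hp'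
  have hz0 : z ≠ 0 := by
    rintro rfl
    exact hz1 (sf_zero_right p)
  have e1 : FAdj (Sset F m) (T p) (T z) :=
    ⟨⟨p, hp, rfl⟩, ⟨z, hz0, rfl⟩, rankOnePair p z hp hz0 hz1⟩
  have e2 : FAdj (Sset F m) (T z) (T p') :=
    ⟨⟨z, hz0, rfl⟩, ⟨p', hp', rfl⟩, rankOnePair z p' hz0 hp' hz2⟩
  exact Relation.ReflTransGen.tail (Relation.ReflTransGen.single e1) e2

/-- A rank one pair has hyperbolic centres. -/
theorem hyp_of_rankOnePair (p p' : Fin m ⊕ Fin m → F) (hp : p ≠ 0)
    (h : IsRankOnePair (T p) (T p')) : sympForm m F p p' ≠ 0 := by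
  intro h0
  obtain ⟨b, ⟨d, rfl⟩, -, hb⟩ := h.cond_left (tv p 1) (tv_mem_T p 1) (tv_ne_one p hp 1 one_ne_zero)
  rw [conj_T, conj_T, act_tv_inv, act_tv_inv, h0, mul_zero, zero_smul, sub_zero, sf_swap, h0,
    neg_zero, mul_zero, zero_smul, sub_zero] at hb
  exact h.ne hb

end Cfsg.Agent.Lib.Helper27.SpRoot
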