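import Mathlib
import Cfsg.Agent.Lib.Helper27.SpRoot2
import Cfsg.Agent.S0270

set_option autoImplicit false

/-!
A hyperbolic pair of transvection subgroups generates an image of `SL₂`.
-/

namespace Cfsg.Agent.Lib.Helper27.SpRoot

open Matrix Cfsg Cfsg.Agent.Lib.Helper27.SympTransv

variable {F : Type*} [Field F] {m : ℕ}

/-! ### Generation of `SL₂` by unitriangular matrices -/

/-- Upper unitriangular matrix. -/
def Uu (b : F) : Matrix.SpecialLinearGroup (Fin 2) F :=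
  ⟨!![1, b; 0, 1], by simp [Matrix.det_fin_two]⟩

/-- Lower unitriangular matrix. -/
def Ll (c : F) : Matrix.SpecialLinearGroup (Fin 2) F :=
  ⟨!![1, 0; c, 1], by simp [Matrix.det_fin_two]⟩

@[simp] theorem Uu_coe (b : F) :
    ((Uu b : Matrix.SpecialLinearGroup (Fin 2) F) : Matrix (Fin 2) (Fin 2) F) = !![1, b; 0, 1] := rfl

@[simp] theorem Ll_coe (c : F) :
    ((Ll c : Matrix.SpecialLinearGroup (Fin 2) F) : Matrix (Fin 2) (Fin 2) F) = !![1, 0; c, 1] := rfl

theorem Uu_mem (b : F) : Uu b ∈ upperUnipotentSL2 F :=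
  Subgroup.subset_closure ⟨by simp [Uu], by simp [Uu], by simp [Uu]⟩

theorem Ll_mem (c : F) : Ll c ∈ lowerUnipotentSL2 F :=
  Subgroup.subset_closure ⟨by simp [Ll], by simp [Ll], by simp [Ll]⟩

theorem sl2_ext {M N : Matrix.SpecialLinearGroup (Fin 2) F}
    (h00 : M.1 0 0 = N.1 0 0) (h01 : M.1 0 1 = N.1 0 1) (h10 : M.1 1 0 = N.1 1 0)
    (h11 : M.1 1 1 = N.1 1 1) : M = N := by
  apply Subtype.ext
  ext i j
  fin_cases i <;> fin_cases j
  · exact h00
  · exact h01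
  · exact h10
  · exact h11

theorem sl2_det (M : Matrix.SpecialLinearGroup (Fin 2) F) :
    M.1 0 0 * M.1 1 1 - M.1 0 1 * M.1 1 0 = 1 := by
  have := M.2
  rwa [Matrix.det_fin_two] at this

theorem sl2_factor (M : Matrix.SpecialLinearGroup (Fin 2) F) (h : M.1 1 0 ≠ 0) :
    M = Uu ((M.1 0 0 - 1) / M.1 1 0) * Ll (M.1 1 0) * Uu ((M.1 1 1 - 1) / M.1 1 0) := by
  have hdet := sl2_det M
  apply sl2_ext
  · show M.1 0 0 = ((Uu ((M.1 0 0 - 1) / M.1 1 0) * Ll (M.1 1 0) *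
      Uu ((M.1 1 1 - 1) / M.1 1 0) : Matrix.SpecialLinearGroup (Fin 2) F) :
        Matrix (Fin 2) (Fin 2) F) 0 0
    rw [Matrix.SpecialLinearGroup.coe_mul, Matrix.SpecialLinearGroup.coe_mul]
    simp [Matrix.mul_apply, Fin.sum_univ_two]
    field_simp
    ring
  · show M.1 0 1 = ((Uu ((M.1 0 0 - 1) / M.1 1 0) * Ll (M.1 1 0) *
      Uu ((M.1 1 1 - 1) / M.1 1 0) : Matrix.SpecialLinearGroup (Fin 2) F) :
        Matrix (Fin 2) (Fin 2) F) 0 1
    rw [Matrix.SpecialLinearGroup.coe_mul, Matrix.SpecialLinearGroup.coe_mul]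
    simp [Matrix.mul_apply, Fin.sum_univ_two]
    field_simp
    linear_combination (-1 : F) * hdet
  · show M.1 1 0 = ((Uu ((M.1 0 0 - 1) / M.1 1 0) * Ll (M.1 1 0) *
      Uu ((M.1 1 1 - 1) / M.1 1 0) : Matrix.SpecialLinearGroup (Fin 2) F) :
        Matrix (Fin 2) (Fin 2) F) 1 0
    rw [Matrix.SpecialLinearGroup.coe_mul, Matrix.SpecialLinearGroup.coe_mul]
    simp [Matrix.mul_apply, Fin.sum_univ_two]
  · show M.1 1 1 = ((Uu ((M.1 0 0 - 1) / M.1 1 0) * Ll (M.1 1 0) *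
      Uu ((M.1 1 1 - 1) / M.1 1 0) : Matrix.SpecialLinearGroup (Fin 2) F) :
        Matrix (Fin 2) (Fin 2) F) 1 1
    rw [Matrix.SpecialLinearGroup.coe_mul, Matrix.SpecialLinearGroup.coe_mul]
    simp [Matrix.mul_apply, Fin.sum_univ_two]
    field_simp
    ring

theorem sl2_generated : upperUnipotentSL2 F ⊔ lowerUnipotentSL2 F = ⊤ := by
  rw [eq_top_iff]
  intro M _
  have key : ∀ N : Matrix.SpecialLinearGroup (Fin 2) F, N.1 1 0 ≠ 0 →
      N ∈ upperUnipotentSL2 F ⊔ lowerUnipotentSL2 F := by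
    intro N hN
    rw [sl2_factor N hN]
    exact mul_mem (mul_mem (Subgroup.mem_sup_left (Uu_mem _)) (Subgroup.mem_sup_right (Ll_mem _)))
      (Subgroup.mem_sup_left (Uu_mem _))
  by_cases h : M.1 1 0 ≠ 0
  · exact key M h
  · rw [not_not] at h
    have hdet := sl2_det M
    rw [h, mul_zero, sub_zero] at hdet
    have h00 : M.1 0 0 ≠ 0 := by
      intro h0
      rw [h0, zero_mul] at hdet
      exact zero_ne_one hdet
    have h1 : (Ll (1 : F) * M).1 1 0 ≠ 0 := by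
      show ((Ll (1 : F) * M : Matrix.SpecialLinearGroup (Fin 2) F) :
        Matrix (Fin 2) (Fin 2) F) 1 0 ≠ 0
      rw [Matrix.SpecialLinearGroup.coe_mul]
      simp [Matrix.mul_apply, Fin.sum_univ_two, h]
      exact h00
    have h2 := key _ h1
    have h3 : M = (Ll (1 : F))⁻¹ * (Ll (1 : F) * M) := by group
    rw [h3]
    exact mul_mem (inv_mem (Subgroup.mem_sup_right (Ll_mem _))) h2

/-! ### The action of `SL₂` on a hyperbolic plane -/

/-- The linear map induced by a `2 × 2` matrix on the hyperbolic plane `⟨p, p''⟩`, extended by the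
identity on the orthogonal complement. -/
def LM (p p'' : Fin m ⊕ Fin m → F) (M : Matrix (Fin 2) (Fin 2) F) :
    (Fin m ⊕ Fin m → F) →ₗ[F] (Fin m ⊕ Fin m → F) where
  toFun v := v + (sympForm m F v p'' * (M 0 0 - 1) + sympForm m F p v * M 0 1) • p +
    (sympForm m F v p'' * M 1 0 + sympForm m F p v * (M 1 1 - 1)) • p''
  map_add' u v := by
    simp only [sf_add_left, sf_add_right]
    module
  map_smul' a v := by
    simp only [sf_smul_left, sf_smul_right, RingHom.id_apply]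
    module

theorem LM_apply (p p'' : Fin m ⊕ Fin m → F) (M : Matrix (Fin 2) (Fin 2) F)
    (v : Fin m ⊕ Fin m → F) :
    LM p p'' M v = v + (sympForm m F v p'' * (M 0 0 - 1) + sympForm m F p v * M 0 1) • p +
      (sympForm m F v p'' * M 1 0 + sympForm m F p v * (M 1 1 - 1)) • p'' := rfl

theorem x_LM (p p'' : Fin m ⊕ Fin m → F) (h1 : sympForm m F p p'' = 1)
    (M : Matrix (Fin 2) (Fin 2) F) (v : Fin m ⊕ Fin m → F) :
    sympForm m F (LM p p'' M v) p'' = sympForm m F v p'' * M 0 0 + sympForm m F p v * M 0 1 := by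
  rw [LM_apply, sf_add_left, sf_add_left, sf_smul_left, sf_smul_left, sf_self, h1]
  ring

theorem y_LM (p p'' : Fin m ⊕ Fin m → F) (h1 : sympForm m F p p'' = 1)
    (M : Matrix (Fin 2) (Fin 2) F) (v : Fin m ⊕ Fin m → F) :
    sympForm m F p (LM p p'' M v) = sympForm m F v p'' * M 1 0 + sympForm m F p v * M 1 1 := by
  rw [LM_apply, sf_add_right, sf_add_right, sf_smul_right, sf_smul_right, sf_self, h1]
  ring

theorem LM_one (p p'' : Fin m ⊕ Fin m → F) (v : Fin m ⊕ Fin m → F) :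
    LM p p'' (1 : Matrix (Fin 2) (Fin 2) F) v = v := by
  rw [LM_apply]
  simp

theorem LM_mul (p p'' : Fin m ⊕ Fin m → F) (h1 : sympForm m F p p'' = 1)
    (M N : Matrix (Fin 2) (Fin 2) F) (v : Fin m ⊕ Fin m → F) :
    LM p p'' (M * N) v = LM p p'' M (LM p p'' N v) := by
  rw [LM_apply p p'' M, x_LM p p'' h1, y_LM p p'' h1, LM_apply, LM_apply]
  simp only [Matrix.mul_apply, Fin.sum_univ_two]
  module

theorem LM_preserves (p p'' : Fin m ⊕ Fin m → F) (h1 : sympForm m F p p'' = 1)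
    (M : Matrix (Fin 2) (Fin 2) F) (hdet : M 0 0 * M 1 1 - M 0 1 * M 1 0 = 1)
    (u v : Fin m ⊕ Fin m → F) :
    sympForm m F (LM p p'' M u) (LM p p'' M v) = sympForm m F u v := by
  have h2 : sympForm m F p'' p = -1 := by rw [sf_swap, h1]
  rw [LM_apply, LM_apply]
  simp only [sf_add_left, sf_add_right, sf_smul_left, sf_smul_right, sf_self, h1, h2]
  rw [sf_swap p u, sf_swap v p'']
  linear_combination (sympForm m F u p'' * sympForm m F p v -
    sympForm m F p u * sympForm m F v p'') * hdet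

/-- The homomorphism from `SL₂`. -/
noncomputable def phi2 (p p'' : Fin m ⊕ Fin m → F) (h1 : sympForm m F p p'' = 1) :
    Matrix.SpecialLinearGroup (Fin 2) F →* ↥(Matrix.symplecticGroup (Fin m) F) where
  toFun M := ⟨LinearMap.toMatrix' (LM p p'' M.1),
    Cfsg.Agent.S0270.mem_symplectic_of_preserves _ (by
      intro u v
      rw [LinearMap.toMatrix'_mulVec, LinearMap.toMatrix'_mulVec]
      exact LM_preserves p p'' h1 M.1 (sl2_det M) u v)⟩
  map_one' := by
    apply act_ext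
    intro x
    rw [act_one]
    show LinearMap.toMatrix' (LM p p'' (1 : Matrix.SpecialLinearGroup (Fin 2) F).1) *ᵥ x = x
    rw [LinearMap.toMatrix'_mulVec]
    exact LM_one p p'' x
  map_mul' M N := by
    apply act_ext
    intro x
    rw [act_mul]
    show LinearMap.toMatrix' (LM p p'' (M * N).1) *ᵥ x =
      LinearMap.toMatrix' (LM p p'' M.1) *ᵥ (LinearMap.toMatrix' (LM p p'' N.1) *ᵥ x)
    rw [LinearMap.toMatrix'_mulVec, LinearMap.toMatrix'_mulVec, LinearMap.toMatrix'_mulVec]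
    exact LM_mul p p'' h1 M.1 N.1 x

theorem act_phi2 (p p'' : Fin m ⊕ Fin m → F) (h1 : sympForm m F p p'' = 1)
    (M : Matrix.SpecialLinearGroup (Fin 2) F) (x : Fin m ⊕ Fin m → F) :
    act (phi2 p p'' h1 M) x = LM p p'' M.1 x :=
  LinearMap.toMatrix'_mulVec _ x

theorem phi2_upper (p p'' : Fin m ⊕ Fin m → F) (h1 : sympForm m F p p'' = 1)
    (M : Matrix.SpecialLinearGroup (Fin 2) F) (h10 : M.1 1 0 = 0) (h00 : M.1 0 0 = 1)
    (h11 : M.1 1 1 = 1) : phi2 p p'' h1 M = tv p (-(M.1 0 1)) := by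
  apply act_ext
  intro x
  rw [act_phi2, LM_apply, act_tv, h10, h00, h11, sf_swap x p]
  simp only [sub_self, mul_zero, zero_add, add_zero, zero_smul]
  congr 2
  ring

theorem phi2_lower (p p'' : Fin m ⊕ Fin m → F) (h1 : sympForm m F p p'' = 1)
    (M : Matrix.SpecialLinearGroup (Fin 2) F) (h01 : M.1 0 1 = 0) (h00 : M.1 0 0 = 1)
    (h11 : M.1 1 1 = 1) : phi2 p p'' h1 M = tv p'' (M.1 1 0) := by
  apply act_ext
  intro x
  rw [act_phi2, LM_apply, act_tv, h01, h00, h11]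
  simp only [sub_self, mul_zero, zero_add, add_zero, zero_smul]
  congr 2
  ring

theorem phi2_ker (p p'' : Fin m ⊕ Fin m → F) (h1 : sympForm m F p p'' = 1) :
    (phi2 p p'' h1).ker = ⊥ := by
  rw [eq_bot_iff]
  intro M hM
  rw [MonoidHom.mem_ker] at hM
  rw [Subgroup.mem_bot]
  have hx : ∀ x, LM p p'' M.1 x = x := by
    intro x
    rw [← act_phi2 p p'' h1, hM, act_one]
  have e1 := x_LM p p'' h1 M.1 p
  have e2 := y_LM p p'' h1 M.1 p
  have e3 := x_LM p p'' h1 M.1 p''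
  have e4 := y_LM p p'' h1 M.1 p''
  rw [hx, h1, sf_self, one_mul, zero_mul, add_zero] at e1
  rw [hx, h1, sf_self, one_mul, zero_mul, add_zero] at e2
  rw [hx, h1, sf_self, one_mul, zero_mul, zero_add] at e3
  rw [hx, h1, sf_self, one_mul, zero_mul, zero_add] at e4
  apply sl2_ext
  · rw [← e1]; simp
  · rw [← e3]; simp
  · rw [← e2]; simp
  · rw [← e4]; simp

theorem phi2_map_upper (p p'' : Fin m ⊕ Fin m → F) (h1 : sympForm m F p p'' = 1) :
    (upperUnipotentSL2 F).map (phi2 p p'' h1) = T p := by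
  unfold upperUnipotentSL2
  rw [MonoidHom.map_closure]
  have h : (phi2 p p'' h1) '' {g : Matrix.SpecialLinearGroup (Fin 2) F |
      (g : Matrix (Fin 2) (Fin 2) F) 1 0 = 0 ∧ (g : Matrix (Fin 2) (Fin 2) F) 0 0 = 1 ∧
        (g : Matrix (Fin 2) (Fin 2) F) 1 1 = 1} = (T p : Set _) := by
    ext g
    constructor
    · rintro ⟨M, ⟨h10, h00, h11⟩, rfl⟩
      exact ⟨_, phi2_upper p p'' h1 M h10 h00 h11⟩
    · rintro ⟨c, rfl⟩
      refine ⟨Uu (-c), ⟨by simp [Uu], by simp [Uu], by simp [Uu]⟩, ?_⟩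
      rw [phi2_upper p p'' h1 (Uu (-c)) (by simp [Uu]) (by simp [Uu]) (by simp [Uu])]
      simp [Uu]
  rw [h, Subgroup.closure_eq]

theorem phi2_map_lower (p p'' : Fin m ⊕ Fin m → F) (h1 : sympForm m F p p'' = 1) :
    (lowerUnipotentSL2 F).map (phi2 p p'' h1) = T p'' := by
  unfold lowerUnipotentSL2
  rw [MonoidHom.map_closure]
  have h : (phi2 p p'' h1) '' {g : Matrix.SpecialLinearGroup (Fin 2) F |
      (g : Matrix (Fin 2) (Fin 2) F) 0 1 = 0 ∧ (g : Matrix (Fin 2) (Fin 2) F) 0 0 = 1 ∧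
        (g : Matrix (Fin 2) (Fin 2) F) 1 1 = 1} = (T p'' : Set _) := by
    ext g
    constructor
    · rintro ⟨M, ⟨h01, h00, h11⟩, rfl⟩
      exact ⟨_, phi2_lower p p'' h1 M h01 h00 h11⟩
    · rintro ⟨c, rfl⟩
      refine ⟨Ll c, ⟨by simp [Ll], by simp [Ll], by simp [Ll]⟩, ?_⟩
      rw [phi2_lower p p'' h1 (Ll c) (by simp [Ll]) (by simp [Ll]) (by simp [Ll])]
      simp [Ll]
  rw [h, Subgroup.closure_eq]

theorem isPSL2Pair (p p' : Fin m ⊕ Fin m → F) (h : sympForm m F p p' ≠ 0) :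
    IsPSL2PairOver F (T p) (T p') := by
  obtain ⟨γ, hγ⟩ : ∃ γ, γ = sympForm m F p p' := ⟨_, rfl⟩
  have hγ0 : γ ≠ 0 := by rw [hγ]; exact h
  have h1 : sympForm m F p (γ⁻¹ • p') = 1 := by
    rw [sf_smul_right, ← hγ, inv_mul_cancel₀ hγ0]
  have hT : T (γ⁻¹ • p') = T p' := T_smul _ (inv_ne_zero hγ0) p'
  refine ⟨phi2 p (γ⁻¹ • p') h1, ?_, ?_, ?_, ?_⟩
  · rw [MonoidHom.range_eq_map, ← sl2_generated, Subgroup.map_sup, phi2_map_upper,
      phi2_map_lower, hT]
  · rw [phi2_ker]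
    exact bot_le
  · exact phi2_map_upper p _ h1
  · rw [phi2_map_lower, hT]

theorem isKRootSubgroupSet : IsKRootSubgroupSet F (Sset F m) := by
  refine ⟨isRootSubgroupSet, ?_⟩
  rintro _ ⟨p, hp, rfl⟩ _ ⟨p', hp', rfl⟩ hpair
  exact isPSL2Pair p p' (hyp_of_rankOnePair p p' hp hpair)

end Cfsg.Agent.Lib.Helper27.SpRoot
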