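import Mathlib
import Cfsg.Agent.Lib.Helper27.SLTransv2
import Cfsg.Agent.Lib.Helper27.SpRoot3
import Cfsg.Agent.Lib.Helper24.Transv2

set_option autoImplicit false

/-!
The transvection subgroups `T a φ` of `SL_N(k)` form a non-degenerate class of `k`-root subgroups.
-/

namespace Cfsg.Agent.Lib.Helper27.SLTransv

open Matrix Cfsg
open scoped Classical

variable {k : Type*} [Field k] {N : ℕ}

theorem T_smul_right {a φ : Fin N → k} (h : φ ⬝ᵥ a = 0) {m : k} (hm : m ≠ 0) :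
    T a (m • φ) = T a φ := by
  have := T_smul h (one_ne_zero (α := k)) hm
  rwa [one_smul] at this

theorem T_smul_left {a φ : Fin N → k} (h : φ ⬝ᵥ a = 0) {l : k} (hl : l ≠ 0) :
    T (l • a) φ = T a φ := by
  have := T_smul h hl (one_ne_zero (α := k))
  rwa [one_smul] at this

/-- Two incident pairs with the same transvection define the same transvection subgroup. -/
theorem T_eq_of_tvl_eq {a φ b ψ : Fin N → k} (hi : Inc a φ) (hi' : Inc b ψ)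
    (heq : tvl b ψ 1 = tvl a φ 1) : T b ψ = T a φ := by
  obtain ⟨l, hl⟩ := centre_of_tvl_eq hi.2.2 hi'.2.2 hi'.2.1 one_ne_zero heq
  have hl0 : l ≠ 0 := by
    rintro rfl
    rw [zero_smul] at hl
    exact hi'.1 hl
  have hφ : φ = l • ψ := by
    funext j
    have h3 : sact (tvl b ψ 1) (Pi.single j 1) = sact (tvl a φ 1) (Pi.single j 1) := by rw [heq]
    rw [sact_tvl hi.2.2, sact_tvl hi'.2.2, dotProduct_single_one, dotProduct_single_one, one_mul,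
      one_mul, hl, smul_smul] at h3
    have h4 : (ψ j * l) • a = φ j • a := add_left_cancel h3
    have h5 : (ψ j * l - φ j) • a = 0 := by rw [sub_smul, h4, sub_self]
    rcases smul_eq_zero.mp h5 with h6 | h6
    · rw [Pi.smul_apply, smul_eq_mul]
      linear_combination (-1 : k) * h6
    · exact (hi.1 h6).elim
  have hψa : ψ ⬝ᵥ a = 0 := by
    have := hi.2.2
    rw [hφ, smul_dotProduct, smul_eq_mul] at this
    rcases mul_eq_zero.mp this with h | h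
    · exact (hl0 h).elim
    · exact h
  rw [hl, hφ, T_smul_left hψa hl0, T_smul_right hψa hl0]

/-! ### Standard basis vectors -/

/-- Standard basis vector. -/
def ev (i : Fin N) : Fin N → k := Pi.single i 1

theorem ev_dot (i j : Fin N) : (ev i : Fin N → k) ⬝ᵥ ev j = if i = j then 1 else 0 := by
  unfold ev
  rw [single_one_dotProduct, Pi.single_apply]

theorem ev_ne_zero (i : Fin N) : (ev i : Fin N → k) ≠ 0 := by
  intro h
  have := congrFun h i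
  simp [ev] at this

theorem inc_ev {i j : Fin N} (hij : i ≠ j) : Inc (ev i : Fin N → k) (ev j) :=
  ⟨ev_ne_zero i, ev_ne_zero j, by rw [ev_dot, if_neg hij.symm]⟩

theorem tvl_ev_coe {i j : Fin N} (hij : i ≠ j) (c : k) :
    (tvl (ev i) (ev j) c : Matrix (Fin N) (Fin N) k) = Matrix.transvection i j c := by
  rw [tvl_coe (inc_ev hij).2.2, Matrix.transvection]
  congr 1
  unfold ev
  ext p q
  simp only [Matrix.vecMulVec_apply, Pi.smul_apply, Pi.single_apply, Matrix.single_apply,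
    smul_eq_mul]
  by_cases hp : i = p <;> by_cases hq : j = q <;> simp [hp, hq, eq_comm]

theorem fin_zero_ne_one (n : ℕ) : (0 : Fin (n + 3)) ≠ 1 := by
  intro h; exact absurd (congrArg Fin.val h) (by simp)

theorem fin_two_val (n : ℕ) : ((2 : Fin (n + 3)) : ℕ) = 2 := by
  rw [Fin.coe_ofNat_eq_mod]; exact Nat.mod_eq_of_lt (by omega)

theorem fin_zero_ne_two (n : ℕ) : (0 : Fin (n + 3)) ≠ 2 := by
  intro h; have h' := congrArg Fin.val h; rw [fin_two_val] at h'; simp at h'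

theorem fin_one_ne_two (n : ℕ) : (1 : Fin (n + 3)) ≠ 2 := by
  intro h; have h' := congrArg Fin.val h; rw [fin_two_val] at h'; simp at h'

/-! ### The set of the statement -/

theorem closure_std (n : ℕ) :
    Subgroup.closure {t : Matrix.SpecialLinearGroup (Fin (n + 3)) k |
      ∃ c : k, (t : Matrix (Fin (n + 3)) (Fin (n + 3)) k) = Matrix.transvection 0 1 c} =
    T (ev 0) (ev 1) := by
  have h01 := fin_zero_ne_one n
  have : {t : Matrix.SpecialLinearGroup (Fin (n + 3)) k |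
      ∃ c : k, (t : Matrix (Fin (n + 3)) (Fin (n + 3)) k) = Matrix.transvection 0 1 c} =
      ((T (ev 0) (ev 1) : Subgroup (Matrix.SpecialLinearGroup (Fin (n + 3)) k)) : Set _) := by
    ext t
    constructor
    · rintro ⟨c, hc⟩
      exact ⟨c, Subtype.ext (by rw [hc, tvl_ev_coe h01])⟩
    · rintro ⟨c, rfl⟩
      exact ⟨c, tvl_ev_coe h01 c⟩
  rw [this, Subgroup.closure_eq]

theorem stdSet_eq (n : ℕ) :
    {A : Subgroup (Matrix.SpecialLinearGroup (Fin (n + 3)) k) |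
        ∃ g : Matrix.SpecialLinearGroup (Fin (n + 3)) k,
          A = Cfsg.conjBy (Subgroup.closure {t : Matrix.SpecialLinearGroup (Fin (n + 3)) k |
            ∃ c : k, (t : Matrix (Fin (n + 3)) (Fin (n + 3)) k) = Matrix.transvection 0 1 c}) g} =
    Sset k (n + 3) := by
  have h01 := fin_zero_ne_one n
  ext A
  constructor
  · rintro ⟨g, rfl⟩
    rw [closure_std, conj_T g (inc_ev h01).2.2]
    exact ⟨_, _, inc_conj g (inc_ev h01), rfl⟩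
  · rintro ⟨a, φ, hi, rfl⟩
    have ht1 : Cfsg.Agent.Lib.Helper24.Transv2.IsTv (tvl a φ (1 : k)) :=
      ⟨a, φ, hi.1, hi.2.1, hi.2.2, by rw [tvl_coe hi.2.2, one_smul]⟩
    have ht0 : Cfsg.Agent.Lib.Helper24.Transv2.IsTv
        (tvl (ev 0) (ev 1) (1 : k) : Matrix.SpecialLinearGroup (Fin (n + 3)) k) :=
      ⟨ev 0, ev 1, ev_ne_zero 0, ev_ne_zero 1, (inc_ev h01).2.2, by
        rw [tvl_coe (inc_ev h01).2.2, one_smul]⟩
    have hc := Cfsg.Agent.Lib.Helper24.Transv2.IsTv.isConj ht0 ht1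
    rw [isConj_iff] at hc
    obtain ⟨g, hg⟩ := hc
    refine ⟨g, ?_⟩
    rw [closure_std, conj_T g (inc_ev h01).2.2]
    rw [conj_tvl g (inc_ev h01).2.2] at hg
    exact T_eq_of_tvl_eq (inc_conj g (inc_ev h01)) hi hg.symm

/-! ### Root subgroup set -/

theorem isRootSubgroupSet (hN : 2 ≤ N) : IsRootSubgroupSet (Sset k N) where
  commutative := by
    rintro _ ⟨a, φ, -, rfl⟩
    exact T_comm a φ
  ne_bot := by
    rintro _ ⟨a, φ, hi, rfl⟩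
    exact T_ne_bot hi
  generates := by
    have : Nontrivial (Fin N) := Fin.nontrivial_iff_two_le.mpr hN
    apply Cfsg.Agent.Lib.Helper24.SLGen.eq_top_of_transvections
    intro i j hij c
    have h1 : Matrix.SpecialLinearGroup.transvection hij c = tvl (ev i) (ev j) c :=
      Subtype.ext (by rw [tvl_ev_coe hij]; rfl)
    rw [h1]
    have hle : T (ev i) (ev j) ≤ ⨆ A ∈ Sset k N, A :=
      le_iSup₂ (f := fun A _ => A) (T (ev i) (ev j)) ⟨_, _, inc_ev hij, rfl⟩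
    exact hle (tvl_mem_T _ _ _)
  conj_mem := by
    rintro _ ⟨a, φ, hi, rfl⟩ g
    rw [conj_T g hi.2.2]
    exact ⟨_, _, inc_conj g hi, rfl⟩
  pair := by
    rintro _ ⟨a, φ, hi, rfl⟩ _ ⟨b, ψ, hi', rfl⟩
    by_cases hα : φ ⬝ᵥ b = 0
    · by_cases hβ : ψ ⬝ᵥ a = 0
      · exact Or.inl (T_commute hi.2.2 hi'.2.2 hα hβ)
      · exact Or.inr (Or.inr (rootCommutatorCase_right hi hi' hα hβ))
    · by_cases hβ : ψ ⬝ᵥ a = 0
      · exact Or.inr (Or.inr (rootCommutatorCase_left hi hi' hα hβ))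
      · exact Or.inr (Or.inl (rankOnePair hi hi' hα hβ))

theorem isConjClass_orbit {G : Type*} [Group G] (T0 : Subgroup G) :
    IsConjClassOfSubgroups {A : Subgroup G | ∃ g : G, A = conjBy T0 g} := by
  refine ⟨⟨conjBy T0 1, 1, rfl⟩, ?_⟩
  rintro _ ⟨g1, rfl⟩ _ ⟨g2, rfl⟩
  refine ⟨g2 * g1⁻¹, ?_⟩
  show _ = Subgroup.map _ (Subgroup.map _ T0)
  rw [Subgroup.map_map]
  ext x
  simp [mul_assoc]

theorem isConjClass (n : ℕ) : IsConjClassOfSubgroups (Sset k (n + 3)) := by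
  rw [← stdSet_eq]
  exact isConjClass_orbit _

/-! ### Non-degeneracy -/

theorem isNondegenerate (n : ℕ) : IsNondegenerateRootSet (Sset k (n + 3)) := by
  have h01 := fin_zero_ne_one n
  have h02 := fin_zero_ne_two n
  have h12 := fin_one_ne_two n
  refine ⟨⟨T (ev 0) (ev 1), ⟨_, _, inc_ev h01, rfl⟩, T (ev 2) (ev 1),
    ⟨_, _, inc_ev h12.symm, rfl⟩, ?_, ?_⟩,
    ⟨T (ev 0) (ev 1), ⟨_, _, inc_ev h01, rfl⟩, T (ev 1) (ev 0),
      ⟨_, _, inc_ev h01.symm, rfl⟩, ?_⟩,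
    ⟨T (ev 0) (ev 1), ⟨_, _, inc_ev h01, rfl⟩, T (ev 1) (ev 2), ⟨_, _, inc_ev h12, rfl⟩, ?_⟩⟩
  · intro heq
    obtain ⟨l, hl⟩ := centre_of_T_eq (k := k) (inc_ev h01).2.2 (inc_ev h12.symm).2.2
      (ev_ne_zero 1) heq.symm
    have := congrFun hl 2
    simp [ev, h02.symm] at this
  · exact T_commute (inc_ev h01).2.2 (inc_ev h12.symm).2.2 (by rw [ev_dot, if_neg h12])
      (by rw [ev_dot, if_neg h01.symm])
  · exact rankOnePair (inc_ev h01) (inc_ev h01.symm)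
      (by rw [ev_dot, if_pos rfl]; exact one_ne_zero) (by rw [ev_dot, if_pos rfl]; exact one_ne_zero)
  · exact rootCommutatorCase_left (inc_ev h01) (inc_ev h12)
      (by rw [ev_dot, if_pos rfl]; exact one_ne_zero) (by rw [ev_dot, if_neg h02.symm])

/-! ### Connectedness -/

theorem exists_vector₂ {φ ψ : Fin N → k} (hφ : φ ≠ 0) (hψ : ψ ≠ 0) :
    ∃ c : Fin N → k, φ ⬝ᵥ c ≠ 0 ∧ ψ ⬝ᵥ c ≠ 0 := by
  obtain ⟨i, hi⟩ : ∃ i, φ i ≠ 0 := by
    by_contra hne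
    apply hφ
    funext i
    by_contra hi
    exact hne ⟨i, hi⟩
  obtain ⟨j, hj⟩ : ∃ j, ψ j ≠ 0 := by
    by_contra hne
    apply hψ
    funext j
    by_contra hj
    exact hne ⟨j, hj⟩
  by_cases h1 : ψ i ≠ 0
  · exact ⟨Pi.single i 1, by rw [dotProduct_single_one]; exact hi,
      by rw [dotProduct_single_one]; exact h1⟩
  by_cases h2 : φ j ≠ 0
  · exact ⟨Pi.single j 1, by rw [dotProduct_single_one]; exact h2,
      by rw [dotProduct_single_one]; exact hj⟩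
  rw [not_not] at h1 h2
  refine ⟨Pi.single i 1 + Pi.single j 1, ?_, ?_⟩
  · rw [dotProduct_add, dotProduct_single_one, dotProduct_single_one, h2, add_zero]
    exact hi
  · rw [dotProduct_add, dotProduct_single_one, dotProduct_single_one, h1, zero_add]
    exact hj

theorem not_mem_span_of_dot {a φ c : Fin N → k} (hi : Inc a φ) (hφc : φ ⬝ᵥ c ≠ 0) :
    a ∉ Submodule.span k {c} := by
  intro h
  obtain ⟨l, hl⟩ := Submodule.mem_span_singleton.mp h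
  have h0 := hi.2.2
  rw [← hl, dotProduct_smul, smul_eq_mul] at h0
  rcases mul_eq_zero.mp h0 with h1 | h1
  · apply hi.1
    rw [← hl, h1, zero_smul]
  · exact hφc h1

theorem isConnected : IsConnectedFamily (FAdj (Sset k N)) (Sset k N) := by
  rintro _ ⟨a, φ, hi, rfl⟩ _ ⟨b, ψ, hi', rfl⟩
  obtain ⟨c, hφc, hψc⟩ := exists_vector₂ hi.2.1 hi'.2.1
  have hc0 : c ≠ 0 := by
    rintro rfl
    exact hφc (dotProduct_zero φ)
  have haW : a ∉ Submodule.span k {c} := not_mem_span_of_dot hi hφc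
  have hbW : b ∉ Submodule.span k {c} := not_mem_span_of_dot hi' hψc
  obtain ⟨χ, hχW, hχa, hχb⟩ :=
    Cfsg.Agent.Lib.Helper27.GLStab.exists_functional₂ (Submodule.span k {c}) a b haW hbW
  have hχc : χ ⬝ᵥ c = 0 := hχW c (Submodule.mem_span_singleton_self c)
  have hχ0 : χ ≠ 0 := by
    rintro rfl
    exact hχa (zero_dotProduct a)
  have hic : Inc c χ := ⟨hc0, hχ0, hχc⟩
  have m1 : T a φ ∈ Sset k N := ⟨a, φ, hi, rfl⟩
  have m2 : T c χ ∈ Sset k N := ⟨c, χ, hic, rfl⟩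
  have m3 : T b ψ ∈ Sset k N := ⟨b, ψ, hi', rfl⟩
  exact Relation.ReflTransGen.head ⟨m1, m2, rankOnePair hi hic hφc hχa⟩
    (Relation.ReflTransGen.single ⟨m2, m3, rankOnePair hic hi' hχb hψc⟩)

/-! ### Rank one pairs are hyperbolic -/

theorem alpha_zero_of_beta_zero {a φ b ψ : Fin N → k} (hi : Inc a φ) (hi' : Inc b ψ)
    (hc : RankOneCondition (T a φ) (T b ψ)) (hβ : ψ ⬝ᵥ a = 0) : φ ⬝ᵥ b = 0 := by
  obtain ⟨y, ⟨d, rfl⟩, hy1, heq⟩ := hc (tvl a φ 1) (tvl_mem_T a φ 1)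
    (tvl_ne_one hi.2.2 hi.1 hi.2.1 one_ne_zero)
  rw [conj_T _ hi.2.2, conj_T _ hi'.2.2, inv_inv, inv_inv, sact_tvl_inv hi'.2.2,
    sact_tvl_inv hi.2.2, ract_tvl hi'.2.2, ract_tvl hi.2.2, hβ] at heq
  simp only [mul_zero, zero_smul, sub_zero, add_zero, one_mul] at heq
  have hinc1 : (φ + (d * (φ ⬝ᵥ b)) • ψ) ⬝ᵥ a = 0 := by
    rw [add_dotProduct, smul_dotProduct, hi.2.2, hβ, smul_zero, add_zero]
  have hinc2 : ψ ⬝ᵥ (b - (φ ⬝ᵥ b) • a) = 0 := by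
    rw [dotProduct_sub, dotProduct_smul, hi'.2.2, hβ, smul_zero, sub_zero]
  obtain ⟨l, hl⟩ := centre_of_T_eq hinc1 hinc2 hi'.2.1 heq.symm
  have h2 : b = (l + φ ⬝ᵥ b) • a := by
    rw [add_smul, ← hl]
    abel
  rw [h2, dotProduct_smul, hi.2.2, smul_zero]

theorem not_both_zero {a φ b ψ : Fin N → k} (hi : Inc a φ) (hi' : Inc b ψ)
    (hne : T a φ ≠ T b ψ) (hc : RankOneCondition (T a φ) (T b ψ)) (hα : φ ⬝ᵥ b = 0)
    (hβ : ψ ⬝ᵥ a = 0) : False := by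
  obtain ⟨y, ⟨d, rfl⟩, hy1, heq⟩ := hc (tvl a φ 1) (tvl_mem_T a φ 1)
    (tvl_ne_one hi.2.2 hi.1 hi.2.1 one_ne_zero)
  rw [conj_T _ hi.2.2, conj_T _ hi'.2.2, inv_inv, inv_inv, sact_tvl_inv hi'.2.2,
    sact_tvl_inv hi.2.2, ract_tvl hi'.2.2, ract_tvl hi.2.2, hα, hβ] at heq
  simp only [mul_zero, zero_smul, sub_zero, add_zero] at heq
  exact hne heq

theorem hyp_of_rankOnePair {a φ b ψ : Fin N → k} (hi : Inc a φ) (hi' : Inc b ψ)
    (hp : IsRankOnePair (T a φ) (T b ψ)) : φ ⬝ᵥ b ≠ 0 ∧ ψ ⬝ᵥ a ≠ 0 := by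
  by_cases hβ : ψ ⬝ᵥ a = 0
  · exact (not_both_zero hi hi' hp.ne hp.cond_left
      (alpha_zero_of_beta_zero hi hi' hp.cond_left hβ) hβ).elim
  · by_cases hα : φ ⬝ᵥ b = 0
    · exact (hβ (alpha_zero_of_beta_zero hi' hi hp.cond_right hα)).elim
    · exact ⟨hα, hβ⟩

/-! ### The `SL₂` generated by a hyperbolic pair -/

/-- The `N × 2` matrix with columns `a`, `b`. -/
def Pm (a b : Fin N → k) : Matrix (Fin N) (Fin 2) k :=
  Matrix.of fun i j => if j = 0 then a i else b i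

/-- The `2 × N` matrix with rows `ψ`, `φ`. -/
def Qm (ψ φ : Fin N → k) : Matrix (Fin 2) (Fin N) k :=
  Matrix.of fun i j => if i = 0 then ψ j else φ j

theorem PXQ_apply (a b ψ φ : Fin N → k) (X : Matrix (Fin 2) (Fin 2) k) (i j : Fin N) :
    (Pm a b * X * Qm ψ φ) i j =
      (a i * X 0 0 + b i * X 1 0) * ψ j + (a i * X 0 1 + b i * X 1 1) * φ j := by
  simp [Matrix.mul_apply, Fin.sum_univ_two, Pm, Qm]

theorem Qm_mul_Pm {a φ b ψ : Fin N → k} (h1 : φ ⬝ᵥ a = 0) (h2 : ψ ⬝ᵥ b = 0)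
    (h3 : φ ⬝ᵥ b = 1) (h4 : ψ ⬝ᵥ a = 1) : Qm ψ φ * Pm a b = 1 := by
  ext i j
  fin_cases i <;> fin_cases j
  · show (Qm ψ φ * Pm a b) 0 0 = (1 : Matrix (Fin 2) (Fin 2) k) 0 0
    rw [Matrix.mul_apply, Matrix.one_apply_eq]
    simpa [Qm, Pm, dotProduct] using h4
  · show (Qm ψ φ * Pm a b) 0 1 = (1 : Matrix (Fin 2) (Fin 2) k) 0 1
    rw [Matrix.mul_apply, Matrix.one_apply_ne (by decide)]
    simpa [Qm, Pm, dotProduct] using h2
  · show (Qm ψ φ * Pm a b) 1 0 = (1 : Matrix (Fin 2) (Fin 2) k) 1 0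
    rw [Matrix.mul_apply, Matrix.one_apply_ne (by decide)]
    simpa [Qm, Pm, dotProduct] using h1
  · show (Qm ψ φ * Pm a b) 1 1 = (1 : Matrix (Fin 2) (Fin 2) k) 1 1
    rw [Matrix.mul_apply, Matrix.one_apply_eq]
    simpa [Qm, Pm, dotProduct] using h3

theorem one_add_mul_one_add' (A B : Matrix (Fin N) (Fin N) k) :
    (1 + A) * (1 + B) = 1 + A + B + A * B := by
  noncomm_ring

/-- The homomorphism from `SL₂`. -/
noncomputable def rho2 {a φ b ψ : Fin N → k} (h1 : φ ⬝ᵥ a = 0) (h2 : ψ ⬝ᵥ b = 0)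
    (h3 : φ ⬝ᵥ b = 1) (h4 : ψ ⬝ᵥ a = 1) :
    Matrix.SpecialLinearGroup (Fin 2) k →* Matrix.SpecialLinearGroup (Fin N) k where
  toFun M := ⟨1 + Pm a b * (M.1 - 1) * Qm ψ φ, by
    rw [Matrix.mul_assoc, Matrix.det_one_add_mul_comm, Matrix.mul_assoc, Qm_mul_Pm h1 h2 h3 h4,
      Matrix.mul_one, add_sub_cancel]
    exact M.2⟩
  map_one' := by
    apply Subtype.ext
    show 1 + Pm a b * ((1 : Matrix.SpecialLinearGroup (Fin 2) k).1 - 1) * Qm ψ φ = 1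
    rw [Matrix.SpecialLinearGroup.coe_one, sub_self, Matrix.mul_zero, Matrix.zero_mul, add_zero]
  map_mul' M M' := by
    apply Subtype.ext
    show 1 + Pm a b * ((M * M').1 - 1) * Qm ψ φ =
      (1 + Pm a b * (M.1 - 1) * Qm ψ φ) * (1 + Pm a b * (M'.1 - 1) * Qm ψ φ)
    have hQP := Qm_mul_Pm h1 h2 h3 h4
    have e : (M * M').1 - 1 = (M.1 - 1) * (M'.1 - 1) + (M.1 - 1) + (M'.1 - 1) := by
      rw [Matrix.SpecialLinearGroup.coe_mul]
      noncomm_ring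
    have key : Pm a b * (M.1 - 1) * Qm ψ φ * (Pm a b * (M'.1 - 1) * Qm ψ φ) =
        Pm a b * ((M.1 - 1) * (M'.1 - 1)) * Qm ψ φ := by
      calc Pm a b * (M.1 - 1) * Qm ψ φ * (Pm a b * (M'.1 - 1) * Qm ψ φ)
          = Pm a b * (M.1 - 1) * (Qm ψ φ * Pm a b) * (M'.1 - 1) * Qm ψ φ := by
            simp only [Matrix.mul_assoc]
        _ = Pm a b * ((M.1 - 1) * (M'.1 - 1)) * Qm ψ φ := by
            rw [hQP, Matrix.mul_one]
            simp only [Matrix.mul_assoc]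
    rw [one_add_mul_one_add', key, e, Matrix.mul_add, Matrix.mul_add, Matrix.add_mul,
      Matrix.add_mul]
    abel

theorem rho2_coe {a φ b ψ : Fin N → k} (h1 : φ ⬝ᵥ a = 0) (h2 : ψ ⬝ᵥ b = 0)
    (h3 : φ ⬝ᵥ b = 1) (h4 : ψ ⬝ᵥ a = 1) (M : Matrix.SpecialLinearGroup (Fin 2) k) :
    (rho2 h1 h2 h3 h4 M : Matrix (Fin N) (Fin N) k) = 1 + Pm a b * (M.1 - 1) * Qm ψ φ := rfl

theorem rho2_upper {a φ b ψ : Fin N → k} (h1 : φ ⬝ᵥ a = 0) (h2 : ψ ⬝ᵥ b = 0)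
    (h3 : φ ⬝ᵥ b = 1) (h4 : ψ ⬝ᵥ a = 1) (M : Matrix.SpecialLinearGroup (Fin 2) k)
    (h10 : M.1 1 0 = 0) (h00 : M.1 0 0 = 1) (h11 : M.1 1 1 = 1) :
    rho2 h1 h2 h3 h4 M = tvl a φ (M.1 0 1) := by
  apply Subtype.ext
  rw [tvl_coe h1, rho2_coe]
  congr 1
  ext i j
  rw [PXQ_apply, Matrix.vecMulVec_apply]
  have e10 : (1 : Matrix (Fin 2) (Fin 2) k) 1 0 = 0 := Matrix.one_apply_ne (by decide)
  have e01 : (1 : Matrix (Fin 2) (Fin 2) k) 0 1 = 0 := Matrix.one_apply_ne (by decide)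
  simp only [Matrix.sub_apply, h10, h00, h11, Matrix.one_apply_eq, e10, e01, Pi.smul_apply,
    smul_eq_mul]
  ring

theorem rho2_lower {a φ b ψ : Fin N → k} (h1 : φ ⬝ᵥ a = 0) (h2 : ψ ⬝ᵥ b = 0)
    (h3 : φ ⬝ᵥ b = 1) (h4 : ψ ⬝ᵥ a = 1) (M : Matrix.SpecialLinearGroup (Fin 2) k)
    (h01 : M.1 0 1 = 0) (h00 : M.1 0 0 = 1) (h11 : M.1 1 1 = 1) :
    rho2 h1 h2 h3 h4 M = tvl b ψ (M.1 1 0) := by
  apply Subtype.ext
  rw [tvl_coe h2, rho2_coe]
  congr 1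
  ext i j
  rw [PXQ_apply, Matrix.vecMulVec_apply]
  have e10 : (1 : Matrix (Fin 2) (Fin 2) k) 1 0 = 0 := Matrix.one_apply_ne (by decide)
  have e01 : (1 : Matrix (Fin 2) (Fin 2) k) 0 1 = 0 := Matrix.one_apply_ne (by decide)
  simp only [Matrix.sub_apply, h01, h00, h11, Matrix.one_apply_eq, e10, e01, Pi.smul_apply,
    smul_eq_mul]
  ring

theorem rho2_ker {a φ b ψ : Fin N → k} (h1 : φ ⬝ᵥ a = 0) (h2 : ψ ⬝ᵥ b = 0)
    (h3 : φ ⬝ᵥ b = 1) (h4 : ψ ⬝ᵥ a = 1) : (rho2 h1 h2 h3 h4).ker = ⊥ := by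
  rw [eq_bot_iff]
  intro M hM
  rw [MonoidHom.mem_ker] at hM
  rw [Subgroup.mem_bot]
  have h5 : (1 : Matrix (Fin N) (Fin N) k) + Pm a b * (M.1 - 1) * Qm ψ φ = 1 := by
    rw [← rho2_coe h1 h2 h3 h4, hM, Matrix.SpecialLinearGroup.coe_one]
  have h6 : Pm a b * (M.1 - 1) * Qm ψ φ = 0 := by rwa [add_eq_left] at h5
  have hQP := Qm_mul_Pm h1 h2 h3 h4
  have h7 : M.1 - 1 = 0 := by
    calc M.1 - 1 = (Qm ψ φ * Pm a b) * (M.1 - 1) * (Qm ψ φ * Pm a b) := by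
          rw [hQP, Matrix.one_mul, Matrix.mul_one]
      _ = Qm ψ φ * (Pm a b * (M.1 - 1) * Qm ψ φ) * Pm a b := by simp only [Matrix.mul_assoc]
      _ = 0 := by rw [h6, Matrix.mul_zero, Matrix.zero_mul]
  apply Subtype.ext
  rw [Matrix.SpecialLinearGroup.coe_one]
  exact sub_eq_zero.mp h7

open Cfsg.Agent.Lib.Helper27.SpRoot in
theorem rho2_map_upper {a φ b ψ : Fin N → k} (h1 : φ ⬝ᵥ a = 0) (h2 : ψ ⬝ᵥ b = 0)
    (h3 : φ ⬝ᵥ b = 1) (h4 : ψ ⬝ᵥ a = 1) :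
    (upperUnipotentSL2 k).map (rho2 h1 h2 h3 h4) = T a φ := by
  unfold upperUnipotentSL2
  rw [MonoidHom.map_closure]
  have h : (rho2 h1 h2 h3 h4) '' {g : Matrix.SpecialLinearGroup (Fin 2) k |
      (g : Matrix (Fin 2) (Fin 2) k) 1 0 = 0 ∧ (g : Matrix (Fin 2) (Fin 2) k) 0 0 = 1 ∧
        (g : Matrix (Fin 2) (Fin 2) k) 1 1 = 1} = (T a φ : Set _) := by
    ext g
    constructor
    · rintro ⟨M, ⟨h10, h00, h11⟩, rfl⟩
      exact ⟨_, rho2_upper h1 h2 h3 h4 M h10 h00 h11⟩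
    · rintro ⟨c, rfl⟩
      refine ⟨Uu c, ⟨by simp [Uu], by simp [Uu], by simp [Uu]⟩, ?_⟩
      rw [rho2_upper h1 h2 h3 h4 (Uu c) (by simp [Uu]) (by simp [Uu]) (by simp [Uu])]
      simp [Uu]
  rw [h, Subgroup.closure_eq]

open Cfsg.Agent.Lib.Helper27.SpRoot in
theorem rho2_map_lower {a φ b ψ : Fin N → k} (h1 : φ ⬝ᵥ a = 0) (h2 : ψ ⬝ᵥ b = 0)
    (h3 : φ ⬝ᵥ b = 1) (h4 : ψ ⬝ᵥ a = 1) :
    (lowerUnipotentSL2 k).map (rho2 h1 h2 h3 h4) = T b ψ := by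
  unfold lowerUnipotentSL2
  rw [MonoidHom.map_closure]
  have h : (rho2 h1 h2 h3 h4) '' {g : Matrix.SpecialLinearGroup (Fin 2) k |
      (g : Matrix (Fin 2) (Fin 2) k) 0 1 = 0 ∧ (g : Matrix (Fin 2) (Fin 2) k) 0 0 = 1 ∧
        (g : Matrix (Fin 2) (Fin 2) k) 1 1 = 1} = (T b ψ : Set _) := by
    ext g
    constructor
    · rintro ⟨M, ⟨h01, h00, h11⟩, rfl⟩
      exact ⟨_, rho2_lower h1 h2 h3 h4 M h01 h00 h11⟩
    · rintro ⟨c, rfl⟩
      refine ⟨Ll c, ⟨by simp [Ll], by simp [Ll], by simp [Ll]⟩, ?_⟩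
      rw [rho2_lower h1 h2 h3 h4 (Ll c) (by simp [Ll]) (by simp [Ll]) (by simp [Ll])]
      simp [Ll]
  rw [h, Subgroup.closure_eq]

theorem isPSL2Pair {a φ b ψ : Fin N → k} (hi : Inc a φ) (hi' : Inc b ψ) (hα : φ ⬝ᵥ b ≠ 0)
    (hβ : ψ ⬝ᵥ a ≠ 0) : IsPSL2PairOver k (T a φ) (T b ψ) := by
  obtain ⟨α, hα'⟩ : ∃ α, α = φ ⬝ᵥ b := ⟨_, rfl⟩
  obtain ⟨β, hβ'⟩ : ∃ β, β = ψ ⬝ᵥ a := ⟨_, rfl⟩
  rw [← hα'] at hα
  rw [← hβ'] at hβ
  have h1 : (α⁻¹ • φ) ⬝ᵥ a = 0 := by rw [smul_dotProduct, hi.2.2, smul_zero]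
  have h2 : (β⁻¹ • ψ) ⬝ᵥ b = 0 := by rw [smul_dotProduct, hi'.2.2, smul_zero]
  have h3 : (α⁻¹ • φ) ⬝ᵥ b = 1 := by
    rw [smul_dotProduct, ← hα', smul_eq_mul, inv_mul_cancel₀ hα]
  have h4 : (β⁻¹ • ψ) ⬝ᵥ a = 1 := by
    rw [smul_dotProduct, ← hβ', smul_eq_mul, inv_mul_cancel₀ hβ]
  have hTa : T a (α⁻¹ • φ) = T a φ := T_smul_right hi.2.2 (inv_ne_zero hα)
  have hTb : T b (β⁻¹ • ψ) = T b ψ := T_smul_right hi'.2.2 (inv_ne_zero hβ)
  refine ⟨rho2 h1 h2 h3 h4, ?_, ?_, ?_, ?_⟩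
  · rw [MonoidHom.range_eq_map, ← Cfsg.Agent.Lib.Helper27.SpRoot.sl2_generated, Subgroup.map_sup,
      rho2_map_upper, rho2_map_lower, hTa, hTb]
  · rw [rho2_ker]
    exact bot_le
  · rw [rho2_map_upper, hTa]
  · rw [rho2_map_lower, hTb]

theorem isKRootSubgroupSet (hN : 2 ≤ N) : IsKRootSubgroupSet k (Sset k N) := by
  refine ⟨isRootSubgroupSet hN, ?_⟩
  rintro _ ⟨a, φ, hi, rfl⟩ _ ⟨b, ψ, hi', rfl⟩ hpair
  obtain ⟨hα, hβ⟩ := hyp_of_rankOnePair hi hi' hpair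
  exact isPSL2Pair hi hi' hα hβ

end Cfsg.Agent.Lib.Helper27.SLTransv
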