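import Mathlib
import Cfsg.Agent.Lib.Helper27.UCenter
import Cfsg.Agent.Lib.Helper27.UGen2

set_option autoImplicit false

/-!
Unitary transvections are commutators in `SU_n` (inside `GL_n`).
-/

namespace Cfsg.Agent.Lib.Helper27.Unitary

open Cfsg Matrix

variable {F : Type*} [Field F] [Fintype F] {q n : ℕ}

/-- The Eichler-type element `x ↦ x + c h(x, a) b + c h(x, b) a` for orthogonal isotropic `a, b`,
as a product of three transvections. -/
noncomputable def ei (q : ℕ) (a b : Fin n → F) (c : F) : GL (Fin n) F :=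
  tv q (a + b) c * tv q a (-c) * tv q b (-c)

theorem ei_gact (hF : Fintype.card F = q ^ 2) {a b : Fin n → F} (ha : hermForm n F q a a = 0)
    (hb : hermForm n F q b b = 0) (hab : hermForm n F q a b = 0) (c : F) (x : Fin n → F) :
    gact (ei q a b c) x = x + (c * hermForm n F q x a) • b + (c * hermForm n F q x b) • a := by
  have hba : hermForm n F q b a = 0 := hf_eq_zero_swap hF hab
  have hab' : hermForm n F q (a + b) (a + b) = 0 := by
    rw [hf_add_self hF, ha, hb, hab, cj_zero hF]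
    ring
  unfold ei
  rw [gact_mul, gact_mul, tv_gact hb, tv_gact ha, tv_gact hab']
  simp only [hf_add_left, hf_add_right hF, hf_smul_left, ha, hb, hab, hba, mul_zero, add_zero,
    zero_add]
  module

theorem ei_mem_SUg (hF : Fintype.card F = q ^ 2) (a b : Fin n → F) {c : F}
    (hc : c + c ^ q = 0) : ei q a b c ∈ GU n F q ⊓ Cfsg.Geo.specialLinear (Fin n) F := by
  have hc' : -c + (-c) ^ q = 0 := by
    rw [cj_neg hF]
    linear_combination -hc
  exact mul_mem (mul_mem (tv_mem_SUg hF _ hc) (tv_mem_SUg hF _ hc')) (tv_mem_SUg hF _ hc')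

theorem conj_ei (hF : Fintype.card F = q ^ 2) {g : GL (Fin n) F} (hg : g ∈ GU n F q)
    {a b : Fin n → F} (ha : hermForm n F q a a = 0) (hb : hermForm n F q b b = 0)
    (hab : hermForm n F q a b = 0) (c : F) :
    g * ei q a b c * g⁻¹ = ei q (gact g a) (gact g b) c := by
  have hab' : hermForm n F q (a + b) (a + b) = 0 := by
    rw [hf_add_self hF, ha, hb, hab, cj_zero hF]
    ring
  unfold ei
  rw [← conj_tv hF hg ha, ← conj_tv hF hg hb, ← gact_add, ← conj_tv hF hg hab']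
  group

/-- A hyperbolic pair orthogonal to a given isotropic vector, in dimension at least four. -/
theorem exists_orth_hyp (hF : Fintype.card F = q ^ 2) (hn : 4 ≤ n) (e₁ : Fin n → F)
    (he₁0 : e₁ ≠ 0) (he₁ : hermForm n F q e₁ e₁ = 0) :
    ∃ e₂ f₂ : Fin n → F, HypPair q e₂ f₂ ∧ hermForm n F q e₁ e₂ = 0 ∧
      hermForm n F q e₁ f₂ = 0 := by
  have : ∃ x, hermForm n F q e₁ x ≠ 0 := by
    by_contra hne
    apply he₁0
    apply hf_nondeg hF
    intro x
    by_contra h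
    exact hne ⟨x, h⟩
  obtain ⟨x, hx⟩ := this
  obtain ⟨α, β, hff, hef⟩ := exists_partner hF e₁ x he₁ hx
  obtain ⟨f₁, hf₁⟩ : ∃ f₁ : Fin n → F, f₁ = α • e₁ + β • x := ⟨_, rfl⟩
  rw [← hf₁] at hff hef
  have hp : HypPair q e₁ f₁ := ⟨he₁, hff, hef⟩
  have hS := unondeg_span_hyp hF hp
  set Y := uperp q (Submodule.span F ({e₁, f₁} : Set (Fin n → F))) with hY
  have hYnd : UNondeg q Y := unondeg_uperp hF hS
  have hYdim : 2 ≤ Module.finrank F Y := by
    have h1 : Module.finrank F ↥(Submodule.span F ({e₁, f₁} : Set (Fin n → F))) +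
        Module.finrank F Y = n :=
      finrank_add_uperp hF (Submodule.span F ({e₁, f₁} : Set (Fin n → F)))
    have h2 := finrank_span_pair_le e₁ f₁
    omega
  have hYe : ∀ y ∈ Y, hermForm n F q e₁ y = 0 := by
    intro y hy
    apply hf_eq_zero_swap hF
    exact hy e₁ (Submodule.subset_span (by simp))
  obtain ⟨u, huY, hu⟩ := exists_unit hF Y hYnd (by omega)
  have hSu : UNondeg q (Submodule.span F {u}) :=
    unondeg_span_singleton (by rw [hu]; exact one_ne_zero)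
  have hSuY : Submodule.span F {u} ≤ Y := by
    rw [Submodule.span_singleton_le_iff_mem]; exact huY
  have hlt : Module.finrank F ↥(Submodule.span F {u}) < Module.finrank F Y := by
    have := finrank_span_single_le u
    omega
  obtain ⟨z, hzY, hzS, hzz⟩ := exists_norm_rel hF hSuY hSu hYnd hlt (-1)
    (by rw [cj_neg hF, one_pow]) (neg_ne_zero.mpr one_ne_zero)
  have hzu : hermForm n F q z u = 0 := hzS u (Submodule.mem_span_singleton_self u)
  have huz : hermForm n F q u z = 0 := hf_eq_zero_swap hF hzu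
  obtain ⟨e₂, he₂⟩ : ∃ e₂ : Fin n → F, e₂ = u + z := ⟨_, rfl⟩
  have he₂e₂ : hermForm n F q e₂ e₂ = 0 := by
    rw [he₂, hf_add_self hF, hu, hzz, huz, cj_zero hF]
    ring
  have he₂u : hermForm n F q e₂ u = 1 := by
    rw [he₂, hf_add_left, hu, hzu, add_zero]
  obtain ⟨α', β', hff', hef'⟩ := exists_partner hF e₂ u he₂e₂ (by rw [he₂u]; exact one_ne_zero)
  obtain ⟨f₂, hf₂⟩ : ∃ f₂ : Fin n → F, f₂ = α' • e₂ + β' • u := ⟨_, rfl⟩
  rw [← hf₂] at hff' hef'
  have he₂Y : e₂ ∈ Y := by rw [he₂]; exact Y.add_mem huY hzY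
  have hf₂Y : f₂ ∈ Y := by rw [hf₂]; exact Y.add_mem (Y.smul_mem _ he₂Y) (Y.smul_mem _ huY)
  exact ⟨e₂, f₂, ⟨he₂e₂, hff', hef'⟩, hYe e₂ he₂Y, hYe f₂ hf₂Y⟩

/-- In dimension at least four every transvection is a commutator. -/
theorem tv_comm_four (hF : Fintype.card F = q ^ 2) (hn : 4 ≤ n) (v : Fin n → F) (hv0 : v ≠ 0)
    (hv : hermForm n F q v v = 0) (c : F) (hc : c + c ^ q = 0) :
    ∃ B C : GL (Fin n) F, B ∈ GU n F q ⊓ Cfsg.Geo.specialLinear (Fin n) F ∧
      C ∈ GU n F q ⊓ Cfsg.Geo.specialLinear (Fin n) F ∧ B * C * B⁻¹ * C⁻¹ = tv q v c := by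
  obtain ⟨e₂, f₂, hp, hve₂, hvf₂⟩ := exists_orth_hyp hF hn v hv0 hv
  obtain ⟨b₀, hb₀⟩ := tr_surj hF (1 : F) (one_pow q)
  obtain ⟨θ, hθ0, hθ⟩ := exists_theta hF
  obtain ⟨μ, hμ⟩ : ∃ μ : F, μ = (b₀ / θ) ^ q := ⟨_, rfl⟩
  have hμq : θ * μ ^ q = b₀ := by
    rw [hμ, cj_cj hF]
    field_simp
  have hf₂' : hermForm n F q (μ • f₂) (μ • f₂) = 0 := by rw [hf_smul_self, hp.ff, mul_zero]
  have hvf₂' : hermForm n F q v (μ • f₂) = 0 := by rw [hf_smul_right, hvf₂, mul_zero]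
  have hB := ei_mem_SUg hF v (μ • f₂) hθ
  have hC := ei_mem_SUg hF v e₂ hc
  refine ⟨ei q v (μ • f₂) θ, ei q v e₂ c, hB, hC, ?_⟩
  have hBv : gact (ei q v (μ • f₂) θ) v = v := by
    rw [ei_gact hF hv hf₂' hvf₂', hv, hvf₂']
    simp
  have hBe₂ : gact (ei q v (μ • f₂) θ) e₂ = e₂ + b₀ • v := by
    rw [ei_gact hF hv hf₂' hvf₂', hf_eq_zero_swap hF hve₂, hf_smul_right, hp.ef, mul_one, hμq]
    simp
  have hconj := conj_ei hF hB.1 hv hp.ee hve₂ c
  rw [hBv, hBe₂] at hconj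
  have he₂' : hermForm n F q (e₂ + b₀ • v) (e₂ + b₀ • v) = 0 := by
    rw [hf_add_self hF, hp.ee, hf_smul_self, hv, hf_smul_right, hf_eq_zero_swap hF hve₂]
    simp [cj_zero hF]
  have hve₂' : hermForm n F q v (e₂ + b₀ • v) = 0 := by
    rw [hf_add_right hF, hve₂, hf_smul_right, hv]
    ring
  have key : ei q v (e₂ + b₀ • v) c = tv q v c * ei q v e₂ c := by
    apply gact_ext
    intro x
    rw [gact_mul, ei_gact hF hv he₂' hve₂', tv_gact hv, ei_gact hF hv hp.ee hve₂]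
    simp only [hf_add_left, hf_add_right hF, hf_smul_left, hf_smul_right, hv, hve₂,
      hf_eq_zero_swap hF hve₂, mul_zero, add_zero, zero_add]
    have h1 : b₀ ^ q = 1 - b₀ := by linear_combination hb₀
    rw [h1]
    module
  rw [hconj, key]
  group

/-- For `q ≥ 3` and `n ≥ 3` every transvection is a commutator. -/
theorem tv_comm_q3 (hF : Fintype.card F = q ^ 2) (hn : 3 ≤ n) (hq : 3 ≤ q) (v : Fin n → F)
    (hv0 : v ≠ 0) (hv : hermForm n F q v v = 0) (c : F) (hc : c + c ^ q = 0) :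
    ∃ B C : GL (Fin n) F, B ∈ GU n F q ⊓ Cfsg.Geo.specialLinear (Fin n) F ∧
      C ∈ GU n F q ⊓ Cfsg.Geo.specialLinear (Fin n) F ∧ B * C * B⁻¹ * C⁻¹ = tv q v c := by
  obtain ⟨l, hl0, hl1⟩ := exists_nm_avoid hF hq (1 : F)
  obtain ⟨ν, hν⟩ : ∃ ν : F, ν = l * l ^ q := ⟨_, rfl⟩
  rw [← hν] at hl0 hl1
  have hνq : ν ^ q = ν := by rw [hν, nm_fixed hF]
  -- a unitary element scaling `v` by `l`
  obtain ⟨g₀, hg₀, hg₀v⟩ := witt_gu_submodule hF (Submodule.span F {v})
    (l • (LinearMap.id : (Fin n → F) →ₗ[F] (Fin n → F)))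
    (by
      intro x hx x' hx'
      obtain ⟨a, rfl⟩ := Submodule.mem_span_singleton.mp hx
      obtain ⟨a', rfl⟩ := Submodule.mem_span_singleton.mp hx'
      simp only [LinearMap.smul_apply, LinearMap.id_apply]
      rw [hf_smul_left, hf_smul_right, hf_smul_left, hf_smul_right, hv]
      ring)
    (by
      intro x _ hx0
      simp only [LinearMap.smul_apply, LinearMap.id_apply] at hx0
      have hl : l ≠ 0 := by
        rintro rfl
        rw [zero_mul] at hν
        exact hl0 hν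
      exact (smul_eq_zero.mp hx0).resolve_left hl)
  have hg₀v' : gact g₀ v = l • v := by
    have := hg₀v v (Submodule.mem_span_singleton_self v)
    simpa using this
  -- an anisotropic vector orthogonal to `v`
  have : ∃ x, hermForm n F q v x ≠ 0 := by
    by_contra hne
    apply hv0
    apply hf_nondeg hF
    intro x
    by_contra h
    exact hne ⟨x, h⟩
  obtain ⟨x, hx⟩ := this
  obtain ⟨α, β, hff, hef⟩ := exists_partner hF v x hv hx
  obtain ⟨f₁, hf₁⟩ : ∃ f₁ : Fin n → F, f₁ = α • v + β • x := ⟨_, rfl⟩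
  rw [← hf₁] at hff hef
  have hp : HypPair q v f₁ := ⟨hv, hff, hef⟩
  have hS := unondeg_span_hyp hF hp
  have hYnd : UNondeg q (uperp q (Submodule.span F ({v, f₁} : Set (Fin n → F)))) :=
    unondeg_uperp hF hS
  have hY0 : uperp q (Submodule.span F ({v, f₁} : Set (Fin n → F))) ≠ ⊥ := by
    intro h
    have h1 := finrank_add_uperp hF (Submodule.span F ({v, f₁} : Set (Fin n → F)))
    have h2 := finrank_span_pair_le v f₁
    rw [h, finrank_bot] at h1
    omega
  obtain ⟨z, hzY, hzz⟩ := exists_aniso hF hYnd hY0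
  have hzv : hermForm n F q z v = 0 := hzY v (Submodule.subset_span (by simp))
  have hvz : hermForm n F q v z = 0 := hf_eq_zero_swap hF hzv
  -- fix the determinant
  obtain ⟨δ, hδ⟩ : ∃ δ : F, δ = (g₀ : Matrix (Fin n) (Fin n) F).det := ⟨_, rfl⟩
  have hδN : δ * δ ^ q = 1 := by rw [hδ]; exact GU_det hF hg₀
  have hδ0 : δ ≠ 0 := by
    rintro rfl
    rw [zero_mul] at hδN
    exact zero_ne_one hδN
  have hδinv : δ⁻¹ * (δ⁻¹) ^ q = 1 := by
    rw [cj_inv, ← mul_inv, hδN, inv_one]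
  obtain ⟨r, hr, hrdet, hrx⟩ := exists_qr hF z hzz δ⁻¹ hδinv
  have hB : r * g₀ ∈ GU n F q ⊓ Cfsg.Geo.specialLinear (Fin n) F := by
    rw [mem_SUg_iff]
    refine ⟨mul_mem hr hg₀, ?_⟩
    rw [Units.val_mul, Matrix.det_mul, hrdet, ← hδ, inv_mul_cancel₀ hδ0]
  have hBv : gact (r * g₀) v = l • v := by
    rw [gact_mul, hg₀v', hrx, hf_smul_left, hvz]
    simp
  have hν1 : ν - 1 ≠ 0 := sub_ne_zero.mpr hl1
  obtain ⟨c', hc'⟩ : ∃ c' : F, c' = c / (ν - 1) := ⟨_, rfl⟩
  have hc'tr : c' + c' ^ q = 0 := by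
    rw [hc', cj_div, cj_sub hF, hνq, one_pow, ← add_div, hc, zero_div]
  have hC := tv_mem_SUg hF v hc'tr
  refine ⟨r * g₀, tv q v c', hB, hC, ?_⟩
  rw [conj_tv hF hB.1 hv, hBv, tv_smul hF hv, tv_inv hF hv, tv_mul hF hv, ← hν]
  congr 1
  rw [hc']
  field_simp
  ring

end Cfsg.Agent.Lib.Helper27.Unitary
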