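import Mathlib
import Cfsg.Agent.Lib.Helper27.UComm

set_option autoImplicit false

/-!
Witt's theorem inside `SU_n` and transitivity of `SU_n` on isotropic vectors and hyperbolic pairs.
-/

namespace Cfsg.Agent.Lib.Helper27.Unitary

open Cfsg Matrix

variable {F : Type*} [Field F] [Fintype F] {q n : ℕ}

theorem exists_hf_ne (hF : Fintype.card F = q ^ 2) (v : Fin n → F) (hv0 : v ≠ 0) :
    ∃ x, hermForm n F q v x ≠ 0 := by
  by_contra hne
  apply hv0
  apply hf_nondeg hF
  intro x
  by_contra h
  exact hne ⟨x, h⟩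

/-- A hyperbolic partner of a non-zero isotropic vector. -/
theorem exists_hyp (hF : Fintype.card F = q ^ 2) (v : Fin n → F) (hv0 : v ≠ 0)
    (hv : hermForm n F q v v = 0) : ∃ w, HypPair q v w := by
  obtain ⟨x, hx⟩ := exists_hf_ne hF v hv0
  obtain ⟨α, β, hff, hef⟩ := exists_partner hF v x hv hx
  exact ⟨α • v + β • x, hv, hff, hef⟩

theorem HypPair.ne_zero_left {e f : Fin n → F} (h : HypPair q e f) : e ≠ 0 := by
  rintro rfl
  have := h.ef
  rw [hf_zero_left] at this
  exact zero_ne_one this

theorem HypPair.ne_zero_right (hF : Fintype.card F = q ^ 2) {e f : Fin n → F}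
    (h : HypPair q e f) : f ≠ 0 := by
  rintro rfl
  have := h.ef
  rw [hf_zero_right hF] at this
  exact zero_ne_one this

/-- An anisotropic vector orthogonal to a hyperbolic pair, in dimension at least three. -/
theorem exists_aniso_perp_hyp (hF : Fintype.card F = q ^ 2) (hn : 3 ≤ n) {e f : Fin n → F}
    (h : HypPair q e f) :
    ∃ z, hermForm n F q z z ≠ 0 ∧ hermForm n F q e z = 0 ∧ hermForm n F q f z = 0 := by
  have hS := unondeg_span_hyp hF h
  have hYnd : UNondeg q (uperp q (Submodule.span F ({e, f} : Set (Fin n → F)))) :=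
    unondeg_uperp hF hS
  have hY0 : uperp q (Submodule.span F ({e, f} : Set (Fin n → F))) ≠ ⊥ := by
    intro h0
    have h1 := finrank_add_uperp hF (Submodule.span F ({e, f} : Set (Fin n → F)))
    have h2 := finrank_span_pair_le e f
    rw [h0, finrank_bot] at h1
    omega
  obtain ⟨z, hzY, hzz⟩ := exists_aniso hF hYnd hY0
  have hze : hermForm n F q z e = 0 := hzY e (Submodule.subset_span (by simp))
  have hzf : hermForm n F q z f = 0 := hzY f (Submodule.subset_span (by simp))
  exact ⟨z, hzz, hf_eq_zero_swap hF hze, hf_eq_zero_swap hF hzf⟩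

/-- Witt's theorem in `SU_n`, when the image is orthogonal to an anisotropic vector. -/
theorem witt_su (hF : Fintype.card F = q ^ 2) (X : Submodule F (Fin n → F))
    (f : (Fin n → F) →ₗ[F] (Fin n → F))
    (hf : ∀ x ∈ X, ∀ x' ∈ X, hermForm n F q (f x) (f x') = hermForm n F q x x')
    (hinj : ∀ x ∈ X, f x = 0 → x = 0) (z : Fin n → F) (hzz : hermForm n F q z z ≠ 0)
    (hz : ∀ x ∈ X, hermForm n F q (f x) z = 0) :
    ∃ g : GL (Fin n) F, g ∈ GU n F q ⊓ Cfsg.Geo.specialLinear (Fin n) F ∧
      ∀ x ∈ X, gact g x = f x := by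
  obtain ⟨g₀, hg₀, hg₀X⟩ := witt_gu_submodule hF X f hf hinj
  obtain ⟨δ, hδ⟩ : ∃ δ : F, δ = (g₀ : Matrix (Fin n) (Fin n) F).det := ⟨_, rfl⟩
  have hδN : δ * δ ^ q = 1 := by rw [hδ]; exact GU_det hF hg₀
  have hδ0 : δ ≠ 0 := by
    rintro rfl
    rw [zero_mul] at hδN
    exact zero_ne_one hδN
  have hδinv : δ⁻¹ * (δ⁻¹) ^ q = 1 := by
    rw [cj_inv, ← mul_inv, hδN, inv_one]
  obtain ⟨r, hr, hrdet, hrx⟩ := exists_qr hF z hzz δ⁻¹ hδinv
  refine ⟨r * g₀, ?_, ?_⟩
  · rw [mem_SUg_iff]
    refine ⟨mul_mem hr hg₀, ?_⟩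
    rw [Units.val_mul, Matrix.det_mul, hrdet, ← hδ, inv_mul_cancel₀ hδ0]
  · intro x hx
    rw [gact_mul, hg₀X x hx, hrx, hz x hx, mul_zero, zero_smul, add_zero]

/-- `SU_n` is transitive on non-zero isotropic vectors (`n ≥ 3`). -/
theorem su_trans1 (hF : Fintype.card F = q ^ 2) (hn : 3 ≤ n) (u v : Fin n → F) (hu0 : u ≠ 0)
    (hu : hermForm n F q u u = 0) (hv0 : v ≠ 0) (hv : hermForm n F q v v = 0) :
    ∃ g : GL (Fin n) F, g ∈ GU n F q ⊓ Cfsg.Geo.specialLinear (Fin n) F ∧ gact g u = v := by
  obtain ⟨u', hp⟩ := exists_hyp hF u hu0 hu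
  obtain ⟨v', hp'⟩ := exists_hyp hF v hv0 hv
  obtain ⟨z, hzz, hvz, -⟩ := exists_aniso_perp_hyp hF hn hp'
  obtain ⟨g, hg, hgX⟩ := witt_su hF (Submodule.span F {u})
    ((hermB hF n u').smulRight v)
    (by
      intro x hx x' hx'
      obtain ⟨a, rfl⟩ := Submodule.mem_span_singleton.mp hx
      obtain ⟨a', rfl⟩ := Submodule.mem_span_singleton.mp hx'
      simp only [LinearMap.smulRight_apply, hermB_apply]
      have e1 : hermForm n F q (a • u) (a' • u) = 0 := by
        rw [hf_smul_left, hf_smul_right, hu]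
        ring
      rw [e1, hf_smul_left, hf_smul_right, hv]
      ring)
    (by
      intro x hx hx0
      obtain ⟨a, rfl⟩ := Submodule.mem_span_singleton.mp hx
      simp only [LinearMap.smulRight_apply, hermB_apply] at hx0
      rw [hf_smul_left, hp.ef, mul_one] at hx0
      rcases smul_eq_zero.mp hx0 with h0 | h0
      · rw [h0, zero_smul]
      · exact absurd h0 hv0)
    z hzz
    (by
      intro x _
      simp only [LinearMap.smulRight_apply, hermB_apply]
      rw [hf_smul_left, hvz, mul_zero])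
  refine ⟨g, hg, ?_⟩
  rw [hgX u (Submodule.mem_span_singleton_self u)]
  simp only [LinearMap.smulRight_apply, hermB_apply]
  rw [hp.ef, one_smul]

/-- The stabiliser in `SU_n` of an isotropic vector is transitive on its hyperbolic partners. -/
theorem su_trans2 (hF : Fintype.card F = q ^ 2) (hn : 3 ≤ n) {u v w : Fin n → F}
    (hv : HypPair q u v) (hw : HypPair q u w) :
    ∃ g : GL (Fin n) F, g ∈ GU n F q ⊓ Cfsg.Geo.specialLinear (Fin n) F ∧ gact g u = u ∧
      gact g v = w := by
  obtain ⟨z, hzz, huz, hwz⟩ := exists_aniso_perp_hyp hF hn hw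
  have hf1 : ∀ a b : F, ((hermB hF n v).smulRight u + (hermB hF n u).smulRight w) (a • u + b • v)
      = a • u + b • w := by
    intro a b
    simp only [LinearMap.add_apply, LinearMap.smulRight_apply, hermB_apply]
    have e1 : hermForm n F q (a • u + b • v) v = a := by
      have := hv.form hF a b 0 1
      rw [zero_smul, one_smul, zero_add, one_pow, mul_one, zero_pow (by have := two_le_q hF; omega),
        mul_zero, add_zero] at this
      exact this
    have e2 : hermForm n F q (a • u + b • v) u = b := by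
      have := hv.form hF a b 1 0
      rw [zero_smul, one_smul, add_zero, one_pow, mul_one, zero_pow (by have := two_le_q hF; omega),
        mul_zero, zero_add] at this
      exact this
    rw [e1, e2]
  obtain ⟨g, hg, hgX⟩ := witt_su hF (Submodule.span F {u, v})
    ((hermB hF n v).smulRight u + (hermB hF n u).smulRight w)
    (by
      intro x hx x' hx'
      obtain ⟨a, b, rfl⟩ := Submodule.mem_span_pair.mp hx
      obtain ⟨a', b', rfl⟩ := Submodule.mem_span_pair.mp hx'
      rw [hf1, hf1, hv.form hF, hw.form hF])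
    (by
      intro x hx hx0
      obtain ⟨a, b, rfl⟩ := Submodule.mem_span_pair.mp hx
      rw [hf1] at hx0
      have h1 := hw.form hF a b 0 1
      have h2 := hw.form hF a b 1 0
      rw [hx0, hf_zero_left, one_pow, mul_one, zero_pow (by have := two_le_q hF; omega),
        mul_zero] at h1 h2
      rw [add_zero] at h1
      rw [zero_add] at h2
      rw [← h1, ← h2, zero_smul, zero_smul, add_zero])
    z hzz
    (by
      intro x hx
      obtain ⟨a, b, rfl⟩ := Submodule.mem_span_pair.mp hx
      rw [hf1, hf_add_left, hf_smul_left, hf_smul_left, huz, hwz, mul_zero, mul_zero, add_zero])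
  have hu' : u ∈ Submodule.span F ({u, v} : Set (Fin n → F)) := Submodule.subset_span (by simp)
  have hv' : v ∈ Submodule.span F ({u, v} : Set (Fin n → F)) := Submodule.subset_span (by simp)
  refine ⟨g, hg, ?_, ?_⟩
  · rw [hgX u hu']
    have := hf1 1 0
    simpa using this
  · rw [hgX v hv']
    have := hf1 0 1
    simpa using this

end Cfsg.Agent.Lib.Helper27.Unitary
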