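import Mathlib
import Cfsg.Agent.Lib.Helper27.UIso

set_option autoImplicit false

/-!
The action of `SU_n` (inside `GL_n`) on isotropic points: primitivity and the Iwasawa structure.
-/

namespace Cfsg.Agent.Lib.Helper27.Unitary

open Cfsg Matrix
open scoped Pointwise commutatorElement

variable {F : Type*} [Field F] [Fintype F] {q n : ℕ}

/-- `SU_n` as a subgroup of `GL_n`. -/
abbrev Gs (n : ℕ) (F : Type*) [Field F] (q : ℕ) : Subgroup (GL (Fin n) F) :=
  GU n F q ⊓ Cfsg.Geo.specialLinear (Fin n) F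

/-- Isotropic points. -/
def IsoPt (n : ℕ) (F : Type*) [Field F] (q : ℕ) : Type _ :=
  {L : Submodule F (Fin n → F) //
    ∃ v, v ≠ 0 ∧ hermForm n F q v v = 0 ∧ L = Submodule.span F {v}}

/-- The isotropic point spanned by an isotropic vector. -/
def mkPt (v : Fin n → F) (hv0 : v ≠ 0) (hv : hermForm n F q v v = 0) : IsoPt n F q :=
  ⟨Submodule.span F {v}, v, hv0, hv, rfl⟩

theorem exists_mkPt (p : IsoPt n F q) : ∃ v hv0 hv, p = mkPt v hv0 hv := by
  obtain ⟨L, v, hv0, hv, rfl⟩ := p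
  exact ⟨v, hv0, hv, rfl⟩

theorem mkPt_smul (v : Fin n → F) (hv0 : v ≠ 0) (hv : hermForm n F q v v = 0) (c : F)
    (hc : c ≠ 0) (h0 : c • v ≠ 0) (h : hermForm n F q (c • v) (c • v) = 0) :
    mkPt (c • v) h0 h = mkPt v hv0 hv := by
  apply Subtype.ext
  exact Submodule.span_singleton_smul_eq hc.isUnit v

theorem mkPt_eq_iff (u v : Fin n → F) (hu0 : u ≠ 0) (hu : hermForm n F q u u = 0) (hv0 : v ≠ 0)
    (hv : hermForm n F q v v = 0) : mkPt u hu0 hu = mkPt v hv0 hv ↔ ∃ c : F, c ≠ 0 ∧ u = c • v := by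
  constructor
  · intro h
    have h1 : Submodule.span F {u} = Submodule.span F {v} := congrArg Subtype.val h
    have h2 : u ∈ Submodule.span F {v} := by
      rw [← h1]; exact Submodule.mem_span_singleton_self u
    obtain ⟨c, hc⟩ := Submodule.mem_span_singleton.mp h2
    refine ⟨c, ?_, hc.symm⟩
    rintro rfl
    rw [zero_smul] at hc
    exact hu0 hc.symm
  · rintro ⟨c, hc, rfl⟩
    exact mkPt_smul v hv0 hv c hc hu0 hu

instance instMulActionIsoPt : MulAction ↥(Gs n F q) (IsoPt n F q) where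
  smul g p := ⟨p.1.map (gactL (g : GL (Fin n) F)).toLinearMap, by
    obtain ⟨L, v, hv0, hv, rfl⟩ := p
    refine ⟨gact (g : GL (Fin n) F) v, ?_, ?_, ?_⟩
    · intro h
      exact hv0 ((gact_eq_zero _).mp h)
    · rw [GU_preserves g.2.1, hv]
    · rw [Submodule.map_span, Set.image_singleton]
      rfl⟩
  one_smul p := by
    apply Subtype.ext
    change p.1.map (gactL ((1 : ↥(Gs n F q)) : GL (Fin n) F)).toLinearMap = p.1
    have : (gactL ((1 : ↥(Gs n F q)) : GL (Fin n) F)).toLinearMap = LinearMap.id := by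
      apply LinearMap.ext
      intro x
      exact gact_one x
    rw [this, Submodule.map_id]
  mul_smul g h p := by
    apply Subtype.ext
    change p.1.map (gactL ((g * h : ↥(Gs n F q)) : GL (Fin n) F)).toLinearMap =
      (p.1.map (gactL (h : GL (Fin n) F)).toLinearMap).map (gactL (g : GL (Fin n) F)).toLinearMap
    rw [← Submodule.map_comp]
    congr 1
    apply LinearMap.ext
    intro x
    exact gact_mul _ _ x

theorem smul_mkPt (g : ↥(Gs n F q)) (v : Fin n → F) (hv0 : v ≠ 0)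
    (hv : hermForm n F q v v = 0) :
    g • mkPt v hv0 hv = mkPt (gact (g : GL (Fin n) F) v)
      (fun h => hv0 ((gact_eq_zero _).mp h)) (by rw [GU_preserves g.2.1, hv]) := by
  apply Subtype.ext
  change (Submodule.span F {v}).map (gactL (g : GL (Fin n) F)).toLinearMap = _
  rw [Submodule.map_span, Set.image_singleton]
  rfl

/-! ### Blocks -/

/-- The vector `v` is non-zero isotropic and represents a point of `B`. -/
def InB (B : Set (IsoPt n F q)) (v : Fin n → F) : Prop :=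
  ∃ (hv0 : v ≠ 0) (hv : hermForm n F q v v = 0), mkPt v hv0 hv ∈ B

theorem inB_smul (B : Set (IsoPt n F q)) (v : Fin n → F) (c : F) (hc : c ≠ 0) (h : InB B v) :
    InB B (c • v) := by
  obtain ⟨hv0, hv, hB⟩ := h
  have h0 : c • v ≠ 0 := smul_ne_zero hc hv0
  have h1 : hermForm n F q (c • v) (c • v) = 0 := by rw [hf_smul_self, hv, mul_zero]
  refine ⟨h0, h1, ?_⟩
  rw [mkPt_smul v hv0 hv c hc h0 h1]
  exact hB

/-- Block invariance in vector form. -/
theorem block_key (B : Set (IsoPt n F q)) (hB : MulAction.IsBlock ↥(Gs n F q) B)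
    (g : GL (Fin n) F) (hg : g ∈ Gs n F q) (u : Fin n → F) (hu : InB B u)
    (hgu : InB B (gact g u)) (v : Fin n → F) (hv : InB B v) : InB B (gact g v) := by
  obtain ⟨hu0, hu1, huB⟩ := hu
  obtain ⟨hgu0, hgu1, hguB⟩ := hgu
  obtain ⟨hv0, hv1, hvB⟩ := hv
  have h1 : (⟨g, hg⟩ : ↥(Gs n F q)) • mkPt u hu0 hu1 ∈ B := by
    rw [smul_mkPt]
    exact hguB
  have h2 : (⟨g, hg⟩ : ↥(Gs n F q)) • B = B := hB.smul_eq_of_mem huB h1
  have h3 : (⟨g, hg⟩ : ↥(Gs n F q)) • mkPt v hv0 hv1 ∈ (⟨g, hg⟩ : ↥(Gs n F q)) • B :=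
    Set.smul_mem_smul_set hvB
  rw [h2, smul_mkPt] at h3
  exact ⟨_, _, h3⟩

/-- Rescaling `v` to a hyperbolic partner of `u`. -/
theorem hyp_of_ne (hF : Fintype.card F = q ^ 2) {u v : Fin n → F}
    (hu : hermForm n F q u u = 0) (hv : hermForm n F q v v = 0)
    (huv : hermForm n F q u v ≠ 0) :
    HypPair q u (((hermForm n F q u v) ^ q)⁻¹ • v) := by
  refine ⟨hu, ?_, ?_⟩
  · rw [hf_smul_self, hv, mul_zero]
  · rw [hf_smul_right, inv_pow, cj_cj hF, inv_mul_cancel₀ huv]

theorem step_D2 (hF : Fintype.card F = q ^ 2) (hn : 3 ≤ n) (B : Set (IsoPt n F q))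
    (hB : MulAction.IsBlock ↥(Gs n F q) B) (u v : Fin n → F) (hu : InB B u) (hv : InB B v)
    (huv : hermForm n F q u v ≠ 0) (w : Fin n → F) (hw : hermForm n F q w w = 0)
    (huw : hermForm n F q u w ≠ 0) : InB B w := by
  have h1 := hyp_of_ne hF hu.2.1 hv.2.1 huv
  have h2 := hyp_of_ne hF hu.2.1 hw huw
  obtain ⟨g, hg, hgu, hgv⟩ := su_trans2 hF hn h1 h2
  have hc1 : ((hermForm n F q u v) ^ q)⁻¹ ≠ 0 :=
    inv_ne_zero (fun h => huv ((cj_eq_zero hF).mp h))
  have hc2 : (hermForm n F q u w) ^ q ≠ 0 := fun h => huw ((cj_eq_zero hF).mp h)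
  have h3 : InB B (gact g (((hermForm n F q u v) ^ q)⁻¹ • v)) :=
    block_key B hB g hg u hu (by rw [hgu]; exact hu) _ (inB_smul B v _ hc1 hv)
  rw [hgv] at h3
  have h4 := inB_smul B _ ((hermForm n F q u w) ^ q) hc2 h3
  rwa [smul_smul, mul_inv_cancel₀ hc2, one_smul] at h4

theorem exists_common (hF : Fintype.card F = q ^ 2) (u w : Fin n → F) (hu0 : u ≠ 0)
    (hu : hermForm n F q u u = 0) (hw0 : w ≠ 0) (huw : hermForm n F q u w = 0) :
    ∃ z, hermForm n F q z z = 0 ∧ hermForm n F q u z ≠ 0 ∧ hermForm n F q w z ≠ 0 := by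
  have hx : ∃ x, hermForm n F q u x ≠ 0 ∧ hermForm n F q w x ≠ 0 := by
    obtain ⟨a, ha⟩ := exists_hf_ne hF u hu0
    obtain ⟨b, hb⟩ := exists_hf_ne hF w hw0
    by_cases h1 : hermForm n F q w a ≠ 0
    · exact ⟨a, ha, h1⟩
    · by_cases h2 : hermForm n F q u b ≠ 0
      · exact ⟨b, h2, hb⟩
      · rw [not_not] at h1 h2
        refine ⟨a + b, ?_, ?_⟩
        · rw [hf_add_right hF, h2, add_zero]; exact ha
        · rw [hf_add_right hF, h1, zero_add]; exact hb
  obtain ⟨x, hux, hwx⟩ := hx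
  obtain ⟨α, β, hzz, huz⟩ := exists_partner hF u x hu hux
  have hwu : hermForm n F q w u = 0 := hf_eq_zero_swap hF huw
  have hβ : β ^ q ≠ 0 := by
    intro h
    rw [hf_add_right hF, hf_smul_right, hf_smul_right, hu, h, mul_zero, zero_mul,
      add_zero] at huz
    exact zero_ne_one huz
  refine ⟨α • u + β • x, hzz, by rw [huz]; exact one_ne_zero, ?_⟩
  rw [hf_add_right hF, hf_smul_right, hf_smul_right, hwu, mul_zero, zero_add]
  exact mul_ne_zero hβ hwx

theorem step_C2 (hF : Fintype.card F = q ^ 2) (hn : 3 ≤ n) (B : Set (IsoPt n F q))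
    (hB : MulAction.IsBlock ↥(Gs n F q) B) (u v : Fin n → F) (hu : InB B u) (hv : InB B v)
    (huv : hermForm n F q u v ≠ 0) (w : Fin n → F) (hw0 : w ≠ 0)
    (hw : hermForm n F q w w = 0) : InB B w := by
  by_cases huw : hermForm n F q u w ≠ 0
  · exact step_D2 hF hn B hB u v hu hv huv w hw huw
  · rw [not_not] at huw
    obtain ⟨z, hzz, hz1, hz2⟩ := exists_common hF u w hu.1 hu.2.1 hw0 huw
    have hz : InB B z := step_D2 hF hn B hB u v hu hv huv z hzz hz1
    have hzu : hermForm n F q z u ≠ 0 := fun h => hz1 (hf_eq_zero_swap hF h)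
    have hzw : hermForm n F q z w ≠ 0 := fun h => hz2 (hf_eq_zero_swap hF h)
    exact step_D2 hF hn B hB z u hz hu hzu w hw hzw

theorem exists_perp_not (hF : Fintype.card F = q ^ 2) (u v : Fin n → F) (hv0 : v ≠ 0)
    (hv : hermForm n F q v v = 0) (huv : hermForm n F q u v = 0) (hind : ∀ c : F, v ≠ c • u) :
    ∃ z, hermForm n F q z z = 0 ∧ hermForm n F q u z = 0 ∧ hermForm n F q v z = 1 := by
  have hx : ∃ x, hermForm n F q u x = 0 ∧ hermForm n F q v x ≠ 0 := by
    obtain ⟨a, ha⟩ := exists_hf_ne hF v hv0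
    by_cases hua : hermForm n F q u a = 0
    · exact ⟨a, hua, ha⟩
    · have hv' : v - (hermForm n F q v a / hermForm n F q u a) • u ≠ 0 := by
        intro h
        exact hind _ (sub_eq_zero.mp h)
      obtain ⟨b, hb⟩ := exists_hf_ne hF _ hv'
      refine ⟨b - ((hermForm n F q u b / hermForm n F q u a) ^ q) • a, ?_, ?_⟩
      · rw [hf_sub_right hF, hf_smul_right, cj_cj hF, div_mul_cancel₀ _ hua, sub_self]
      · rw [hf_sub_left, hf_smul_left] at hb
        rw [hf_sub_right hF, hf_smul_right, cj_cj hF]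
        intro h
        apply hb
        field_simp
        field_simp at h
        linear_combination h
  obtain ⟨x, hux, hvx⟩ := hx
  obtain ⟨α, β, hzz, hvz⟩ := exists_partner hF v x hv hvx
  refine ⟨α • v + β • x, hzz, ?_, hvz⟩
  rw [hf_add_right hF, hf_smul_right, hf_smul_right, huv, hux, mul_zero, mul_zero, add_zero]

theorem block_univ (hF : Fintype.card F = q ^ 2) (hn : 3 ≤ n) (B : Set (IsoPt n F q))
    (hB : MulAction.IsBlock ↥(Gs n F q) B) (p p' : IsoPt n F q) (hp : p ∈ B) (hp' : p' ∈ B)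
    (hpp : p ≠ p') : B = Set.univ := by
  obtain ⟨u, hu0, hu1, rfl⟩ := exists_mkPt p
  obtain ⟨v, hv0, hv1, rfl⟩ := exists_mkPt p'
  have hu : InB B u := ⟨hu0, hu1, hp⟩
  have hv : InB B v := ⟨hv0, hv1, hp'⟩
  have hall : ∀ w : Fin n → F, w ≠ 0 → hermForm n F q w w = 0 → InB B w := by
    by_cases huv : hermForm n F q u v ≠ 0
    · exact step_C2 hF hn B hB _ _ hu hv huv
    · rw [not_not] at huv
      have hind : ∀ c : F, v ≠ c • u := by
        intro c hc
        apply hpp
        rw [mkPt_eq_iff]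
        have hc0 : c ≠ 0 := by
          rintro rfl
          rw [zero_smul] at hc
          exact hv0 hc
        refine ⟨c⁻¹, inv_ne_zero hc0, ?_⟩
        rw [hc, smul_smul, inv_mul_cancel₀ hc0, one_smul]
      obtain ⟨z, hzz, hz1, hz2⟩ := exists_perp_not hF u v hv0 hv1 huv hind
      obtain ⟨θ, hθ0, hθ⟩ := exists_theta hF
      have hAu : gact (tv q z θ) u = u := by
        rw [tv_gact hzz, hz1, mul_zero, zero_smul, add_zero]
      have hAv : gact (tv q z θ) v = v + θ • z := by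
        rw [tv_gact hzz, hz2, mul_one]
      have hv2 : InB B (v + θ • z) := by
        rw [← hAv]
        exact block_key B hB (tv q z θ) (tv_mem_SUg hF z hθ) u hu (by rw [hAu]; exact hu) v hv
      have hne : hermForm n F q v (v + θ • z) ≠ 0 := by
        rw [hf_add_right hF, hv1, zero_add, hf_smul_right, hz2, mul_one]
        exact fun h => hθ0 ((cj_eq_zero hF).mp h)
      exact step_C2 hF hn B hB _ _ hv hv2 hne
  rw [Set.eq_univ_iff_forall]
  intro x
  obtain ⟨w, hw0, hw1, rfl⟩ := exists_mkPt x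
  obtain ⟨_, _, hx⟩ := hall w hw0 hw1
  exact hx

theorem isPreprimitive_isoPt (hF : Fintype.card F = q ^ 2) (hn : 3 ≤ n) :
    MulAction.IsPreprimitive ↥(Gs n F q) (IsoPt n F q) := by
  have htrans : MulAction.IsPretransitive ↥(Gs n F q) (IsoPt n F q) := by
    constructor
    intro p p'
    obtain ⟨u, hu0, hu1, rfl⟩ := exists_mkPt p
    obtain ⟨v, hv0, hv1, rfl⟩ := exists_mkPt p'
    obtain ⟨g, hg, hgu⟩ := su_trans1 hF hn u v hu0 hu1 hv0 hv1
    refine ⟨⟨g, hg⟩, ?_⟩
    rw [smul_mkPt]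
    apply Subtype.ext
    change Submodule.span F {gact g u} = Submodule.span F {v}
    rw [hgu]
  refine { toIsPretransitive := htrans, isTrivialBlock_of_isBlock := ?_ }
  intro B hB
  by_cases hsub : B.Subsingleton
  · exact Or.inl hsub
  · right
    rw [Set.not_subsingleton_iff] at hsub
    obtain ⟨p, hp, p', hp', hpp⟩ := hsub
    exact block_univ hF hn B hB p p' hp hp' hpp

/-! ### The Iwasawa structure -/

theorem tv_mul' (hF : Fintype.card F = q ^ 2) (v : Fin n → F) (c d : F) :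
    tv q v c * tv q v d = tv q v (c + d) := by
  by_cases hv : hermForm n F q v v = 0
  · exact tv_mul hF hv c d
  · unfold tv
    rw [dif_neg hv, dif_neg hv, dif_neg hv, mul_one]

theorem tv_inv' (hF : Fintype.card F = q ^ 2) (v : Fin n → F) (c : F) :
    (tv q v c)⁻¹ = tv q v (-c) := by
  rw [inv_eq_iff_mul_eq_one, tv_mul' hF, add_neg_cancel, tv_zero_right]

/-- The transvection group with centre `v`, inside `SU_n`. -/
def T' (hF : Fintype.card F = q ^ 2) (v : Fin n → F) : Subgroup ↥(Gs n F q) where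
  carrier := {g | ∃ c : F, c + c ^ q = 0 ∧ (g : GL (Fin n) F) = tv q v c}
  mul_mem' := by
    rintro a b ⟨c, hc, ha⟩ ⟨d, hd, hb⟩
    refine ⟨c + d, ?_, ?_⟩
    · rw [cj_add hF]
      linear_combination hc + hd
    · rw [Subgroup.coe_mul, ha, hb, tv_mul' hF]
  one_mem' := ⟨0, by rw [zero_pow (by have := two_le_q hF; omega), add_zero],
    by rw [tv_zero_right]; rfl⟩
  inv_mem' := by
    rintro a ⟨c, hc, ha⟩
    refine ⟨-c, ?_, ?_⟩
    · rw [cj_neg hF]
      linear_combination -hc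
    · rw [Subgroup.coe_inv, ha, tv_inv' hF]

theorem mem_T' (hF : Fintype.card F = q ^ 2) (v : Fin n → F) (g : ↥(Gs n F q)) :
    g ∈ T' hF v ↔ ∃ c : F, c + c ^ q = 0 ∧ (g : GL (Fin n) F) = tv q v c := Iff.rfl

theorem T'_smul (hF : Fintype.card F = q ^ 2) (a : F) (ha : a ≠ 0) (v : Fin n → F)
    (hv : hermForm n F q v v = 0) : T' hF (a • v) = T' hF v := by
  have hN : (a * a ^ q) ^ q = a * a ^ q := nm_fixed hF a
  have hN0 : a * a ^ q ≠ 0 := mul_ne_zero ha (pow_ne_zero _ ha)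
  ext g
  rw [mem_T', mem_T']
  constructor
  · rintro ⟨c, hc, hg⟩
    refine ⟨a * a ^ q * c, ?_, ?_⟩
    · rw [mul_pow, hN]
      linear_combination (a * a ^ q) * hc
    · rw [hg, tv_smul hF hv]
  · rintro ⟨c, hc, hg⟩
    refine ⟨c / (a * a ^ q), ?_, ?_⟩
    · rw [cj_div, hN, ← add_div, hc, zero_div]
    · rw [hg, tv_smul hF hv]
      congr 1
      field_simp

theorem T'_conj (hF : Fintype.card F = q ^ 2) (g : ↥(Gs n F q)) (v : Fin n → F)
    (hv : hermForm n F q v v = 0) :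
    T' hF (gact (g : GL (Fin n) F) v) = MulAut.conj g • T' hF v := by
  ext h
  rw [Subgroup.mem_smul_pointwise_iff_exists]
  constructor
  · rintro ⟨c, hc, hh⟩
    obtain ⟨t, ht⟩ : ∃ t : ↥(Gs n F q), (t : GL (Fin n) F) = tv q v c :=
      ⟨⟨tv q v c, tv_mem_SUg hF v hc⟩, rfl⟩
    refine ⟨t, ⟨c, hc, ht⟩, ?_⟩
    apply Subtype.ext
    rw [MulAut.smul_def, MulAut.conj_apply, Subgroup.coe_mul, Subgroup.coe_mul, Subgroup.coe_inv,
      ht, conj_tv hF g.2.1 hv, hh]
  · rintro ⟨s, ⟨c, hc, hs⟩, rfl⟩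
    refine ⟨c, hc, ?_⟩
    rw [MulAut.smul_def, MulAut.conj_apply, Subgroup.coe_mul, Subgroup.coe_mul, Subgroup.coe_inv,
      hs, conj_tv hF g.2.1 hv]

/-- The transvection group of an isotropic point. -/
noncomputable def Tp (hF : Fintype.card F = q ^ 2) (p : IsoPt n F q) : Subgroup ↥(Gs n F q) :=
  T' hF (Classical.choose p.2)

theorem Tp_mk (hF : Fintype.card F = q ^ 2) (v : Fin n → F) (hv0 : v ≠ 0)
    (hv : hermForm n F q v v = 0) : Tp hF (mkPt v hv0 hv) = T' hF v := by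
  obtain ⟨h0, h1, h2⟩ := Classical.choose_spec (mkPt v hv0 hv).2
  have h3 : mkPt (Classical.choose (mkPt v hv0 hv).2) h0 h1 = mkPt v hv0 hv := by
    apply Subtype.ext
    exact h2.symm
  rw [mkPt_eq_iff] at h3
  obtain ⟨c, hc, h4⟩ := h3
  unfold Tp
  rw [h4]
  exact T'_smul hF c hc v hv

/-- `SU_n` is generated by the transvection groups. -/
theorem iSup_Tp (hF : Fintype.card F = q ^ 2) (hex : ¬ (n = 3 ∧ q = 2)) :
    iSup (Tp hF : IsoPt n F q → Subgroup ↥(Gs n F q)) = ⊤ := by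
  have h2 : TW q (⊤ : Submodule F (Fin n → F)) ≤
      Subgroup.map (Gs n F q).subtype (iSup (Tp hF : IsoPt n F q → Subgroup ↥(Gs n F q))) := by
    unfold TW
    rw [Subgroup.closure_le]
    rintro g ⟨v, -, c, hv, hc, rfl⟩
    by_cases hv0 : v = 0
    · have : tv q v c = 1 := by
        apply gact_ext
        intro x
        rw [tv_gact hv, hv0, smul_zero, add_zero, gact_one]
      rw [this]
      exact one_mem _
    · refine ⟨⟨tv q v c, tv_mem_SUg hF v hc⟩, ?_, rfl⟩
      apply Subgroup.mem_iSup_of_mem (mkPt v hv0 hv)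
      rw [Tp_mk]
      exact ⟨c, hc, rfl⟩
  rw [eq_top_iff]
  intro g _
  obtain ⟨g', hg', hgg⟩ := h2 (SUg_le_TW hF hex g.2)
  have : g' = g := Subtype.ext hgg
  rw [← this]
  exact hg'

/-- The Iwasawa structure of `SU_n` acting on isotropic points. -/
noncomputable def iwasawaU (hF : Fintype.card F = q ^ 2) (hex : ¬ (n = 3 ∧ q = 2)) :
    MulAction.IwasawaStructure ↥(Gs n F q) (IsoPt n F q) where
  T := Tp hF
  is_comm p := by
    refine ⟨⟨?_⟩⟩
    rintro ⟨a, ⟨c, hc, ha⟩⟩ ⟨b, ⟨d, hd, hb⟩⟩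
    apply Subtype.ext
    apply Subtype.ext
    change (a : GL (Fin n) F) * (b : GL (Fin n) F) = (b : GL (Fin n) F) * (a : GL (Fin n) F)
    rw [ha, hb, tv_mul' hF, tv_mul' hF, add_comm]
  is_conj g p := by
    obtain ⟨v, hv0, hv, rfl⟩ := exists_mkPt p
    rw [smul_mkPt, Tp_mk, Tp_mk, T'_conj hF g v hv]
  is_generator := iSup_Tp hF hex

/-! ### Perfectness, the kernel of the action, and simplicity -/

theorem perfect_Gs (hF : Fintype.card F = q ^ 2) (hn : 3 ≤ n) (hex : ¬ (n = 3 ∧ q = 2)) :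
    commutator ↥(Gs n F q) = ⊤ := by
  rw [eq_top_iff, ← iSup_Tp hF hex, iSup_le_iff]
  intro p
  obtain ⟨v, hv0, hv, rfl⟩ := exists_mkPt p
  rw [Tp_mk]
  rintro g ⟨c, hc, hg⟩
  have hq2 := two_le_q hF
  have hexs : ∃ B C : GL (Fin n) F, B ∈ GU n F q ⊓ Cfsg.Geo.specialLinear (Fin n) F ∧
      C ∈ GU n F q ⊓ Cfsg.Geo.specialLinear (Fin n) F ∧ B * C * B⁻¹ * C⁻¹ = tv q v c := by
    by_cases h4 : 4 ≤ n
    · exact tv_comm_four hF h4 v hv0 hv c hc
    · have h3 : n = 3 := by omega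
      have hq3 : 3 ≤ q := by
        by_contra hq
        exact hex ⟨h3, by omega⟩
      exact tv_comm_q3 hF hn hq3 v hv0 hv c hc
  obtain ⟨B, C, hB, hC, hBC⟩ := hexs
  obtain ⟨B', hB'⟩ : ∃ B' : ↥(Gs n F q), (B' : GL (Fin n) F) = B := ⟨⟨B, hB⟩, rfl⟩
  obtain ⟨C', hC'⟩ : ∃ C' : ↥(Gs n F q), (C' : GL (Fin n) F) = C := ⟨⟨C, hC⟩, rfl⟩
  have hg' : g = ⁅B', C'⁆ := by
    apply Subtype.ext
    rw [hg, ← hBC, commutatorElement_def, Subgroup.coe_mul, Subgroup.coe_mul, Subgroup.coe_mul,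
      Subgroup.coe_inv, Subgroup.coe_inv, hB', hC']
  rw [hg', commutator_def]
  exact Subgroup.commutator_mem_commutator (Subgroup.mem_top _) (Subgroup.mem_top _)

/-- An element of `SU_n` fixing all isotropic points is central. -/
theorem mem_center_of_fix (hF : Fintype.card F = q ^ 2) (hex : ¬ (n = 3 ∧ q = 2))
    (g : ↥(Gs n F q)) (h : ∀ p : IsoPt n F q, g • p = p) :
    g ∈ Subgroup.center ↥(Gs n F q) := by
  have hgU : (g : GL (Fin n) F) ∈ GU n F q := g.2.1
  have h1 : ∀ v : Fin n → F, v ≠ 0 → hermForm n F q v v = 0 →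
      ∃ μ : F, μ ≠ 0 ∧ gact (g : GL (Fin n) F) v = μ • v := by
    intro v hv0 hv
    have h2 := h (mkPt v hv0 hv)
    rw [smul_mkPt, mkPt_eq_iff] at h2
    exact h2
  have h2 : ∀ v : Fin n → F, v ≠ 0 → hermForm n F q v v = 0 →
      ∃ μ : F, μ * μ ^ q = 1 ∧ gact (g : GL (Fin n) F) v = μ • v := by
    intro v hv0 hv
    obtain ⟨w, hp⟩ := exists_hyp hF v hv0 hv
    obtain ⟨θ, hθ0, hθ⟩ := exists_theta hF
    obtain ⟨μ, hμ0, hμ⟩ := h1 v hv0 hv
    obtain ⟨ν, hν0, hν⟩ := h1 w (hp.ne_zero_right hF) hp.ff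
    have hq0 : q ≠ 0 := by have := two_le_q hF; omega
    have e0 : hermForm n F q ((1 : F) • v + θ • w) ((1 : F) • v + θ • w) = 0 := by
      rw [hp.form hF, one_pow, mul_one, one_mul]
      linear_combination hθ
    have e1 : hermForm n F q ((1 : F) • v + θ • w) ((0 : F) • v + (1 : F) • w) = 1 := by
      rw [hp.form hF, one_pow, zero_pow hq0, mul_one, mul_zero, add_zero]
    have e2 : hermForm n F q ((1 : F) • v + θ • w) ((1 : F) • v + (0 : F) • w) = θ := by
      rw [hp.form hF, one_pow, zero_pow hq0, mul_one, mul_zero, zero_add]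
    have hx0 : (1 : F) • v + θ • w ≠ 0 := by
      intro h0
      rw [h0, hf_zero_left] at e1
      exact zero_ne_one e1
    obtain ⟨l, hl0, hl⟩ := h1 _ hx0 e0
    rw [gact_add, gact_smul, gact_smul, hμ, hν] at hl
    have e3 : hermForm n F q ((1 : F) • μ • v + θ • ν • w) ((0 : F) • v + (1 : F) • w) = μ := by
      rw [smul_smul, smul_smul, hp.form hF, one_pow, zero_pow hq0]
      ring
    have e4 : hermForm n F q ((1 : F) • μ • v + θ • ν • w) ((1 : F) • v + (0 : F) • w) =
        θ * ν := by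
      rw [smul_smul, smul_smul, hp.form hF, one_pow, zero_pow hq0]
      ring
    rw [hl, hf_smul_left] at e3 e4
    rw [e1] at e3
    rw [e2] at e4
    have e5 : μ = ν := by
      have : θ * (μ - ν) = 0 := by linear_combination (-θ) * e3 + e4
      rcases mul_eq_zero.mp this with h0 | h0
      · exact absurd h0 hθ0
      · exact sub_eq_zero.mp h0
    refine ⟨μ, ?_, hμ⟩
    have e6 := GU_preserves hgU v w
    rw [hμ, hν, hf_smul_left, hf_smul_right, hp.ef, mul_one, ← e5] at e6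
    exact e6
  have h3 : ∀ v : Fin n → F, hermForm n F q v v = 0 → ∀ c : F,
      (g : GL (Fin n) F) * tv q v c = tv q v c * (g : GL (Fin n) F) := by
    intro v hv c
    by_cases hv0 : v = 0
    · have : tv q v c = 1 := by
        apply gact_ext
        intro x
        rw [tv_gact hv, hv0, smul_zero, add_zero, gact_one]
      rw [this, mul_one, one_mul]
    · obtain ⟨μ, hμN, hμ⟩ := h2 v hv0 hv
      have := conj_tv hF hgU hv c
      rw [hμ, tv_smul hF hv, hμN, one_mul] at this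
      rw [mul_inv_eq_iff_eq_mul] at this
      exact this
  rw [Subgroup.mem_center_iff]
  intro k
  apply Subtype.ext
  rw [Subgroup.coe_mul, Subgroup.coe_mul]
  have hk : (k : GL (Fin n) F) ∈ Subgroup.centralizer {(g : GL (Fin n) F)} := by
    have hle : TW q (⊤ : Submodule F (Fin n → F)) ≤
        Subgroup.centralizer {(g : GL (Fin n) F)} := by
      unfold TW
      rw [Subgroup.closure_le]
      rintro t ⟨v, -, c, hv, -, rfl⟩
      rw [SetLike.mem_coe, Subgroup.mem_centralizer_iff]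
      intro x hx
      rw [Set.mem_singleton_iff] at hx
      rw [hx]
      exact h3 v hv c
    exact hle (SUg_le_TW hF hex k.2)
  rw [Subgroup.mem_centralizer_iff] at hk
  exact (hk _ rfl).symm

theorem exists_isotropic (hF : Fintype.card F = q ^ 2) (hn : 2 ≤ n) :
    ∃ e : Fin n → F, e ≠ 0 ∧ hermForm n F q e e = 0 := by
  have hT : UNondeg q (⊤ : Submodule F (Fin n → F)) := unondeg_top hF
  have hTdim : Module.finrank F (⊤ : Submodule F (Fin n → F)) = n := by
    rw [finrank_top, Module.finrank_fin_fun]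
  obtain ⟨u, -, hu⟩ := exists_unit hF ⊤ hT (by omega)
  have hSu : UNondeg q (Submodule.span F {u}) :=
    unondeg_span_singleton (by rw [hu]; exact one_ne_zero)
  have hlt : Module.finrank F ↥(Submodule.span F {u}) <
      Module.finrank F (⊤ : Submodule F (Fin n → F)) := by
    have := finrank_span_single_le u
    omega
  obtain ⟨z, -, hzS, hzz⟩ := exists_norm_rel hF le_top hSu hT hlt (-1)
    (by rw [cj_neg hF, one_pow]) (neg_ne_zero.mpr one_ne_zero)
  have hzu : hermForm n F q z u = 0 := hzS u (Submodule.mem_span_singleton_self u)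
  have huz : hermForm n F q u z = 0 := hf_eq_zero_swap hF hzu
  have he : hermForm n F q (u + z) (u + z) = 0 := by
    rw [hf_add_self hF, hu, hzz, huz, cj_zero hF]
    ring
  have heu : hermForm n F q (u + z) u = 1 := by
    rw [hf_add_left, hu, hzu, add_zero]
  refine ⟨u + z, ?_, he⟩
  intro h0
  rw [h0, hf_zero_left] at heu
  exact zero_ne_one heu

/-- `SU_n` modulo its centre is simple (`n ≥ 3`, `(n, q) ≠ (3, 2)`). -/
theorem simple_Gs (hF : Fintype.card F = q ^ 2) (hn : 3 ≤ n) (hex : ¬ (n = 3 ∧ q = 2)) :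
    IsSimpleGroup (↥(Gs n F q) ⧸ Subgroup.center ↥(Gs n F q)) := by
  have hperf := perfect_Gs hF hn hex
  have : MulAction.IsPreprimitive ↥(Gs n F q) (IsoPt n F q) := isPreprimitive_isoPt hF hn
  have key : ∀ N : Subgroup ↥(Gs n F q), N.Normal →
      N ≤ Subgroup.center ↥(Gs n F q) ∨ N = ⊤ := by
    intro N hN
    by_cases hfix : MulAction.fixedPoints N (IsoPt n F q) = Set.univ
    · left
      intro g hg
      apply mem_center_of_fix hF hex
      intro p
      have := Set.eq_univ_iff_forall.mp hfix p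
      exact this ⟨g, hg⟩
    · right
      have := (iwasawaU hF hex).commutator_le N hfix
      rw [hperf] at this
      exact top_le_iff.mp this
  refine { exists_pair_ne := ?_, eq_bot_or_eq_top_of_normal := ?_ }
  · obtain ⟨u, hu0, hu⟩ := exists_isotropic hF (n := n) (by omega)
    obtain ⟨w, hp⟩ := exists_hyp hF u hu0 hu
    obtain ⟨θ, hθ0, hθ⟩ := exists_theta hF
    refine ⟨(QuotientGroup.mk (⟨tv q u θ, tv_mem_SUg hF u hθ⟩ : ↥(Gs n F q)) :
      ↥(Gs n F q) ⧸ Subgroup.center ↥(Gs n F q)), 1, ?_⟩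
    intro h1
    rw [QuotientGroup.eq_one_iff] at h1
    have h2 := (Subgroup.mem_center_iff.mp h1) ⟨tv q w θ, tv_mem_SUg hF w hθ⟩
    have h3 := congrArg (fun a : ↥(Gs n F q) => gact (a : GL (Fin n) F) w) h2
    simp only [Subgroup.coe_mul] at h3
    have a1 : gact (tv q u θ) w = w + θ • u := by rw [tv_gact hp.ee, hp.fe hF, mul_one]
    have a2 : gact (tv q w θ) w = w := by
      rw [tv_gact hp.ff, hp.ff, mul_zero, zero_smul, add_zero]
    have a3 : gact (tv q w θ) (w + θ • u) = w + θ • u + (θ * θ) • w := by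
      rw [tv_gact hp.ff, hf_add_left, hp.ff, hf_smul_left, hp.ef, zero_add, mul_one]
    rw [gact_mul, gact_mul, a1, a2, a1, a3] at h3
    have h4 : (θ * θ) • w = 0 := by
      have := h3
      rwa [add_eq_left] at this
    rcases smul_eq_zero.mp h4 with h5 | h5
    · exact hθ0 (mul_self_eq_zero.mp h5)
    · exact hp.ne_zero_right hF h5
  · intro K hK
    set N := K.comap (QuotientGroup.mk' (Subgroup.center ↥(Gs n F q))) with hNdef
    have hN : N.Normal := hK.comap _
    rcases key N hN with h1 | h1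
    · left
      rw [eq_bot_iff]
      intro x hx
      obtain ⟨g, rfl⟩ := QuotientGroup.mk_surjective x
      have hg : g ∈ N := hx
      rw [Subgroup.mem_bot]
      exact (QuotientGroup.eq_one_iff g).mpr (h1 hg)
    · right
      rw [eq_top_iff]
      intro x _
      obtain ⟨g, rfl⟩ := QuotientGroup.mk_surjective x
      have hg : g ∈ N := by rw [h1]; trivial
      exact hg

end Cfsg.Agent.Lib.Helper27.Unitary
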