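import Mathlib
import Cfsg.Agent.Lib.Helper27.UIso

set_option autoImplicit false

/-!
Tools for the maximality of subspace stabilisers in `SU_n`: the set of isotropic vectors whose
transvections lie in an overgroup, relative Witt extension, spanning by isotropic vectors.
-/

namespace Cfsg.Agent.Lib.Helper27.Unitary

open Cfsg Matrix Cfsg.Agent.Lib.Helper27.GLStab

variable {F : Type*} [Field F] [Fintype F] {q n : ℕ}

/-- The isotropic vectors all of whose transvections lie in `H`. -/
def ASet (q : ℕ) (H : Subgroup (GL (Fin n) F)) : Set (Fin n → F) :=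
  {x | hermForm n F q x x = 0 ∧ ∀ c : F, c + c ^ q = 0 → tv q x c ∈ H}

theorem ASet_iso {H : Subgroup (GL (Fin n) F)} {x : Fin n → F} (hx : x ∈ ASet q H) :
    hermForm n F q x x = 0 := hx.1

theorem ASet_smul (hF : Fintype.card F = q ^ 2) {H : Subgroup (GL (Fin n) F)} {x : Fin n → F}
    (hx : x ∈ ASet q H) (a : F) : a • x ∈ ASet q H := by
  refine ⟨by rw [hf_smul_self, hx.1, mul_zero], ?_⟩
  intro c hc
  rw [tv_smul hF hx.1]
  apply hx.2
  rw [mul_pow, nm_fixed hF]
  linear_combination (a * a ^ q) * hc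

theorem ASet_gact (hF : Fintype.card F = q ^ 2) {H : Subgroup (GL (Fin n) F)}
    (hHU : H ≤ GU n F q) {g : GL (Fin n) F} (hg : g ∈ H) {x : Fin n → F} (hx : x ∈ ASet q H) :
    gact g x ∈ ASet q H := by
  refine ⟨by rw [GU_preserves (hHU hg), hx.1], ?_⟩
  intro c hc
  rw [← conj_tv hF (hHU hg) hx.1]
  exact mul_mem (mul_mem hg (hx.2 c hc)) (inv_mem hg)

/-- Closure under hyperbolic lines. -/
theorem ASet_line (hF : Fintype.card F = q ^ 2) {H : Subgroup (GL (Fin n) F)}
    (hHU : H ≤ GU n F q) {x y : Fin n → F} (hx : x ∈ ASet q H) (hy : y ∈ ASet q H) (μ : F)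
    (hiso : hermForm n F q (y + μ • x) (y + μ • x) = 0) (hyx : hermForm n F q y x ≠ 0) :
    y + μ • x ∈ ASet q H := by
  obtain ⟨c, hc⟩ : ∃ c : F, c = μ / hermForm n F q y x := ⟨_, rfl⟩
  have hxy : hermForm n F q x y = (hermForm n F q y x) ^ q := hf_swap hF y x
  have hsq : (hermForm n F q y x) ^ q ≠ 0 := fun h => hyx ((cj_eq_zero hF).mp h)
  have hctr : c + c ^ q = 0 := by
    rw [hf_add_self hF, hy.1, hf_smul_self, hx.1, hf_smul_right, mul_pow, cj_cj hF] at hiso
    rw [hc, cj_div]
    field_simp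
    linear_combination hiso
  have h1 := ASet_gact hF hHU (hx.2 c hctr) hy
  rw [tv_gact hx.1] at h1
  have h2 : c * hermForm n F q y x = μ := by
    rw [hc, div_mul_cancel₀ _ hyx]
  rw [h2] at h1
  exact h1

/-- If every isotropic vector lies in the `A`-set of `H ≤ SU_n`, then `H = SU_n`. -/
theorem ASet_top (hF : Fintype.card F = q ^ 2) (hex : ¬ (n = 3 ∧ q = 2))
    {H : Subgroup (GL (Fin n) F)}
    (hHG : H ≤ GU n F q ⊓ Cfsg.Geo.specialLinear (Fin n) F)
    (hA : ∀ x : Fin n → F, hermForm n F q x x = 0 → x ∈ ASet q H) :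
    H = GU n F q ⊓ Cfsg.Geo.specialLinear (Fin n) F := by
  apply le_antisymm hHG
  refine le_trans (SUg_le_TW hF hex) ?_
  unfold TW
  rw [Subgroup.closure_le]
  rintro g ⟨v, -, c, hv, hc, rfl⟩
  exact (hA v hv).2 c hc

/-- For isotropic `x, y` some `x + μ y` with `μ ≠ 0` is isotropic. -/
theorem iso_comb (hF : Fintype.card F = q ^ 2) {x y : Fin n → F} (hx : hermForm n F q x x = 0)
    (hy : hermForm n F q y y = 0) :
    ∃ μ : F, μ ≠ 0 ∧ hermForm n F q (x + μ • y) (x + μ • y) = 0 := by
  by_cases hxy : hermForm n F q x y = 0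
  · refine ⟨1, one_ne_zero, ?_⟩
    rw [one_smul, hf_add_self hF, hx, hy, hxy, cj_zero hF]
    ring
  · obtain ⟨θ, hθ0, hθ⟩ := exists_theta hF
    refine ⟨(θ / hermForm n F q x y) ^ q, ?_, ?_⟩
    · intro h
      rw [cj_eq_zero hF] at h
      rcases div_eq_zero_iff.mp h with h | h
      · exact hθ0 h
      · exact hxy h
    · rw [hf_add_self hF, hx, hf_smul_self, hy, hf_smul_right, cj_cj hF, div_mul_cancel₀ _ hxy]
      linear_combination hθ

/-- A vector of `S` pairing to one with a given non-zero vector of a non-degenerate `S`. -/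
theorem exists_dual_in (hF : Fintype.card F = q ^ 2) {S : Submodule F (Fin n → F)}
    (hS : UNondeg q S) {b : Fin n → F} (hb : b ∈ S) (hb0 : b ≠ 0) :
    ∃ c ∈ S, hermForm n F q b c = 1 := by
  have : ∃ y ∈ S, hermForm n F q b y ≠ 0 := by
    by_contra hne
    apply hb0
    apply hS b hb
    intro y hy
    by_contra h
    exact hne ⟨y, hy, h⟩
  obtain ⟨y, hy, hby⟩ := this
  refine ⟨((hermForm n F q b y) ^ q)⁻¹ • y, S.smul_mem _ hy, ?_⟩
  rw [hf_smul_right, inv_pow, cj_cj hF, inv_mul_cancel₀ hby]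

/-- Relative Witt extension: inside a non-degenerate subspace `S`, a non-zero vector can be moved
to any non-zero vector of the same norm by a unitary element fixing `S^⊥` pointwise. -/
theorem witt_rel (hF : Fintype.card F = q ^ 2) {S : Submodule F (Fin n → F)}
    (hS : UNondeg q S) {b w : Fin n → F} (hb : b ∈ S) (hw : w ∈ S) (hb0 : b ≠ 0) (hw0 : w ≠ 0)
    (hnorm : hermForm n F q b b = hermForm n F q w w) :
    ∃ g : GL (Fin n) F, g ∈ GU n F q ∧ gact g b = w ∧ (∀ y ∈ uperp q S, gact g y = y) ∧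
      (∀ y ∈ S, gact g y ∈ S) := by
  obtain ⟨c, hc, hbc⟩ := exists_dual_in hF hS hb hb0
  have hf1 : ∀ (α : F) (u : Fin n → F), u ∈ uperp q S →
      ((LinearMap.id : (Fin n → F) →ₗ[F] (Fin n → F)) + (hermB hF n c).smulRight (w - b))
        (α • b + u) = α • w + u := by
    intro α u hu
    simp only [LinearMap.add_apply, LinearMap.id_apply, LinearMap.smulRight_apply, hermB_apply]
    rw [hf_add_left, hf_smul_left, hbc, hu c hc, add_zero, mul_one, smul_sub]
    abel
  have hmem : ∀ x ∈ Submodule.span F {b} ⊔ uperp q S, ∃ (α : F) (u : Fin n → F),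
      u ∈ uperp q S ∧ x = α • b + u := by
    intro x hx
    obtain ⟨x₁, hx₁, u, hu, rfl⟩ := Submodule.mem_sup.mp hx
    obtain ⟨α, rfl⟩ := Submodule.mem_span_singleton.mp hx₁
    exact ⟨α, u, hu, rfl⟩
  have hform : ∀ (v : Fin n → F), v ∈ S → ∀ (α α' : F) (u u' : Fin n → F), u ∈ uperp q S →
      u' ∈ uperp q S → hermForm n F q (α • v + u) (α' • v + u') =
        α * α' ^ q * hermForm n F q v v + hermForm n F q u u' := by
    intro v hv α α' u u' hu hu'
    rw [hf_add_left, hf_add_right hF, hf_add_right hF, hf_smul_left, hf_smul_right,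
      hf_smul_left, hf_smul_right, hu v hv, (mem_uperp' hF).mp hu' v hv]
    ring
  obtain ⟨g, hg, hgX⟩ := witt_gu_submodule hF (Submodule.span F {b} ⊔ uperp q S)
    ((LinearMap.id : (Fin n → F) →ₗ[F] (Fin n → F)) + (hermB hF n c).smulRight (w - b))
    (by
      intro x hx x' hx'
      obtain ⟨α, u, hu, rfl⟩ := hmem x hx
      obtain ⟨α', u', hu', rfl⟩ := hmem x' hx'
      rw [hf1 α u hu, hf1 α' u' hu', hform w hw, hform b hb, hnorm] <;> assumption)
    (by
      intro x hx hx0
      obtain ⟨α, u, hu, rfl⟩ := hmem x hx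
      rw [hf1 α u hu] at hx0
      have h1 : α • w ∈ uperp q S := by
        have : α • w = -u := eq_neg_of_add_eq_zero_left hx0
        rw [this]
        exact (uperp q S).neg_mem hu
      have h2 : α • w = 0 :=
        (Submodule.disjoint_def.mp (unondeg_disjoint hS)) _ (S.smul_mem α hw) h1
      have hα : α = 0 := (smul_eq_zero.mp h2).resolve_right hw0
      rw [h2, zero_add] at hx0
      rw [hα, hx0, zero_smul, add_zero])
  have hbX : b ∈ Submodule.span F {b} ⊔ uperp q S :=
    Submodule.mem_sup_left (Submodule.mem_span_singleton_self b)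
  have hfix : ∀ y ∈ uperp q S, gact g y = y := by
    intro y hy
    rw [hgX y (Submodule.mem_sup_right hy)]
    have := hf1 0 y hy
    simpa using this
  refine ⟨g, hg, ?_, hfix, ?_⟩
  · rw [hgX b hbX]
    have := hf1 1 0 (Submodule.zero_mem _)
    simpa using this
  · intro y hy
    rw [← uperp_uperp hF S, mem_uperp]
    intro u hu
    rw [← hfix u hu, GU_preserves hg]
    exact (mem_uperp' hF).mp hu y hy

/-- In a non-degenerate subspace of dimension at least three, a vector of prescribed non-zero norm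
orthogonal to a given vector. -/
theorem exists_norm_perp_in (hF : Fintype.card F = q ^ 2) {U : Submodule F (Fin n → F)}
    (hU : UNondeg q U) (hdim : 3 ≤ Module.finrank F U) {w : Fin n → F} (hw : w ∈ U) (ν : F)
    (hν : ν ^ q = ν) (hν0 : ν ≠ 0) :
    ∃ z ∈ U, hermForm n F q z z = ν ∧ hermForm n F q w z = 0 := by
  by_cases hww : hermForm n F q w w = 0
  · by_cases hw0 : w = 0
    · have hU0 : U ≠ ⊥ := by
        intro h
        rw [h, finrank_bot] at hdim
        omega
      obtain ⟨z, hz, hzz⟩ := exists_norm' hF hU hU0 ν hν hν0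
      exact ⟨z, hz, hzz, by rw [hw0, hf_zero_left]⟩
    · have : ∃ y ∈ U, hermForm n F q w y ≠ 0 := by
        by_contra hne
        apply hw0
        apply hU w hw
        intro y hy
        by_contra h
        exact hne ⟨y, hy, h⟩
      obtain ⟨y, hy, hwy⟩ := this
      obtain ⟨α, β, hff, hef⟩ := exists_partner hF w y hww hwy
      have hp : HypPair q w (α • w + β • y) := ⟨hww, hff, hef⟩
      have hfU : α • w + β • y ∈ U := U.add_mem (U.smul_mem _ hw) (U.smul_mem _ hy)
      have hSU : Submodule.span F {w, α • w + β • y} ≤ U := by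
        rw [Submodule.span_le]
        rintro x (rfl | rfl)
        · exact hw
        · exact hfU
      have hlt : Module.finrank F ↥(Submodule.span F {w, α • w + β • y}) < Module.finrank F U := by
        have := finrank_span_pair_le w (α • w + β • y)
        omega
      obtain ⟨z, hzU, hzS, hzz⟩ := exists_norm_rel hF hSU (unondeg_span_hyp hF hp) hU hlt ν hν hν0
      refine ⟨z, hzU, hzz, ?_⟩
      apply hf_eq_zero_swap hF
      exact hzS w (Submodule.subset_span (by simp))
  · have hSU : Submodule.span F {w} ≤ U := by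
      rw [Submodule.span_singleton_le_iff_mem]; exact hw
    have hlt : Module.finrank F ↥(Submodule.span F {w}) < Module.finrank F U := by
      have := finrank_span_single_le w
      omega
    obtain ⟨z, hzU, hzS, hzz⟩ := exists_norm_rel hF hSU (unondeg_span_singleton hww) hU hlt ν hν hν0
    refine ⟨z, hzU, hzz, ?_⟩
    apply hf_eq_zero_swap hF
    exact hzS w (Submodule.mem_span_singleton_self w)

/-- Every vector of a non-degenerate subspace of dimension at least two is a combination of two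
isotropic vectors of the subspace. -/
theorem iso_span (hF : Fintype.card F = q ^ 2) {U : Submodule F (Fin n → F)}
    (hU : UNondeg q U) (hdim : 2 ≤ Module.finrank F U) {x : Fin n → F} (hx : x ∈ U) :
    ∃ e₁ ∈ U, ∃ e₂ ∈ U, hermForm n F q e₁ e₁ = 0 ∧ hermForm n F q e₂ e₂ = 0 ∧
      ∃ α β : F, x = α • e₁ + β • e₂ := by
  by_cases hxx : hermForm n F q x x = 0
  · exact ⟨x, hx, 0, U.zero_mem, hxx, hf_zero_left _, 1, 0, by rw [one_smul, smul_zero, add_zero]⟩
  · have hSU : Submodule.span F {x} ≤ U := by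
      rw [Submodule.span_singleton_le_iff_mem]; exact hx
    have hlt : Module.finrank F ↥(Submodule.span F {x}) < Module.finrank F U := by
      have := finrank_span_single_le x
      omega
    have hfix : (hermForm n F q x x) ^ q = hermForm n F q x x := hf_self_fixed hF x
    obtain ⟨y, hyU, hyS, hyy⟩ := exists_norm_rel hF hSU (unondeg_span_singleton hxx) hU hlt
      (- hermForm n F q x x) (by rw [cj_neg hF, hfix]) (neg_ne_zero.mpr hxx)
    have hyx : hermForm n F q y x = 0 := hyS x (Submodule.mem_span_singleton_self x)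
    have hxy : hermForm n F q x y = 0 := hf_eq_zero_swap hF hyx
    obtain ⟨ζ, hζ1, hζ⟩ := exists_norm_one_ne_one hF
    have h1ζ : 1 - ζ ≠ 0 := sub_ne_zero.mpr (Ne.symm hζ1)
    refine ⟨x + y, U.add_mem hx hyU, x + ζ • y, U.add_mem hx (U.smul_mem _ hyU), ?_, ?_,
      1 - (1 - ζ)⁻¹, (1 - ζ)⁻¹, ?_⟩
    · rw [hf_add_self hF, hyy, hxy, cj_zero hF]
      ring
    · rw [hf_add_self hF, hf_smul_self, hyy, hζ, hf_smul_right, hxy, mul_zero, cj_zero hF]
      ring
    · have : (1 - (1 - ζ)⁻¹) • (x + y) + (1 - ζ)⁻¹ • (x + ζ • y) =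
          x + ((1 - (1 - ζ)⁻¹) + (1 - ζ)⁻¹ * ζ) • y := by
        module
      rw [this]
      have h0 : (1 - (1 - ζ)⁻¹) + (1 - ζ)⁻¹ * ζ = 0 := by
        field_simp
        ring
      rw [h0, zero_smul, add_zero]

end Cfsg.Agent.Lib.Helper27.Unitary
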