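import Mathlib
import Cfsg.Agent.Lib.Helper27.UMax
import Cfsg.Agent.Lib.Helper27.UIwasawa
import Cfsg.Agent.S0783

set_option autoImplicit false

/-!
The centre of `SU_n(q)`, `n ≥ 2`: the scalars of norm one and determinant one.
-/

namespace Cfsg.Agent.Lib.Helper27.Unitary

open Cfsg Matrix Cfsg.Agent.S0783

variable {F : Type*} [Field F] [Fintype F] {q n : ℕ}

/-- An element commuting with all transvections fixes every isotropic point. -/
theorem fix_iso_of_commute (hF : Fintype.card F = q ^ 2) (z : GL (Fin n) F)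
    (hz : ∀ (v : Fin n → F) (c : F), hermForm n F q v v = 0 → c + c ^ q = 0 →
      z * tv q v c = tv q v c * z)
    (v : Fin n → F) (hv0 : v ≠ 0) (hv : hermForm n F q v v = 0) :
    ∃ μ : F, gact z v = μ • v := by
  obtain ⟨θ, hθ0, hθ⟩ := exists_theta hF
  obtain ⟨x, hx⟩ := exists_hf_ne hF v hv0
  have hxv : hermForm n F q x v ≠ 0 := fun h => hx (hf_eq_zero_swap hF h)
  have h1 := congrArg (fun g => gact g x) (hz v θ hv hθ)
  simp only [gact_mul, tv_gact hv, gact_add, gact_smul] at h1
  have h2 : (θ * hermForm n F q x v) • gact z v = (θ * hermForm n F q (gact z x) v) • v :=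
    add_left_cancel h1
  refine ⟨(θ * hermForm n F q x v)⁻¹ * (θ * hermForm n F q (gact z x) v), ?_⟩
  rw [← smul_smul, ← h2, smul_smul, inv_mul_cancel₀ (mul_ne_zero hθ0 hxv), one_smul]

/-- An element fixing every isotropic point is a scalar (`n ≥ 2`). -/
theorem scalar_of_fix_iso (hF : Fintype.card F = q ^ 2) (hn : 2 ≤ n) (z : GL (Fin n) F)
    (hz : ∀ v : Fin n → F, v ≠ 0 → hermForm n F q v v = 0 → ∃ μ : F, gact z v = μ • v) :
    ∃ μ : F, ∀ x, gact z x = μ • x := by
  obtain ⟨e, he0, he⟩ := exists_isotropic hF hn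
  obtain ⟨μ, hμ⟩ := hz e he0 he
  have hall : ∀ w : Fin n → F, hermForm n F q w w = 0 → gact z w = μ • w := by
    intro w hw
    by_cases hw0 : w = 0
    · rw [hw0, gact_zero, smul_zero]
    obtain ⟨ν, hν⟩ := hz w hw0 hw
    by_cases hprop : ∃ a : F, w = a • e
    · obtain ⟨a, rfl⟩ := hprop
      rw [gact_smul, hμ, smul_comm]
    · obtain ⟨κ, hκ0, hiso⟩ := iso_comb hF he hw
      have hne : e + κ • w ≠ 0 := by
        intro h
        apply hprop
        refine ⟨-κ⁻¹, ?_⟩
        have h1 : κ • w = -e := eq_neg_of_add_eq_zero_right h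
        have h2 := congrArg (fun y => κ⁻¹ • y) h1
        simp only [smul_smul, inv_mul_cancel₀ hκ0, one_smul, smul_neg] at h2
        rw [h2, neg_smul]
      obtain ⟨l, hl⟩ := hz _ hne hiso
      rw [gact_add, gact_smul, hμ, hν] at hl
      -- (μ - l) e + κ (ν - l) w = 0
      have h3 : (κ * (ν - l)) • w = (l - μ) • e := by
        have : μ • e + κ • ν • w = l • (e + κ • w) := hl
        rw [smul_add] at this
        have h4 : (κ * (ν - l)) • w = κ • ν • w - l • κ • w := by
          rw [mul_sub, sub_smul, mul_smul, mul_smul, smul_comm κ l w]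
        rw [h4, sub_smul]
        rw [← sub_eq_zero] at this ⊢
        rw [← this]
        abel
      have h5 : κ * (ν - l) = 0 := by
        by_contra hne'
        apply hprop
        refine ⟨(κ * (ν - l))⁻¹ * (l - μ), ?_⟩
        rw [← smul_smul, ← h3, smul_smul, inv_mul_cancel₀ hne', one_smul]
      have h6 : ν = l := by
        rcases mul_eq_zero.mp h5 with h | h
        · exact absurd h hκ0
        · exact sub_eq_zero.mp h
      rw [h5, zero_smul] at h3
      have h7 : l = μ := by
        rcases smul_eq_zero.mp h3.symm with h | h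
        · exact sub_eq_zero.mp h
        · exact absurd h he0
      rw [hν, h6, h7]
  refine ⟨μ, fun x => ?_⟩
  have hT : UNondeg q (⊤ : Submodule F (Fin n → F)) := unondeg_top hF
  have hTdim : 2 ≤ Module.finrank F (⊤ : Submodule F (Fin n → F)) := by
    rw [finrank_top, Module.finrank_fin_fun]
    exact hn
  obtain ⟨e₁, -, e₂, -, h1, h2, α, β, rfl⟩ := iso_span hF hT hTdim (Submodule.mem_top (x := x))
  rw [gact_add, gact_smul, gact_smul, hall e₁ h1, hall e₂ h2]
  module

/-- The scalars of norm one and determinant one. -/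
abbrev muN (n : ℕ) (F : Type*) [Field F] (q : ℕ) : Subgroup ↥(mu F q) :=
  (powMonoidHom n : ↥(mu F q) →* ↥(mu F q)).ker

theorem mem_muN (μ : ↥(mu F q)) : μ ∈ muN n F q ↔ ((μ : Fˣ) : F) ^ n = 1 := by
  rw [MonoidHom.mem_ker, powMonoidHom_apply]
  constructor
  · intro h
    have := congrArg (fun x : ↥(mu F q) => ((x : Fˣ) : F)) h
    simpa using this
  · intro h
    apply Subtype.ext
    apply Units.ext
    simpa using h

theorem card_muN (hF : Fintype.card F = q ^ 2) : Nat.card ↥(muN n F q) = Nat.gcd n (q + 1) := by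
  rw [IsCyclic.card_powMonoidHom_ker, card_mu hF, Nat.gcd_comm]

theorem scal_mem_Gs (μ : ↥(muN n F q)) : scal n (μ.1 : Fˣ) ∈ Gs n F q := by
  rw [mem_SUg_iff]
  exact ⟨scal_mem_GU μ.1.2, by rw [det_scal]; exact (mem_muN μ.1).mp μ.2⟩

/-- The central scalar attached to an element of `muN`. -/
noncomputable def scalZ (μ : ↥(muN n F q)) : ↥(Subgroup.center ↥(Gs n F q)) :=
  ⟨⟨scal n (μ.1 : Fˣ), scal_mem_Gs μ⟩, by
    rw [Subgroup.mem_center_iff]
    intro g
    apply Subtype.ext
    exact (scal_comm (μ.1 : Fˣ) (g : GL (Fin n) F)).symm⟩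

theorem scalZ_coe (μ : ↥(muN n F q)) :
    ((scalZ μ : ↥(Gs n F q)) : GL (Fin n) F) = scal n (μ.1 : Fˣ) := rfl

theorem scalZ_bijective (hF : Fintype.card F = q ^ 2) (hn : 2 ≤ n) :
    Function.Bijective (scalZ (n := n) (F := F) (q := q)) := by
  obtain ⟨i0, -⟩ : ∃ i : Fin n, i = ⟨0, by omega⟩ := ⟨_, rfl⟩
  obtain ⟨x0, hx0def⟩ : ∃ x0 : Fin n → F, x0 = Pi.single i0 (1 : F) := ⟨_, rfl⟩
  have hx0i : x0 i0 = 1 := by rw [hx0def, Pi.single_eq_same]
  have hx1 : hermForm n F q x0 x0 = 1 := by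
    rw [hx0def, hf_single_right hF, Pi.single_eq_same]
  constructor
  · intro μ ν h
    have h1 : scal n (μ.1 : Fˣ) = scal n (ν.1 : Fˣ) := by
      rw [← scalZ_coe, ← scalZ_coe, h]
    have h2 : gact (scal n (μ.1 : Fˣ)) x0 i0 = gact (scal n (ν.1 : Fˣ)) x0 i0 := by rw [h1]
    rw [gact_scal, gact_scal, Pi.smul_apply, Pi.smul_apply, hx0i, smul_eq_mul, smul_eq_mul,
      mul_one, mul_one] at h2
    apply Subtype.ext
    apply Subtype.ext
    apply Units.ext
    exact h2
  · intro z
    have hzc := Subgroup.mem_center_iff.mp z.2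
    have hcomm : ∀ (v : Fin n → F) (c : F), hermForm n F q v v = 0 → c + c ^ q = 0 →
        ((z : ↥(Gs n F q)) : GL (Fin n) F) * tv q v c =
          tv q v c * ((z : ↥(Gs n F q)) : GL (Fin n) F) := by
      intro v c _ hc
      have := hzc ⟨tv q v c, tv_mem_SUg hF v hc⟩
      have h2 := congrArg (fun g : ↥(Gs n F q) => (g : GL (Fin n) F)) this
      exact h2.symm
    obtain ⟨μ, hμ⟩ := scalar_of_fix_iso hF hn _
      (fun v hv0 hv => fix_iso_of_commute hF _ hcomm v hv0 hv)
    have hx0 : x0 ≠ 0 := by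
      intro h
      rw [h, hf_zero_left] at hx1
      exact zero_ne_one hx1
    have hμ0 : μ ≠ 0 := by
      rintro rfl
      have := hμ x0
      rw [zero_smul, gact_eq_zero] at this
      exact hx0 this
    have hzU : ((z : ↥(Gs n F q)) : GL (Fin n) F) ∈ GU n F q := z.1.2.1
    have hμN : μ * μ ^ q = 1 := by
      have := GU_preserves hzU x0 x0
      rw [hμ, hf_smul_left, hf_smul_right, hx1, mul_one] at this
      exact this
    have hzs : ((z : ↥(Gs n F q)) : GL (Fin n) F) = scal n (Units.mk0 μ hμ0) := by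
      apply gact_ext
      intro x
      rw [hμ, gact_scal]
      rfl
    have hμn : μ ^ n = 1 := by
      have := ((mem_SUg_iff _).mp z.1.2).2
      rw [hzs, det_scal] at this
      exact this
    have hmu : Units.mk0 μ hμ0 ∈ mu F q := by
      rw [mem_mu']
      exact hμN
    have hmuN : (⟨Units.mk0 μ hμ0, hmu⟩ : ↥(mu F q)) ∈ muN n F q := by
      rw [mem_muN]
      exact hμn
    refine ⟨⟨⟨Units.mk0 μ hμ0, hmu⟩, hmuN⟩, ?_⟩
    apply Subtype.ext
    apply Subtype.ext
    rw [scalZ_coe]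
    exact hzs.symm

/-- The centre of `SU_n(q)` (inside `GL_n`) has order `gcd(n, q + 1)`, for `n ≥ 2`. -/
theorem card_center_Gs (hF : Fintype.card F = q ^ 2) (hn : 2 ≤ n) :
    Nat.card ↥(Subgroup.center ↥(Gs n F q)) = Nat.gcd n (q + 1) := by
  rw [← card_muN (n := n) hF]
  exact (Nat.card_congr (Equiv.ofBijective _ (scalZ_bijective hF hn))).symm

end Cfsg.Agent.Lib.Helper27.Unitary
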