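import Mathlib
import Cfsg.Agent.Lib.Helper27.SympWitt
import Cfsg.Agent.S3517

set_option autoImplicit false

/-!
Isotropic frames of the symplectic space: their number, and the transitivity of the symplectic
group on them.
-/

namespace Cfsg.Agent.Lib.Helper27.SympTransv

open Matrix Cfsg

variable {F : Type*} [Field F] {m : ℕ}

/-- The span of a pairwise orthogonal family is totally isotropic. -/
theorem isotropic_span {ι : Type*} (v : ι → Fin m ⊕ Fin m → F)
    (h : ∀ i i', sympForm m F (v i) (v i') = 0) :
    ∀ x ∈ Submodule.span F (Set.range v), ∀ y ∈ Submodule.span F (Set.range v),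
      sympForm m F x y = 0 := by
  have h1 : ∀ i, ∀ y ∈ Submodule.span F (Set.range v), sympForm m F (v i) y = 0 := by
    intro i y hy
    induction hy using Submodule.span_induction with
    | mem y hy =>
      obtain ⟨i', rfl⟩ := hy
      exact h i i'
    | zero => exact sf_zero_right _
    | add y y' _ _ hy hy' => rw [sf_add_right, hy, hy', add_zero]
    | smul c y _ hy => rw [sf_smul_right, hy, mul_zero]
  intro x hx y hy
  induction hx using Submodule.span_induction with
  | mem x hx =>
    obtain ⟨i, rfl⟩ := hx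
    exact h1 i y hy
  | zero => exact sf_zero_left _
  | add x x' _ _ hx hx' => rw [sf_add_left, hx, hx', add_zero]
  | smul c x _ hx => rw [sf_smul_left, hx, mul_zero]

/-- Orthogonality to a family is orthogonality to its span. -/
theorem perp_span_iff {ι : Type*} (v : ι → Fin m ⊕ Fin m → F) (w : Fin m ⊕ Fin m → F) :
    (∀ i, sympForm m F (v i) w = 0) ↔
      w ∈ (sympB m F).orthogonal (Submodule.span F (Set.range v)) := by
  rw [LinearMap.BilinForm.mem_orthogonal_iff]
  constructor
  · intro h x hx
    rw [sympB_apply]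
    induction hx using Submodule.span_induction with
    | mem x hx =>
      obtain ⟨i, rfl⟩ := hx
      exact h i
    | zero => exact sf_zero_left _
    | add x x' _ _ hx hx' => rw [sf_add_left, hx, hx', add_zero]
    | smul c x _ hx => rw [sf_smul_left, hx, mul_zero]
  · intro h i
    rw [← sympB_apply]
    exact h _ (Submodule.subset_span ⟨i, rfl⟩)

/-- The action of a symplectic matrix as a linear equivalence. -/
def actL (g : Matrix.symplecticGroup (Fin m) F) :
    (Fin m ⊕ Fin m → F) ≃ₗ[F] (Fin m ⊕ Fin m → F) where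
  toFun := act g
  map_add' := act_add g
  map_smul' := act_smul g
  invFun := act g⁻¹
  left_inv := act_inv_act g
  right_inv := act_act_inv g

theorem actL_apply (g : Matrix.symplecticGroup (Fin m) F) (x : Fin m ⊕ Fin m → F) :
    actL g x = act g x := rfl

/-- Isotropic frames of length `j`. -/
abbrev IsoFrame (m : ℕ) (F : Type*) [Field F] (j : ℕ) : Type _ :=
  {v : Fin j → (Fin m ⊕ Fin m → F) // LinearIndependent F v ∧
    ∀ i i', sympForm m F (v i) (v i') = 0}

/-- The symplectic group is transitive on isotropic frames. -/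
theorem trans_frames {j : ℕ} (v v' : Fin j → (Fin m ⊕ Fin m → F))
    (hv : LinearIndependent F v) (hv0 : ∀ i i', sympForm m F (v i) (v i') = 0)
    (hv' : LinearIndependent F v') (hv'0 : ∀ i i', sympForm m F (v' i) (v' i') = 0) :
    ∃ A : Matrix.symplecticGroup (Fin m) F, ∀ i, act A (v i) = v' i := by
  obtain ⟨A₀, hA₀⟩ := Cfsg.Agent.S3517.exists_linearEquiv_of_linearIndependent v v' hv hv'
  have hmap : ∀ x ∈ Submodule.span F (Set.range v), A₀ x ∈ Submodule.span F (Set.range v') := by
    intro x hx
    induction hx using Submodule.span_induction with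
    | mem x hx =>
      obtain ⟨i, rfl⟩ := hx
      rw [hA₀]
      exact Submodule.subset_span ⟨i, rfl⟩
    | zero => rw [map_zero]; exact Submodule.zero_mem _
    | add x x' _ _ hx hx' => rw [map_add]; exact Submodule.add_mem _ hx hx'
    | smul c x _ hx => rw [map_smul]; exact Submodule.smul_mem _ c hx
  obtain ⟨A, hA⟩ := witt_sp_submodule (Submodule.span F (Set.range v))
    (A₀ : (Fin m ⊕ Fin m → F) →ₗ[F] (Fin m ⊕ Fin m → F))
    (by
      intro x hx x' hx'
      rw [isotropic_span v hv0 x hx x' hx']
      exact isotropic_span v' hv'0 _ (hmap x hx) _ (hmap x' hx'))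
    (by
      intro x _ h0
      exact A₀.map_eq_zero_iff.mp h0)
  refine ⟨A, fun i => ?_⟩
  rw [hA (v i) (Submodule.subset_span ⟨i, rfl⟩)]
  exact hA₀ i

section Count

variable [Fintype F]

/-- Extending an isotropic frame by one vector. -/
def frameEquiv (j : ℕ) :
    IsoFrame m F (j + 1) ≃ Σ v : IsoFrame m F j,
      {w : Fin m ⊕ Fin m → F // w ∉ Submodule.span F (Set.range v.1) ∧
        ∀ i, sympForm m F (v.1 i) w = 0} where
  toFun u := ⟨⟨Fin.tail u.1, (linearIndependent_finSucc.mp u.2.1).1,
      fun i i' => u.2.2 i.succ i'.succ⟩,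
    ⟨u.1 0, (linearIndependent_finSucc.mp u.2.1).2, fun i => u.2.2 i.succ 0⟩⟩
  invFun p := ⟨Fin.cons p.2.1 p.1.1, linearIndependent_finCons.mpr ⟨p.1.2.1, p.2.2.1⟩, by
    intro i i'
    refine Fin.cases ?_ (fun a => ?_) i <;> refine Fin.cases ?_ (fun b => ?_) i'
    · rw [Fin.cons_zero]; exact sf_self _
    · rw [Fin.cons_zero, Fin.cons_succ, sf_swap, p.2.2.2 b, neg_zero]
    · rw [Fin.cons_zero, Fin.cons_succ]; exact p.2.2.2 a
    · rw [Fin.cons_succ, Fin.cons_succ]; exact p.1.2.2 a b⟩
  left_inv u := by
    apply Subtype.ext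
    exact Fin.cons_self_tail u.1
  right_inv := by
    rintro ⟨⟨v, hv⟩, ⟨w, hw⟩⟩
    rfl

theorem card_fiber {j : ℕ} (v : IsoFrame m F j) :
    Nat.card {w : Fin m ⊕ Fin m → F // w ∉ Submodule.span F (Set.range v.1) ∧
        ∀ i, sympForm m F (v.1 i) w = 0} =
      Fintype.card F ^ (2 * m - j) - Fintype.card F ^ j := by
  classical
  set U := Submodule.span F (Set.range v.1) with hU
  set O := (sympB m F).orthogonal U with hO
  have hUO : U ≤ O := by
    intro x hx
    rw [hO, LinearMap.BilinForm.mem_orthogonal_iff]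
    intro u hu
    rw [sympB_apply]
    exact isotropic_span v.1 v.2.2 u hu x hx
  have hfU : Module.finrank F U = j := by
    rw [hU, finrank_span_eq_card v.2.1, Fintype.card_fin]
  have hfV : Module.finrank F (Fin m ⊕ Fin m → F) = 2 * m := by
    rw [Module.finrank_fintype_fun_eq_card, Fintype.card_sum, Fintype.card_fin]
    ring
  have hfO : Module.finrank F O = 2 * m - j := by
    rw [hO, LinearMap.BilinForm.finrank_orthogonal sympB_nondegenerate U, hfV, hfU]
  have hcU : Nat.card U = Fintype.card F ^ j := by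
    rw [Module.natCard_eq_pow_finrank (K := F), hfU, Nat.card_eq_fintype_card]
  have hcO : Nat.card O = Fintype.card F ^ (2 * m - j) := by
    rw [Module.natCard_eq_pow_finrank (K := F), hfO, Nat.card_eq_fintype_card]
  have e1 : {w : Fin m ⊕ Fin m → F // w ∉ U ∧ ∀ i, sympForm m F (v.1 i) w = 0} ≃
      {x : O // (x : Fin m ⊕ Fin m → F) ∉ U} :=
    { toFun := fun w => ⟨⟨w.1, (perp_span_iff v.1 w.1).mp w.2.2⟩, w.2.1⟩
      invFun := fun x => ⟨x.1.1, x.2, (perp_span_iff v.1 x.1.1).mpr x.1.2⟩
      left_inv := fun w => rfl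
      right_inv := fun x => rfl }
  have e2 : {x : O // (x : Fin m ⊕ Fin m → F) ∈ U} ≃ U :=
    { toFun := fun x => ⟨x.1.1, x.2⟩
      invFun := fun u => ⟨⟨u.1, hUO u.2⟩, u.2⟩
      left_inv := fun x => rfl
      right_inv := fun u => rfl }
  have h3 := Nat.card_congr (Equiv.sumCompl (fun x : O => (x : Fin m ⊕ Fin m → F) ∈ U))
  rw [Nat.card_sum, Nat.card_congr e2, hcU, hcO] at h3
  rw [Nat.card_congr e1]
  omega

theorem card_isoFrame (j : ℕ) :
    Nat.card (IsoFrame m F j) =
      ∏ i ∈ Finset.range j, (Fintype.card F ^ (2 * m - i) - Fintype.card F ^ i) := by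
  induction j with
  | zero =>
    rw [Finset.range_zero, Finset.prod_empty]
    have : Unique (IsoFrame m F 0) :=
      { default := ⟨fun i => i.elim0, linearIndependent_empty_type, fun i => i.elim0⟩
        uniq := fun a => Subtype.ext (funext fun i => i.elim0) }
    exact Nat.card_unique
  | succ j ih =>
    have : Fintype (IsoFrame m F j) := Fintype.ofFinite _
    rw [Nat.card_congr (frameEquiv j), Nat.card_sigma, Finset.prod_range_succ, ← ih]
    simp only [card_fiber]
    rw [Finset.sum_const, Finset.card_univ, smul_eq_mul, Nat.card_eq_fintype_card]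

end Count

end Cfsg.Agent.Lib.Helper27.SympTransv
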