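import Mathlib
import Cfsg.Prelude.Def_GeometricClasses
import Cfsg.Agent.Lib.Helper27.SympWitt
import Cfsg.Agent.Lib.Helper27.SympFrames

set_option autoImplicit false

/-!
Stabilisers of subspaces in the matrix symplectic group, the perpendicular subspace, and the bridge
to `Cfsg.spGL`.
-/

namespace Cfsg.Agent.Lib.Helper27.SympTransv

open Matrix Cfsg

variable {F : Type*} [Field F] {m : ℕ}

/-- The perpendicular subspace. -/
def perp (W : Submodule F (Fin m ⊕ Fin m → F)) : Submodule F (Fin m ⊕ Fin m → F) :=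
  (sympB m F).orthogonal W

theorem mem_perp {W : Submodule F (Fin m ⊕ Fin m → F)} {x : Fin m ⊕ Fin m → F} :
    x ∈ perp W ↔ ∀ w ∈ W, sympForm m F w x = 0 := by
  unfold perp
  rw [LinearMap.BilinForm.mem_orthogonal_iff]
  constructor
  · intro h w hw
    rw [← sympB_apply]
    exact h w hw
  · intro h w hw
    rw [sympB_apply]
    exact h w hw

theorem mem_perp' {W : Submodule F (Fin m ⊕ Fin m → F)} {x : Fin m ⊕ Fin m → F} :
    x ∈ perp W ↔ ∀ w ∈ W, sympForm m F x w = 0 := by
  rw [mem_perp]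
  constructor
  · intro h w hw
    rw [sf_swap, h w hw, neg_zero]
  · intro h w hw
    rw [sf_swap, h w hw, neg_zero]

theorem perp_perp (W : Submodule F (Fin m ⊕ Fin m → F)) : perp (perp W) = W :=
  LinearMap.BilinForm.orthogonal_orthogonal sympB_nondegenerate sympB_isAlt.isRefl W

theorem finrank_space : Module.finrank F (Fin m ⊕ Fin m → F) = 2 * m := by
  rw [Module.finrank_fintype_fun_eq_card, Fintype.card_sum, Fintype.card_fin]
  ring

theorem finrank_perp (W : Submodule F (Fin m ⊕ Fin m → F)) :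
    Module.finrank F (perp W) = 2 * m - Module.finrank F W := by
  unfold perp
  rw [LinearMap.BilinForm.finrank_orthogonal sympB_nondegenerate W, finrank_space]

/-- A vector outside `W` pairs non-trivially with some vector of `perp W`. -/
theorem exists_perp_of_not_mem {W : Submodule F (Fin m ⊕ Fin m → F)} {x : Fin m ⊕ Fin m → F}
    (hx : x ∉ W) : ∃ u ∈ perp W, sympForm m F x u ≠ 0 := by
  by_contra hne
  apply hx
  rw [← perp_perp W, mem_perp']
  intro u hu
  by_contra h0
  exact hne ⟨u, hu, h0⟩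

/-- The stabiliser of `W` in the symplectic group. -/
abbrev PW (W : Submodule F (Fin m ⊕ Fin m → F)) : Subgroup (Matrix.symplecticGroup (Fin m) F) :=
  Cfsg.stabilizing (Cfsg.spToMat m F) (W : Set (Fin m ⊕ Fin m → F))

theorem mem_PW_iff {W : Submodule F (Fin m ⊕ Fin m → F)} {g : Matrix.symplecticGroup (Fin m) F} :
    g ∈ PW W ↔ ∀ x, x ∈ W ↔ act g x ∈ W := Iff.rfl

theorem mem_PW_of_maps {W : Submodule F (Fin m ⊕ Fin m → F)}
    {g : Matrix.symplecticGroup (Fin m) F} (h1 : ∀ x ∈ W, act g x ∈ W)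
    (h2 : ∀ x ∈ W, act g⁻¹ x ∈ W) : g ∈ PW W := by
  rw [mem_PW_iff]
  intro x
  constructor
  · exact h1 x
  · intro hx
    have := h2 _ hx
    rwa [act_inv_act] at this

theorem PW_maps {W : Submodule F (Fin m ⊕ Fin m → F)} {g : Matrix.symplecticGroup (Fin m) F}
    (hg : g ∈ PW W) {x : Fin m ⊕ Fin m → F} (hx : x ∈ W) : act g x ∈ W :=
  (mem_PW_iff.mp hg x).mp hx

theorem PW_maps_inv {W : Submodule F (Fin m ⊕ Fin m → F)} {g : Matrix.symplecticGroup (Fin m) F}
    (hg : g ∈ PW W) {x : Fin m ⊕ Fin m → F} (hx : x ∈ W) : act g⁻¹ x ∈ W :=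
  PW_maps (inv_mem hg) hx

theorem tv_mem_PW_of_mem {W : Submodule F (Fin m ⊕ Fin m → F)} {w : Fin m ⊕ Fin m → F}
    (hw : w ∈ W) (c : F) : tv w c ∈ PW W := by
  apply mem_PW_of_maps
  · intro x hx
    rw [act_tv]
    exact W.add_mem hx (W.smul_mem _ hw)
  · intro x hx
    rw [tv_inv, act_tv]
    exact W.add_mem hx (W.smul_mem _ hw)

theorem tv_mem_PW_of_perp {W : Submodule F (Fin m ⊕ Fin m → F)} {w : Fin m ⊕ Fin m → F}
    (hw : w ∈ perp W) (c : F) : tv w c ∈ PW W := by
  rw [mem_perp] at hw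
  apply mem_PW_of_maps
  · intro x hx
    rw [act_tv, hw x hx, mul_zero, zero_smul, add_zero]
    exact hx
  · intro x hx
    rw [tv_inv, act_tv, hw x hx, mul_zero, zero_smul, add_zero]
    exact hx

/-- Elements of the stabiliser of `W` stabilise `perp W`. -/
theorem PW_maps_perp {W : Submodule F (Fin m ⊕ Fin m → F)} {g : Matrix.symplecticGroup (Fin m) F}
    (hg : g ∈ PW W) {x : Fin m ⊕ Fin m → F} (hx : x ∈ perp W) : act g x ∈ perp W := by
  rw [mem_perp] at hx ⊢
  intro w hw
  have := hx _ (PW_maps_inv hg hw)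
  rw [← act_preserves g, act_act_inv] at this
  exact this

/-! ### The bridge to `spGL` -/

/-- The symplectic group into the general linear group. -/
def spHom : Matrix.symplecticGroup (Fin m) F →* Matrix.GeneralLinearGroup (Fin m ⊕ Fin m) F where
  toFun A := (Cfsg.Agent.S0768.lift A).1
  map_one' := by
    apply Units.ext
    rfl
  map_mul' A B := by
    apply Units.ext
    rfl

theorem spHom_coe (A : Matrix.symplecticGroup (Fin m) F) :
    ((spHom A : Matrix.GeneralLinearGroup (Fin m ⊕ Fin m) F) :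
      Matrix (Fin m ⊕ Fin m) (Fin m ⊕ Fin m) F) = A.1 := rfl

theorem spHom_mem (A : Matrix.symplecticGroup (Fin m) F) : spHom A ∈ Cfsg.spGL m F :=
  (Cfsg.Agent.S0768.lift A).2

theorem spHom_range : (spHom (F := F) (m := m)).range = Cfsg.spGL m F := by
  ext g
  constructor
  · rintro ⟨A, rfl⟩
    exact spHom_mem A
  · intro hg
    obtain ⟨A, hA⟩ := Cfsg.Agent.S0270.lift_surjective ⟨g, hg⟩
    exact ⟨A, congrArg Subtype.val hA⟩

theorem comap_subspaceStabilizer (W : Submodule F (Fin m ⊕ Fin m → F)) :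
    (Cfsg.Geo.subspaceStabilizer W).comap spHom = PW W := by
  ext g
  rfl

/-- Transfer of maximality from the matrix symplectic group to `spGL`. -/
theorem isMaximalIn_of_comap (K : Subgroup (Matrix.GeneralLinearGroup (Fin m ⊕ Fin m) F))
    (hne : K.comap spHom ≠ ⊤)
    (hmax : ∀ H : Subgroup (Matrix.symplecticGroup (Fin m) F), K.comap spHom ≤ H →
      H = K.comap spHom ∨ H = ⊤) :
    Cfsg.Geo.IsMaximalIn (Cfsg.spGL m F) (K ⊓ Cfsg.spGL m F) := by
  refine ⟨lt_of_le_of_ne inf_le_right ?_, ?_⟩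
  · intro h
    apply hne
    rw [eq_top_iff]
    intro A _
    have : spHom A ∈ K ⊓ Cfsg.spGL m F := by
      rw [h]; exact spHom_mem A
    exact this.1
  · intro M hM1 hM2
    have h1 : K.comap spHom ≤ M.comap spHom := by
      intro A hA
      exact hM1 ⟨hA, spHom_mem A⟩
    rcases hmax _ h1 with h | h
    · left
      apply le_antisymm _ hM1
      intro g hg
      refine ⟨?_, hM2 hg⟩
      have hg' := hM2 hg
      rw [← spHom_range] at hg'
      obtain ⟨A, rfl⟩ := hg'
      have : A ∈ M.comap spHom := hg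
      rw [h] at this
      exact this
    · right
      apply le_antisymm hM2
      intro g hg
      rw [← spHom_range] at hg
      obtain ⟨A, rfl⟩ := hg
      have : A ∈ M.comap spHom := by rw [h]; trivial
      exact this

end Cfsg.Agent.Lib.Helper27.SympTransv
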