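import Cfsg.Agent.Lib.Helper27.RankOneCount

set_option autoImplicit false
open Cfsg
open Cfsg.Agent.Lib.Helper28
open scoped Pointwise

namespace Cfsg.Agent.Lib.Helper27.RankOne

variable {G Ω : Type*} [Group G] [MulAction G Ω] {a : Ω} {t : G} {Q : Subgroup G}

/-- A non-identity element of `Q` fixes only `a`. -/
theorem Q_fix_only (hS : IsRankOneSetup G Ω a t Q) {q : G} (hq : q ∈ Q) (hq1 : q ≠ 1) {b : Ω}
    (hb : q • b = b) : b = a := by
  by_contra hne
  exact hq1 (rk1_Q_free hS hne hq hb)

/-- Every involution is conjugate into `Q`. -/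
theorem involution_conj_mem_Q [Finite G] (hS : IsRankOneSetup G Ω a t Q) {u : G}
    (hu2 : u * u = 1) : ∃ g : G, g * u * g⁻¹ ∈ Q := by
  classical
  obtain ⟨P, hP⟩ := exists_sylow_le hS
  have hpg : IsPGroup 2 (Subgroup.zpowers u) := by
    apply IsPGroup.of_card (n := if u = 1 then 0 else 1)
    rw [Nat.card_zpowers]
    by_cases h : u = 1
    · simp [h]
    · simp only [h, if_false, pow_one]
      exact orderOf_eq_prime (by rw [pow_two]; exact hu2) h
  obtain ⟨P', hP'⟩ := hpg.exists_le_sylow
  obtain ⟨g, hg⟩ := MulAction.exists_smul_eq G P' P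
  refine ⟨g, hP ?_⟩
  rw [← hg, Sylow.coe_subgroup_smul]
  have : u ∈ (P' : Subgroup G) := hP' (Subgroup.mem_zpowers u)
  have h2 := Subgroup.smul_mem_pointwise_smul u (MulAut.conj g) (P' : Subgroup G) this
  simpa [MulAut.smul_def] using h2

/-- Every involution of `G` has exactly one fixed point. -/
theorem involution_fix_unique [Finite G] (hS : IsRankOneSetup G Ω a t Q) {u : G}
    (hu1 : u ≠ 1) (hu2 : u * u = 1) : ∃! b : Ω, u • b = b := by
  obtain ⟨g, hg⟩ := involution_conj_mem_Q hS hu2
  have hg1 : g * u * g⁻¹ ≠ 1 := by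
    intro h
    apply hu1
    have : u = g⁻¹ * (g * u * g⁻¹) * g := by group
    rw [this, h]; group
  refine ⟨g⁻¹ • a, ?_, ?_⟩
  · have h1 : (g * u * g⁻¹) • a = a := MulAction.mem_stabilizer_iff.mp (hS.le hg)
    calc u • g⁻¹ • a = g⁻¹ • (g * u * g⁻¹) • a := by
          simp only [← mul_smul]; congr 1; group
      _ = g⁻¹ • a := by rw [h1]
  · intro b hb
    have h1 : (g * u * g⁻¹) • (g • b) = g • b := by
      simp only [← mul_smul]
      rw [show g * u * g⁻¹ * g = g * u by group, mul_smul, hb]
    have := Q_fix_only hS hg hg1 h1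
    rw [← this, inv_smul_smul]

/-- An involution in `G_a` fixes only `a`. -/
theorem involution_stab_fix_only [Finite G] (hS : IsRankOneSetup G Ω a t Q) {s : G}
    (hs : s ∈ MulAction.stabilizer G a) (hs1 : s ≠ 1) (hs2 : s * s = 1) {b : Ω}
    (hb : s • b = b) : b = a := by
  obtain ⟨c, -, hc⟩ := involution_fix_unique hS hs1 hs2
  rw [hc b hb, hc a (MulAction.mem_stabilizer_iff.mp hs)]

/-- Two involutions with product of odd order are conjugate by an involution-like element. -/
theorem exists_conj_of_odd {s σ : G} (hs : s * s = 1) (hσ : σ * σ = 1)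
    (hodd : Odd (orderOf (s * σ))) : ∃ w : G, w * w = 1 ∧ w * σ * w = s := by
  obtain ⟨m, hm⟩ := hodd
  set r := s * σ with hr
  have hrinv : σ * r * σ = r⁻¹ := by
    rw [hr, eq_inv_iff_mul_eq_one]
    calc σ * (s * σ) * σ * (s * σ) = σ * s * (σ * σ) * s * σ := by group
      _ = σ * (s * s) * σ := by rw [hσ]; group
      _ = 1 := by rw [hs, mul_one, hσ]
  have hσinv : σ⁻¹ = σ := inv_eq_of_mul_eq_one_left hσ
  have hpow : ∀ j : ℕ, σ * r ^ j * σ = (r ^ j)⁻¹ := by
    intro j
    have : σ * r ^ j * σ = (σ * r * σ) ^ j := by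
      have := map_pow (MulAut.conj σ) r j
      simp only [MulAut.conj_apply, hσinv] at this
      exact this
    rw [this, hrinv, inv_pow]
  have hord : r ^ (2 * m + 1) = 1 := by rw [← hm]; exact pow_orderOf_eq_one r
  refine ⟨r ^ (m + 1) * σ, ?_, ?_⟩
  · calc r ^ (m + 1) * σ * (r ^ (m + 1) * σ) = r ^ (m + 1) * (σ * r ^ (m + 1) * σ) := by group
      _ = 1 := by rw [hpow, mul_inv_cancel]
  · calc r ^ (m + 1) * σ * σ * (r ^ (m + 1) * σ)
        = r ^ (m + 1) * (σ * σ) * r ^ (m + 1) * σ := by group
      _ = r ^ (2 * m + 1) * r * σ := by rw [hσ, mul_one, ← pow_add, ← pow_succ]; congr 2; ring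
      _ = s := by rw [hord, one_mul, hr, mul_assoc, hσ, mul_one]

/-- `s ∈ G_a` and `u ∉ G_a` involutions: `s u` has odd order. -/
theorem odd_orderOf_mul [Finite G] (hS : IsRankOneSetup G Ω a t Q) {s u : G}
    (hs : s ∈ MulAction.stabilizer G a) (hs1 : s ≠ 1) (hs2 : s * s = 1)
    (hu : u ∉ MulAction.stabilizer G a) (hu2 : u * u = 1) : Odd (orderOf (s * u)) := by
  by_contra hcon
  rw [Nat.not_odd_iff_even] at hcon
  obtain ⟨m, hm⟩ := hcon
  set r := s * u with hr
  have hpos : 0 < orderOf r := orderOf_pos r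
  have hm0 : 0 < m := by omega
  have hsinv : s⁻¹ = s := inv_eq_of_mul_eq_one_left hs2
  have huinv : u⁻¹ = u := inv_eq_of_mul_eq_one_left hu2
  have hrinv : r⁻¹ = u * s := by rw [hr, mul_inv_rev, hsinv, huinv]
  set z := r ^ m with hz
  have hz1 : z ≠ 1 := by
    intro h
    have := orderOf_dvd_of_pow_eq_one h
    have := Nat.le_of_dvd hm0 this
    omega
  have hz2 : z * z = 1 := by
    rw [hz, ← pow_add, ← hm]; exact pow_orderOf_eq_one r
  have hzinv : z⁻¹ = z := inv_eq_of_mul_eq_one_left hz2
  have hsz : s * z * s = z := by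
    have h1 : s * z * s = (s * r * s) ^ m := by
      have := map_pow (MulAut.conj s) r m
      simp only [MulAut.conj_apply, hsinv] at this
      exact this
    have h2 : s * r * s = r⁻¹ := by
      rw [hrinv, hr]
      calc s * (s * u) * s = (s * s) * u * s := by group
        _ = u * s := by rw [hs2, one_mul]
    rw [h1, h2, inv_pow, ← hz, hzinv]
  have huz : u * z * u = z := by
    have h1 : u * z * u = (u * r * u) ^ m := by
      have := map_pow (MulAut.conj u) r m
      simp only [MulAut.conj_apply, huinv] at this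
      exact this
    have h2 : u * r * u = r⁻¹ := by
      rw [hrinv, hr]
      calc u * (s * u) * u = u * s * (u * u) := by group
        _ = u * s := by rw [hu2, mul_one]
    rw [h1, h2, inv_pow, ← hz, hzinv]
  obtain ⟨c, hc, hcu⟩ := involution_fix_unique hS hz1 hz2
  -- s fixes c
  have hsc : s • c = c := by
    apply hcu
    calc z • s • c = s • (s * z * s) • c := by
          simp only [← mul_smul]; congr 1
          calc z * s = (s * s) * z * s := by rw [hs2, one_mul]
            _ = s * (s * z * s) := by group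
      _ = s • c := by rw [hsz, hc]
  have hca : c = a := involution_stab_fix_only hS hs hs1 hs2 hsc
  have huc : u • c = c := by
    apply hcu
    calc z • u • c = u • (u * z * u) • c := by
          simp only [← mul_smul]; congr 1
          calc z * u = (u * u) * z * u := by rw [hu2, one_mul]
            _ = u * (u * z * u) := by group
      _ = u • c := by rw [huz, hc]
  apply hu
  rw [MulAction.mem_stabilizer_iff, ← hca]
  exact huc

end Cfsg.Agent.Lib.Helper27.RankOne
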