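import Mathlib
import Cfsg.Agent.S0752
import Cfsg.Agent.Lib.Helper27.SympStab

set_option autoImplicit false

/-!
Symplectic coordinates on a non-degenerate subspace of the standard symplectic space, and the
restriction homomorphism from the stabiliser of the subspace to the smaller symplectic group.
-/

namespace Cfsg.Agent.Lib.Helper27.SympTransv

open Matrix Cfsg

variable {F : Type*} [Field F] {m : ℕ}

/-- Symplectic coordinates on a non-degenerate subspace. -/
theorem exists_sympCoord (W : Submodule F (Fin m ⊕ Fin m → F)) (hW : NondegOn W) (k : ℕ)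
    (hWk : Module.finrank F W = 2 * k) :
    ∃ e : (Fin k ⊕ Fin k → F) ≃ₗ[F] W,
      ∀ x y, sympForm m F (e x).1 (e y).1 = sympForm k F x y := by
  classical
  set B := (sympB m F).restrict W with hB
  have hBapp : ∀ x y : W, B x y = sympForm m F x.1 y.1 := fun x y => sympB_apply _ _
  have hA : B.IsAlt := fun x => by rw [hBapp]; exact sf_self _
  obtain ⟨m', k', b, r1, r2, r3, r4⟩ := Cfsg.Agent.S0752.result B hA
  have hk' : k' = 0 := by
    by_contra hne
    have hpos : 0 < k' := Nat.pos_of_ne_zero hne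
    have h0 := b.ne_zero (Sum.inr ⟨0, hpos⟩)
    obtain ⟨a, ha, hne'⟩ := hW (b (Sum.inr ⟨0, hpos⟩)).1 (b (Sum.inr ⟨0, hpos⟩)).2
      (fun h => h0 (Subtype.ext h))
    apply hne'
    have := r4 ⟨0, hpos⟩ ⟨a, ha⟩
    rw [hBapp] at this
    exact this
  subst hk'
  have hcard := Module.finrank_eq_card_basis b
  rw [hWk] at hcard
  simp only [Fintype.card_sum, Fintype.card_fin] at hcard
  have hm' : m' = k := by omega
  subst hm'
  set b' : Module.Basis (Fin m' ⊕ Fin m') F W :=
    b.reindex ((Equiv.sumEmpty (Fin m' ⊕ Fin m') (Fin 0)).trans (Equiv.sumComm (Fin m') (Fin m')))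
    with hb'
  have hb'l : ∀ i, b' (Sum.inl i) = b (Sum.inl (Sum.inr i)) := by
    intro i
    rw [hb', Module.Basis.reindex_apply]
    rfl
  have hb'r : ∀ i, b' (Sum.inr i) = b (Sum.inl (Sum.inl i)) := by
    intro i
    rw [hb', Module.Basis.reindex_apply]
    rfl
  set e : (Fin m' ⊕ Fin m' → F) ≃ₗ[F] W := b'.equivFun.symm with he
  have hes : ∀ s, e (Pi.single s 1) = b' s := by
    intro s
    rw [he, Module.Basis.equivFun_symm_apply, Finset.sum_eq_single s]
    · rw [Pi.single_eq_same, one_smul]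
    · intro t _ hts
      rw [Pi.single_eq_of_ne hts, zero_smul]
    · intro h
      exact absurd (Finset.mem_univ s) h
  refine ⟨e, ?_⟩
  have hBB : B.comp e.toLinearMap e.toLinearMap = sympB m' F := by
    apply LinearMap.BilinForm.ext_basis (Pi.basisFun F (Fin m' ⊕ Fin m'))
    intro s t
    rw [Pi.basisFun_apply, Pi.basisFun_apply, LinearMap.BilinForm.comp_apply, sympB_apply]
    change B (e (Pi.single s 1)) (e (Pi.single t 1)) = _
    rw [hes, hes]
    rcases s with i | i <;> rcases t with j | j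
    · rw [hb'l, hb'l, r3, sf_single_inl, Pi.single_apply, if_neg (by simp)]
    · rw [hb'l, hb'r, hBapp, sf_swap, ← hBapp, r1, sf_single_inr, Pi.single_apply]
      simp only [Sum.inl.injEq]
    · rw [hb'r, hb'l, r1, sf_single_inl, Pi.single_apply]
      simp only [Sum.inr.injEq]
      by_cases h : i = j
      · rw [if_pos h, if_pos h.symm]
      · rw [if_neg h, if_neg (Ne.symm h)]
    · rw [hb'r, hb'r, r2, sf_single_inr, Pi.single_apply, if_neg (by simp), neg_zero]
  intro x y
  rw [← hBapp, ← sympB_apply, ← hBB, LinearMap.BilinForm.comp_apply]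
  rfl

variable {k : ℕ}

/-- The restriction to `W` of an element of the stabiliser of `W`, in the coordinates `e`. -/
noncomputable def resL (W : Submodule F (Fin m ⊕ Fin m → F)) (e : (Fin k ⊕ Fin k → F) ≃ₗ[F] W)
    (g : Matrix.symplecticGroup (Fin m) F) (hg : g ∈ PW W) :
    (Fin k ⊕ Fin k → F) ≃ₗ[F] (Fin k ⊕ Fin k → F) where
  toFun x := e.symm ⟨act g (e x).1, PW_maps hg (e x).2⟩
  map_add' x y := by
    rw [← map_add]
    congr 1
    apply Subtype.ext
    change act g (e (x + y)).1 = act g (e x).1 + act g (e y).1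
    rw [map_add, ← act_add]
    rfl
  map_smul' c x := by
    rw [RingHom.id_apply, ← map_smul]
    congr 1
    apply Subtype.ext
    change act g (e (c • x)).1 = c • act g (e x).1
    rw [map_smul, ← act_smul]
    rfl
  invFun x := e.symm ⟨act g⁻¹ (e x).1, PW_maps_inv hg (e x).2⟩
  left_inv x := by
    simp only [LinearEquiv.apply_symm_apply, act_inv_act, Subtype.coe_eta,
      LinearEquiv.symm_apply_apply]
  right_inv x := by
    simp only [LinearEquiv.apply_symm_apply, act_act_inv, Subtype.coe_eta,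
      LinearEquiv.symm_apply_apply]

theorem e_resL (W : Submodule F (Fin m ⊕ Fin m → F)) (e : (Fin k ⊕ Fin k → F) ≃ₗ[F] W)
    (g : Matrix.symplecticGroup (Fin m) F) (hg : g ∈ PW W) (x : Fin k ⊕ Fin k → F) :
    (e (resL W e g hg x)).1 = act g (e x).1 := by
  change (e (e.symm ⟨act g (e x).1, PW_maps hg (e x).2⟩)).1 = _
  rw [LinearEquiv.apply_symm_apply]

/-- The restriction as an element of the smaller symplectic group. -/
noncomputable def res (W : Submodule F (Fin m ⊕ Fin m → F)) (e : (Fin k ⊕ Fin k → F) ≃ₗ[F] W)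
    (he : ∀ x y, sympForm m F (e x).1 (e y).1 = sympForm k F x y)
    (g : Matrix.symplecticGroup (Fin m) F) (hg : g ∈ PW W) : Matrix.symplecticGroup (Fin k) F :=
  toSp (resL W e g hg) (by
    intro u v
    rw [← he, ← he u v, e_resL, e_resL, act_preserves])

theorem e_res (W : Submodule F (Fin m ⊕ Fin m → F)) (e : (Fin k ⊕ Fin k → F) ≃ₗ[F] W)
    (he : ∀ x y, sympForm m F (e x).1 (e y).1 = sympForm k F x y)
    (g : Matrix.symplecticGroup (Fin m) F) (hg : g ∈ PW W) (x : Fin k ⊕ Fin k → F) :
    (e (act (res W e he g hg) x)).1 = act g (e x).1 := by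
  unfold res
  rw [act_toSp, e_resL]

/-- Extensionality in coordinates. -/
theorem coord_ext (W : Submodule F (Fin m ⊕ Fin m → F)) (e : (Fin k ⊕ Fin k → F) ≃ₗ[F] W)
    {a b : Matrix.symplecticGroup (Fin k) F}
    (h : ∀ x, (e (act a x)).1 = (e (act b x)).1) : a = b := by
  apply act_ext
  intro x
  exact e.injective (Subtype.ext (h x))

theorem res_mul (W : Submodule F (Fin m ⊕ Fin m → F)) (e : (Fin k ⊕ Fin k → F) ≃ₗ[F] W)
    (he : ∀ x y, sympForm m F (e x).1 (e y).1 = sympForm k F x y)
    (g h : Matrix.symplecticGroup (Fin m) F) (hg : g ∈ PW W) (hh : h ∈ PW W) :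
    res W e he (g * h) (mul_mem hg hh) = res W e he g hg * res W e he h hh := by
  apply coord_ext W e
  intro x
  rw [e_res, act_mul, act_mul, e_res, e_res]

theorem res_one (W : Submodule F (Fin m ⊕ Fin m → F)) (e : (Fin k ⊕ Fin k → F) ≃ₗ[F] W)
    (he : ∀ x y, sympForm m F (e x).1 (e y).1 = sympForm k F x y) :
    res W e he 1 (one_mem _) = 1 := by
  apply coord_ext W e
  intro x
  rw [e_res, act_one, act_one]

end Cfsg.Agent.Lib.Helper27.SympTransv
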