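import Mathlib
import Cfsg.Agent.Lib.Helper27.SympCoord
import Cfsg.Agent.S5646

set_option autoImplicit false

/-!
Orthogonal decompositions of the standard symplectic space into non-degenerate subspaces:
projections, the form as a sum over components, and isometries permuting the components.
-/

namespace Cfsg.Agent.Lib.Helper27.SympTransv

open Matrix Cfsg

variable {F : Type*} [Field F] {m t : ℕ}

theorem sf_sum_left {ι : Type*} (s : Finset ι) (f : ι → (Fin m ⊕ Fin m → F))
    (y : Fin m ⊕ Fin m → F) :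
    sympForm m F (∑ i ∈ s, f i) y = ∑ i ∈ s, sympForm m F (f i) y := by
  classical
  induction s using Finset.induction_on with
  | empty => simp [sf_zero_left]
  | insert a s ha ih => rw [Finset.sum_insert ha, Finset.sum_insert ha, sf_add_left, ih]

theorem sf_sum_right {ι : Type*} (s : Finset ι) (f : ι → (Fin m ⊕ Fin m → F))
    (x : Fin m ⊕ Fin m → F) :
    sympForm m F x (∑ i ∈ s, f i) = ∑ i ∈ s, sympForm m F x (f i) := by
  classical
  induction s using Finset.induction_on with
  | empty => simp [sf_zero_right]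
  | insert a s ha ih => rw [Finset.sum_insert ha, Finset.sum_insert ha, sf_add_right, ih]

/-- An orthogonal decomposition into non-degenerate subspaces. -/
structure ODecomp (D : Fin t → Submodule F (Fin m ⊕ Fin m → F)) : Prop where
  nondeg : ∀ i, NondegOn (D i)
  orth : ∀ i j, i ≠ j → ∀ u ∈ D i, ∀ v ∈ D j, sympForm m F u v = 0
  top : iSup D = ⊤

theorem ODecomp.of_geo {D : Fin t → Submodule F (Fin m ⊕ Fin m → F)} {k : ℕ}
    (hD : Cfsg.Geo.IsNondegenerateMDecomposition (sympForm m F) k D) : ODecomp D where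
  nondeg i u hu hu0 := (hD.nondegenerate i u hu hu0).2
  orth i j hij := hD.orthogonal i j hij
  top := hD.decomp.iSup_eq_top

namespace ODecomp

variable {D : Fin t → Submodule F (Fin m ⊕ Fin m → F)} (hD : ODecomp D)

include hD

theorem isCompl (i : Fin t) : IsCompl (D i) (perp (D i)) :=
  LinearMap.BilinForm.isCompl_orthogonal_of_restrict_nondegenerate sympB_isAlt.isRefl
    (Cfsg.Agent.S5646.restrict_nondeg (D i) (hD.nondeg i))

theorem le_perp {i j : Fin t} (hij : i ≠ j) : D i ≤ perp (D j) := by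
  intro u hu
  rw [mem_perp]
  intro w hw
  exact hD.orth j i hij.symm w hw u hu

/-- The projection onto `D i`, as an endomorphism. -/
noncomputable def proj (i : Fin t) : (Fin m ⊕ Fin m → F) →ₗ[F] (Fin m ⊕ Fin m → F) :=
  (D i).subtype ∘ₗ (D i).projectionOnto (perp (D i)) (hD.isCompl i)

theorem proj_mem (i : Fin t) (x : Fin m ⊕ Fin m → F) : hD.proj i x ∈ D i :=
  ((D i).projectionOnto (perp (D i)) (hD.isCompl i) x).2

theorem proj_of_mem {i : Fin t} {x : Fin m ⊕ Fin m → F} (hx : x ∈ D i) : hD.proj i x = x := by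
  have := Submodule.projectionOnto_apply_left (hD.isCompl i) ⟨x, hx⟩
  exact congrArg Subtype.val this

theorem proj_of_perp {i : Fin t} {x : Fin m ⊕ Fin m → F} (hx : x ∈ perp (D i)) :
    hD.proj i x = 0 := by
  have := Submodule.projectionOnto_apply_right (hD.isCompl i) ⟨x, hx⟩
  exact congrArg Subtype.val this

theorem proj_of_mem_ne {i j : Fin t} (hij : i ≠ j) {x : Fin m ⊕ Fin m → F} (hx : x ∈ D j) :
    hD.proj i x = 0 :=
  hD.proj_of_perp (hD.le_perp hij.symm hx)

theorem sub_proj_mem_perp (i : Fin t) (x : Fin m ⊕ Fin m → F) :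
    x - hD.proj i x ∈ perp (D i) := by
  obtain ⟨x₁, hx₁, x₂, hx₂, rfl⟩ := Cfsg.Agent.S5646.exists_decomp (D i) (hD.nondeg i) x
  rw [map_add, hD.proj_of_mem hx₁, hD.proj_of_perp hx₂, add_zero, add_sub_cancel_left]
  exact hx₂

theorem sf_proj_left (i : Fin t) (x : Fin m ⊕ Fin m → F) {y : Fin m ⊕ Fin m → F}
    (hy : y ∈ D i) : sympForm m F (hD.proj i x) y = sympForm m F x y := by
  have h := mem_perp'.mp (hD.sub_proj_mem_perp i x) y hy
  rw [sf_sub_left, sub_eq_zero] at h
  exact h.symm

theorem sf_proj_right (i : Fin t) (x : Fin m ⊕ Fin m → F) {y : Fin m ⊕ Fin m → F}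
    (hy : y ∈ D i) : sympForm m F y (hD.proj i x) = sympForm m F y x := by
  rw [sf_swap, hD.sf_proj_left i x hy, ← sf_swap]

theorem proj_eq_zero_iff (i : Fin t) (x : Fin m ⊕ Fin m → F) :
    hD.proj i x = 0 ↔ x ∈ perp (D i) := by
  constructor
  · intro h
    have := hD.sub_proj_mem_perp i x
    rwa [h, sub_zero] at this
  · exact hD.proj_of_perp

theorem eq_zero_of_forall_perp {r : Fin m ⊕ Fin m → F} (h : ∀ j, r ∈ perp (D j)) : r = 0 := by
  by_contra hne
  obtain ⟨a, -, ha⟩ := nondegOn_top r Submodule.mem_top hne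
  apply ha
  have hle : iSup D ≤ perp (Submodule.span F {r}) := by
    apply iSup_le
    intro j u hu
    rw [mem_perp]
    intro w hw
    obtain ⟨c, rfl⟩ := Submodule.mem_span_singleton.mp hw
    rw [sf_smul_left, mem_perp'.mp (h j) u hu, mul_zero]
  have hmem : a ∈ perp (Submodule.span F {r}) := by
    apply hle
    rw [hD.top]
    trivial
  exact mem_perp.mp hmem r (Submodule.mem_span_singleton_self r)

theorem sum_proj (x : Fin m ⊕ Fin m → F) : ∑ i, hD.proj i x = x := by
  have h : x - ∑ i, hD.proj i x = 0 := by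
    apply hD.eq_zero_of_forall_perp
    intro j
    rw [mem_perp]
    intro w hw
    rw [sf_sub_right, sf_sum_right, Finset.sum_eq_single j, hD.sf_proj_right j x hw, sub_self]
    · intro i _ hij
      exact hD.orth j i hij.symm w hw _ (hD.proj_mem i x)
    · intro hj
      exact absurd (Finset.mem_univ j) hj
  rw [sub_eq_zero] at h
  exact h.symm

theorem sf_eq_sum (x y : Fin m ⊕ Fin m → F) :
    sympForm m F x y = ∑ i, sympForm m F (hD.proj i x) (hD.proj i y) := by
  conv_lhs => rw [← hD.sum_proj x]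
  rw [sf_sum_left]
  apply Finset.sum_congr rfl
  intro i _
  exact (hD.sf_proj_right i y (hD.proj_mem i x)).symm

/-- An isometry permuting the members of the decomposition as prescribed. -/
theorem exists_perm (k' : ℕ) (hk : ∀ i, Module.finrank F (D i) = 2 * k')
    (σ : Equiv.Perm (Fin t)) :
    ∃ s : Matrix.symplecticGroup (Fin m) F, ∀ l, ∀ x ∈ D l, act s x ∈ D (σ l) := by
  classical
  choose e he using fun l => exists_sympCoord (D l) (hD.nondeg l) k' (hk l)
  let θ : Fin t → ((Fin m ⊕ Fin m → F) →ₗ[F] (Fin m ⊕ Fin m → F)) := fun l =>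
    (D (σ l)).subtype ∘ₗ (e (σ l)).toLinearMap ∘ₗ (e l).symm.toLinearMap ∘ₗ
      (D l).projectionOnto (perp (D l)) (hD.isCompl l)
  have hθ : ∀ l x, θ l x = (e (σ l) ((e l).symm ⟨hD.proj l x, hD.proj_mem l x⟩)).1 :=
    fun l x => rfl
  have hθmem : ∀ l x, θ l x ∈ D (σ l) := fun l x => by
    rw [hθ]
    exact (e (σ l) _).2
  have hθiso : ∀ l x y, sympForm m F (θ l x) (θ l y) =
      sympForm m F (hD.proj l x) (hD.proj l y) := by
    intro l x y
    rw [hθ, hθ, he (σ l), ← he l, LinearEquiv.apply_symm_apply, LinearEquiv.apply_symm_apply]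
  set T : (Fin m ⊕ Fin m → F) →ₗ[F] (Fin m ⊕ Fin m → F) := ∑ l, θ l with hT
  have hTapp : ∀ x, T x = ∑ l, θ l x := by
    intro x
    rw [hT, LinearMap.sum_apply]
  have hTiso : ∀ x y, sympForm m F (T x) (T y) = sympForm m F x y := by
    intro x y
    rw [hTapp, hTapp, sf_sum_left, hD.sf_eq_sum x y]
    apply Finset.sum_congr rfl
    intro l _
    rw [sf_sum_right, Finset.sum_eq_single l, hθiso]
    · intro l' _ hl'
      exact hD.orth (σ l) (σ l') (fun h => hl' (σ.injective h).symm) _ (hθmem l x) _ (hθmem l' y)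
    · intro hl
      exact absurd (Finset.mem_univ l) hl
  have hTinj : ∀ x, T x = 0 → x = 0 := by
    intro x hx
    by_contra hne
    obtain ⟨a, -, ha⟩ := nondegOn_top x Submodule.mem_top hne
    apply ha
    rw [← hTiso, hx, sf_zero_left]
  obtain ⟨A, hA⟩ := witt_sp_submodule (⊤ : Submodule F (Fin m ⊕ Fin m → F)) T
    (fun x _ x' _ => hTiso x x') (fun x _ h => hTinj x h)
  refine ⟨A, fun l x hx => ?_⟩
  rw [hA x Submodule.mem_top, hTapp, Finset.sum_eq_single l]
  · exact hθmem l x
  · intro j _ hj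
    rw [hθ]
    have h0 : (⟨hD.proj j x, hD.proj_mem j x⟩ : D j) = 0 :=
      Subtype.ext (hD.proj_of_mem_ne hj hx)
    rw [h0, map_zero, map_zero]
    rfl
  · intro hl
    exact absurd (Finset.mem_univ l) hl

end ODecomp

/-- A non-degenerate subspace has even dimension. -/
theorem exists_half (W : Submodule F (Fin m ⊕ Fin m → F)) (hW : NondegOn W) :
    ∃ k' : ℕ, Module.finrank F W = 2 * k' := by
  classical
  set B := (sympB m F).restrict W with hB
  have hBapp : ∀ x y : W, B x y = sympForm m F x.1 y.1 := fun x y => sympB_apply _ _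
  have hA : B.IsAlt := fun x => by rw [hBapp]; exact sf_self _
  obtain ⟨m', k', b, r1, r2, r3, r4⟩ := Cfsg.Agent.S0752.result B hA
  have hk' : k' = 0 := by
    by_contra hne
    have hpos : 0 < k' := Nat.pos_of_ne_zero hne
    have h0 := b.ne_zero (Sum.inr ⟨0, hpos⟩)
    obtain ⟨a, ha, hne'⟩ := hW (b (Sum.inr ⟨0, hpos⟩)).1 (b (Sum.inr ⟨0, hpos⟩)).2
      (fun h => h0 (Subtype.ext h))
    apply hne'
    have := r4 ⟨0, hpos⟩ ⟨a, ha⟩
    rw [hBapp] at this
    exact this
  subst hk'
  have hcard := Module.finrank_eq_card_basis b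
  simp only [Fintype.card_sum, Fintype.card_fin] at hcard
  exact ⟨m', by omega⟩

end Cfsg.Agent.Lib.Helper27.SympTransv
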