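import Mathlib
import Cfsg.Agent.Lib.Helper27.SympFrames
import Cfsg.Agent.Lib.Helper27.SympDecomp

set_option autoImplicit false

/-!
Symplectic involutions in characteristic two: normal forms and conjugacy.
For an involution `t` the map `N = t - 1` is self-adjoint for the alternating form and
`β(x, y) = f(N x, y)` is a symmetric form with radical `ker N`; the class of `t` is determined by
the rank of `N` and by whether `β` is alternating.
-/

namespace Cfsg.Agent.Lib.Helper27.SpInvol

open Cfsg Matrix Cfsg.Agent.Lib.Helper27.SympTransv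

variable {F : Type*} [Field F] {m : ℕ}

theorem sf_nondeg (u : Fin m ⊕ Fin m → F) (h : ∀ w, sympForm m F u w = 0) : u = 0 := by
  by_contra hne
  obtain ⟨a, -, ha⟩ := nondegOn_top u Submodule.mem_top hne
  exact ha (h a)

/-- Self-adjoint maps for the alternating form. -/
def SAdj (N : (Fin m ⊕ Fin m → F) →ₗ[F] (Fin m ⊕ Fin m → F)) : Prop :=
  ∀ x y, sympForm m F (N x) y = sympForm m F x (N y)

/-- A system with prescribed "permutation" Gram matrix for the form `f(N x, y)`. -/
def GSys {ι : Type*} [DecidableEq ι] (N : (Fin m ⊕ Fin m → F) →ₗ[F] (Fin m ⊕ Fin m → F))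
    (π : ι → ι) (w : ι → (Fin m ⊕ Fin m → F)) : Prop :=
  ∀ i j, sympForm m F (N (w i)) (w j) = if j = π i then 1 else 0

section generic

variable {ι : Type*} [Fintype ι] [DecidableEq ι]
  {N : (Fin m ⊕ Fin m → F) →ₗ[F] (Fin m ⊕ Fin m → F)} {π : ι → ι}
  {w : ι → (Fin m ⊕ Fin m → F)}

theorem gsys_proj (hπ : ∀ i, π (π i) = i) (hw : GSys N π w) (y : Fin m ⊕ Fin m → F) (j : ι) :
    sympForm m F (N (y - ∑ i, sympForm m F (N y) (w i) • w (π i))) (w j) = 0 := by
  rw [map_sub, map_sum, sf_sub_left, sf_sum_left]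
  have : ∀ i, sympForm m F (N (sympForm m F (N y) (w i) • w (π i))) (w j) =
      if i = j then sympForm m F (N y) (w i) else 0 := by
    intro i
    rw [map_smul, sf_smul_left, hw (π i) j, hπ i]
    by_cases h : i = j
    · rw [if_pos h, if_pos h.symm, mul_one]
    · rw [if_neg h, if_neg (Ne.symm h), mul_zero]
  rw [Finset.sum_congr rfl (fun i _ => this i), Finset.sum_ite_eq' Finset.univ j]
  simp

/-- If the form vanishes on the orthogonal complement of the system, `N` is given by the system. -/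
theorem gsys_stuck (hπ : ∀ i, π (π i) = i) (hw : GSys N π w)
    (hS : ∀ z z', (∀ i, sympForm m F (N z) (w i) = 0) → (∀ i, sympForm m F (N z') (w i) = 0) →
      sympForm m F (N z) z' = 0) :
    ∀ y, N y = ∑ i, sympForm m F (N y) (w i) • N (w (π i)) := by
  intro y
  have hNP : N (y - ∑ i, sympForm m F (N y) (w i) • w (π i)) = 0 := by
    apply sf_nondeg
    intro z
    have hz : z = (z - ∑ j, sympForm m F (N z) (w j) • w (π j)) +
        ∑ j, sympForm m F (N z) (w j) • w (π j) := by abel
    calc sympForm m F (N (y - ∑ i, sympForm m F (N y) (w i) • w (π i))) z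
        = sympForm m F (N (y - ∑ i, sympForm m F (N y) (w i) • w (π i)))
            ((z - ∑ j, sympForm m F (N z) (w j) • w (π j)) +
              ∑ j, sympForm m F (N z) (w j) • w (π j)) := by rw [← hz]
      _ = 0 := by
        rw [sf_add_right, hS _ _ (gsys_proj hπ hw y) (gsys_proj hπ hw z), sf_sum_right, zero_add]
        apply Finset.sum_eq_zero
        intro j _
        rw [sf_smul_right, gsys_proj hπ hw y (π j), mul_zero]
  rw [map_sub, sub_eq_zero, map_sum] at hNP
  refine hNP.trans ?_
  apply Finset.sum_congr rfl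
  intro i _
  rw [map_smul]

theorem gsys_coeff (hπ : ∀ i, π (π i) = i) (hw : GSys N π w) (c : ι → F) (j : ι) :
    sympForm m F (∑ i, c i • N (w i)) (w (π j)) = c j := by
  rw [sf_sum_left]
  have : ∀ i, sympForm m F (c i • N (w i)) (w (π j)) = if i = j then c i else 0 := by
    intro i
    rw [sf_smul_left, hw i (π j)]
    by_cases h : i = j
    · rw [if_pos h, if_pos (by rw [h]), mul_one]
    · rw [if_neg h, if_neg, mul_zero]
      intro h'
      apply h
      have := congrArg π h'
      rw [hπ, hπ] at this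
      exact this.symm
  rw [Finset.sum_congr rfl (fun i _ => this i), Finset.sum_ite_eq' Finset.univ j]
  simp

theorem gsys_li (hπ : ∀ i, π (π i) = i) (hw : GSys N π w) :
    LinearIndependent F (fun i => N (w i)) := by
  rw [Fintype.linearIndependent_iff]
  intro c hc j
  rw [← gsys_coeff hπ hw c j, hc, sf_zero_left]

theorem gsys_card_le (hπ : ∀ i, π (π i) = i) (hw : GSys N π w) :
    Fintype.card ι ≤ Module.finrank F (LinearMap.range N) := by
  have hli := gsys_li hπ hw
  have h1 := finrank_span_eq_card hli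
  rw [← h1]
  apply Submodule.finrank_mono
  rw [Submodule.span_le]
  rintro _ ⟨i, rfl⟩
  exact LinearMap.mem_range_self N (w i)

theorem gsys_rank_le (hform : ∀ y, N y = ∑ i, sympForm m F (N y) (w i) • N (w (π i))) :
    Module.finrank F (LinearMap.range N) ≤ Fintype.card ι := by
  have h1 : LinearMap.range N ≤ Submodule.span F (Set.range (fun i => N (w i))) := by
    rintro _ ⟨y, rfl⟩
    rw [hform y]
    exact Submodule.sum_mem _
      (fun i _ => Submodule.smul_mem _ _ (Submodule.subset_span ⟨π i, rfl⟩))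
  have h2 := Submodule.finrank_mono h1
  have h3 : Module.finrank F (Submodule.span F (Set.range (fun i => N (w i)))) ≤
      Fintype.card ι := finrank_range_le_card (R := F) (fun i => N (w i))
  omega

end generic


theorem act_sum_smul {ι : Type*} (s : Finset ι) (A : Matrix.symplecticGroup (Fin m) F)
    (c : ι → F) (v : ι → (Fin m ⊕ Fin m → F)) :
    act A (∑ i ∈ s, c i • v i) = ∑ i ∈ s, c i • act A (v i) := by
  have h := map_sum (actL A) (fun i => c i • v i) s
  rw [actL_apply] at h
  rw [h]
  apply Finset.sum_congr rfl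
  intro i _
  rw [actL_apply, act_smul]

section conj

variable {ι : Type*} [Fintype ι] [DecidableEq ι]

/-- Two self-adjoint square-zero maps with the same normal form are conjugate under `Sp`. -/
theorem gsys_conj (π : ι → ι) (hπ : ∀ i, π (π i) = i)
    {Na Nb : (Fin m ⊕ Fin m → F) →ₗ[F] (Fin m ⊕ Fin m → F)}
    (hNa : SAdj Na) (hNb : SAdj Nb) (hNNa : ∀ y, Na (Na y) = 0) (hNNb : ∀ y, Nb (Nb y) = 0)
    (w w' : ι → (Fin m ⊕ Fin m → F)) (hw : GSys Na π w) (hw' : GSys Nb π w')
    (hfa : ∀ y, Na y = ∑ i, sympForm m F (Na y) (w i) • Na (w (π i)))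
    (hfb : ∀ y, Nb y = ∑ i, sympForm m F (Nb y) (w' i) • Nb (w' (π i))) :
    ∃ A : Matrix.symplecticGroup (Fin m) F, ∀ y, act A (Na y) = Nb (act A y) := by
  have hee : ∀ i j, sympForm m F (Na (w i)) (Na (w j)) = 0 := by
    intro i j
    rw [hNa, hNNa, sf_zero_right]
  have hee' : ∀ i j, sympForm m F (Nb (w' i)) (Nb (w' j)) = 0 := by
    intro i j
    rw [hNb, hNNb, sf_zero_right]
  obtain ⟨f, hfdef⟩ : ∃ f : (Fin m ⊕ Fin m → F) →ₗ[F] (Fin m ⊕ Fin m → F),
      f = ∑ i, ((sympB m F).flip (w (π i))).smulRight (Nb (w' i)) := ⟨_, rfl⟩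
  have hfy : ∀ y, f y = ∑ i, sympForm m F y (w (π i)) • Nb (w' i) := by
    intro y
    rw [hfdef, LinearMap.sum_apply]
    apply Finset.sum_congr rfl
    intro i _
    rw [LinearMap.smulRight_apply]
    show sympB m F y (w (π i)) • _ = _
    rw [sympB_apply]
  have hf_comb : ∀ c : ι → F, f (∑ i, c i • Na (w i)) = ∑ i, c i • Nb (w' i) := by
    intro c
    rw [hfy]
    apply Finset.sum_congr rfl
    intro j _
    rw [gsys_coeff hπ hw]
  have hfmem : ∀ y, f y ∈ Submodule.span F (Set.range (fun i => Nb (w' i))) := by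
    intro y
    rw [hfy]
    exact Submodule.sum_mem _
      (fun i _ => Submodule.smul_mem _ _ (Submodule.subset_span ⟨i, rfl⟩))
  obtain ⟨A, hA⟩ := witt_sp_submodule (Submodule.span F (Set.range (fun i => Na (w i)))) f
    (by
      intro u hu u' hu'
      rw [isotropic_span _ hee' _ (hfmem u) _ (hfmem u'), isotropic_span _ hee u hu u' hu'])
    (by
      intro u hu hfu
      obtain ⟨c, rfl⟩ := (Submodule.mem_span_range_iff_exists_fun F).mp hu
      rw [hf_comb] at hfu
      have hc := Fintype.linearIndependent_iff.mp (gsys_li hπ hw') c hfu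
      apply Finset.sum_eq_zero
      intro i _
      rw [hc i, zero_smul])
  have hAe : ∀ i, act A (Na (w i)) = Nb (w' i) := by
    intro i
    have h0 := hA (Na (w i)) (Submodule.subset_span ⟨i, rfl⟩)
    rw [h0]
    have h1 : Na (w i) = ∑ j, (if j = i then (1 : F) else 0) • Na (w j) := by
      rw [Finset.sum_eq_single i]
      · rw [if_pos rfl, one_smul]
      · intro j _ hj
        rw [if_neg hj, zero_smul]
      · intro h
        exact absurd (Finset.mem_univ i) h
    rw [h1, hf_comb, Finset.sum_eq_single i]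
    · rw [if_pos rfl, one_smul]
    · intro j _ hj
      rw [if_neg hj, zero_smul]
    · intro h
      exact absurd (Finset.mem_univ i) h
  refine ⟨A, fun y => ?_⟩
  rw [hfa y, act_sum_smul, hfb (act A y)]
  apply Finset.sum_congr rfl
  intro i _
  rw [hAe, hNa y (w i), hNb (act A y) (w' i), ← hAe i, act_preserves]

end conj


section tables

variable {α : Type*} (B : α → α → F)

theorem snoc_delta {k : ℕ} (a b : Fin k → α) (p q : α)
    (h : ∀ i j, B (a i) (b j) = if i = j then 1 else 0) (hp : ∀ j, B p (b j) = 0)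
    (hq : ∀ i, B (a i) q = 0) (hpq : B p q = 1) :
    ∀ i j, B ((Fin.snoc (α := fun _ => α) a p : Fin (k + 1) → α) i)
      ((Fin.snoc (α := fun _ => α) b q : Fin (k + 1) → α) j) = if i = j then 1 else 0 := by
  intro i j
  refine Fin.lastCases ?_ (fun i' => ?_) i <;> refine Fin.lastCases ?_ (fun j' => ?_) j
  · rw [Fin.snoc_last, Fin.snoc_last, if_pos rfl]
    exact hpq
  · rw [Fin.snoc_last, Fin.snoc_castSucc, hp j', if_neg]
    exact (Fin.castSucc_lt_last j').ne'
  · rw [Fin.snoc_castSucc, Fin.snoc_last, hq i', if_neg]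
    exact (Fin.castSucc_lt_last i').ne
  · rw [Fin.snoc_castSucc, Fin.snoc_castSucc, h i' j']
    by_cases hh : i' = j'
    · rw [if_pos hh, if_pos (by rw [hh])]
    · rw [if_neg hh, if_neg (fun h' => hh (Fin.castSucc_injective _ h'))]

theorem snoc_zero {k : ℕ} (a b : Fin k → α) (p q : α)
    (h : ∀ i j, B (a i) (b j) = 0) (hp : ∀ j, B p (b j) = 0)
    (hq : ∀ i, B (a i) q = 0) (hpq : B p q = 0) :
    ∀ i j, B ((Fin.snoc (α := fun _ => α) a p : Fin (k + 1) → α) i)
      ((Fin.snoc (α := fun _ => α) b q : Fin (k + 1) → α) j) = 0 := by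
  intro i j
  refine Fin.lastCases ?_ (fun i' => ?_) i <;> refine Fin.lastCases ?_ (fun j' => ?_) j
  · rw [Fin.snoc_last, Fin.snoc_last]
    exact hpq
  · rw [Fin.snoc_last, Fin.snoc_castSucc, hp j']
  · rw [Fin.snoc_castSucc, Fin.snoc_last, hq i']
  · rw [Fin.snoc_castSucc, Fin.snoc_castSucc, h i' j']

end tables

/-- Orthonormal systems for `f(N x, y)`. -/
def OSys (N : (Fin m ⊕ Fin m → F) →ₗ[F] (Fin m ⊕ Fin m → F)) {k : ℕ}
    (x : Fin k → (Fin m ⊕ Fin m → F)) : Prop :=
  ∀ i j, sympForm m F (N (x i)) (x j) = if i = j then 1 else 0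

/-- Symplectic systems for `f(N x, y)`. -/
def PSys (N : (Fin m ⊕ Fin m → F) →ₗ[F] (Fin m ⊕ Fin m → F)) {k : ℕ}
    (x y : Fin k → (Fin m ⊕ Fin m → F)) : Prop :=
  (∀ i j, sympForm m F (N (x i)) (x j) = 0) ∧
  (∀ i j, sympForm m F (N (x i)) (y j) = if i = j then 1 else 0) ∧
  (∀ i j, sympForm m F (N (y i)) (x j) = if i = j then 1 else 0) ∧
  (∀ i j, sympForm m F (N (y i)) (y j) = 0)

variable {N : (Fin m ⊕ Fin m → F) →ₗ[F] (Fin m ⊕ Fin m → F)}

theorem osys_gsys {k : ℕ} {x : Fin k → (Fin m ⊕ Fin m → F)} (hx : OSys N x) :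
    GSys N id x := by
  intro i j
  rw [hx i j, id]
  by_cases h : i = j
  · rw [if_pos h, if_pos h.symm]
  · rw [if_neg h, if_neg (Ne.symm h)]

theorem psys_gsys {k : ℕ} {x y : Fin k → (Fin m ⊕ Fin m → F)} (h : PSys N x y) :
    GSys N Sum.swap (Sum.elim x y) := by
  obtain ⟨hxx, hxy, hyx, hyy⟩ := h
  rintro (i | i) (j | j)
  · simp [hxx i j]
  · by_cases h : i = j
    · subst h
      simp [hxy]
    · have h' : j ≠ i := Ne.symm h
      simp [hxy, h, h']
  · by_cases h : i = j
    · subst h
      simp [hyx]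
    · have h' : j ≠ i := Ne.symm h
      simp [hyx, h, h']
  · simp [hyy i j]

section chartwo

variable [CharP F 2]

theorem sadj_symm (hN : SAdj N) (u v : Fin m ⊕ Fin m → F) :
    sympForm m F (N u) v = sympForm m F (N v) u := by
  rw [hN u v, sf_swap (N v) u, CharTwo.neg_eq]

theorem osys_update (hN : SAdj N) {k : ℕ} (x : Fin k → (Fin m ⊕ Fin m → F)) (hx : OSys N x)
    (i₀ : Fin k) (u : Fin m ⊕ Fin m → F) (hu : ∀ i, sympForm m F (N u) (x i) = 0)
    (huu : sympForm m F (N u) u = 0) : OSys N (Function.update x i₀ (x i₀ + u)) := by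
  intro i j
  by_cases hi : i = i₀
  · by_cases hj : j = i₀
    · rw [hi, hj, Function.update_self, if_pos rfl, map_add, sf_add_left, sf_add_right,
        sf_add_right, hx i₀ i₀, if_pos rfl, sadj_symm hN (x i₀) u, hu i₀, huu]
      ring
    · rw [hi, Function.update_self, Function.update_of_ne hj, map_add, sf_add_left, hx i₀ j,
        hu j, add_zero]
  · by_cases hj : j = i₀
    · rw [hj, Function.update_self, Function.update_of_ne hi, sf_add_right, hx i i₀,
        sadj_symm hN (x i) u, hu i, add_zero]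
    · rw [Function.update_of_ne hi, Function.update_of_ne hj, hx i j]

variable [Fintype F]

theorem exists_sqrt (a : F) : ∃ c : F, c * c = a := by
  obtain ⟨c, hc⟩ := isSquare_of_charTwo' a
  exact ⟨c, hc.symm⟩

/-- One step of the orthonormalisation. -/
theorem ortho_step (hN : SAdj N) {k : ℕ} (x : Fin (k + 1) → (Fin m ⊕ Fin m → F))
    (hx : OSys N x) :
    (∃ x' : Fin (k + 2) → (Fin m ⊕ Fin m → F), OSys N x') ∨
    (∀ z z', (∀ i, sympForm m F (N z) (x i) = 0) → (∀ i, sympForm m F (N z') (x i) = 0) →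
      sympForm m F (N z) z' = 0) := by
  by_cases h1 : ∃ z, (∀ i, sympForm m F (N z) (x i) = 0) ∧ sympForm m F (N z) z ≠ 0
  · left
    obtain ⟨z, hzS, hz⟩ := h1
    obtain ⟨c, hc⟩ := exists_sqrt (sympForm m F (N z) z)
    have hc0 : c ≠ 0 := by
      rintro rfl
      rw [zero_mul] at hc
      exact hz hc.symm
    refine ⟨Fin.snoc (α := fun _ => Fin m ⊕ Fin m → F) x (c⁻¹ • z), ?_⟩
    apply snoc_delta (fun u v => sympForm m F (N u) v) x x (c⁻¹ • z) (c⁻¹ • z) hx
    · intro j
      show sympForm m F (N (c⁻¹ • z)) (x j) = 0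
      rw [map_smul, sf_smul_left, hzS j, mul_zero]
    · intro i
      show sympForm m F (N (x i)) (c⁻¹ • z) = 0
      rw [sf_smul_right, sadj_symm hN, hzS i, mul_zero]
    · show sympForm m F (N (c⁻¹ • z)) (c⁻¹ • z) = 1
      rw [map_smul, sf_smul_left, sf_smul_right, ← hc]
      field_simp
  · push Not at h1
    by_cases h2 : ∃ u v, (∀ i, sympForm m F (N u) (x i) = 0) ∧
        (∀ i, sympForm m F (N v) (x i) = 0) ∧ sympForm m F (N u) v ≠ 0
    · left
      obtain ⟨u, v₀, huS, hv₀S, huv₀⟩ := h2
      obtain ⟨v, hv⟩ : ∃ v, v = (sympForm m F (N u) v₀)⁻¹ • v₀ := ⟨_, rfl⟩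
      have hvS : ∀ i, sympForm m F (N v) (x i) = 0 := by
        intro i
        rw [hv, map_smul, sf_smul_left, hv₀S i, mul_zero]
      have huv : sympForm m F (N u) v = 1 := by
        rw [hv, sf_smul_right, inv_mul_cancel₀ huv₀]
      obtain ⟨p, hp⟩ : ∃ p, p = x (Fin.last k) := ⟨_, rfl⟩
      have hpp : sympForm m F (N p) p = 1 := by rw [hp, hx, if_pos rfl]
      have hx₁ := osys_update hN x hx (Fin.last k) u huS (h1 u huS)
      rw [← hp] at hx₁
      have h11 : (1 : F) + 1 = 0 := CharTwo.add_self_eq_zero 1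
      refine ⟨Fin.snoc (α := fun _ => Fin m ⊕ Fin m → F)
        (Function.update x (Fin.last k) (p + u)) (p + v), ?_⟩
      have hzS : ∀ j, sympForm m F (N (p + v)) (Function.update x (Fin.last k) (p + u) j) = 0 := by
        intro j
        by_cases hj : j = Fin.last k
        · rw [hj, Function.update_self, map_add, sf_add_left, sf_add_right, sf_add_right, hpp,
            sadj_symm hN p u, hp, huS, hvS, sadj_symm hN v u, huv]
          linear_combination h11
        · rw [Function.update_of_ne hj, map_add, sf_add_left, hvS j, hp, hx, if_neg (Ne.symm hj),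
            add_zero]
      apply snoc_delta (fun u v => sympForm m F (N u) v) _ _ (p + v) (p + v) hx₁
      · exact hzS
      · intro i
        show sympForm m F (N _) (p + v) = 0
        rw [sadj_symm hN]
        exact hzS i
      · show sympForm m F (N (p + v)) (p + v) = 1
        rw [map_add, sf_add_left, sf_add_right, sf_add_right, hpp, sadj_symm hN p v, hp, hvS,
          h1 v hvS]
        ring
    · right
      push Not at h2
      intro z z' hz hz'
      exact h2 z z' hz hz'

/-- One step of the construction of a symplectic system. -/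
theorem pairs_step (hN : SAdj N) (halt : ∀ v, sympForm m F (N v) v = 0) {k : ℕ}
    (x y : Fin k → (Fin m ⊕ Fin m → F)) (hxy : PSys N x y) :
    (∃ x' y' : Fin (k + 1) → (Fin m ⊕ Fin m → F), PSys N x' y') ∨
    (∀ z z', (∀ s, sympForm m F (N z) (Sum.elim x y s) = 0) →
      (∀ s, sympForm m F (N z') (Sum.elim x y s) = 0) → sympForm m F (N z) z' = 0) := by
  by_cases h2 : ∃ u v, (∀ s, sympForm m F (N u) (Sum.elim x y s) = 0) ∧
      (∀ s, sympForm m F (N v) (Sum.elim x y s) = 0) ∧ sympForm m F (N u) v ≠ 0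
  · left
    obtain ⟨u, v₀, huS, hv₀S, huv₀⟩ := h2
    obtain ⟨v, hv⟩ : ∃ v, v = (sympForm m F (N u) v₀)⁻¹ • v₀ := ⟨_, rfl⟩
    have hvS : ∀ s, sympForm m F (N v) (Sum.elim x y s) = 0 := by
      intro s
      rw [hv, map_smul, sf_smul_left, hv₀S s, mul_zero]
    have huv : sympForm m F (N u) v = 1 := by
      rw [hv, sf_smul_right, inv_mul_cancel₀ huv₀]
    have hux : ∀ i, sympForm m F (N u) (x i) = 0 := fun i => huS (Sum.inl i)
    have huy : ∀ i, sympForm m F (N u) (y i) = 0 := fun i => huS (Sum.inr i)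
    have hvx : ∀ i, sympForm m F (N v) (x i) = 0 := fun i => hvS (Sum.inl i)
    have hvy : ∀ i, sympForm m F (N v) (y i) = 0 := fun i => hvS (Sum.inr i)
    obtain ⟨hxx, hxy', hyx, hyy⟩ := hxy
    refine ⟨Fin.snoc (α := fun _ => Fin m ⊕ Fin m → F) x u,
      Fin.snoc (α := fun _ => Fin m ⊕ Fin m → F) y v, ?_, ?_, ?_, ?_⟩
    · apply snoc_zero (fun u v => sympForm m F (N u) v) x x u u hxx hux
      · intro i
        show sympForm m F (N (x i)) u = 0
        rw [sadj_symm hN, hux]
      · exact halt u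
    · apply snoc_delta (fun u v => sympForm m F (N u) v) x y u v hxy' huy
      · intro i
        show sympForm m F (N (x i)) v = 0
        rw [sadj_symm hN, hvx]
      · exact huv
    · apply snoc_delta (fun u v => sympForm m F (N u) v) y x v u hyx hvx
      · intro i
        show sympForm m F (N (y i)) u = 0
        rw [sadj_symm hN, huy]
      · show sympForm m F (N v) u = 1
        rw [sadj_symm hN, huv]
    · apply snoc_zero (fun u v => sympForm m F (N u) v) y y v v hyy hvy
      · intro i
        show sympForm m F (N (y i)) v = 0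
        rw [sadj_symm hN, hvy]
      · exact halt v
  · right
    push Not at h2
    intro z z' hz hz'
    exact h2 z z' hz hz'


/-- Normal form in the non-alternating case. -/
theorem exists_normal_ortho (hN : SAdj N) (hnalt : ∃ v, sympForm m F (N v) v ≠ 0) (r : ℕ)
    (hr : Module.finrank F (LinearMap.range N) = r) :
    ∃ x : Fin r → (Fin m ⊕ Fin m → F), OSys N x ∧
      ∀ y, N y = ∑ i, sympForm m F (N y) (x i) • N (x i) := by
  have hid : ∀ i : Fin r, id (id i) = i := fun i => rfl
  have hex : ∀ k, k + 1 ≤ r → ∃ x : Fin (k + 1) → (Fin m ⊕ Fin m → F), OSys N x := by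
    intro k
    induction k with
    | zero =>
      intro _
      obtain ⟨v, hv⟩ := hnalt
      obtain ⟨c, hc⟩ := exists_sqrt (sympForm m F (N v) v)
      have hc0 : c ≠ 0 := by
        rintro rfl
        rw [zero_mul] at hc
        exact hv hc.symm
      refine ⟨fun _ => c⁻¹ • v, ?_⟩
      intro i j
      have hij : i = j := by
        apply Fin.ext
        have := i.2
        have := j.2
        omega
      rw [if_pos hij, map_smul, sf_smul_left, sf_smul_right, ← hc]
      field_simp
    | succ k ih =>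
      intro hk
      obtain ⟨x, hx⟩ := ih (by omega)
      rcases ortho_step hN x hx with h | hS
      · exact h
      · exfalso
        have hform := gsys_stuck (fun i => rfl) (osys_gsys hx) hS
        have := gsys_rank_le (π := id) hform
        rw [Fintype.card_fin] at this
        omega
  have hr1 : 1 ≤ r := by
    by_contra h
    have h0 : Module.finrank F (LinearMap.range N) = 0 := by omega
    obtain ⟨v, hv⟩ := hnalt
    apply hv
    have hbot : LinearMap.range N = ⊥ := Submodule.finrank_eq_zero.mp h0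
    have : N v ∈ LinearMap.range N := LinearMap.mem_range_self N v
    rw [hbot, Submodule.mem_bot] at this
    rw [this, sf_zero_left]
  obtain ⟨k, rfl⟩ : ∃ k, r = k + 1 := ⟨r - 1, by omega⟩
  obtain ⟨x, hx⟩ := hex k le_rfl
  refine ⟨x, hx, ?_⟩
  rcases ortho_step hN x hx with ⟨x', hx'⟩ | hS
  · exfalso
    have := gsys_card_le (π := id) (fun i => rfl) (osys_gsys hx')
    rw [Fintype.card_fin] at this
    omega
  · exact gsys_stuck (fun i => rfl) (osys_gsys hx) hS

/-- Normal form in the alternating case. -/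
theorem exists_normal_alt (hN : SAdj N) (halt : ∀ v, sympForm m F (N v) v = 0) (r : ℕ)
    (hr : Module.finrank F (LinearMap.range N) = r) :
    ∃ k, r = 2 * k ∧ ∃ x y : Fin k → (Fin m ⊕ Fin m → F), PSys N x y ∧
      ∀ v, N v = ∑ s, sympForm m F (N v) (Sum.elim x y s) • N (Sum.elim x y (Sum.swap s)) := by
  have hsw : ∀ (k : ℕ) (s : Fin k ⊕ Fin k), Sum.swap (Sum.swap s) = s := fun k s => Sum.swap_swap s
  have hex : ∀ k, 2 * k ≤ r → ∃ x y : Fin k → (Fin m ⊕ Fin m → F), PSys N x y := by
    intro k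
    induction k with
    | zero =>
      intro _
      exact ⟨fun _ => 0, fun _ => 0, fun i => i.elim0, fun i => i.elim0, fun i => i.elim0,
        fun i => i.elim0⟩
    | succ k ih =>
      intro hk
      obtain ⟨x, y, hxy⟩ := ih (by omega)
      rcases pairs_step hN halt x y hxy with h | hS
      · exact h
      · exfalso
        have hform := gsys_stuck (hsw k) (psys_gsys hxy) hS
        have := gsys_rank_le (π := Sum.swap) hform
        rw [Fintype.card_sum, Fintype.card_fin] at this
        omega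
  obtain ⟨x, y, hxy⟩ := hex (r / 2) (by omega)
  rcases pairs_step hN halt x y hxy with ⟨x', y', hxy'⟩ | hS
  · exfalso
    have := gsys_card_le (hsw _) (psys_gsys hxy')
    rw [Fintype.card_sum, Fintype.card_fin] at this
    omega
  · have hform := gsys_stuck (hsw _) (psys_gsys hxy) hS
    have := gsys_rank_le (π := Sum.swap) hform
    rw [Fintype.card_sum, Fintype.card_fin] at this
    exact ⟨r / 2, by omega, x, y, hxy, hform⟩

/-- Conjugacy of self-adjoint square-zero maps of the same rank and type. -/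
theorem sadj_conj {Na Nb : (Fin m ⊕ Fin m → F) →ₗ[F] (Fin m ⊕ Fin m → F)}
    (hNa : SAdj Na) (hNb : SAdj Nb) (hNNa : ∀ y, Na (Na y) = 0) (hNNb : ∀ y, Nb (Nb y) = 0)
    (hrank : Module.finrank F (LinearMap.range Na) = Module.finrank F (LinearMap.range Nb))
    (htype : (∀ v, sympForm m F (Na v) v = 0) ↔ (∀ v, sympForm m F (Nb v) v = 0)) :
    ∃ A : Matrix.symplecticGroup (Fin m) F, ∀ y, act A (Na y) = Nb (act A y) := by
  by_cases halt : ∀ v, sympForm m F (Na v) v = 0
  · have halt' := htype.mp halt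
    obtain ⟨k, hk, x, y, hxy, hform⟩ := exists_normal_alt hNa halt _ rfl
    obtain ⟨k', hk', x', y', hxy', hform'⟩ := exists_normal_alt hNb halt' _ rfl
    have hkk : k = k' := by omega
    subst hkk
    exact gsys_conj Sum.swap (fun s => Sum.swap_swap s) hNa hNb hNNa hNNb _ _ (psys_gsys hxy)
      (psys_gsys hxy') hform hform'
  · have halt' : ¬ ∀ v, sympForm m F (Nb v) v = 0 := fun h => halt (htype.mpr h)
    push Not at halt halt'
    obtain ⟨x, hx, hform⟩ := exists_normal_ortho hNa halt _ rfl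
    obtain ⟨x', hx', hform'⟩ := exists_normal_ortho hNb halt' _ hrank.symm
    exact gsys_conj id (fun s => rfl) hNa hNb hNNa hNNb _ _ (osys_gsys hx)
      (osys_gsys hx') hform hform'


end chartwo

/-- The map `a - 1` of a symplectic matrix. -/
noncomputable def Nof (a : Matrix.symplecticGroup (Fin m) F) :
    (Fin m ⊕ Fin m → F) →ₗ[F] (Fin m ⊕ Fin m → F) :=
  ((a : Matrix (Fin m ⊕ Fin m) (Fin m ⊕ Fin m) F) - 1).mulVecLin

theorem Nof_apply (a : Matrix.symplecticGroup (Fin m) F) (y : Fin m ⊕ Fin m → F) :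
    Nof a y = act a y - y := by
  unfold Nof
  rw [Matrix.mulVecLin_apply, Matrix.sub_mulVec, Matrix.one_mulVec]
  rfl

theorem Nof_rank (a : Matrix.symplecticGroup (Fin m) F) :
    Module.finrank F (LinearMap.range (Nof a)) =
      ((a : Matrix (Fin m ⊕ Fin m) (Fin m ⊕ Fin m) F) - 1).rank := rfl

theorem Nof_sadj {a : Matrix.symplecticGroup (Fin m) F} (haa : a * a = 1) : SAdj (Nof a) := by
  intro x y
  rw [Nof_apply, Nof_apply, sf_sub_left, sf_sub_right]
  congr 1
  rw [← act_preserves a (act a x) y, ← act_mul, haa, act_one]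

theorem Nof_sq [CharP F 2] {a : Matrix.symplecticGroup (Fin m) F} (haa : a * a = 1)
    (y : Fin m ⊕ Fin m → F) : Nof a (Nof a y) = 0 := by
  rw [Nof_apply, Nof_apply]
  have h1 : act a (act a y - y) = y - act a y := by
    have : act a y - y = act a y + (-1 : F) • y := by rw [neg_smul, one_smul]; abel
    rw [this, act_add, act_smul, ← act_mul, haa, act_one, neg_smul, one_smul]
    abel
  rw [h1]
  have h2 : (2 : F) = 0 := CharP.cast_eq_zero F 2
  have : y - act a y - (act a y - y) = (2 : F) • (y - act a y) := by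
    rw [two_smul]; abel
  rw [this, h2, zero_smul]

theorem Nof_alt_iff (a : Matrix.symplecticGroup (Fin m) F) :
    (∀ v, sympForm m F (Nof a v) v = 0) ↔
      ∀ v, sympForm m F v ((a : Matrix (Fin m ⊕ Fin m) (Fin m ⊕ Fin m) F) *ᵥ v) = 0 := by
  have key : ∀ v, sympForm m F (Nof a v) v =
      - sympForm m F v ((a : Matrix (Fin m ⊕ Fin m) (Fin m ⊕ Fin m) F) *ᵥ v) := by
    intro v
    rw [Nof_apply, sf_sub_left, sf_self, sub_zero, sf_swap]
    rfl
  constructor
  · intro h v
    have := h v
    rw [key, neg_eq_zero] at this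
    exact this
  · intro h v
    rw [key, h v, neg_zero]

/-- In the alternating case the rank is even. -/
theorem even_rank_of_alt [Fintype F] [CharP F 2] {a : Matrix.symplecticGroup (Fin m) F}
    (haa : a * a = 1) (halt : ∀ v, sympForm m F (Nof a v) v = 0) :
    Even ((a : Matrix (Fin m ⊕ Fin m) (Fin m ⊕ Fin m) F) - 1).rank := by
  obtain ⟨k, hk, -⟩ := exists_normal_alt (Nof_sadj haa) halt _ (Nof_rank a)
  rw [hk]
  exact even_two_mul k

/-- Involutions of `Sp_{2m}(q)`, `q` even, of the same rank and type are conjugate. -/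
theorem invol_conj [Fintype F] [CharP F 2] (a b : Matrix.symplecticGroup (Fin m) F)
    (haa : a * a = 1) (hbb : b * b = 1)
    (hrank : ((a : Matrix (Fin m ⊕ Fin m) (Fin m ⊕ Fin m) F) - 1).rank =
      ((b : Matrix (Fin m ⊕ Fin m) (Fin m ⊕ Fin m) F) - 1).rank)
    (htype : (∀ v, sympForm m F (Nof a v) v = 0) ↔ (∀ v, sympForm m F (Nof b v) v = 0)) :
    IsConj a b := by
  obtain ⟨A, hA⟩ := sadj_conj (Nof_sadj haa) (Nof_sadj hbb) (Nof_sq haa) (Nof_sq hbb)
    (by rw [Nof_rank, Nof_rank]; exact hrank) htype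
  rw [isConj_iff]
  refine ⟨A, ?_⟩
  rw [mul_inv_eq_iff_eq_mul]
  apply act_ext
  intro y
  have h1 : ∀ (c : Matrix.symplecticGroup (Fin m) F) z, act c z = z + Nof c z := by
    intro c z
    rw [Nof_apply]; abel
  rw [act_mul, act_mul, h1 a y, act_add, hA, ← h1 b]

end Cfsg.Agent.Lib.Helper27.SpInvol
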