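import Mathlib
import Cfsg.Agent.Lib.Helper27.SpInvol
import Cfsg.Agent.Lib.Helper27.SympStab

set_option autoImplicit false

/-!
Standard involutions of `Sp_{2m}(q)`, `q` even, of each rank and type, and bounds on the rank.
-/

namespace Cfsg.Agent.Lib.Helper27.SpInvol

open Cfsg Matrix Cfsg.Agent.Lib.Helper27.SympTransv

variable {F : Type*} [Field F] {m : ℕ}

/-- The rank of a self-adjoint square-zero map is at most `m`. -/
theorem rank_le_of_sq_zero {N : (Fin m ⊕ Fin m → F) →ₗ[F] (Fin m ⊕ Fin m → F)}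
    (hN : SAdj N) (hNN : ∀ y, N (N y) = 0) :
    Module.finrank F (LinearMap.range N) ≤ m := by
  have hle : LinearMap.range N ≤ perp (LinearMap.range N) := by
    rintro _ ⟨x, rfl⟩
    rw [mem_perp]
    rintro _ ⟨y, rfl⟩
    rw [hN, hNN, sf_zero_right]
  have h1 := Submodule.finrank_mono hle
  rw [finrank_perp] at h1
  have h2 : Module.finrank F (LinearMap.range N) ≤ 2 * m := by
    have := Submodule.finrank_le (LinearMap.range N)
    rw [finrank_space] at this
    exact this
  omega

section std

variable {ι : Type*} [Fintype ι] [DecidableEq ι]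

/-- Standard isotropic vectors. -/
def stdE (j : ι → Fin m) (s : ι) : Fin m ⊕ Fin m → F := Pi.single (Sum.inl (j s)) 1

/-- Their duals. -/
def stdF (j : ι → Fin m) (s : ι) : Fin m ⊕ Fin m → F := Pi.single (Sum.inr (j s)) 1

theorem sf_E_E (j : ι → Fin m) (s t : ι) :
    sympForm m F (stdE (F := F) j s) (stdE j t) = 0 := by
  unfold stdE
  rw [sf_single_inl]
  simp

theorem sf_F_E (j : ι → Fin m) (hj : Function.Injective j) (s t : ι) :
    sympForm m F (stdF (F := F) j s) (stdE j t) = if s = t then 1 else 0 := by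
  unfold stdE stdF
  rw [sf_single_inl, Pi.single_apply]
  by_cases h : s = t
  · rw [if_pos h, if_pos (by rw [h])]
  · rw [if_neg h, if_neg]
    intro h'
    exact h (hj (Sum.inr_injective h')).symm

theorem sf_E_F (j : ι → Fin m) (hj : Function.Injective j) (s t : ι) :
    sympForm m F (stdE (F := F) j s) (stdF j t) = - if s = t then 1 else 0 := by
  rw [sf_swap, sf_F_E j hj t s]
  by_cases h : s = t
  · rw [if_pos h, if_pos h.symm]
  · rw [if_neg h, if_neg (Ne.symm h)]

/-- The standard square-zero map attached to `(π, j)`. -/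
noncomputable def stdN (π : ι → ι) (j : ι → Fin m) :
    (Fin m ⊕ Fin m → F) →ₗ[F] (Fin m ⊕ Fin m → F) :=
  ∑ s, ((sympB m F).flip (stdE j s)).smulRight (stdE j (π s))

theorem stdN_apply (π : ι → ι) (j : ι → Fin m) (v : Fin m ⊕ Fin m → F) :
    stdN (F := F) π j v = ∑ s, sympForm m F v (stdE j s) • stdE j (π s) := by
  unfold stdN
  rw [LinearMap.sum_apply]
  apply Finset.sum_congr rfl
  intro s _
  rw [LinearMap.smulRight_apply]
  show sympB m F v (stdE j s) • _ = _
  rw [sympB_apply]

theorem stdN_sq (π : ι → ι) (j : ι → Fin m) (v : Fin m ⊕ Fin m → F) :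
    stdN (F := F) π j (stdN π j v) = 0 := by
  rw [stdN_apply π j (stdN π j v)]
  apply Finset.sum_eq_zero
  intro t _
  rw [stdN_apply, sf_sum_left]
  rw [Finset.sum_eq_zero, zero_smul]
  intro s _
  rw [sf_smul_left, sf_E_E, mul_zero]

theorem vadd_self [CharP F 2] (v : Fin m ⊕ Fin m → F) : v + v = 0 := by
  have h2 : (2 : F) = 0 := CharP.cast_eq_zero F 2
  rw [← two_smul F v, h2, zero_smul]

theorem stdN_sadj [CharP F 2] (π : ι → ι) (hπ : ∀ s, π (π s) = s) (j : ι → Fin m) :
    SAdj (stdN (F := F) π j) := by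
  intro x y
  rw [stdN_apply, stdN_apply, sf_sum_left, sf_sum_right]
  have h1 : ∀ s, sympForm m F (sympForm m F x (stdE j s) • stdE j (π s)) y =
      sympForm m F x (stdE j s) * sympForm m F y (stdE j (π s)) := by
    intro s
    rw [sf_smul_left, sf_swap y (stdE j (π s)), CharTwo.neg_eq]
  have h2 : ∀ s, sympForm m F x (sympForm m F y (stdE j s) • stdE j (π s)) =
      sympForm m F y (stdE j s) * sympForm m F x (stdE j (π s)) := by
    intro s
    rw [sf_smul_right]
  rw [Finset.sum_congr rfl (fun s _ => h1 s), Finset.sum_congr rfl (fun s _ => h2 s)]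
  apply Fintype.sum_equiv ⟨π, π, hπ, hπ⟩
  intro s
  show _ = sympForm m F y (stdE j (π s)) * sympForm m F x (stdE j (π (π s)))
  rw [hπ, mul_comm]

theorem stdN_invol [CharP F 2] (π : ι → ι) (j : ι → Fin m) :
    Function.Involutive
      ((LinearMap.id + stdN (F := F) π j : (Fin m ⊕ Fin m → F) →ₗ[F] (Fin m ⊕ Fin m → F)) :
        (Fin m ⊕ Fin m → F) → (Fin m ⊕ Fin m → F)) := by
  intro v
  simp only [LinearMap.add_apply, LinearMap.id_apply, map_add, stdN_sq, add_zero]
  rw [add_assoc, vadd_self, add_zero]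

/-- The standard involution as a linear equivalence. -/
noncomputable def stdL [CharP F 2] (π : ι → ι) (j : ι → Fin m) :
    (Fin m ⊕ Fin m → F) ≃ₗ[F] (Fin m ⊕ Fin m → F) :=
  LinearEquiv.ofInvolutive (LinearMap.id + stdN (F := F) π j) (stdN_invol π j)

theorem stdL_apply [CharP F 2] (π : ι → ι) (j : ι → Fin m) (v : Fin m ⊕ Fin m → F) :
    stdL (F := F) π j v = v + stdN π j v := rfl

theorem stdL_preserves [CharP F 2] (π : ι → ι) (hπ : ∀ s, π (π s) = s) (j : ι → Fin m)
    (u v : Fin m ⊕ Fin m → F) :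
    sympForm m F (stdL (F := F) π j u) (stdL π j v) = sympForm m F u v := by
  rw [stdL_apply, stdL_apply, sf_add_left, sf_add_right, sf_add_right,
    stdN_sadj π hπ j u (stdN π j v), stdN_sq, sf_zero_right, add_zero, stdN_sadj π hπ j u v]
  rw [add_assoc, CharTwo.add_self_eq_zero, add_zero]

/-- The standard involution. -/
noncomputable def stdG [CharP F 2] (π : ι → ι) (hπ : ∀ s, π (π s) = s) (j : ι → Fin m) :
    Matrix.symplecticGroup (Fin m) F :=
  toSp (stdL (F := F) π j) (stdL_preserves π hπ j)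

theorem act_stdG [CharP F 2] (π : ι → ι) (hπ : ∀ s, π (π s) = s) (j : ι → Fin m)
    (v : Fin m ⊕ Fin m → F) : act (stdG (F := F) π hπ j) v = v + stdN π j v := by
  unfold stdG
  rw [act_toSp, stdL_apply]

theorem Nof_stdG [CharP F 2] (π : ι → ι) (hπ : ∀ s, π (π s) = s) (j : ι → Fin m) :
    Nof (stdG (F := F) π hπ j) = stdN π j := by
  apply LinearMap.ext
  intro v
  rw [Nof_apply, act_stdG]
  abel

theorem stdG_sq [CharP F 2] (π : ι → ι) (hπ : ∀ s, π (π s) = s) (j : ι → Fin m) :
    stdG (F := F) π hπ j * stdG π hπ j = 1 := by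
  apply act_ext
  intro v
  rw [act_mul, act_one, act_stdG, act_stdG, map_add, stdN_sq, add_zero, add_assoc,
    vadd_self, add_zero]

theorem stdN_F [CharP F 2] (π : ι → ι) (j : ι → Fin m) (hj : Function.Injective j) (s : ι) :
    stdN (F := F) π j (stdF j s) = stdE j (π s) := by
  rw [stdN_apply, Finset.sum_eq_single s]
  · rw [sf_F_E j hj, if_pos rfl, one_smul]
  · intro t _ hts
    rw [sf_F_E j hj, if_neg (Ne.symm hts), zero_smul]
  · intro h
    exact absurd (Finset.mem_univ s) h

theorem stdN_gsys [CharP F 2] (π : ι → ι) (j : ι → Fin m) (hj : Function.Injective j) :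
    GSys (stdN (F := F) π j) π (stdF j) := by
  intro s t
  rw [stdN_F π j hj, sf_E_F j hj, CharTwo.neg_eq]
  by_cases h : π s = t
  · rw [if_pos h, if_pos h.symm]
  · rw [if_neg h, if_neg (Ne.symm h)]

theorem stdN_rank [CharP F 2] (π : ι → ι) (hπ : ∀ s, π (π s) = s) (j : ι → Fin m)
    (hj : Function.Injective j) :
    Module.finrank F (LinearMap.range (stdN (F := F) π j)) = Fintype.card ι := by
  apply le_antisymm
  · have h1 : LinearMap.range (stdN (F := F) π j) ≤
        Submodule.span F (Set.range (fun s => stdE (F := F) j s)) := by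
      rintro _ ⟨y, rfl⟩
      rw [stdN_apply]
      exact Submodule.sum_mem _
        (fun i _ => Submodule.smul_mem _ _ (Submodule.subset_span ⟨π i, rfl⟩))
    have h2 := Submodule.finrank_mono h1
    have h3 : Module.finrank F (Submodule.span F (Set.range (fun s => stdE (F := F) j s))) ≤
        Fintype.card ι := finrank_range_le_card (R := F) (fun s => stdE (F := F) j s)
    omega
  · exact gsys_card_le hπ (stdN_gsys π j hj)

end std

end Cfsg.Agent.Lib.Helper27.SpInvol
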