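import Mathlib
import Cfsg.Prelude.Def_GeometricClasses
import Cfsg.Agent.Lib.Helper19.OrthSiegel

set_option autoImplicit false

/-!
Over the fields with two or three elements, the stabiliser in `Ω` of a non-degenerate plane of
plus type is not maximal: it fixes a non-singular point of the plane.
-/

namespace Cfsg.Agent.Lib.Helper27.OrthPlane

open Cfsg Matrix QuadraticMap
open Cfsg.Agent.Lib.Helper19.OrthRefl

variable {F : Type*} [Field F] [Fintype F] {ι : Type} [Fintype ι] [DecidableEq ι]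

theorem mem_omegaGL_of_mem_Omega {Q : (ι → F) → F} (h : ↥(Cfsg.isometryGroup F Q))
    (hh : h ∈ Cfsg.Omega F Q) : (h : GL ι F) ∈ Cfsg.Geo.omegaGL Q :=
  Subgroup.mem_map.mpr ⟨h, hh, rfl⟩

theorem mem_stab_iff (W : Submodule F (ι → F)) (g : GL ι F) :
    g ∈ Cfsg.Geo.subspaceStabilizer W ↔
      ∀ v, v ∈ W ↔ (g : Matrix ι ι F) *ᵥ v ∈ W := Iff.rfl

/-- Non-zero elements of the fields with two or three elements have square one. -/
theorem sq_eq_one_of_small (hq : Fintype.card F = 2 ∨ Fintype.card F = 3) {a : F} (ha : a ≠ 0) :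
    a ^ 2 = 1 := by
  have h := FiniteField.pow_card_sub_one_eq_one a ha
  rcases hq with hq | hq
  · rw [hq] at h
    have h1 : a = 1 := by simpa using h
    rw [h1]; ring
  · rw [hq] at h
    simpa using h

theorem plane_not_max (hq : Fintype.card F = 2 ∨ Fintype.card F = 3)
    (Q : QuadraticForm F (ι → F)) (hQ : (polarBilin Q).Nondegenerate)
    (hn : 5 ≤ Fintype.card ι) (W : Submodule F (ι → F)) (hdim : Module.finrank F W = 2)
    (hW : Cfsg.Geo.IsNondegenerateOn (QuadraticMap.polar ⇑Q) W)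
    (hplus : Cfsg.Geo.IsPlusTypeOn ⇑Q W) :
    ∃ K : Subgroup (GL ι F),
      Cfsg.Geo.subspaceStabilizer W ⊓ Cfsg.Geo.omegaGL ⇑Q < K ∧ K < Cfsg.Geo.omegaGL ⇑Q := by
  classical
  have hsq : ∀ a : F, a ≠ 0 → a ^ 2 = 1 := fun a ha => sq_eq_one_of_small hq ha
  -- the singular vector e
  obtain ⟨U, hUW, hUts, hUdim⟩ := hplus
  have hU1 : Module.finrank F U = 1 := by omega
  obtain ⟨e, heU, he0⟩ : ∃ e ∈ U, e ≠ 0 := by
    have : U ≠ ⊥ := by
      intro h
      rw [h, finrank_bot] at hU1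
      exact zero_ne_one hU1
    exact Submodule.exists_mem_ne_zero_of_ne_bot this
  have heW : e ∈ W := hUW heU
  have hQe : Q e = 0 := hUts e heU
  have hBee : polar (⇑Q) e e = 0 := polar_self_of_singular Q hQe
  -- the singular vector f
  obtain ⟨_, ⟨y, hyW, hy⟩⟩ := hW e heW he0
  obtain ⟨f', hf'W, hef'⟩ : ∃ f' ∈ W, polar (⇑Q) e f' = 1 := by
    refine ⟨(polar (⇑Q) e y)⁻¹ • y, W.smul_mem _ hyW, ?_⟩
    rw [polar_smul_right, smul_eq_mul, inv_mul_cancel₀ hy]
  obtain ⟨f, hfW, hef, hQf⟩ : ∃ f ∈ W, polar (⇑Q) e f = 1 ∧ Q f = 0 := by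
    refine ⟨f' - Q f' • e, W.sub_mem hf'W (W.smul_mem _ heW), ?_, ?_⟩
    · rw [polar_sub_right, polar_smul_right, hBee, hef', smul_zero, sub_zero]
    · rw [Q_sub', QuadraticMap.map_smul, hQe, polar_smul_right, polar_comm, hef']
      simp
  have hfe : polar (⇑Q) f e = 1 := by rw [polar_comm]; exact hef
  have hBff : polar (⇑Q) f f = 0 := polar_self_of_singular Q hQf
  -- W is spanned by e and f
  have hspan : ∀ v ∈ W, ∃ a b : F, v = a • e + b • f := by
    have hli : LinearIndependent F ![e, f] := by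
      rw [LinearIndependent.pair_iff]
      intro s t hst
      have h1 : polar (⇑Q) (s • e + t • f) f = 0 := by rw [hst, polar_zero_left]
      have h2 : polar (⇑Q) (s • e + t • f) e = 0 := by rw [hst, polar_zero_left]
      rw [polar_add_left, polar_smul_left, polar_smul_left, hef, hBff] at h1
      rw [polar_add_left, polar_smul_left, polar_smul_left, hfe, hBee] at h2
      simp only [smul_eq_mul, mul_one, mul_zero, add_zero, zero_add] at h1 h2
      exact ⟨h1, h2⟩
    have hle : Submodule.span F (Set.range ![e, f]) ≤ W := by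
      rw [Submodule.span_le]
      rintro _ ⟨i, rfl⟩
      fin_cases i
      · exact heW
      · exact hfW
    have hfr : Module.finrank F (Submodule.span F (Set.range ![e, f])) = 2 := by
      rw [finrank_span_eq_card hli, Fintype.card_fin]
    have heq : Submodule.span F (Set.range ![e, f]) = W :=
      Submodule.eq_of_le_of_finrank_eq hle (by rw [hfr, hdim])
    intro v hv
    rw [← heq, Matrix.range_cons, Matrix.range_cons, Matrix.range_empty, Set.union_empty,
      Set.singleton_union, Submodule.mem_span_pair] at hv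
    obtain ⟨a, b, hab⟩ := hv
    exact ⟨a, b, hab.symm⟩
  -- the vector w outside the plane
  obtain ⟨w, hQw, hew, hfw⟩ := exists_nonsing_orth_pair Q hQ hn e f
  have hw0 : w ≠ 0 := by
    rintro rfl
    exact hQw (QuadraticMap.map_zero _)
  obtain ⟨y', hwy'⟩ : ∃ y', polar (⇑Q) w y' = 1 := by
    have : ∃ y, polar (⇑Q) w y ≠ 0 := by
      by_contra hcon
      push_neg at hcon
      exact hw0 (hQ.1 w (fun y => by simpa using hcon y))
    obtain ⟨y, hy⟩ := this
    refine ⟨(polar (⇑Q) w y)⁻¹ • y, ?_⟩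
    rw [polar_smul_right, smul_eq_mul, inv_mul_cancel₀ hy]
  -- the vector u
  obtain ⟨u, hu0, hue, huf, huw, huy'⟩ : ∃ u : ι → F, u ≠ 0 ∧ polar (⇑Q) e u = 0 ∧
      polar (⇑Q) f u = 0 ∧ polar (⇑Q) w u = 0 ∧ polar (⇑Q) y' u = 0 := by
    let L : (ι → F) →ₗ[F] (Fin 4 → F) :=
      LinearMap.pi ![polarBilin Q e, polarBilin Q f, polarBilin Q w, polarBilin Q y']
    have hker : LinearMap.ker L ≠ ⊥ := by
      apply LinearMap.ker_ne_bot_of_finrank_lt
      rw [Module.finrank_fin_fun, Module.finrank_fintype_fun_eq_card]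
      omega
    obtain ⟨u, hu, hu0⟩ := Submodule.exists_mem_ne_zero_of_ne_bot hker
    rw [LinearMap.mem_ker] at hu
    refine ⟨u, hu0, ?_, ?_, ?_, ?_⟩
    · have := congrFun hu 0
      simpa [L] using this
    · have := congrFun hu 1
      simpa [L] using this
    · have := congrFun hu 2
      simpa [L] using this
    · have := congrFun hu 3
      simpa [L] using this
  -- the two vectors of the plane
  set ε := Q w with hε
  have hε2 : ε ^ 2 = 1 := hsq ε hQw
  obtain ⟨x₁, hx₁⟩ : ∃ x₁, x₁ = e + ε • f := ⟨_, rfl⟩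
  obtain ⟨x₂, hx₂⟩ : ∃ x₂, x₂ = e - ε • f := ⟨_, rfl⟩
  have hx₁W : x₁ ∈ W := by rw [hx₁]; exact W.add_mem heW (W.smul_mem _ hfW)
  have hQx₁ : Q x₁ = ε := by
    rw [hx₁]
    have : Q (e + ε • f) = Q e + Q (ε • f) + polar (⇑Q) e (ε • f) := QuadraticMap.map_add (⇑Q) _ _
    rw [this, QuadraticMap.map_smul, hQe, hQf, polar_smul_right, hef]
    simp
  have hQx₂ : Q x₂ = -ε := by
    rw [hx₂, Q_sub', QuadraticMap.map_smul, hQe, hQf, polar_smul_right, hef]
    simp
  have hx₁0 : x₁ ≠ 0 := by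
    rintro h
    rw [h, QuadraticMap.map_zero] at hQx₁
    exact hQw hQx₁.symm
  have hx₁e : polar (⇑Q) e x₁ = ε := by
    rw [hx₁, polar_add_right, polar_smul_right, hBee, hef]; simp
  have hx₂e : polar (⇑Q) e x₂ = -ε := by
    rw [hx₂, polar_sub_right, polar_smul_right, hBee, hef]; simp
  have hx₁x₂ : polar (⇑Q) x₂ x₁ = 0 := by
    rw [hx₁, hx₂, polar_add_right, polar_sub_left, polar_sub_left, polar_smul_right,
      polar_smul_right, polar_smul_left, polar_smul_left, hBee, hBff, hef, hfe]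
    simp
  have hx₁u : polar (⇑Q) x₁ u = 0 := by
    rw [hx₁, polar_add_left, polar_smul_left, hue, huf]; simp
  have hx₂u : polar (⇑Q) x₂ u = 0 := by
    rw [hx₂, polar_sub_left, polar_smul_left, hue, huf]; simp
  have hx₁w : polar (⇑Q) x₁ w = 0 := by
    rw [hx₁, polar_add_left, polar_smul_left, hew, hfw]; simp
  have hx₂w : polar (⇑Q) x₂ w = 0 := by
    rw [hx₂, polar_sub_left, polar_smul_left, hew, hfw]; simp
  -- vectors of W with the norm of x₁
  have hnorm : ∀ v ∈ W, Q v = ε → v ∈ Submodule.span F {x₁} := by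
    intro v hv hQv
    obtain ⟨a, b, rfl⟩ := hspan v hv
    have h1 : Q (a • e + b • f) = a * b := by
      have : Q (a • e + b • f) = Q (a • e) + Q (b • f) + polar (⇑Q) (a • e) (b • f) :=
        QuadraticMap.map_add (⇑Q) _ _
      rw [this, QuadraticMap.map_smul, QuadraticMap.map_smul, hQe, hQf, polar_smul_left,
        polar_smul_right, hef]
      simp
    rw [h1] at hQv
    have ha : a ≠ 0 := by
      rintro rfl
      rw [zero_mul] at hQv
      exact hQw hQv.symm
    have hb : b = a * ε := by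
      have := hsq a ha
      calc b = a ^ 2 * b := by rw [this, one_mul]
        _ = a * (a * b) := by ring
        _ = a * ε := by rw [hQv]
    rw [Submodule.mem_span_singleton]
    refine ⟨a, ?_⟩
    rw [hx₁, hb, smul_add, smul_smul]
  -- elements of the stabiliser of W in Ω fix the line of x₁
  have hmaps : ∀ g ∈ Cfsg.Geo.subspaceStabilizer W ⊓ Cfsg.Geo.omegaGL ⇑Q,
      (g : Matrix ι ι F) *ᵥ x₁ ∈ Submodule.span F {x₁} := by
    rintro g ⟨hg1, hg2⟩
    obtain ⟨h, _, rfl⟩ := Subgroup.mem_map.mp hg2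
    apply hnorm
    · exact ((mem_stab_iff W _).mp hg1 x₁).mp hx₁W
    · have := Q_act h x₁
      rw [act_def] at this
      rw [← hQx₁]
      exact this
  have hle : Cfsg.Geo.subspaceStabilizer W ⊓ Cfsg.Geo.omegaGL ⇑Q ≤
      Cfsg.Geo.subspaceStabilizer (Submodule.span F {x₁}) ⊓ Cfsg.Geo.omegaGL ⇑Q := by
    intro g hg
    refine ⟨(mem_stab_iff _ _).mpr ?_, hg.2⟩
    intro v
    constructor
    · intro hv
      obtain ⟨a, rfl⟩ := Submodule.mem_span_singleton.mp hv
      rw [Matrix.mulVec_smul]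
      exact Submodule.smul_mem _ _ (hmaps g hg)
    · intro hv
      obtain ⟨a, ha⟩ := Submodule.mem_span_singleton.mp hv
      have h1 := hmaps g⁻¹ (inv_mem hg)
      obtain ⟨b, hb⟩ := Submodule.mem_span_singleton.mp h1
      have h2 : v = ((g⁻¹ : GL ι F) : Matrix ι ι F) *ᵥ ((g : Matrix ι ι F) *ᵥ v) := by
        rw [Matrix.mulVec_mulVec, ← Units.val_mul, inv_mul_cancel, Units.val_one,
          Matrix.one_mulVec]
      rw [h2, ← ha, Matrix.mulVec_smul, ← hb, smul_smul]
      exact Submodule.smul_mem _ _ (Submodule.mem_span_singleton_self _)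
  -- a Siegel element fixing x₁ and moving W
  have hp : Q (x₂ + w) = 0 := by
    have : Q (x₂ + w) = Q x₂ + Q w + polar (⇑Q) x₂ w := QuadraticMap.map_add (⇑Q) _ _
    rw [this, hQx₂, hx₂w]
    ring
  have hpu : polar (⇑Q) (x₂ + w) u = 0 := by
    rw [polar_add_left, hx₂u, huw, add_zero]
  obtain ⟨g₀, hg₀⟩ : ∃ g : ↥(Cfsg.isometryGroup F ⇑Q), g = siegel Q hQ (x₂ + w) u hp hpu :=
    ⟨_, rfl⟩
  have hg₀Ω : (g₀ : GL ι F) ∈ Cfsg.Geo.omegaGL ⇑Q := by
    rw [hg₀]
    exact mem_omegaGL_of_mem_Omega _ (siegel_mem_Omega Q hQ hn _ _ _ _)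
  have hfix_of : ∀ g : ↥(Cfsg.isometryGroup F ⇑Q), act g x₁ = x₁ →
      (g : GL ι F) ∈ Cfsg.Geo.subspaceStabilizer (Submodule.span F {x₁}) := by
    intro g hg
    rw [mem_stab_iff]
    intro v
    constructor
    · intro hv
      obtain ⟨a, rfl⟩ := Submodule.mem_span_singleton.mp hv
      rw [Matrix.mulVec_smul]
      have : ((g : GL ι F) : Matrix ι ι F) *ᵥ x₁ = x₁ := hg
      rw [this]
      exact hv
    · intro hv
      obtain ⟨a, ha⟩ := Submodule.mem_span_singleton.mp hv
      have h1 : act g v = act g (a • x₁) := by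
        rw [act_smul, hg, ha]; rfl
      have h2 : v = a • x₁ := by
        have := congrArg (act g⁻¹) h1
        rwa [act_inv_act, act_inv_act] at this
      rw [h2]
      exact Submodule.smul_mem _ _ (Submodule.mem_span_singleton_self _)
  have hg₀x₁ : act g₀ x₁ = x₁ := by
    rw [hg₀, act_siegel, polar_comm (⇑Q) u x₁, hx₁u, polar_add_left, hx₁x₂, polar_comm (⇑Q) w x₁, hx₁w]
    simp
  have hg₀K : (g₀ : GL ι F) ∈
      Cfsg.Geo.subspaceStabilizer (Submodule.span F {x₁}) ⊓ Cfsg.Geo.omegaGL ⇑Q :=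
    ⟨hfix_of g₀ hg₀x₁, hg₀Ω⟩
  have hperpW : ∀ v ∈ W, polar (⇑Q) v u = 0 ∧ polar (⇑Q) v w = 0 := by
    intro v hv
    obtain ⟨a, b, rfl⟩ := hspan v hv
    constructor
    · rw [polar_add_left, polar_smul_left, polar_smul_left, hue, huf]; simp
    · rw [polar_add_left, polar_smul_left, polar_smul_left, hew, hfw]; simp
  have hWperp0 : ∀ v ∈ W, (∀ v' ∈ W, polar (⇑Q) v' v = 0) → v = 0 := by
    intro v hv hperp
    by_contra hv0
    obtain ⟨⟨x, hxW, hx⟩, _⟩ := hW v hv hv0
    exact hx (hperp x hxW)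
  have hg₀W : (g₀ : GL ι F) ∉ Cfsg.Geo.subspaceStabilizer W := by
    intro hmem
    have h1 := ((mem_stab_iff W _).mp hmem e).mp heW
    have h2 : ((g₀ : GL ι F) : Matrix ι ι F) *ᵥ e = act g₀ e := rfl
    rw [h2, hg₀, act_siegel, polar_comm (⇑Q) u e, hue, polar_add_left, polar_comm (⇑Q) x₂ e, hx₂e,
      polar_comm (⇑Q) w e, hew, add_zero, zero_smul, add_zero] at h1
    -- the component outside W
    have h3 : u + Q u • w ∈ W := by
      have h4 : e - -ε • u - Q u • -ε • (x₂ + w) =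
          (e + (Q u * ε) • x₂) + ε • (u + Q u • w) := by
        module
      rw [h4] at h1
      have hx₂W : x₂ ∈ W := by rw [hx₂]; exact W.sub_mem heW (W.smul_mem _ hfW)
      have h5 := (W.add_mem_iff_right (W.add_mem heW (W.smul_mem (Q u * ε) hx₂W))).mp h1
      have h6 := W.smul_mem ε⁻¹ h5
      rwa [smul_smul, inv_mul_cancel₀ hQw, one_smul] at h6
    have h7 : u + Q u • w = 0 := by
      apply hWperp0 _ h3
      intro v' hv'
      rw [polar_add_right, polar_smul_right, (hperpW v' hv').1, (hperpW v' hv').2]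
      simp
    have h8 : polar (⇑Q) y' (u + Q u • w) = 0 := by rw [h7, polar_zero_right]
    rw [polar_add_right, polar_smul_right, huy', polar_comm (⇑Q) y' w, hwy', zero_add, smul_eq_mul,
      mul_one] at h8
    rw [h8, zero_smul, add_zero] at h7
    exact hu0 h7
  -- a Siegel element moving the line of x₁
  have hpu₁ : polar (⇑Q) e u = 0 := hue
  obtain ⟨g₁, hg₁⟩ : ∃ g : ↥(Cfsg.isometryGroup F ⇑Q), g = siegel Q hQ e u hQe hpu₁ := ⟨_, rfl⟩
  have hg₁Ω : (g₁ : GL ι F) ∈ Cfsg.Geo.omegaGL ⇑Q := by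
    rw [hg₁]
    exact mem_omegaGL_of_mem_Omega _ (siegel_mem_Omega Q hQ hn _ _ _ _)
  have hg₁K : (g₁ : GL ι F) ∉ Cfsg.Geo.subspaceStabilizer (Submodule.span F {x₁}) := by
    intro hmem
    have h1 := ((mem_stab_iff _ _).mp hmem x₁).mp (Submodule.mem_span_singleton_self _)
    have h2 : ((g₁ : GL ι F) : Matrix ι ι F) *ᵥ x₁ = act g₁ x₁ := rfl
    rw [h2, hg₁, act_siegel, polar_comm (⇑Q) u x₁, hx₁u, hx₁e, zero_smul, add_zero] at h1
    obtain ⟨a, ha⟩ := Submodule.mem_span_singleton.mp h1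
    -- then u lies in W
    have h3 : u ∈ W := by
      have h4 : ε • u = x₁ - a • x₁ - (Q u * ε) • e := by
        rw [ha]; module
      have h5 : ε • u ∈ W := by
        rw [h4]
        exact W.sub_mem (W.sub_mem hx₁W (W.smul_mem _ hx₁W)) (W.smul_mem _ heW)
      have h6 := W.smul_mem ε⁻¹ h5
      rwa [smul_smul, inv_mul_cancel₀ hQw, one_smul] at h6
    apply hu0
    apply hWperp0 _ h3
    intro v' hv'
    exact (hperpW v' hv').1
  refine ⟨Cfsg.Geo.subspaceStabilizer (Submodule.span F {x₁}) ⊓ Cfsg.Geo.omegaGL ⇑Q, ?_, ?_⟩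
  · refine lt_of_le_of_ne hle ?_
    intro heq
    have := hg₀K
    rw [← heq] at this
    exact hg₀W this.1
  · refine lt_of_le_of_ne inf_le_right ?_
    intro heq
    have := hg₁Ω
    rw [← heq] at this
    exact hg₁K this.1

end Cfsg.Agent.Lib.Helper27.OrthPlane
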