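import Mathlib
import Cfsg.Prelude.Def_GeometricClasses
import Cfsg.Agent.Lib.Helper19.OrthWitt
import Cfsg.Agent.Lib.Helper19.OrthPoints
import Cfsg.Agent.Lib.Helper19.OrthLong
import Cfsg.Agent.Lib.Helper19.Dickson
import Cfsg.Agent.Lib.Helper27.OrthPlane

set_option autoImplicit false

/-!
Root subgroups of the orthogonal group and overgroups of parabolic subgroups: a subgroup of `Ω`
containing the root subgroups at two non-orthogonal singular vectors is `Ω`.
-/

namespace Cfsg.Agent.Lib.Helper27.OrthParab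

open Cfsg Matrix QuadraticMap
open Cfsg.Agent.Lib.Helper19.OrthRefl Cfsg.Agent.Lib.Helper27.OrthPlane
open Cfsg.Agent.Lib.Helper19.Parity

variable {F : Type*} [Field F] [Fintype F] {ι : Type} [Fintype ι] [DecidableEq ι]

/-- The singular vectors whose root subgroup lies in `M`. -/
def Centers (Q : QuadraticForm F (ι → F)) (hQ : (polarBilin Q).Nondegenerate)
    (M : Subgroup (GL ι F)) : Set (ι → F) :=
  {p | Q p = 0 ∧ ∀ (u : ι → F) (hp : Q p = 0) (hpu : polar (⇑Q) p u = 0),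
    ((siegel Q hQ p u hp hpu : ↥(Cfsg.isometryGroup F ⇑Q)) : GL ι F) ∈ M}

theorem centers_act (Q : QuadraticForm F (ι → F)) (hQ : (polarBilin Q).Nondegenerate)
    (M : Subgroup (GL ι F)) {p : ι → F} (hp : p ∈ Centers Q hQ M)
    (k : ↥(Cfsg.isometryGroup F ⇑Q)) (hk : (k : GL ι F) ∈ M) : act k p ∈ Centers Q hQ M := by
  obtain ⟨hQp, hpM⟩ := hp
  refine ⟨(Q_act k p).trans hQp, ?_⟩
  intro u' hp' hpu'
  obtain ⟨u, hu⟩ : ∃ u, u = act k⁻¹ u' := ⟨_, rfl⟩
  have hku : act k u = u' := by rw [hu, act_act_inv]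
  have hpu : polar (⇑Q) p u = 0 := by
    rw [← polar_act k p u, hku]
    exact hpu'
  have hpu'' : polar (⇑Q) (act k p) (act k u) = 0 := by rw [hku]; exact hpu'
  have e1 : siegel Q hQ (act k p) u' hp' hpu' = siegel Q hQ (act k p) (act k u) hp' hpu'' :=
    siegel_congr Q hQ hp' hpu' hp' hpu'' rfl hku.symm
  rw [e1, ← conj_siegel Q hQ p u hQp hpu k hp' hpu'']
  have : (((k * siegel Q hQ p u hQp hpu * k⁻¹ : ↥(Cfsg.isometryGroup F ⇑Q))) : GL ι F) =
      (k : GL ι F) * ((siegel Q hQ p u hQp hpu : ↥(Cfsg.isometryGroup F ⇑Q)) : GL ι F) *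
        ((k : GL ι F))⁻¹ := rfl
  rw [this]
  exact mul_mem (mul_mem hk (hpM u hQp hpu)) (inv_mem hk)

theorem centers_smul (Q : QuadraticForm F (ι → F)) (hQ : (polarBilin Q).Nondegenerate)
    (M : Subgroup (GL ι F)) {p : ι → F} (hp : p ∈ Centers Q hQ M) (t : F) :
    t • p ∈ Centers Q hQ M := by
  obtain ⟨hQp, hpM⟩ := hp
  refine ⟨by rw [QuadraticMap.map_smul, hQp, smul_zero], ?_⟩
  intro u hp' hpu'
  have hpu : polar (⇑Q) p (t • u) = 0 := by
    rw [polar_smul_right, ← polar_smul_left]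
    exact hpu'
  rw [siegel_smul_left Q hQ p u t hp' hpu' hQp hpu]
  exact hpM _ hQp hpu

/-- From two non-orthogonal centres, every singular vector not orthogonal to the first is a
centre. -/
theorem centers_of_not_orth (Q : QuadraticForm F (ι → F)) (hQ : (polarBilin Q).Nondegenerate)
    (M : Subgroup (GL ι F)) {y p z : ι → F} (hy : y ∈ Centers Q hQ M)
    (hp : p ∈ Centers Q hQ M) (hyp : polar (⇑Q) y p ≠ 0) (hz : Q z = 0)
    (hyz : polar (⇑Q) y z ≠ 0) : z ∈ Centers Q hQ M := by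
  obtain ⟨p', hp'⟩ : ∃ p', p' = (polar (⇑Q) y p)⁻¹ • p := ⟨_, rfl⟩
  obtain ⟨z', hz'⟩ : ∃ z', z' = (polar (⇑Q) y z)⁻¹ • z := ⟨_, rfl⟩
  have hp'C : p' ∈ Centers Q hQ M := by rw [hp']; exact centers_smul Q hQ M hp _
  have hQp' : Q p' = 0 := hp'C.1
  have hQz' : Q z' = 0 := by rw [hz', QuadraticMap.map_smul, hz, smul_zero]
  have h1 : polar (⇑Q) y p' = 1 := by
    rw [hp', polar_smul_right, smul_eq_mul, inv_mul_cancel₀ hyp]
  have h2 : polar (⇑Q) y z' = 1 := by
    rw [hz', polar_smul_right, smul_eq_mul, inv_mul_cancel₀ hyz]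
  have hpu : polar (⇑Q) y (p' - z') = 0 := by rw [polar_sub_right, h1, h2, sub_self]
  have hact := act_siegel_sub Q hQ y p' z' hy.1 hQp' hQz' h1 h2 hpu
  have hz'C : z' ∈ Centers Q hQ M := by
    rw [← hact]
    exact centers_act Q hQ M hp'C _ (hy.2 _ hy.1 hpu)
  have : z = polar (⇑Q) y z • z' := by rw [hz', smul_smul, mul_inv_cancel₀ hyz, one_smul]
  rw [this]
  exact centers_smul Q hQ M hz'C _

/-- Two non-orthogonal centres force every singular vector to be a centre. -/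
theorem centers_all (Q : QuadraticForm F (ι → F)) (hQ : (polarBilin Q).Nondegenerate)
    (hn : 7 ≤ Fintype.card ι) (M : Subgroup (GL ι F)) {y p : ι → F}
    (hy : y ∈ Centers Q hQ M) (hp : p ∈ Centers Q hQ M) (hyp : polar (⇑Q) y p ≠ 0)
    (z : ι → F) (hz : Q z = 0) : z ∈ Centers Q hQ M := by
  have hpy : polar (⇑Q) p y ≠ 0 := by rw [polar_comm]; exact hyp
  by_cases hz0 : z = 0
  · subst hz0
    refine ⟨hz, fun u hp' hpu' => ?_⟩
    rw [siegel_zero_left Q hQ u hp' hpu']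
    exact one_mem M
  by_cases h1 : polar (⇑Q) y z ≠ 0
  · exact centers_of_not_orth Q hQ M hy hp hyp hz h1
  by_cases h2 : polar (⇑Q) p z ≠ 0
  · exact centers_of_not_orth Q hQ M hp hy hpy hz h2
  have hy0 : y ≠ 0 := by
    rintro rfl
    rw [polar_zero_left] at hyp
    exact hyp rfl
  have hns : ∀ x : ι → F, x ≠ 0 → x ∉ Submodule.span F {(0 : ι → F)} := by
    intro x hx h
    rw [Submodule.mem_span_singleton] at h
    obtain ⟨a, ha⟩ := h
    rw [smul_zero] at ha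
    exact hx ha.symm
  obtain ⟨w, hQw, -, hwy, hwz⟩ := exists_common_partner Q hQ hn 0 y z hy.1 hz
    (polar_zero_left _ _) (polar_zero_left _ _) (hns y hy0) (hns z hz0)
  have hyw : polar (⇑Q) y w ≠ 0 := by rw [polar_comm]; exact hwy
  have hwC : w ∈ Centers Q hQ M := centers_of_not_orth Q hQ M hy hp hyp hQw hyw
  exact centers_of_not_orth Q hQ M hwC hy hwy hz hwz

/-- A subgroup of `Ω` containing all root subgroups is `Ω`. -/
theorem eq_omega_of_centers (Q : QuadraticForm F (ι → F)) (hQ : (polarBilin Q).Nondegenerate)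
    (hn : 5 ≤ Fintype.card ι) (M : Subgroup (GL ι F)) (hM : M ≤ Cfsg.Geo.omegaGL ⇑Q)
    (hall : ∀ z, Q z = 0 → z ∈ Centers Q hQ M) : M = Cfsg.Geo.omegaGL ⇑Q := by
  apply le_antisymm hM
  unfold Cfsg.Geo.omegaGL
  rw [Omega_eq_closure_SiegelSet Q hQ hn, MonoidHom.map_closure, Subgroup.closure_le]
  rintro _ ⟨g, ⟨p, u, hp, hpu, rfl⟩, rfl⟩
  exact (hall p hp).2 u hp hpu

end Cfsg.Agent.Lib.Helper27.OrthParab
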