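import Mathlib
import Cfsg.Prelude.Def_GeometricClasses
import Cfsg.Agent.Lib.Helper27.OrthParab

set_option autoImplicit false

/-!
Stabilisers of totally singular subspaces: root subgroups inside them, and the transitivity of
the stabiliser on the singular vectors orthogonal to the subspace.
-/

namespace Cfsg.Agent.Lib.Helper27.OrthParab

open Cfsg Matrix QuadraticMap Module
open Cfsg.Agent.Lib.Helper19.OrthRefl Cfsg.Agent.Lib.Helper27.OrthPlane
open Cfsg.Agent.Lib.Helper19.Parity

variable {F : Type*} [Field F] [Fintype F] {ι : Type} [Fintype ι] [DecidableEq ι]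

theorem mem_stab_of_maps {Q : (ι → F) → F} (U : Submodule F (ι → F))
    (g : ↥(Cfsg.isometryGroup F Q)) (h : ∀ x ∈ U, act g x ∈ U) :
    (g : GL ι F) ∈ Cfsg.Geo.subspaceStabilizer U := by
  rw [mem_stab_iff]
  intro x
  constructor
  · exact h x
  · intro hx
    have hmap := map_eq_of_act_mem g U h
    have hx' : act g x ∈ U.map (Matrix.mulVecLin ((g : GL ι F) : Matrix ι ι F)) := by
      rw [hmap]; exact hx
    obtain ⟨u, hu, hux⟩ := (mem_map_act g U _).mp hx'
    have : u = x := by rw [← act_inv_act g u, hux, act_inv_act]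
    rw [← this]
    exact hu

omit [Fintype F] [Fintype ι] [DecidableEq ι] in
theorem ts_polar (Q : QuadraticForm F (ι → F)) {U : Submodule F (ι → F)}
    (hU : ∀ u ∈ U, Q u = 0) {u v : ι → F} (hu : u ∈ U) (hv : v ∈ U) : polar (⇑Q) u v = 0 := by
  unfold QuadraticMap.polar
  rw [hU _ (U.add_mem hu hv), hU u hu, hU v hv]
  ring

theorem siegel_mem_stab (Q : QuadraticForm F (ι → F)) (hQ : (polarBilin Q).Nondegenerate)
    {U : Submodule F (ι → F)} (hU : ∀ u ∈ U, Q u = 0) {p : ι → F} (hpU : p ∈ U) (u : ι → F)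
    (hp : Q p = 0) (hpu : polar (⇑Q) p u = 0) :
    ((siegel Q hQ p u hp hpu : ↥(Cfsg.isometryGroup F ⇑Q)) : GL ι F) ∈
      Cfsg.Geo.subspaceStabilizer U := by
  apply mem_stab_of_maps
  intro x hx
  rw [act_siegel, ts_polar Q hU hpU hx, zero_smul, zero_smul, smul_zero, sub_zero, sub_zero]
  exact U.add_mem hx (U.smul_mem _ hpU)

/-- A join of a totally singular subspace with an orthogonal singular vector is totally
singular. -/
theorem ts_sup (Q : QuadraticForm F (ι → F)) {U : Submodule F (ι → F)} (hU : ∀ u ∈ U, Q u = 0)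
    {y : ι → F} (hy : Q y = 0) (hyU : ∀ u ∈ U, polar (⇑Q) u y = 0) :
    ∀ x ∈ U ⊔ Submodule.span F {y}, Q x = 0 := by
  intro x hx
  obtain ⟨u, hu, v, hv, rfl⟩ := Submodule.mem_sup.mp hx
  obtain ⟨c, rfl⟩ := Submodule.mem_span_singleton.mp hv
  rw [QuadraticMap.map_add (⇑Q), hU u hu, QuadraticMap.map_smul, hy, polar_smul_right, hyU u hu]
  simp

omit [Fintype F] [DecidableEq ι] in
theorem finrank_sup_singleton (U : Submodule F (ι → F)) {y : ι → F} (hy : y ∉ U) :
    finrank F ↥(U ⊔ Submodule.span F {y}) = finrank F U + 1 := by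
  have hy0 : y ≠ 0 := by
    rintro rfl
    exact hy U.zero_mem
  have hinf : U ⊓ Submodule.span F {y} = ⊥ := by
    rw [eq_bot_iff]
    rintro x ⟨hxU, hxy⟩
    obtain ⟨c, rfl⟩ := Submodule.mem_span_singleton.mp hxy
    by_cases hc : c = 0
    · rw [hc, zero_smul]; exact (Submodule.mem_bot F).mpr rfl
    · exfalso
      apply hy
      have := U.smul_mem c⁻¹ hxU
      rwa [smul_smul, inv_mul_cancel₀ hc, one_smul] at this
  have h := Submodule.finrank_sup_add_finrank_inf_eq U (Submodule.span F {y})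
  rw [hinf, finrank_bot, add_zero, finrank_span_singleton hy0] at h
  exact h

/-- The stabiliser of a totally singular subspace moves a singular vector orthogonal to it, but
outside it, to a non-orthogonal one. -/
theorem exists_stab_move (Q : QuadraticForm F (ι → F)) (hQ : (polarBilin Q).Nondegenerate)
    (hn : 5 ≤ Fintype.card ι) {U : Submodule F (ι → F)} (hU0 : U ≠ ⊥) (hU : ∀ u ∈ U, Q u = 0)
    (hne : 2 * (finrank F U + 1) ≠ Fintype.card ι) {y : ι → F} (hy : Q y = 0)
    (hyU : ∀ u ∈ U, polar (⇑Q) u y = 0) (hynU : y ∉ U) :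
    ∃ h ∈ Cfsg.Omega F ⇑Q, (∀ u ∈ U, act h u ∈ U) ∧ polar (⇑Q) y (act h y) ≠ 0 := by
  classical
  have hfr : finrank F (ι → F) = Fintype.card ι := Module.finrank_fintype_fun_eq_card F
  -- a partner of `y` orthogonal to `U`
  obtain ⟨w, hwU, hyw⟩ : ∃ w ∈ orth Q U, polar (⇑Q) y w ≠ 0 := by
    by_contra hcon
    push Not at hcon
    apply hynU
    rw [← orth_orth hQ U, mem_orth]
    intro w hw
    rw [polar_comm]
    exact hcon w hw
  obtain ⟨w', hw'⟩ : ∃ w', w' = (polar (⇑Q) y w)⁻¹ • w := ⟨_, rfl⟩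
  have hw'U : w' ∈ orth Q U := by rw [hw']; exact (orth Q U).smul_mem _ hwU
  have hyw' : polar (⇑Q) y w' = 1 := by
    rw [hw', polar_smul_right, smul_eq_mul, inv_mul_cancel₀ hyw]
  have hyO : y ∈ orth Q U := mem_orth.mpr hyU
  obtain ⟨y', hy'⟩ : ∃ y', y' = w' - Q w' • y := ⟨_, rfl⟩
  have hy'O : y' ∈ orth Q U := by
    rw [hy']; exact (orth Q U).sub_mem hw'U ((orth Q U).smul_mem _ hyO)
  have hyy : polar (⇑Q) y y = 0 := polar_self_of_singular Q hy
  have hyy' : polar (⇑Q) y y' = 1 := by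
    rw [hy', polar_sub_right, polar_smul_right, hyy, smul_zero, sub_zero, hyw']
  have hy'y : polar (⇑Q) y' y = 1 := by rw [polar_comm]; exact hyy'
  have hQy' : Q y' = 0 := by
    rw [hy', Q_sub', QuadraticMap.map_smul, hy, polar_smul_right, polar_comm (⇑Q) w' y, hyw']
    simp
  have hy'U : ∀ u ∈ U, polar (⇑Q) u y' = 0 := mem_orth.mp hy'O
  have hy'nU : y' ∉ U := by
    intro h
    have := hyU y' h
    rw [hy'y] at this
    exact one_ne_zero this
  -- the totally singular subspace `T`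
  obtain ⟨T, hT⟩ : ∃ T, T = U ⊔ Submodule.span F {y'} := ⟨_, rfl⟩
  have hTts : ∀ x ∈ T, Q x = 0 := by rw [hT]; exact ts_sup Q hU hQy' hy'U
  have hXts : ∀ x ∈ U ⊔ Submodule.span F {y}, Q x = 0 := ts_sup Q hU hy hyU
  have hTfr : finrank F T = finrank F U + 1 := by rw [hT]; exact finrank_sup_singleton U hy'nU
  have hUT : U ≤ T := by rw [hT]; exact le_sup_left
  have hy'T : y' ∈ T := by
    rw [hT]; exact Submodule.mem_sup_right (Submodule.mem_span_singleton_self y')
  have hTle : T ≤ orth Q T := by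
    intro x hx
    rw [mem_orth]
    intro x' hx'
    exact ts_polar Q hTts hx' hx
  have hTo : finrank F (orth Q T) = Fintype.card ι - finrank F T := by
    rw [finrank_orth hQ, hfr]
  obtain ⟨z, hzT, hQz⟩ : ∃ z ∈ orth Q T, Q z ≠ 0 := by
    by_contra hcon
    push Not at hcon
    have hle : orth Q T ≤ T := by
      intro x hx
      rw [← orth_orth hQ T, mem_orth]
      intro x' hx'
      exact ts_polar Q hcon hx' hx
    have h1 := Submodule.finrank_mono hle
    have h2 := Submodule.finrank_mono hTle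
    have h3 : finrank F T ≤ Fintype.card ι := by
      rw [← hfr]; exact Submodule.finrank_le T
    omega
  have hzx : ∀ x ∈ T, polar (⇑Q) z x = 0 := by
    intro x hx
    rw [polar_comm]
    exact mem_orth.mp hzT x hx
  -- the linear map
  obtain ⟨f, hf⟩ : ∃ f : (ι → F) →ₗ[F] (ι → F), f = LinearMap.id +
      LinearMap.smulRight (polarBilin Q y') (y' - y) := ⟨_, rfl⟩
  have hfx : ∀ x, f x = x + polar (⇑Q) y' x • (y' - y) := by
    intro x
    rw [hf, LinearMap.add_apply, LinearMap.id_apply, LinearMap.smulRight_apply,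
      polarBilin_apply_apply]
  have hfuc : ∀ u ∈ U, ∀ c : F, f (u + c • y) = u + c • y' := by
    intro u hu c
    rw [hfx, polar_add_right, polar_smul_right, hy'y, polar_comm (⇑Q) y' u, hy'U u hu, zero_add,
      smul_eq_mul, mul_one]
    module
  obtain ⟨s, hs⟩ := (IsNoetherian.noetherian (U ⊔ Submodule.span F {y}) :
    (U ⊔ Submodule.span F {y}).FG)
  have hdec : ∀ x ∈ Submodule.span F (s : Set (ι → F)), ∃ u ∈ U, ∃ c : F, x = u + c • y := by
    intro x hx
    rw [hs] at hx
    obtain ⟨u, hu, v, hv, rfl⟩ := Submodule.mem_sup.mp hx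
    obtain ⟨c, rfl⟩ := Submodule.mem_span_singleton.mp hv
    exact ⟨u, hu, c, rfl⟩
  have hiso : ∀ x ∈ Submodule.span F (s : Set (ι → F)), Q (f x) = Q x := by
    intro x hx
    obtain ⟨u, hu, c, rfl⟩ := hdec x hx
    rw [hfuc u hu c]
    rw [hTts _ (by
      rw [hT]
      exact Submodule.add_mem _ (Submodule.mem_sup_left hu)
        (Submodule.mem_sup_right (Submodule.smul_mem _ _ (Submodule.mem_span_singleton_self y')))),
      hXts _ (Submodule.add_mem _ (Submodule.mem_sup_left hu)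
        (Submodule.mem_sup_right (Submodule.smul_mem _ _ (Submodule.mem_span_singleton_self y))))]
  have hinj : ∀ x ∈ Submodule.span F (s : Set (ι → F)), f x = 0 → x = 0 := by
    intro x hx h0
    obtain ⟨u, hu, c, rfl⟩ := hdec x hx
    rw [hfuc u hu c] at h0
    have hc : c = 0 := by
      have := congrArg (fun v => polar (⇑Q) y v) h0
      simp only [polar_add_right, polar_smul_right, hyy', polar_zero_right] at this
      rw [polar_comm (⇑Q) y u, hyU u hu] at this
      simpa using this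
    rw [hc, zero_smul, add_zero] at h0
    rw [hc, h0, zero_smul, add_zero]
  obtain ⟨e, he, hes⟩ := Cfsg.Agent.Lib.Helper19.WittQuad.main Q hQ s f hiso hinj
  have humem : ∀ u ∈ U, u ∈ Submodule.span F (s : Set (ι → F)) := by
    intro u hu
    rw [hs]
    exact Submodule.mem_sup_left hu
  have hymem : y ∈ Submodule.span F (s : Set (ι → F)) := by
    rw [hs]
    exact Submodule.mem_sup_right (Submodule.mem_span_singleton_self y)
  have hfu : ∀ u ∈ U, f u = u := by
    intro u hu
    have := hfuc u hu 0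
    rwa [zero_smul, add_zero, zero_smul, add_zero] at this
  have hfy : f y = y' := by
    have := hfuc 0 U.zero_mem 1
    rwa [one_smul, zero_add, one_smul, zero_add] at this
  obtain ⟨P, hP⟩ : ∃ P : ↥(Cfsg.isometryGroup F ⇑Q) → Prop,
      P = fun g => (∀ u ∈ U, act g u ∈ U) ∧ act g y - y' ∈ U := ⟨_, rfl⟩
  have hg₀ : P (ofEquiv (⇑Q) e he) := by
    rw [hP]
    refine ⟨fun u hu => ?_, ?_⟩
    · rw [act_ofEquiv, hes u (humem u hu), hfu u hu]
      exact hu
    · rw [act_ofEquiv, hes y hymem, hfy, sub_self]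
      exact U.zero_mem
  have hfixT : ∀ x ∈ T, act (refl Q z hQz) x = x :=
    fun x hx => act_refl_of_polar_eq_zero Q z hQz x (hzx x hx)
  have hs₁ : ∀ g, P g → P (refl Q z hQz * g) := by
    intro g hg
    rw [hP] at hg ⊢
    obtain ⟨hg1, hg2⟩ := hg
    refine ⟨fun u hu => ?_, ?_⟩
    · rw [act_mul, hfixT _ (hUT (hg1 u hu))]
      exact hg1 u hu
    · have hmem : act g y ∈ T := by
        have : act g y = (act g y - y') + y' := by abel
        rw [this]
        exact T.add_mem (hUT hg2) hy'T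
      rw [act_mul, hfixT _ hmem]
      exact hg2
  have hfin : ∀ h, P h → (∀ u ∈ U, act h u ∈ U) ∧ polar (⇑Q) y (act h y) ≠ 0 := by
    intro h hh
    rw [hP] at hh
    refine ⟨hh.1, ?_⟩
    have : act h y = (act h y - y') + y' := by abel
    rw [this, polar_add_right, polar_comm (⇑Q) y (act h y - y'), hyU _ hh.2, zero_add, hyy']
    exact one_ne_zero
  by_cases h2 : (2 : F) = 0
  · obtain ⟨h, hhΩ, hh⟩ := exists_mem_Omega_of_stab_c2 h2 Q hQ (Or.inr (by omega)) P _ hg₀
      (refl Q z hQz) hs₁ (dicksonChar_refl h2 Q hQ z hQz)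
    exact ⟨h, hhΩ, hfin h hh⟩
  · obtain ⟨e₀, he₀U, he₀0⟩ := Submodule.exists_mem_ne_zero_of_ne_bot hU0
    obtain ⟨s₂, f₂, c₂, hd₂, hc₂, hs₂act⟩ := exists_hyp_stab h2 Q hQ e₀ he₀0 (hU e₀ he₀U)
    have hs₂ : ∀ g, P g → P (s₂ * g) := by
      intro g hg
      rw [hP] at hg ⊢
      obtain ⟨hg1, hg2⟩ := hg
      refine ⟨fun u hu => ?_, ?_⟩
      · rw [act_mul, hs₂act _ (ts_polar Q hU he₀U (hg1 u hu))]
        exact U.add_mem (hg1 u hu) (U.smul_mem _ he₀U)
      · have hperp : polar (⇑Q) e₀ (act g y) = 0 := by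
          have : act g y = (act g y - y') + y' := by abel
          rw [this, polar_add_right, ts_polar Q hU he₀U hg2, hy'U e₀ he₀U, add_zero]
        rw [act_mul, hs₂act _ hperp]
        have : act g y + (c₂ * polar (⇑Q) f₂ (act g y)) • e₀ - y' =
            (act g y - y') + (c₂ * polar (⇑Q) f₂ (act g y)) • e₀ := by abel
        rw [this]
        exact U.add_mem hg2 (U.smul_mem _ he₀U)
    obtain ⟨h, hhΩ, hh⟩ := exists_mem_Omega_of_stab_odd h2 Q hQ (by omega) P _ hg₀
      (refl Q z hQz) s₂ hs₁ hs₂ (detHom_refl Q z hQz) hd₂ hc₂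
    exact ⟨h, hhΩ, hfin h hh⟩

end Cfsg.Agent.Lib.Helper27.OrthParab
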