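import Mathlib
import Cfsg.Prelude.Def_GeometricClasses
import Cfsg.Agent.Lib.Helper27.OrthParab2

set_option autoImplicit false

/-!
Maximality in `Ω` of the stabiliser of a totally singular subspace.
-/

namespace Cfsg.Agent.Lib.Helper27.OrthParab

open Cfsg Matrix QuadraticMap Module
open Cfsg.Agent.Lib.Helper19.OrthRefl Cfsg.Agent.Lib.Helper27.OrthPlane
open Cfsg.Agent.Lib.Helper19.Parity

variable {F : Type*} [Field F] [Fintype F] {ι : Type} [Fintype ι] [DecidableEq ι]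

/-- An element of `Ω` not stabilising a given non-zero totally singular subspace. -/
theorem exists_Omega_not_stab (Q : QuadraticForm F (ι → F)) (hQ : (polarBilin Q).Nondegenerate)
    (hn : 5 ≤ Fintype.card ι) {U : Submodule F (ι → F)} (hU0 : U ≠ ⊥) (hU : ∀ u ∈ U, Q u = 0) :
    ∃ g ∈ Cfsg.Omega F ⇑Q, (g : GL ι F) ∉ Cfsg.Geo.subspaceStabilizer U := by
  obtain ⟨p, hpU, hp0⟩ := Submodule.exists_mem_ne_zero_of_ne_bot hU0
  have hQp : Q p = 0 := hU p hpU
  obtain ⟨f, hQf, hpf⟩ := exists_hyp_partner Q hQ p hp0 hQp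
  have hfp : polar (⇑Q) f p = 1 := by rw [polar_comm]; exact hpf
  obtain ⟨w, hQw, hpw, hfw⟩ := exists_nonsing_orth_pair Q hQ hn p f
  obtain ⟨z, hz⟩ : ∃ z, z = p - Q w • f + w := ⟨_, rfl⟩
  have hff : polar (⇑Q) f f = 0 := polar_self_of_singular Q hQf
  have hpp : polar (⇑Q) p p = 0 := polar_self_of_singular Q hQp
  have hfz : polar (⇑Q) f z = 1 := by
    rw [hz, polar_add_right, polar_sub_right, polar_smul_right, hfp, hff, hfw]
    simp
  have hpz : polar (⇑Q) p z = -Q w := by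
    rw [hz, polar_add_right, polar_sub_right, polar_smul_right, hpp, hpf, hpw]
    simp
  have hQz : Q z = 0 := by
    have e1 : Q (p - Q w • f) = -Q w := by
      rw [Q_sub', QuadraticMap.map_smul, hQp, hQf, polar_smul_right, hpf]
      simp
    have e2 : polar (⇑Q) (p - Q w • f) w = 0 := by
      rw [polar_sub_left, polar_smul_left, hpw, hfw]
      simp
    rw [hz, QuadraticMap.map_add (⇑Q), e1, e2]
    ring
  have hpu : polar (⇑Q) f (p - z) = 0 := by rw [polar_sub_right, hfp, hfz, sub_self]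
  refine ⟨siegel Q hQ f (p - z) hQf hpu, siegel_mem_Omega Q hQ hn f (p - z) hQf hpu, ?_⟩
  intro hstab
  have hact := act_siegel_sub Q hQ f p z hQf hQp hQz hfp hfz hpu
  have hzU : z ∈ U := by
    rw [← hact]
    exact ((mem_stab_iff U _).mp hstab p).mp hpU
  have := ts_polar Q hU hpU hzU
  rw [hpz] at this
  exact hQw (neg_eq_zero.mp this)

theorem parabolic_maximal (Q : QuadraticForm F (ι → F)) (hQ : (polarBilin Q).Nondegenerate)
    (hn : 7 ≤ Fintype.card ι) {U : Submodule F (ι → F)} (hU0 : U ≠ ⊥) (hU : ∀ u ∈ U, Q u = 0)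
    (hex : 2 * (finrank F U + 1) = Fintype.card ι →
      ∀ y, (∀ u ∈ U, polar (⇑Q) u y = 0) → Q y = 0 → y ∈ U) :
    Cfsg.Geo.IsMaximalIn (Cfsg.Geo.omegaGL ⇑Q)
      (Cfsg.Geo.subspaceStabilizer U ⊓ Cfsg.Geo.omegaGL ⇑Q) := by
  classical
  refine ⟨lt_of_le_of_ne inf_le_right ?_, ?_⟩
  · intro heq
    obtain ⟨g, hgΩ, hgU⟩ := exists_Omega_not_stab Q hQ (by omega) hU0 hU
    have : (g : GL ι F) ∈ Cfsg.Geo.subspaceStabilizer U ⊓ Cfsg.Geo.omegaGL ⇑Q := by
      rw [heq]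
      exact mem_omegaGL_of_mem_Omega g hgΩ
    exact hgU this.1
  · intro M hHM hMΩ
    by_cases hMH : M = Cfsg.Geo.subspaceStabilizer U ⊓ Cfsg.Geo.omegaGL ⇑Q
    · exact Or.inl hMH
    right
    have hlt : Cfsg.Geo.subspaceStabilizer U ⊓ Cfsg.Geo.omegaGL ⇑Q < M :=
      lt_of_le_of_ne hHM (fun h => hMH h.symm)
    obtain ⟨m, hmM, hmH⟩ := SetLike.exists_of_lt hlt
    obtain ⟨m', hm'Ω, rfl⟩ := Subgroup.mem_map.mp (hMΩ hmM)
    have hUC : ∀ p ∈ U, p ∈ Centers Q hQ M := by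
      intro p hpU
      refine ⟨hU p hpU, fun u hp hpu => hHM ⟨siegel_mem_stab Q hQ hU hpU u hp hpu, ?_⟩⟩
      exact mem_omegaGL_of_mem_Omega _ (siegel_mem_Omega Q hQ (by omega) p u hp hpu)
    have hmove : ¬ ∀ x ∈ U, act m' x ∈ U := by
      intro h
      exact hmH ⟨mem_stab_of_maps U m' h, hMΩ hmM⟩
    push Not at hmove
    obtain ⟨p₀, hp₀U, hp₀⟩ := hmove
    obtain ⟨y, hy⟩ : ∃ y, y = act m' p₀ := ⟨_, rfl⟩
    have hyC : y ∈ Centers Q hQ M := by
      rw [hy]; exact centers_act Q hQ M (hUC p₀ hp₀U) m' hmM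
    have hynU : y ∉ U := by rw [hy]; exact hp₀
    apply eq_omega_of_centers Q hQ (by omega) M hMΩ
    by_cases hyU : ∀ u ∈ U, polar (⇑Q) u y = 0
    · have hne : 2 * (finrank F U + 1) ≠ Fintype.card ι := by
        intro h
        exact hynU (hex h y hyU hyC.1)
      obtain ⟨h, hhΩ, hhU, hhy⟩ := exists_stab_move Q hQ (by omega) hU0 hU hne hyC.1 hyU hynU
      have hhM : (h : GL ι F) ∈ M :=
        hHM ⟨mem_stab_of_maps U h hhU, mem_omegaGL_of_mem_Omega h hhΩ⟩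
      exact centers_all Q hQ hn M hyC (centers_act Q hQ M hyC h hhM) hhy
    · push Not at hyU
      obtain ⟨u, huU, huy⟩ := hyU
      exact centers_all Q hQ hn M (hUC u huU) hyC huy

end Cfsg.Agent.Lib.Helper27.OrthParab
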