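import Mathlib
import Cfsg.Prelude.Def_GeometricClasses
import Cfsg.Agent.Lib.Helper19.QuadStd

set_option autoImplicit false

/-!
From a non-degenerate quadratic form given as a function (`Cfsg.Geo.IsNondegenerateQuadraticForm`)
to a bundled Mathlib quadratic form with non-degenerate polar form.
-/

namespace Cfsg.Agent.Lib.Helper27.QuadBridge

open Cfsg QuadraticMap

variable {F : Type*} [Field F] {ι : Type} [Fintype ι] [DecidableEq ι]

/-- The bundled quadratic form of a non-degenerate quadratic form given as a function. -/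
noncomputable def toQF (Q : (ι → F) → F) (hQ : Cfsg.Geo.IsNondegenerateQuadraticForm Q) :
    QuadraticForm F (ι → F) where
  toFun := Q
  toFun_smul := fun a x => by rw [hQ.smul, smul_eq_mul, pow_two]
  exists_companion' :=
    ⟨LinearMap.mk₂ F (QuadraticMap.polar Q) hQ.polar_bilinear.add_left
      hQ.polar_bilinear.smul_left hQ.polar_bilinear.add_right hQ.polar_bilinear.smul_right,
      fun x y => by
        simp only [LinearMap.mk₂_apply, QuadraticMap.polar]
        ring⟩

theorem coe_toQF (Q : (ι → F) → F) (hQ : Cfsg.Geo.IsNondegenerateQuadraticForm Q) :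
    ⇑(toQF Q hQ) = Q := rfl

theorem toQF_nondeg (Q : (ι → F) → F) (hQ : Cfsg.Geo.IsNondegenerateQuadraticForm Q) :
    (polarBilin (toQF Q hQ)).Nondegenerate := by
  apply Cfsg.Agent.Lib.Helper19.QuadStd.nondegenerate_of_sep
  intro v hv
  by_contra hv0
  obtain ⟨_, ⟨x, hx⟩⟩ := hQ.nondegenerate v hv0
  exact hx (hv x)

end Cfsg.Agent.Lib.Helper27.QuadBridge
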