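import Mathlib

/-!
# Linear groups on `F₂⁴`: fixed points of elements of order 5 and 7 (helper27)
-/

namespace Cfsg.Agent.Lib.Helper27.A7GL4

open Matrix

variable {F : Type*} [Field F] [Fintype F]

theorem smul_def (g : GL (Fin 4) F) (v : Fin 4 → F) : g • v = g.1 *ᵥ v := rfl

theorem eq_zero_or_one (hF : Fintype.card F = 2) (a : F) : a = 0 ∨ a = 1 := by
  classical
  by_contra h
  push Not at h
  have h3 : ({0, 1, a} : Finset F).card = 3 := by
    rw [Finset.card_insert_of_notMem, Finset.card_insert_of_notMem, Finset.card_singleton]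
    · simpa using h.2.symm
    · simp only [Finset.mem_insert, Finset.mem_singleton, not_or]
      exact ⟨zero_ne_one, h.1.symm⟩
  have := Finset.card_le_univ ({0, 1, a} : Finset F)
  omega

theorem one_add_one (hF : Fintype.card F = 2) : (1 : F) + 1 = 0 := by
  rcases eq_zero_or_one hF ((1 : F) + 1) with h | h
  · exact h
  · exfalso
    have : (1 : F) = 0 := by linear_combination h
    exact one_ne_zero this

theorem add_self (hF : Fintype.card F = 2) (v : Fin 4 → F) : v + v = 0 := by
  funext i
  have := one_add_one hF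
  show v i + v i = 0
  linear_combination (v i) * this

theorem card_V (hF : Fintype.card F = 2) : Fintype.card (Fin 4 → F) = 16 := by
  rw [Fintype.card_fun, hF, Fintype.card_fin]; norm_num

/-- A permutation of prime order `p` acting without fixed points on an invariant finite set:
the size is divisible by `p`. -/
theorem prime_dvd_card_of_no_fixed {α : Type*} [Fintype α] [DecidableEq α] {p : ℕ}
    [Fact p.Prime] (σ : Equiv.Perm α) (hσ : σ ^ p = 1) (T : Finset α)
    (hT : ∀ x ∈ T, σ x ∈ T) (hfix : ∀ x ∈ T, σ x ≠ x) : p ∣ T.card := by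
  have hpow : ∀ k : ℕ, ∀ x ∈ T, (σ ^ k) x ∈ T := by
    intro k
    induction k with
    | zero => intro x hx; simpa using hx
    | succ k ih =>
      intro x hx
      rw [pow_succ', Equiv.Perm.mul_apply]
      exact hT _ (ih x hx)
  have hp1 : 1 ≤ p := (Fact.out : p.Prime).one_lt.le
  have hT' : ∀ x, σ x ∈ T ↔ x ∈ T := by
    intro x
    refine ⟨fun h => ?_, hT x⟩
    have h1 := hpow (p - 1) _ h
    have h2 : (σ ^ (p - 1)) (σ x) = x := by
      rw [← Equiv.Perm.mul_apply, ← pow_succ, Nat.sub_add_cancel hp1, hσ]; rfl
    rwa [h2] at h1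
  let τ : Equiv.Perm {x // x ∈ T} := σ.subtypePerm hT'
  have hτ : τ ^ p ^ 1 = 1 := by
    rw [pow_one, Equiv.Perm.subtypePerm_pow]
    ext x
    simp [hσ]
  have h := Equiv.Perm.card_compl_support_modEq hτ
  have hsupp : τ.supportᶜ = ∅ := by
    ext x
    simp only [Finset.mem_compl, Equiv.Perm.mem_support, not_not, Finset.notMem_empty, iff_false]
    intro hx
    apply hfix x.1 x.2
    have := congrArg Subtype.val hx
    simpa [τ] using this
  rw [hsupp, Finset.card_empty, Fintype.card_coe] at h
  exact (Nat.modEq_zero_iff_dvd.mp h.symm)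

/-- The submodule of fixed vectors of a matrix. -/
def fixSub (g : GL (Fin 4) F) : Submodule F (Fin 4 → F) where
  carrier := {v | g • v = v}
  add_mem' := by
    intro a b ha hb
    show g • (a + b) = a + b
    rw [smul_add, ha, hb]
  zero_mem' := smul_zero g
  smul_mem' := by
    intro c v hv
    show g.1 *ᵥ (c • v) = c • v
    rw [Matrix.mulVec_smul]
    exact congrArg _ hv

theorem mem_fixSub (g : GL (Fin 4) F) (v : Fin 4 → F) : v ∈ fixSub g ↔ g • v = v := Iff.rfl

theorem eq_one_of_forall_smul (g : GL (Fin 4) F) (h : ∀ v : Fin 4 → F, g • v = v) : g = 1 := by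
  apply Units.ext
  apply Matrix.mulVec_injective
  funext v
  rw [← smul_def, h v]
  simp

/-- The permutation of vectors induced by `g`. -/
noncomputable def vperm : GL (Fin 4) F →* Equiv.Perm (Fin 4 → F) :=
  MulAction.toPermHom (GL (Fin 4) F) (Fin 4 → F)

theorem vperm_apply (g : GL (Fin 4) F) (v : Fin 4 → F) : vperm g v = g • v := rfl

/-- The number of fixed vectors of an element of prime order `p` is a power `2^d`, `d ≤ 4`,
congruent to `16` modulo `p`. -/
theorem card_fix (hF : Fintype.card F = 2) {p : ℕ} [Fact p.Prime] (g : GL (Fin 4) F)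
    (hg : g ^ p = 1) :
    ∃ d : ℕ, d ≤ 4 ∧ Nat.card (fixSub g) = 2 ^ d ∧ p ∣ 16 - 2 ^ d := by
  classical
  refine ⟨Module.finrank F (fixSub g), ?_, ?_, ?_⟩
  · have := Submodule.finrank_le (fixSub g)
    rwa [Module.finrank_fin_fun] at this
  · rw [Module.natCard_eq_pow_finrank (K := F), Nat.card_eq_fintype_card, hF]
  · have hc : Nat.card (fixSub g) = 2 ^ Module.finrank F (fixSub g) := by
      rw [Module.natCard_eq_pow_finrank (K := F), Nat.card_eq_fintype_card, hF]
    rw [← hc]
    let T : Finset (Fin 4 → F) := Finset.univ.filter (fun v => g • v ≠ v)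
    have hT := prime_dvd_card_of_no_fixed (p := p) (vperm g)
      (by rw [← map_pow, hg, map_one]) T
      (by
        intro x hx
        simp only [T, Finset.mem_filter, Finset.mem_univ, true_and, vperm_apply] at hx ⊢
        intro h
        exact hx (smul_left_cancel g h))
      (by
        intro x hx
        simp only [T, Finset.mem_filter, Finset.mem_univ, true_and, vperm_apply] at hx ⊢
        exact hx)
    have hTc : T.card = 16 - Nat.card (fixSub g) := by
      have h1 : (Finset.univ.filter (fun v : Fin 4 → F => g • v = v)).card = Nat.card (fixSub g) := by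
        rw [Nat.card_eq_fintype_card, ← Fintype.card_subtype]
        exact Fintype.card_congr (Equiv.refl _)
      have h2 := Finset.card_filter_add_card_filter_not (s := (Finset.univ : Finset (Fin 4 → F)))
        (fun v : Fin 4 → F => g • v = v)
      rw [Finset.card_univ, card_V hF, h1] at h2
      show (Finset.univ.filter (fun v : Fin 4 → F => ¬ g • v = v)).card = _
      omega
    rwa [hTc] at hT

theorem fix_five (hF : Fintype.card F = 2) (g : GL (Fin 4) F) (hg : g ^ 5 = 1) (hg1 : g ≠ 1)
    (v : Fin 4 → F) (hv : g • v = v) : v = 0 := by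
  classical
  have : Fact (Nat.Prime 5) := ⟨by norm_num⟩
  obtain ⟨d, hd, hc, hdvd⟩ := card_fix hF g hg
  have hd' : d = 0 ∨ d = 4 := by
    interval_cases d <;> simp_all
  rcases hd' with rfl | rfl
  · have : Subsingleton (fixSub g) := by
      rw [← Finite.card_le_one_iff_subsingleton, hc]; norm_num
    have h := Subsingleton.elim (⟨v, hv⟩ : fixSub g) 0
    exact congrArg Subtype.val h
  · exfalso
    apply hg1
    apply eq_one_of_forall_smul
    have htop : fixSub g = ⊤ := by
      apply Submodule.eq_top_of_finrank_eq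
      rw [Module.finrank_fin_fun]
      have := Module.natCard_eq_pow_finrank (K := F) (V := fixSub g)
      rw [hc, Nat.card_eq_fintype_card, hF] at this
      exact (Nat.pow_right_injective (le_refl 2) this).symm
    intro w
    have : w ∈ fixSub g := by rw [htop]; trivial
    exact this

theorem fix_seven (hF : Fintype.card F = 2) (g : GL (Fin 4) F) (hg : g ^ 7 = 1) (hg1 : g ≠ 1) :
    ∃ v0 : Fin 4 → F, v0 ≠ 0 ∧ g • v0 = v0 ∧ ∀ v : Fin 4 → F, g • v = v → v = 0 ∨ v = v0 := by
  classical
  have : Fact (Nat.Prime 7) := ⟨by norm_num⟩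
  obtain ⟨d, hd, hc, hdvd⟩ := card_fix hF g hg
  have hd' : d = 1 ∨ d = 4 := by
    interval_cases d <;> simp_all
  rcases hd' with rfl | rfl
  · rw [pow_one, Nat.card_eq_two_iff' (0 : fixSub g)] at hc
    obtain ⟨⟨v0, hv0⟩, hne, huniq⟩ := hc
    refine ⟨v0, ?_, hv0, ?_⟩
    · intro h
      apply hne
      exact Subtype.ext h
    · intro v hv
      by_cases h0 : v = 0
      · exact Or.inl h0
      · right
        have := huniq ⟨v, hv⟩ (by intro h; exact h0 (congrArg Subtype.val h))
        exact congrArg Subtype.val this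
  · exfalso
    apply hg1
    apply eq_one_of_forall_smul
    have htop : fixSub g = ⊤ := by
      apply Submodule.eq_top_of_finrank_eq
      rw [Module.finrank_fin_fun]
      have := Module.natCard_eq_pow_finrank (K := F) (V := fixSub g)
      rw [hc, Nat.card_eq_fintype_card, hF] at this
      exact (Nat.pow_right_injective (le_refl 2) this).symm
    intro w
    have : w ∈ fixSub g := by rw [htop]; trivial
    exact this

end Cfsg.Agent.Lib.Helper27.A7GL4
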