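import Cfsg.Agent.Lib.Helper27.A7GL4A

/-!
# Linear groups on `F₂⁴` of order divisible by 35: transitivity (helper27)
-/

namespace Cfsg.Agent.Lib.Helper27.A7GL4

open Matrix

variable {F : Type*} [Field F] [Fintype F]

theorem smul_ne_zero' (g : GL (Fin 4) F) {v : Fin 4 → F} (hv : v ≠ 0) : g • v ≠ 0 := by
  intro h
  exact hv ((smul_eq_zero_iff_eq g).mp h)

theorem coe_pow_eq_one {H : Subgroup (GL (Fin 4) F)} (g : H) {p : ℕ} (hg : orderOf g = p) :
    (g : GL (Fin 4) F) ^ p = 1 := by
  rw [← Subgroup.coe_pow, ← hg, pow_orderOf_eq_one]; rfl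

theorem coe_ne_one {H : Subgroup (GL (Fin 4) F)} (g : H) {p : ℕ} (hp : 1 < p)
    (hg : orderOf g = p) : (g : GL (Fin 4) F) ≠ 1 := by
  intro h
  have : g = 1 := Subtype.ext h
  rw [this, orderOf_one] at hg
  omega

/-- A subgroup of `GL₄(2)` of order divisible by `5` and `7` is transitive on nonzero vectors. -/
theorem transitive_of_dvd (hF : Fintype.card F = 2) (H : Subgroup (GL (Fin 4) F))
    (h5 : 5 ∣ Nat.card H) (h7 : 7 ∣ Nat.card H) (v v' : Fin 4 → F) (hv : v ≠ 0) (hv' : v' ≠ 0) :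
    ∃ h ∈ H, h • v = v' := by
  classical
  have : Fact (Nat.Prime 5) := ⟨by norm_num⟩
  have : Fact (Nat.Prime 7) := ⟨by norm_num⟩
  obtain ⟨g5, hg5⟩ := exists_prime_orderOf_dvd_card' 5 h5
  obtain ⟨g7, hg7⟩ := exists_prime_orderOf_dvd_card' 7 h7
  have hg5' := coe_pow_eq_one g5 hg5
  have hg5ne := coe_ne_one g5 (by norm_num) hg5
  have hg7' := coe_pow_eq_one g7 hg7
  have hg7ne := coe_ne_one g7 (by norm_num) hg7
  obtain ⟨v0, hv0, hgv0, hfix⟩ := fix_seven hF _ hg7' hg7ne
  have key : ∀ u : Fin 4 → F, u ≠ 0 → ∃ h ∈ H, h • u = v0 := by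
    intro u hu
    by_contra hcon
    push Not at hcon
    let O : Finset (Fin 4 → F) := Finset.univ.filter (fun w => ∃ h ∈ H, h • u = w)
    have hOmem : ∀ w, w ∈ O ↔ ∃ h ∈ H, h • u = w := by
      intro w; simp [O]
    have hOinv : ∀ k ∈ H, ∀ w ∈ O, k • w ∈ O := by
      intro k hk w hw
      rw [hOmem] at hw ⊢
      obtain ⟨h, hh, rfl⟩ := hw
      exact ⟨k * h, H.mul_mem hk hh, mul_smul k h u⟩
    have hO0 : ∀ w ∈ O, w ≠ 0 := by
      intro w hw
      rw [hOmem] at hw
      obtain ⟨h, hh, rfl⟩ := hw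
      exact smul_ne_zero' h hu
    have hOv0 : v0 ∉ O := by
      intro hw
      rw [hOmem] at hw
      obtain ⟨h, hh, hw⟩ := hw
      exact hcon h hh hw
    have d5 : 5 ∣ O.card := prime_dvd_card_of_no_fixed (vperm (g5 : GL (Fin 4) F))
      (by rw [← map_pow, hg5', map_one]) O (fun x hx => hOinv _ g5.2 x hx)
      (fun x hx h => hO0 x hx (fix_five hF _ hg5' hg5ne x h))
    have d7 : 7 ∣ O.card := prime_dvd_card_of_no_fixed (vperm (g7 : GL (Fin 4) F))
      (by rw [← map_pow, hg7', map_one]) O (fun x hx => hOinv _ g7.2 x hx)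
      (fun x hx h => by
        rcases hfix x h with h0 | h0
        · exact hO0 x hx h0
        · exact hOv0 (h0 ▸ hx))
    have hpos : 0 < O.card := Finset.card_pos.mpr ⟨u, (hOmem u).2 ⟨1, H.one_mem, one_smul _ _⟩⟩
    have hle : O.card ≤ 16 := by rw [← card_V hF]; exact Finset.card_le_univ _
    have h35 : 5 * 7 ∣ O.card := Nat.Coprime.mul_dvd_of_dvd_of_dvd (by norm_num) d5 d7
    obtain ⟨m, hm⟩ := h35
    omega
  obtain ⟨a, ha, hav⟩ := key v hv
  obtain ⟨b, hb, hbv⟩ := key v' hv'
  refine ⟨b⁻¹ * a, H.mul_mem (H.inv_mem hb) ha, ?_⟩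
  rw [mul_smul, hav, ← hbv, inv_smul_smul]

theorem pow_smul_fixed (g : GL (Fin 4) F) (v0 : Fin 4 → F) (hgv0 : g • v0 = v0) (i : ℕ) :
    (g ^ i) • v0 = v0 := by
  induction i with
  | zero => simp
  | succ i ih => rw [pow_succ, mul_smul, hgv0, ih]

/-- An invariant additive functional for an element of order `7` fixing `v0`. -/
theorem exists_invariant_functional (hF : Fintype.card F = 2) (g : GL (Fin 4) F) (hg : g ^ 7 = 1)
    (v0 : Fin 4 → F) (hv0 : v0 ≠ 0) (hgv0 : g • v0 = v0) :
    ∃ c : (Fin 4 → F) →+ F, c v0 = 1 ∧ ∀ w, c (g • w) = c w := by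
  obtain ⟨i0, hi0⟩ : ∃ i, v0 i ≠ 0 := by
    by_contra h
    push Not at h
    exact hv0 (funext h)
  have hi1 : v0 i0 = 1 := (eq_zero_or_one hF _).resolve_left hi0
  let N : (Fin 4 → F) →+ (Fin 4 → F) :=
    ∑ i ∈ Finset.range 7, DistribMulAction.toAddMonoidHom (Fin 4 → F) (g ^ i)
  have hN : ∀ w, N w = ∑ i ∈ Finset.range 7, (g ^ i) • w := by
    intro w
    simp [N, AddMonoidHom.finset_sum_apply]
  refine ⟨(Pi.evalAddMonoidHom (fun _ => F) i0).comp N, ?_, ?_⟩
  · show (N v0) i0 = 1
    rw [hN]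
    simp only [pow_smul_fixed g v0 hgv0, Finset.sum_const, Finset.card_range]
    have h2 := add_self hF v0
    have : (7 : ℕ) • v0 = v0 + (v0 + v0) + (v0 + v0) + (v0 + v0) := by
      simp only [succ_nsmul, zero_nsmul]; abel
    rw [this, h2]
    simp [hi1]
  · intro w
    show (N (g • w)) i0 = (N w) i0
    congr 1
    rw [hN, hN]
    have h1 : ∀ i, (g ^ i) • (g • w) = (g ^ (i + 1)) • w := by
      intro i; rw [pow_succ, mul_smul]
    simp only [h1]
    rw [Finset.sum_range_succ (fun i => (g ^ (i + 1)) • w) 6,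
      Finset.sum_range_succ' (fun i => (g ^ i) • w) 6]
    simp [hg]

theorem card_level (hF : Fintype.card F = 2) [DecidableEq F] (c : (Fin 4 → F) →+ F)
    (v0 : Fin 4 → F) (hc1 : c v0 = 1) (a : F) :
    (Finset.univ.filter (fun w : Fin 4 → F => c w = a)).card = 8 := by
  classical
  have h11 := one_add_one hF
  have hbij : (Finset.univ.filter (fun w : Fin 4 → F => c w = 0)).card =
      (Finset.univ.filter (fun w : Fin 4 → F => c w = 1)).card := by
    apply Finset.card_bij (fun w _ => w + v0)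
    · intro w hw
      simp only [Finset.mem_filter, Finset.mem_univ, true_and] at hw ⊢
      rw [map_add, hw, hc1, zero_add]
    · intro w _ w' _ h
      exact add_right_cancel h
    · intro w hw
      simp only [Finset.mem_filter, Finset.mem_univ, true_and] at hw
      refine ⟨w + v0, ?_, ?_⟩
      · simp only [Finset.mem_filter, Finset.mem_univ, true_and]
        rw [map_add, hw, hc1, h11]
      · rw [add_assoc, add_self hF, add_zero]
  have hsum := Finset.card_filter_add_card_filter_not (s := (Finset.univ : Finset (Fin 4 → F)))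
    (fun w : Fin 4 → F => c w = 0)
  have hne : (Finset.univ.filter (fun w : Fin 4 → F => ¬ c w = 0)) =
      (Finset.univ.filter (fun w : Fin 4 → F => c w = 1)) := by
    apply Finset.filter_congr
    intro w _
    rcases eq_zero_or_one hF (c w) with h | h
    · simp [h]
    · simp [h]
  rw [hne, Finset.card_univ, card_V hF] at hsum
  rcases eq_zero_or_one hF a with rfl | rfl
  · omega
  · omega

/-- The powers of an element of order `7` act transitively on each of the two level sets of the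
invariant functional (minus the fixed vectors). -/
theorem pow_orbit (hF : Fintype.card F = 2) (g : GL (Fin 4) F) (hg : g ^ 7 = 1)
    (v0 : Fin 4 → F) (hgv0 : g • v0 = v0)
    (hfix : ∀ v : Fin 4 → F, g • v = v → v = 0 ∨ v = v0)
    (c : (Fin 4 → F) →+ F) (hc1 : c v0 = 1) (hcg : ∀ w, c (g • w) = c w)
    (x y : Fin 4 → F) (hx0 : x ≠ 0) (hxv : x ≠ v0) (hy0 : y ≠ 0) (hyv : y ≠ v0)
    (hxy : c x = c y) : ∃ k : ℕ, (g ^ k) • x = y := by
  classical
  have : Fact (Nat.Prime 7) := ⟨by norm_num⟩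
  let A : Finset (Fin 4 → F) := Finset.univ.filter (fun w => c w = c x ∧ w ≠ 0 ∧ w ≠ v0)
  let O : Finset (Fin 4 → F) := Finset.univ.filter (fun w => ∃ k : ℕ, (g ^ k) • x = w)
  have hAmem : ∀ w, w ∈ A ↔ (c w = c x ∧ w ≠ 0 ∧ w ≠ v0) := by intro w; simp [A]
  have hOmem : ∀ w, w ∈ O ↔ ∃ k : ℕ, (g ^ k) • x = w := by intro w; simp [O]
  have hcpow : ∀ k : ℕ, ∀ w, c ((g ^ k) • w) = c w := by
    intro k
    induction k with
    | zero => intro w; simp
    | succ k ih => intro w; rw [pow_succ, mul_smul, ih, hcg]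
  have hOA : O ⊆ A := by
    intro w hw
    rw [hOmem] at hw
    obtain ⟨k, rfl⟩ := hw
    rw [hAmem]
    refine ⟨hcpow k x, smul_ne_zero' _ hx0, ?_⟩
    intro h
    apply hxv
    have h2 := pow_smul_fixed g v0 hgv0 k
    rw [← h2] at h
    exact smul_left_cancel _ h
  have hAcard : A.card = 7 := by
    have h8 := card_level hF c v0 hc1 (c x)
    rcases eq_zero_or_one hF (c x) with h | h
    · have : A = (Finset.univ.filter (fun w : Fin 4 → F => c w = c x)).erase 0 := by
        ext w
        simp only [A, Finset.mem_filter, Finset.mem_univ, true_and, Finset.mem_erase]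
        constructor
        · rintro ⟨h1, h2, _⟩; exact ⟨h2, h1⟩
        · rintro ⟨h2, h1⟩
          refine ⟨h1, h2, ?_⟩
          rintro rfl
          rw [hc1, h] at h1
          exact one_ne_zero h1
      rw [this, Finset.card_erase_of_mem, h8]
      simp [h]
    · have : A = (Finset.univ.filter (fun w : Fin 4 → F => c w = c x)).erase v0 := by
        ext w
        simp only [A, Finset.mem_filter, Finset.mem_univ, true_and, Finset.mem_erase]
        constructor
        · rintro ⟨h1, _, h3⟩; exact ⟨h3, h1⟩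
        · rintro ⟨h3, h1⟩
          refine ⟨h1, ?_, h3⟩
          rintro rfl
          rw [map_zero, h] at h1
          exact zero_ne_one h1
      rw [this, Finset.card_erase_of_mem, h8]
      simp [h, hc1]
  have d7 : 7 ∣ O.card := prime_dvd_card_of_no_fixed (vperm g)
    (by rw [← map_pow, hg, map_one]) O
    (by
      intro w hw
      rw [hOmem] at hw ⊢
      obtain ⟨k, rfl⟩ := hw
      exact ⟨k + 1, by rw [pow_succ', mul_smul]; rfl⟩)
    (by
      intro w hw h
      have hwA := (hAmem w).1 (hOA hw)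
      rcases hfix w h with h0 | h0
      · exact hwA.2.1 h0
      · exact hwA.2.2 h0)
  have hpos : 0 < O.card := Finset.card_pos.mpr ⟨x, (hOmem x).2 ⟨0, by simp⟩⟩
  have hle : O.card ≤ A.card := Finset.card_le_card hOA
  have hO7 : O.card = 7 := by
    obtain ⟨m, hm⟩ := d7
    omega
  have hOeq : O = A := Finset.eq_of_subset_of_card_le hOA (by omega)
  have hy : y ∈ O := by
    rw [hOeq, hAmem]
    exact ⟨hxy.symm, hy0, hyv⟩
  exact (hOmem y).1 hy

end Cfsg.Agent.Lib.Helper27.A7GL4
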