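import Cfsg.Agent.Lib.Helper27.A7GL4B

/-!
# Subgroups of order 2520 of `GL₄(2)` are 2-transitive on nonzero vectors (helper27)
-/

namespace Cfsg.Agent.Lib.Helper27.A7GL4

open Matrix

variable {F : Type*} [Field F] [Fintype F]

/-- Dichotomy for the stabilizer of `v0`: the functional is invariant, or the stabilizer is
transitive on the other `14` vectors. -/
theorem stab_dichotomy (hF : Fintype.card F = 2) (H : Subgroup (GL (Fin 4) F))
    (g : GL (Fin 4) F) (hgH : g ∈ H) (hg : g ^ 7 = 1)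
    (v0 : Fin 4 → F) (hgv0 : g • v0 = v0)
    (hfix : ∀ v : Fin 4 → F, g • v = v → v = 0 ∨ v = v0)
    (c : (Fin 4 → F) →+ F) (hc1 : c v0 = 1) (hcg : ∀ w, c (g • w) = c w) :
    (∀ s ∈ H, s • v0 = v0 → ∀ w, c (s • w) = c w) ∨
    (∀ x y : Fin 4 → F, x ≠ 0 → x ≠ v0 → y ≠ 0 → y ≠ v0 → ∃ s ∈ H, s • v0 = v0 ∧ s • x = y) := by
  classical
  by_cases hinv : ∀ s ∈ H, s • v0 = v0 → ∀ w, c (s • w) = c w
  · exact Or.inl hinv
  · right
    push Not at hinv
    obtain ⟨s, hsH, hsv0, w, hw⟩ := hinv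
    have hw0 : w ≠ 0 := by
      rintro rfl
      exact hw (by rw [smul_zero])
    have hwv : w ≠ v0 := by
      rintro rfl
      exact hw (by rw [hsv0])
    have hsw0 : s • w ≠ 0 := smul_ne_zero' s hw0
    have hswv : s • w ≠ v0 := by
      intro h
      apply hwv
      rw [← hsv0] at h
      exact smul_left_cancel _ h
    have hpowH : ∀ k : ℕ, g ^ k ∈ H := fun k => H.pow_mem hgH k
    have hpowv : ∀ k : ℕ, (g ^ k) • v0 = v0 := pow_smul_fixed g v0 hgv0
    -- every value of `c` is `c w` or `c (s • w)`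
    have htwo : ∀ a : F, a = c w ∨ a = c (s • w) := by
      intro a
      rcases eq_zero_or_one hF a with ha | ha <;>
      rcases eq_zero_or_one hF (c w) with h1 | h1 <;>
      rcases eq_zero_or_one hF (c (s • w)) with h2 | h2
      all_goals first
        | (left; rw [ha, h1]; done)
        | (right; rw [ha, h2]; done)
        | (exfalso; apply hw; rw [h1, h2])
    intro x y hx0 hxv hy0 hyv
    have orb := pow_orbit hF g hg v0 hgv0 hfix c hc1 hcg
    by_cases hxy : c x = c y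
    · obtain ⟨k, hk⟩ := orb x y hx0 hxv hy0 hyv hxy
      exact ⟨g ^ k, hpowH k, hpowv k, hk⟩
    · rcases htwo (c x) with hx | hx
      · have hy : c y = c (s • w) := by
          rcases htwo (c y) with hy | hy
          · exact absurd (hx.trans hy.symm) hxy
          · exact hy
        obtain ⟨a, ha⟩ := orb x w hx0 hxv hw0 hwv hx
        obtain ⟨b, hb⟩ := orb (s • w) y hsw0 hswv hy0 hyv hy.symm
        refine ⟨g ^ b * s * g ^ a, H.mul_mem (H.mul_mem (hpowH b) hsH) (hpowH a), ?_, ?_⟩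
        · rw [mul_smul, mul_smul, hpowv, hsv0, hpowv]
        · rw [mul_smul, mul_smul, ha, hb]
      · have hy : c y = c w := by
          rcases htwo (c y) with hy | hy
          · exact hy
          · exact absurd (hx.trans hy.symm) hxy
        obtain ⟨a, ha⟩ := orb x (s • w) hx0 hxv hsw0 hswv hx
        obtain ⟨b, hb⟩ := orb w y hw0 hwv hy0 hyv hy.symm
        refine ⟨g ^ b * s⁻¹ * g ^ a,
          H.mul_mem (H.mul_mem (hpowH b) (H.inv_mem hsH)) (hpowH a), ?_, ?_⟩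
        · rw [mul_smul, mul_smul, hpowv, inv_smul_eq_iff.mpr hsv0.symm, hpowv]
        · rw [mul_smul, mul_smul, ha, inv_smul_smul, hb]

/-- The bilinear form contradiction. -/
theorem no_invariant_functional (hF : Fintype.card F = 2) (H : Subgroup (GL (Fin 4) F))
    (htrans : ∀ v v' : Fin 4 → F, v ≠ 0 → v' ≠ 0 → ∃ h ∈ H, h • v = v')
    (t : GL (Fin 4) F) (htH : t ∈ H) (ht2 : t * t = 1) (ht1 : t ≠ 1)
    (v0 : Fin 4 → F) (hv0 : v0 ≠ 0)
    (c : (Fin 4 → F) →+ F) (hc1 : c v0 = 1)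
    (hinv : ∀ s ∈ H, s • v0 = v0 → ∀ w, c (s • w) = c w)
    (horb : ∀ x y : Fin 4 → F, x ≠ 0 → x ≠ v0 → y ≠ 0 → y ≠ v0 → c x = c y →
      ∃ s ∈ H, s • v0 = v0 ∧ s • x = y) : False := by
  classical
  -- a vector moved by `t`
  obtain ⟨w, hw⟩ : ∃ w : Fin 4 → F, t • w ≠ w := by
    by_contra h
    push Not at h
    exact ht1 (eq_one_of_forall_smul t h)
  have hw0 : w ≠ 0 := by
    rintro rfl
    exact hw (smul_zero t)
  obtain ⟨a, haH, haw⟩ := htrans v0 w hv0 hw0
  set k0 : GL (Fin 4) F := a⁻¹ * t * a with hk0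
  have hk0H : k0 ∈ H := H.mul_mem (H.mul_mem (H.inv_mem haH) htH) haH
  have hk0sq : k0 * k0 = 1 := by
    rw [hk0]
    calc a⁻¹ * t * a * (a⁻¹ * t * a) = a⁻¹ * (t * t) * a := by group
      _ = 1 := by rw [ht2]; group
  have hk0inv : k0⁻¹ = k0 := inv_eq_of_mul_eq_one_left hk0sq
  have hk0v : k0 • v0 ≠ v0 := by
    intro h
    apply hw
    rw [hk0, mul_smul, mul_smul, haw, inv_smul_eq_iff, haw] at h
    exact h
  set δ : F := c (k0 • v0) with hδ
  -- step 1
  have step1 : ∀ k ∈ H, k • v0 ≠ v0 → c (k • v0) = δ → c (k⁻¹ • v0) = δ := by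
    intro k hkH hkv hkc
    obtain ⟨s, hsH, hsv, hs⟩ := horb (k0 • v0) (k • v0) (smul_ne_zero' _ hv0) hk0v
      (smul_ne_zero' _ hv0) hkv hkc.symm
    have hs'H : k⁻¹ * s * k0 ∈ H := H.mul_mem (H.mul_mem (H.inv_mem hkH) hsH) hk0H
    have hs'v : (k⁻¹ * s * k0) • v0 = v0 := by
      rw [mul_smul, mul_smul, hs, inv_smul_smul]
    have hkinv : k⁻¹ = (k⁻¹ * s * k0) * k0 * s⁻¹ := by
      have : (k⁻¹ * s * k0) * k0 * s⁻¹ = k⁻¹ * s * (k0 * k0) * s⁻¹ := by group
      rw [this, hk0sq]; group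
    have hsinv : s⁻¹ • v0 = v0 := inv_smul_eq_iff.mpr hsv.symm
    calc c (k⁻¹ • v0) = c (((k⁻¹ * s * k0) * k0 * s⁻¹) • v0) := by rw [← hkinv]
      _ = c ((k⁻¹ * s * k0) • (k0 • v0)) := by rw [mul_smul, mul_smul, hsinv]
      _ = c (k0 • v0) := hinv _ hs'H hs'v _
      _ = δ := rfl
  -- symmetry
  have sym : ∀ k ∈ H, c (k • v0) = c (k⁻¹ • v0) := by
    intro k hkH
    by_cases hkv : k • v0 = v0
    · rw [hkv, inv_smul_eq_iff.mpr hkv.symm]
    · have hkv' : k⁻¹ • v0 ≠ v0 := by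
        intro h
        apply hkv
        have := inv_smul_eq_iff.mp h
        exact this.symm
      by_cases h1 : c (k • v0) = δ
      · rw [step1 k hkH hkv h1, h1]
      · by_cases h2 : c (k⁻¹ • v0) = δ
        · exfalso
          apply h1
          have := step1 k⁻¹ (H.inv_mem hkH) hkv' h2
          rwa [inv_inv] at this
        · rcases eq_zero_or_one hF (c (k • v0)) with e1 | e1 <;>
          rcases eq_zero_or_one hF (c (k⁻¹ • v0)) with e2 | e2 <;>
          rcases eq_zero_or_one hF δ with e3 | e3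
          all_goals first
            | (rw [e1, e2]; done)
            | (exfalso; apply h1; rw [e1, e3]; done)
            | (exfalso; apply h2; rw [e2, e3]; done)
  -- a vector `u ∉ {0, v0}`
  obtain ⟨u, hu0, huv⟩ : ∃ u : Fin 4 → F, u ≠ 0 ∧ u ≠ v0 := by
    by_cases h : w = v0
    · refine ⟨t • w, smul_ne_zero' t hw0, ?_⟩
      rw [← h]; exact hw
    · exact ⟨w, hw0, h⟩
  have hx0 : u + v0 ≠ 0 := by
    intro h
    apply huv
    have h2 := add_self hF v0
    have : u = u + v0 + v0 := by rw [add_assoc, h2, add_zero]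
    rw [this, h, zero_add]
  obtain ⟨a, haH, hau⟩ := htrans v0 u hv0 hu0
  obtain ⟨b, hbH, hbx⟩ := htrans v0 (u + v0) hv0 hx0
  have h11 := one_add_one hF
  -- 1 = c v0 = c (b⁻¹ (u + v0))
  have e1 : c (b⁻¹ • (u + v0)) = 1 := by
    rw [← hbx, inv_smul_smul, hc1]
  have e2 : c (b⁻¹ • (u + v0)) = c (b⁻¹ • u) + c (b⁻¹ • v0) := by
    rw [smul_add, map_add]
  have e3 : c (b⁻¹ • v0) = c u + 1 := by
    rw [← sym b hbH, hbx, map_add, hc1]
  have e4 : c (b⁻¹ • u) = 1 + c u := by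
    have h1 : b⁻¹ • u = (b⁻¹ * a) • v0 := by rw [mul_smul, hau]
    have h2 : (b⁻¹ * a)⁻¹ • v0 = a⁻¹ • (u + v0) := by
      rw [_root_.mul_inv_rev, inv_inv, mul_smul, hbx]
    have h3 : c (a⁻¹ • v0) = c u := by
      rw [← sym a haH, hau]
    rw [h1, sym _ (H.mul_mem (H.inv_mem hbH) haH), h2, smul_add, map_add, ← hau, inv_smul_smul,
      hc1, hau, h3]
  rw [e2, e3, e4] at e1
  have : (1 : F) = 0 := by
    have hcu : c u + c u = 0 := by linear_combination (c u) * h11
    calc (1 : F) = 1 + c u + (c u + 1) := e1.symm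
      _ = (1 + 1) + (c u + c u) := by ring
      _ = 0 := by rw [h11, hcu, add_zero]
  exact one_ne_zero this

end Cfsg.Agent.Lib.Helper27.A7GL4
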