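import Cfsg.Agent.Lib.Helper27.A7GL4C

/-!
# Subgroups of order 2520 of `GL₄(2)` are 2-transitive on nonzero vectors: main (helper27)
-/

namespace Cfsg.Agent.Lib.Helper27.A7GL4

open Matrix

variable {F : Type*} [Field F] [Fintype F]

theorem two_transitive (hF : Fintype.card F = 2) (H : Subgroup (GL (Fin 4) F))
    (hH : Nat.card H = 2520) (v w v' w' : Fin 4 → F) (hv : v ≠ 0) (hw : w ≠ 0) (hvw : v ≠ w)
    (hv' : v' ≠ 0) (hw' : w' ≠ 0) (hvw' : v' ≠ w') :
    ∃ g ∈ H, g • v = v' ∧ g • w = w' := by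
  classical
  have : Fact (Nat.Prime 7) := ⟨by norm_num⟩
  have : Fact (Nat.Prime 2) := ⟨by norm_num⟩
  have htrans : ∀ v v' : Fin 4 → F, v ≠ 0 → v' ≠ 0 → ∃ h ∈ H, h • v = v' :=
    fun v v' hv hv' => transitive_of_dvd hF H (by rw [hH]; norm_num) (by rw [hH]; norm_num)
      v v' hv hv'
  -- the stabilizer of `v`
  have horbit : MulAction.orbit H v = ({0}ᶜ : Set (Fin 4 → F)) := by
    ext u
    simp only [MulAction.mem_orbit_iff, Set.mem_compl_iff, Set.mem_singleton_iff]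
    constructor
    · rintro ⟨h, rfl⟩
      exact smul_ne_zero' (h : GL (Fin 4) F) hv
    · intro hu
      obtain ⟨h, hh, hhu⟩ := htrans v u hv hu
      exact ⟨⟨h, hh⟩, hhu⟩
  have hcard : (MulAction.orbit H v).ncard = 15 := by
    rw [horbit, Set.ncard_compl, Set.ncard_singleton, Nat.card_eq_fintype_card, card_V hF]
  have hS : Nat.card (MulAction.stabilizer H v) = 168 := by
    have h1 := Subgroup.card_mul_index (MulAction.stabilizer H v)
    rw [MulAction.index_stabilizer, hcard, hH] at h1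
    omega
  obtain ⟨g', hg'⟩ := exists_prime_orderOf_dvd_card' (G := MulAction.stabilizer H v) 7
    (by rw [hS]; norm_num)
  set g : GL (Fin 4) F := ((g' : H) : GL (Fin 4) F) with hgdef
  have hgH : g ∈ H := (g' : H).2
  have hgv : g • v = v := g'.2
  have hg7 : g ^ 7 = 1 := by
    have h1 : orderOf (g' : H) = 7 := by rw [Subgroup.orderOf_coe]; exact hg'
    exact coe_pow_eq_one (g' : H) h1
  have hg1 : g ≠ 1 := by
    have h1 : orderOf (g' : H) = 7 := by rw [Subgroup.orderOf_coe]; exact hg'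
    exact coe_ne_one (g' : H) (by norm_num) h1
  obtain ⟨v0, hv0, hgv0, hfix0⟩ := fix_seven hF g hg7 hg1
  have hvv0 : v = v0 := (hfix0 v hgv).resolve_left hv
  have hfix : ∀ u : Fin 4 → F, g • u = u → u = 0 ∨ u = v := by
    intro u hu
    rw [hvv0]
    exact hfix0 u hu
  obtain ⟨c, hc1, hcg⟩ := exists_invariant_functional hF g hg7 v hv hgv
  obtain ⟨t', ht'⟩ := exists_prime_orderOf_dvd_card' (G := H) 2 (by rw [hH]; norm_num)
  have ht2 : (t' : GL (Fin 4) F) * (t' : GL (Fin 4) F) = 1 := by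
    have := coe_pow_eq_one t' ht'
    rwa [pow_two] at this
  have ht1 : (t' : GL (Fin 4) F) ≠ 1 := coe_ne_one t' (by norm_num) ht'
  have hstab : ∀ x y : Fin 4 → F, x ≠ 0 → x ≠ v → y ≠ 0 → y ≠ v →
      ∃ s ∈ H, s • v = v ∧ s • x = y := by
    rcases stab_dichotomy hF H g hgH hg7 v hgv hfix c hc1 hcg with hinv | htr
    · exfalso
      refine no_invariant_functional hF H htrans (t' : GL (Fin 4) F) t'.2 ht2 ht1 v hv c hc1 hinv ?_
      intro x y hx0 hxv hy0 hyv hxy
      obtain ⟨k, hk⟩ := pow_orbit hF g hg7 v hgv hfix c hc1 hcg x y hx0 hxv hy0 hyv hxy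
      exact ⟨g ^ k, H.pow_mem hgH k, pow_smul_fixed g v hgv k, hk⟩
    · exact htr
  obtain ⟨a, haH, hav⟩ := htrans v' v hv' hv
  have haw0 : a • w' ≠ 0 := smul_ne_zero' a hw'
  have hawv : a • w' ≠ v := by
    intro h
    rw [← hav] at h
    exact hvw' (smul_left_cancel _ h).symm
  obtain ⟨s, hsH, hsv, hsw⟩ := hstab w (a • w') hw (Ne.symm hvw) haw0 hawv
  refine ⟨a⁻¹ * s, H.mul_mem (H.inv_mem haH) hsH, ?_, ?_⟩
  · rw [mul_smul, hsv, ← hav, inv_smul_smul]
  · rw [mul_smul, hsw, inv_smul_smul]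

end Cfsg.Agent.Lib.Helper27.A7GL4
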