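import Mathlib
import Cfsg.Prelude.Def_ClassicalGeometry
import Cfsg.Agent.S0771

set_option autoImplicit false

/-!
Stabilisers of coordinate subspaces for an arbitrary matrix-valued hom from a group.
-/

namespace Cfsg.Agent.Lib.Helper27.BlockStab

open Matrix Cfsg.Agent.S0771

variable {F : Type*} [Field F]
variable {ι α β : Type} [Fintype ι] [DecidableEq ι] [Fintype α] [DecidableEq α]
  [Fintype β] [DecidableEq β]

theorem mulVec_injective_of_hom {H : Type*} [Group H] (toMat : H →* Matrix ι ι F) (g : H) :
    Function.Injective (fun v : ι → F => toMat g *ᵥ v) := by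
  intro v w hvw
  have h1 : toMat g⁻¹ * toMat g = 1 := by
    rw [← map_mul, inv_mul_cancel, map_one]
  have := congrArg (fun u => toMat g⁻¹ *ᵥ u) hvw
  simpa [Matrix.mulVec_mulVec, h1] using this

/-- An element stabilises the coordinate subspace `Ssub e` iff its lower-left block vanishes. -/
theorem mem_stab_iff_hom {H : Type*} [Group H] (toMat : H →* Matrix ι ι F) (e : α ⊕ β ≃ ι)
    (g : H) :
    g ∈ Cfsg.stabilizing toMat (Ssub (F := F) e : Set (ι → F)) ↔
      ∀ b a, toMat g (e (Sum.inr b)) (e (Sum.inl a)) = 0 := by
  constructor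
  · intro hg
    apply zero_of_mulVec_mem
    intro v hv
    exact (hg v).mp hv
  · intro h v
    have hfwd := mulVec_mem_of_zero e _ h
    refine ⟨hfwd v, fun hv => ?_⟩
    let f : Ssub (F := F) e →ₗ[F] Ssub (F := F) e :=
      (Matrix.toLin' (toMat g)).restrict (fun v hv => by
        rw [Matrix.toLin'_apply]; exact hfwd v hv)
    have hfinj : Function.Injective f := by
      intro x y hxy
      apply Subtype.ext
      apply mulVec_injective_of_hom toMat g
      have := congrArg Subtype.val hxy
      simpa [f, LinearMap.restrict_apply] using this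
    have hfsurj := LinearMap.injective_iff_surjective.mp hfinj
    obtain ⟨w, hw⟩ := hfsurj ⟨_, hv⟩
    have h2 : toMat g *ᵥ (w : ι → F) = toMat g *ᵥ v := by
      have := congrArg Subtype.val hw
      simpa [f, LinearMap.restrict_apply] using this
    have h3 := mulVec_injective_of_hom toMat g h2
    rw [← h3]
    exact w.2

/-- Version with a predicate on the index set: the subspace of vectors supported on `p`. -/
theorem mem_stab_pred_iff {H : Type*} [Group H] (toMat : H →* Matrix ι ι F) (p : ι → Prop)
    [DecidablePred p] (g : H) :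
    g ∈ Cfsg.stabilizing toMat {v : ι → F | ∀ i, ¬ p i → v i = 0} ↔
      ∀ i j, ¬ p i → p j → toMat g i j = 0 := by
  have hS : {v : ι → F | ∀ i, ¬ p i → v i = 0} =
      (Ssub (F := F) (Equiv.sumCompl p) : Set (ι → F)) := by
    ext v
    constructor
    · intro h b
      exact h _ b.2
    · intro h i hi
      exact h ⟨i, hi⟩
  rw [hS, mem_stab_iff_hom]
  constructor
  · intro h i j hi hj
    exact h ⟨i, hi⟩ ⟨j, hj⟩
  · intro h b a
    exact h _ _ b.2 a.2

end Cfsg.Agent.Lib.Helper27.BlockStab
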