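import Mathlib
import Cfsg.Prelude.Def_GeometricClasses

set_option autoImplicit false

/-!
Extension-field normalisers of composite degree: finite-field preliminaries, the module structure
over the extension field, and the normaliser of the fixed subalgebra of a Frobenius power.
-/

namespace Cfsg.Agent.Lib.Helper27.ExtField

open Cfsg Matrix

section field

variable {F : Type*} [Field F] [Fintype F] {L : Type*} [Field L] [Algebra F L] [Fintype L]

/-- The `s`-th power of the Frobenius of `L` over `F`. -/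
noncomputable def sig (F : Type*) [Field F] [Fintype F] (L : Type*) [Field L] [Algebra F L]
    (s : ℕ) : L →ₐ[F] L :=
  (FiniteField.frobeniusAlgHom F L) ^ s

theorem sig_apply (s : ℕ) (x : L) : sig F L s x = x ^ (Fintype.card F ^ s) := by
  unfold sig
  rw [AlgHom.coe_pow, FiniteField.coe_frobeniusAlgHom, pow_iterate]

theorem card_L : Fintype.card L = Fintype.card F ^ Module.finrank F L :=
  Module.card_eq_pow_finrank

/-- An element not fixed by a proper Frobenius power. -/
theorem exists_not_fixed {s : ℕ} (hs0 : 0 < s) (hs : s < Module.finrank F L) :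
    ∃ x : L, sig F L s x ≠ x := by
  by_contra hcon
  push_neg at hcon
  have h1 : (FiniteField.frobeniusAlgHom F L) ^ s = 1 := by
    apply AlgHom.ext
    intro x
    exact hcon x
  have h2 := orderOf_dvd_of_pow_eq_one h1
  rw [FiniteField.orderOf_frobeniusAlgHom] at h2
  exact absurd (Nat.le_of_dvd hs0 h2) (by omega)

/-- A fixed element of a Frobenius power outside the base field. -/
theorem exists_fixed_nonscalar {s : ℕ} (hs2 : 2 ≤ s) (hs : s ∣ Module.finrank F L) :
    ∃ x : L, sig F L s x = x ∧ x ∉ Set.range (algebraMap F L) := by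
  classical
  set q := Fintype.card F with hq
  have hq2 : 2 ≤ q := Fintype.one_lt_card
  obtain ⟨d, hd⟩ := hs
  have hr0 : 0 < Module.finrank F L := Module.finrank_pos
  have hd0 : 0 < d := by
    rcases Nat.eq_zero_or_pos d with h | h
    · rw [h, mul_zero] at hd; omega
    · exact h
  obtain ⟨g, hg⟩ := IsCyclic.exists_generator (α := Lˣ)
  have hord : orderOf g = q ^ (s * d) - 1 := by
    rw [orderOf_eq_card_of_forall_mem_zpowers hg, Nat.card_eq_fintype_card, Fintype.card_units,
      card_L (F := F), hd]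
  have hqs1 : 1 ≤ q ^ s := Nat.one_le_pow _ _ (by omega)
  have hdvd : q ^ s - 1 ∣ q ^ (s * d) - 1 := by
    rw [pow_mul]
    have := Nat.sub_dvd_pow_sub_pow (q ^ s) 1 d
    rwa [one_pow] at this
  obtain ⟨c, hc⟩ := hdvd
  have hqs2 : q < q ^ s := by
    calc q = q ^ 1 := (pow_one q).symm
      _ < q ^ s := Nat.pow_lt_pow_right (by omega) (by omega)
  have hc0 : c ≠ 0 := by
    rintro rfl
    rw [mul_zero] at hc
    have : 1 < q ^ (s * d) := Nat.one_lt_pow (by positivity) (by omega)
    omega
  have hcd : c ∣ orderOf g := by rw [hord, hc]; exact dvd_mul_left c _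
  have hord2 : orderOf (g ^ c) = q ^ s - 1 := by
    rw [orderOf_pow_of_dvd hc0 hcd, hord, hc, Nat.mul_div_cancel _ (Nat.pos_of_ne_zero hc0)]
  refine ⟨((g ^ c : Lˣ) : L), ?_, ?_⟩
  · rw [sig_apply]
    have h1 : (g ^ c) ^ (q ^ s - 1) = 1 := by rw [← hord2]; exact pow_orderOf_eq_one _
    have h2 : ((g ^ c : Lˣ) : L) ^ (q ^ s - 1) = 1 := by
      rw [← Units.val_pow_eq_pow_val, h1, Units.val_one]
    calc ((g ^ c : Lˣ) : L) ^ (q ^ s) = ((g ^ c : Lˣ) : L) ^ (q ^ s - 1 + 1) := by
          congr 1; omega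
      _ = ((g ^ c : Lˣ) : L) := by rw [pow_succ, h2, one_mul]
  · rintro ⟨a, ha⟩
    have ha0 : a ≠ 0 := by
      rintro rfl
      rw [map_zero] at ha
      exact (Units.ne_zero (g ^ c)) ha.symm
    have h1 : a ^ (q - 1) = 1 := FiniteField.pow_card_sub_one_eq_one a ha0
    have h2 : ((g ^ c : Lˣ) : L) ^ (q - 1) = 1 := by
      rw [← ha, ← map_pow, h1, map_one]
    have h3 : (g ^ c) ^ (q - 1) = 1 := by
      apply Units.ext
      rw [Units.val_pow_eq_pow_val, h2, Units.val_one]
    have h4 := orderOf_dvd_of_pow_eq_one h3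
    rw [hord2] at h4
    have := Nat.le_of_dvd (by omega) h4
    omega

end field

section module

variable {F : Type*} [Field F] {L : Type*} [Field L] [Algebra F L] {n : ℕ}

/-- The module structure on `F^n` over a field `L` embedded in the matrix algebra. -/
@[reducible] def modL (ι : L →ₐ[F] Matrix (Fin n) (Fin n) F) : Module L (Fin n → F) where
  smul x v := ι x *ᵥ v
  one_smul v := by
    show ι 1 *ᵥ v = v
    rw [map_one, Matrix.one_mulVec]
  mul_smul x y v := by
    show ι (x * y) *ᵥ v = ι x *ᵥ (ι y *ᵥ v)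
    rw [map_mul, Matrix.mulVec_mulVec]
  smul_zero x := by
    show ι x *ᵥ 0 = 0
    rw [Matrix.mulVec_zero]
  smul_add x v w := by
    show ι x *ᵥ (v + w) = ι x *ᵥ v + ι x *ᵥ w
    rw [Matrix.mulVec_add]
  add_smul x y v := by
    show ι (x + y) *ᵥ v = ι x *ᵥ v + ι y *ᵥ v
    rw [map_add, Matrix.add_mulVec]
  zero_smul v := by
    show ι 0 *ᵥ v = 0
    rw [map_zero, Matrix.zero_mulVec]

theorem modL_smul (ι : L →ₐ[F] Matrix (Fin n) (Fin n) F) (x : L) (v : Fin n → F) :
    letI := modL ι
    x • v = ι x *ᵥ v := rfl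

theorem modL_tower (ι : L →ₐ[F] Matrix (Fin n) (Fin n) F) :
    letI := modL ι
    IsScalarTower F L (Fin n → F) := by
  letI := modL ι
  refine ⟨fun c x v => ?_⟩
  show ι (c • x) *ᵥ v = c • (ι x *ᵥ v)
  rw [map_smul, Matrix.smul_mulVec]

end module

end Cfsg.Agent.Lib.Helper27.ExtField
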