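import Mathlib
import Cfsg.Prelude.Def_GeometricClasses
import Cfsg.Agent.Lib.Helper27.ExtField

set_option autoImplicit false

/-!
The normaliser of an extension field inside the matrix algebra lies in the normaliser of the
fixed subalgebra of a Frobenius power, and the latter does not contain the special linear group.
-/

namespace Cfsg.Agent.Lib.Helper27.ExtField

open Cfsg Matrix

variable {F : Type*} [Field F] [Fintype F] {L : Type*} [Field L] [Algebra F L] [Fintype L] {n : ℕ}

/-- The image in the matrix algebra of the fixed subalgebra of the `s`-th Frobenius power. -/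
noncomputable def subK (ι : L →ₐ[F] Matrix (Fin n) (Fin n) F) (s : ℕ) :
    Subalgebra F (Matrix (Fin n) (Fin n) F) :=
  (AlgHom.equalizer (sig F L s) (AlgHom.id F L)).map ι

theorem mem_subK (ι : L →ₐ[F] Matrix (Fin n) (Fin n) F) (s : ℕ) (x : Matrix (Fin n) (Fin n) F) :
    x ∈ subK ι s ↔ ∃ a : L, sig F L s a = a ∧ ι a = x := by
  unfold subK
  rw [Subalgebra.mem_map]
  constructor
  · rintro ⟨a, ha, rfl⟩
    exact ⟨a, ha, rfl⟩
  · rintro ⟨a, ha, rfl⟩
    exact ⟨a, ha, rfl⟩

theorem iota_injective (ι : L →ₐ[F] Matrix (Fin n) (Fin n) F) (hn : 0 < n) :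
    Function.Injective ι := by
  haveI : Nonempty (Fin n) := ⟨⟨0, hn⟩⟩
  exact ι.toRingHom.injective

theorem iota_sig (ι : L →ₐ[F] Matrix (Fin n) (Fin n) F) (s : ℕ) (a : L) :
    ι (sig F L s a) = (ι a) ^ (Fintype.card F ^ s) := by
  rw [sig_apply, map_pow]

/-- The normaliser of the field lies in the normaliser of the fixed subalgebra. -/
theorem normalizer_le (ι : L →ₐ[F] Matrix (Fin n) (Fin n) F) (hn : 0 < n) (s : ℕ) :
    Cfsg.Geo.subalgebraNormalizer ι.range ≤ Cfsg.Geo.subalgebraNormalizer (subK ι s) := by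
  intro g hg
  have hinj := iota_injective ι hn
  have hg' : ∀ k : Matrix (Fin n) (Fin n) F, k ∈ ι.range ↔
      (g : Matrix (Fin n) (Fin n) F) * k * ((g⁻¹ : GL (Fin n) F) : Matrix (Fin n) (Fin n) F) ∈
        ι.range := hg
  show ∀ k : Matrix (Fin n) (Fin n) F, k ∈ subK ι s ↔
      (g : Matrix (Fin n) (Fin n) F) * k * ((g⁻¹ : GL (Fin n) F) : Matrix (Fin n) (Fin n) F) ∈
        subK ι s
  intro k
  rw [mem_subK, mem_subK]
  constructor
  · rintro ⟨a, ha, rfl⟩
    obtain ⟨b, hb0⟩ := (hg' (ι a)).mp ⟨a, rfl⟩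
    have hb : ι b = (g : Matrix (Fin n) (Fin n) F) * ι a *
        ((g⁻¹ : GL (Fin n) F) : Matrix (Fin n) (Fin n) F) := hb0
    refine ⟨b, ?_, hb⟩
    apply hinj
    rw [iota_sig, hb, Units.conj_pow, ← iota_sig, ha]
  · rintro ⟨b, hb, hbk⟩
    obtain ⟨a, ha0⟩ := (hg' k).mpr ⟨b, hbk⟩
    have ha1 : ι a = k := ha0
    subst ha1
    refine ⟨a, ?_, rfl⟩
    apply hinj
    have h1 : ι a = ((g⁻¹ : GL (Fin n) F) : Matrix (Fin n) (Fin n) F) * ι b *
        (g : Matrix (Fin n) (Fin n) F) := by
      rw [hbk, ← mul_assoc, ← mul_assoc, ← Units.val_mul, inv_mul_cancel, Units.val_one, one_mul,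
        mul_assoc, ← Units.val_mul, inv_mul_cancel, Units.val_one, mul_one]
    rw [iota_sig, h1, Units.conj_pow', ← iota_sig, hb]

/-- The transvection `1 + E_ij` as an element of the special linear subgroup. -/
noncomputable def tvGL (i j : Fin n) (hij : i ≠ j) : GL (Fin n) F :=
  ⟨Matrix.transvection i j (1 : F), Matrix.transvection i j (-1 : F),
    by rw [Matrix.transvection_mul_transvection_same (h := hij), add_neg_cancel, Matrix.transvection_zero],
    by rw [Matrix.transvection_mul_transvection_same (h := hij), neg_add_cancel, Matrix.transvection_zero]⟩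

theorem tvGL_mem_SL (i j : Fin n) (hij : i ≠ j) :
    tvGL (F := F) i j hij ∈ Cfsg.Geo.specialLinear (Fin n) F := by
  show tvGL (F := F) i j hij ∈ (Matrix.GeneralLinearGroup.det : GL (Fin n) F →* Fˣ).ker
  rw [MonoidHom.mem_ker]
  apply Units.ext
  rw [Matrix.GeneralLinearGroup.val_det_apply]
  show (Matrix.transvection i j (1 : F)).det = 1
  exact Matrix.det_transvection_of_ne i j hij 1

/-- Some transvection does not normalise the fixed subalgebra. -/
theorem exists_SL_not_normalizer (ι : L →ₐ[F] Matrix (Fin n) (Fin n) F) (hn : 3 ≤ n) {s : ℕ}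
    (hs2 : 2 ≤ s) (hs : s ∣ Module.finrank F L) :
    ∃ t : GL (Fin n) F, t ∈ Cfsg.Geo.specialLinear (Fin n) F ∧
      t ∉ Cfsg.Geo.subalgebraNormalizer (subK ι s) := by
  classical
  have hinj := iota_injective ι (by omega)
  obtain ⟨x₀, hx₀, hx₀F⟩ := exists_fixed_nonscalar (F := F) (L := L) hs2 hs
  by_contra hcon
  push_neg at hcon
  -- then ι x₀ commutes with all off-diagonal matrix units
  have hcomm : Pairwise fun i j : Fin n => Commute (Matrix.single i j (1 : F)) (ι x₀) := by
    intro i j hij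
    have hmem := hcon (tvGL i j hij) (tvGL_mem_SL i j hij)
    have h1 : (tvGL (F := F) i j hij : Matrix (Fin n) (Fin n) F) * ι x₀ *
        (((tvGL (F := F) i j hij)⁻¹ : GL (Fin n) F) : Matrix (Fin n) (Fin n) F) ∈ subK ι s :=
      (hmem (ι x₀)).mp ((mem_subK ι s _).mpr ⟨x₀, hx₀, rfl⟩)
    obtain ⟨z, hz, hzeq⟩ := (mem_subK ι s _).mp h1
    set T : Matrix (Fin n) (Fin n) F := (tvGL (F := F) i j hij : Matrix (Fin n) (Fin n) F) with hT
    have hTdef : T = 1 + Matrix.single i j (1 : F) := rfl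
    -- ι (z - x₀) * T = E * ι x₀ - ι x₀ * E
    have h2 : ι (z - x₀) * T =
        Matrix.single i j (1 : F) * ι x₀ - ι x₀ * Matrix.single i j (1 : F) := by
      rw [map_sub, sub_mul, hzeq, mul_assoc, mul_assoc, ← Units.val_mul, inv_mul_cancel,
        Units.val_one, mul_one, hTdef]
      noncomm_ring
    -- a non-zero vector killed by the right-hand side
    obtain ⟨v, hv0, hvj, hxvj⟩ : ∃ v : Fin n → F, v ≠ 0 ∧ v j = 0 ∧ (ι x₀ *ᵥ v) j = 0 := by
      let Lm : (Fin n → F) →ₗ[F] (Fin 2 → F) :=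
        LinearMap.pi ![LinearMap.proj j, (LinearMap.proj j).comp (Matrix.mulVecLin (ι x₀))]
      have hker : LinearMap.ker Lm ≠ ⊥ := by
        apply LinearMap.ker_ne_bot_of_finrank_lt
        rw [Module.finrank_fin_fun, Module.finrank_fin_fun]
        omega
      obtain ⟨v, hv, hv0⟩ := Submodule.exists_mem_ne_zero_of_ne_bot hker
      rw [LinearMap.mem_ker] at hv
      refine ⟨v, hv0, ?_, ?_⟩
      · have := congrFun hv 0
        simpa [Lm] using this
      · have := congrFun hv 1
        simpa [Lm] using this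
    have h3 : (Matrix.single i j (1 : F) * ι x₀ - ι x₀ * Matrix.single i j (1 : F)) *ᵥ v = 0 := by
      rw [Matrix.sub_mulVec, ← Matrix.mulVec_mulVec, ← Matrix.mulVec_mulVec,
        Matrix.single_mulVec, Matrix.single_mulVec, hvj, hxvj, mul_zero]
      simp
    -- hence z = x₀
    have h4 : z - x₀ = 0 := by
      by_contra hne
      have h5 : ι ((z - x₀)⁻¹) * (ι (z - x₀) * T) = T := by
        rw [← mul_assoc, ← map_mul, inv_mul_cancel₀ hne, map_one, one_mul]
      have h6 : T *ᵥ v = 0 := by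
        rw [← h5, h2, ← Matrix.mulVec_mulVec, h3, Matrix.mulVec_zero]
      apply hv0
      have h7 : (((tvGL (F := F) i j hij)⁻¹ : GL (Fin n) F) : Matrix (Fin n) (Fin n) F) *ᵥ
          (T *ᵥ v) = v := by
        rw [Matrix.mulVec_mulVec, hT, ← Units.val_mul, inv_mul_cancel, Units.val_one,
          Matrix.one_mulVec]
      rw [← h7, h6, Matrix.mulVec_zero]
    rw [h4, map_zero, zero_mul] at h2
    exact sub_eq_zero.mp h2.symm
  obtain ⟨c, hc⟩ := Matrix.mem_range_scalar_of_commute_single hcomm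
  apply hx₀F
  refine ⟨c, ?_⟩
  apply hinj
  rw [AlgHom.commutes, ← hc]
  rfl

end Cfsg.Agent.Lib.Helper27.ExtField
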