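import Mathlib
import Cfsg.Prelude.Def_GeometricClasses
import Cfsg.Agent.Lib.Helper27.ExtField2

set_option autoImplicit false

/-!
A semilinear nilpotent map: it gives a unipotent element normalising the fixed subalgebra of a
Frobenius power but not the whole extension field.
-/

namespace Cfsg.Agent.Lib.Helper27.ExtField

open Cfsg Matrix Module

section abstract

variable {F : Type*} [Field F] {L : Type*} [Field L] [Algebra F L] {V : Type*} [AddCommGroup V]
  [Module F V] [Module L V] [IsScalarTower F L V] {m : ℕ}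

/-- The `σ`-semilinear map `v ↦ σ(v_{i₁}) b_{i₀}`, as an `F`-linear map. -/
noncomputable def nilp (σ : L →ₐ[F] L) (b : Basis (Fin m) L V) (i₀ i₁ : Fin m) : V →ₗ[F] V where
  toFun v := σ (b.repr v i₁) • b i₀
  map_add' v w := by
    rw [map_add, Finsupp.add_apply, map_add, add_smul]
  map_smul' c v := by
    rw [RingHom.id_apply, ← algebraMap_smul L c v, map_smul, Finsupp.smul_apply, smul_eq_mul,
      map_mul, AlgHom.commutes, mul_smul, algebraMap_smul]

theorem nilp_apply (σ : L →ₐ[F] L) (b : Basis (Fin m) L V) (i₀ i₁ : Fin m) (v : V) :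
    nilp σ b i₀ i₁ v = σ (b.repr v i₁) • b i₀ := rfl

theorem nilp_smul (σ : L →ₐ[F] L) (b : Basis (Fin m) L V) (i₀ i₁ : Fin m) (x : L) (v : V) :
    nilp σ b i₀ i₁ (x • v) = σ x • nilp σ b i₀ i₁ v := by
  rw [nilp_apply, nilp_apply, map_smul, Finsupp.smul_apply, smul_eq_mul, map_mul, mul_smul]

theorem nilp_basis_zero (σ : L →ₐ[F] L) (b : Basis (Fin m) L V) {i₀ i₁ : Fin m} (h : i₀ ≠ i₁) :
    nilp σ b i₀ i₁ (b i₀) = 0 := by
  rw [nilp_apply, Basis.repr_self, Finsupp.single_eq_of_ne h.symm, map_zero, zero_smul]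

theorem nilp_basis_one (σ : L →ₐ[F] L) (b : Basis (Fin m) L V) (i₀ i₁ : Fin m) :
    nilp σ b i₀ i₁ (b i₁) = b i₀ := by
  rw [nilp_apply, Basis.repr_self, Finsupp.single_eq_same, map_one, one_smul]

theorem nilp_nilp (σ : L →ₐ[F] L) (b : Basis (Fin m) L V) {i₀ i₁ : Fin m} (h : i₀ ≠ i₁) (v : V) :
    nilp σ b i₀ i₁ (nilp σ b i₀ i₁ v) = 0 := by
  rw [nilp_apply σ b i₀ i₁ v, nilp_smul, nilp_basis_zero σ b h, smul_zero]

end abstract

section concrete

variable {F : Type*} [Field F] [Fintype F] {L : Type*} [Field L] [Algebra F L] [Fintype L] {n : ℕ}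

/-- A unipotent element normalising the fixed subalgebra but not the extension field. -/
theorem exists_SL_normalizer_sub_not (ι : L →ₐ[F] Matrix (Fin n) (Fin n) F) {s : ℕ} (hs0 : 0 < s)
    (hs : s < Module.finrank F L) (hrn : Module.finrank F L < n) :
    ∃ t : GL (Fin n) F, t ∈ Cfsg.Geo.specialLinear (Fin n) F ∧
      t ∈ Cfsg.Geo.subalgebraNormalizer (subK ι s) ∧
      t ∉ Cfsg.Geo.subalgebraNormalizer ι.range := by
  classical
  letI : Module L (Fin n → F) := modL ι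
  haveI : IsScalarTower F L (Fin n → F) := modL_tower ι
  haveI : Module.Finite L (Fin n → F) := Module.Finite.of_restrictScalars_finite F L (Fin n → F)
  have hmul : Module.finrank F L * Module.finrank L (Fin n → F) = n := by
    rw [Module.finrank_mul_finrank F L (Fin n → F), Module.finrank_fin_fun]
  have hm2 : 2 ≤ Module.finrank L (Fin n → F) := by
    by_contra hlt
    push_neg at hlt
    have h1 : Module.finrank F L * Module.finrank L (Fin n → F) ≤ Module.finrank F L * 1 :=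
      Nat.mul_le_mul_left _ (by omega)
    omega
  obtain ⟨b⟩ : Nonempty (Basis (Fin (Module.finrank L (Fin n → F))) L (Fin n → F)) :=
    ⟨Module.finBasis L (Fin n → F)⟩
  obtain ⟨i₀, hi₀⟩ : ∃ i : Fin (Module.finrank L (Fin n → F)), i = ⟨0, by omega⟩ := ⟨_, rfl⟩
  obtain ⟨i₁, hi₁⟩ : ∃ i : Fin (Module.finrank L (Fin n → F)), i = ⟨1, by omega⟩ := ⟨_, rfl⟩
  have h01 : i₀ ≠ i₁ := by
    rw [hi₀, hi₁]
    intro h
    have := congrArg Fin.val h
    simp at this
  obtain ⟨N, hN_smul, hN0, hN1, hNN⟩ : ∃ N : (Fin n → F) →ₗ[F] (Fin n → F),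
      (∀ (x : L) (v : Fin n → F), N (x • v) = sig F L s x • N v) ∧ N (b i₀) = 0 ∧
        N (b i₁) = b i₀ ∧ ∀ v, N (N v) = 0 :=
    ⟨nilp (sig F L s) b i₀ i₁, nilp_smul _ _ _ _, nilp_basis_zero _ _ h01, nilp_basis_one _ _ _ _,
      nilp_nilp _ _ h01⟩
  obtain ⟨Nm, hNmdef⟩ : ∃ Nm : Matrix (Fin n) (Fin n) F, Nm = LinearMap.toMatrix' N := ⟨_, rfl⟩
  have hNm : ∀ v, Nm *ᵥ v = N v := by
    intro v
    rw [hNmdef]
    exact LinearMap.toMatrix'_mulVec N v
  have hNmNm : Nm * Nm = 0 := by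
    rw [hNmdef, ← LinearMap.toMatrix'_comp]
    have : N ∘ₗ N = 0 := LinearMap.ext (fun v => hNN v)
    rw [this, map_zero]
  have hinv1 : (1 + Nm) * (1 - Nm) = 1 := by
    have : (1 + Nm) * (1 - Nm) = 1 - Nm * Nm := by noncomm_ring
    rw [this, hNmNm, sub_zero]
  have hinv2 : (1 - Nm) * (1 + Nm) = 1 := by
    have : (1 - Nm) * (1 + Nm) = 1 - Nm * Nm := by noncomm_ring
    rw [this, hNmNm, sub_zero]
  obtain ⟨t, ht⟩ : ∃ t : GL (Fin n) F, t = ⟨1 + Nm, 1 - Nm, hinv1, hinv2⟩ := ⟨_, rfl⟩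
  have htval : (t : Matrix (Fin n) (Fin n) F) = 1 + Nm := by rw [ht]
  have ht_v : ∀ v, (t : Matrix (Fin n) (Fin n) F) *ᵥ v = v + N v := by
    intro v
    rw [htval, Matrix.add_mulVec, Matrix.one_mulVec, hNm]
  have hsmul : ∀ (x : L) (v : Fin n → F), ι x *ᵥ v = x • v := fun _ _ => rfl
  -- determinant one
  have hdet : (1 + Nm).det = 1 := by
    haveI : Nonempty (Fin n) := ⟨⟨0, by omega⟩⟩
    obtain ⟨p, hp⟩ : ∃ p, p = ringChar F := ⟨_, rfl⟩
    haveI : CharP F p := by rw [hp]; exact ringChar.charP F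
    haveI : Fact p.Prime := ⟨CharP.char_is_prime F p⟩
    have hp2 : 2 ≤ p := (Fact.out : p.Prime).two_le
    have hNmp : Nm ^ p = 0 := by
      apply pow_eq_zero_of_le hp2
      rw [pow_two, hNmNm]
    have h1 : (1 + Nm) ^ p = 1 := by
      rw [add_pow_char_of_commute p (Commute.one_left Nm), one_pow, hNmp, add_zero]
    have h2 : (1 + Nm).det ^ p = 1 := by
      rw [← Matrix.det_pow, h1, Matrix.det_one]
    have h3 : ((1 + Nm).det - 1) ^ p = 0 := by
      rw [sub_pow_char, h2, one_pow, sub_self]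
    exact sub_eq_zero.mp (pow_eq_zero_iff (by omega) |>.mp h3)
  have hcomm : ∀ a : L, sig F L s a = a → Nm * ι a = ι a * Nm := by
    intro a ha
    apply Matrix.toLin'.injective
    apply LinearMap.ext
    intro v
    rw [Matrix.toLin'_mul, Matrix.toLin'_mul, LinearMap.comp_apply, LinearMap.comp_apply,
      Matrix.toLin'_apply, Matrix.toLin'_apply, Matrix.toLin'_apply, Matrix.toLin'_apply, hNm, hNm,
      hsmul, hsmul, hN_smul, ha]
  have htcomm : ∀ a : L, sig F L s a = a →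
      (t : Matrix (Fin n) (Fin n) F) * ι a = ι a * (t : Matrix (Fin n) (Fin n) F) := by
    intro a ha
    rw [htval, add_mul, mul_add, one_mul, mul_one, hcomm a ha]
  refine ⟨t, ?_, ?_, ?_⟩
  · show t ∈ (Matrix.GeneralLinearGroup.det : GL (Fin n) F →* Fˣ).ker
    rw [MonoidHom.mem_ker]
    apply Units.ext
    rw [Matrix.GeneralLinearGroup.val_det_apply, htval]
    exact hdet
  · show ∀ k : Matrix (Fin n) (Fin n) F, k ∈ subK ι s ↔
      (t : Matrix (Fin n) (Fin n) F) * k * ((t⁻¹ : GL (Fin n) F) : Matrix (Fin n) (Fin n) F) ∈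
        subK ι s
    intro k
    rw [mem_subK, mem_subK]
    constructor
    · rintro ⟨a, ha, rfl⟩
      refine ⟨a, ha, ?_⟩
      rw [htcomm a ha, mul_assoc, ← Units.val_mul, mul_inv_cancel, Units.val_one, mul_one]
    · rintro ⟨a, ha, hak⟩
      refine ⟨a, ha, ?_⟩
      have h1 : k = ((t⁻¹ : GL (Fin n) F) : Matrix (Fin n) (Fin n) F) * ι a *
          (t : Matrix (Fin n) (Fin n) F) := by
        rw [hak, ← mul_assoc, ← mul_assoc, ← Units.val_mul, inv_mul_cancel, Units.val_one, one_mul,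
          mul_assoc, ← Units.val_mul, inv_mul_cancel, Units.val_one, mul_one]
      rw [h1, mul_assoc, ← htcomm a ha, ← mul_assoc, ← Units.val_mul, inv_mul_cancel, Units.val_one,
        one_mul]
  · intro hmem
    obtain ⟨x₁, hx₁⟩ := exists_not_fixed (F := F) (L := L) hs0 hs
    have hmem' : ∀ k : Matrix (Fin n) (Fin n) F, k ∈ ι.range ↔
      (t : Matrix (Fin n) (Fin n) F) * k * ((t⁻¹ : GL (Fin n) F) : Matrix (Fin n) (Fin n) F) ∈
        ι.range := hmem
    obtain ⟨z, hz0⟩ := (hmem' (ι x₁)).mp ⟨x₁, rfl⟩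
    have hz : ι z = (t : Matrix (Fin n) (Fin n) F) * ι x₁ *
        ((t⁻¹ : GL (Fin n) F) : Matrix (Fin n) (Fin n) F) := hz0
    have hz' : ι z * (t : Matrix (Fin n) (Fin n) F) = (t : Matrix (Fin n) (Fin n) F) * ι x₁ := by
      rw [hz, mul_assoc, ← Units.val_mul, inv_mul_cancel, Units.val_one, mul_one]
    have e0 : (ι z * (t : Matrix (Fin n) (Fin n) F)) *ᵥ (b i₀) =
        ((t : Matrix (Fin n) (Fin n) F) * ι x₁) *ᵥ (b i₀) := by rw [hz']
    rw [← Matrix.mulVec_mulVec, ← Matrix.mulVec_mulVec, ht_v, ht_v, hsmul, hsmul, hN_smul, hN0,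
      smul_zero, add_zero, add_zero] at e0
    have hzx : z = x₁ := by
      have : (z - x₁) • b i₀ = 0 := by rw [sub_smul, e0, sub_self]
      rcases smul_eq_zero.mp this with h | h
      · exact sub_eq_zero.mp h
      · exact absurd h (b.ne_zero i₀)
    rw [hzx] at hz'
    have e1 : (ι x₁ * (t : Matrix (Fin n) (Fin n) F)) *ᵥ (b i₁) =
        ((t : Matrix (Fin n) (Fin n) F) * ι x₁) *ᵥ (b i₁) := by rw [hz']
    rw [← Matrix.mulVec_mulVec, ← Matrix.mulVec_mulVec, ht_v, ht_v, hsmul, hsmul, hN_smul, hN1,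
      smul_add] at e1
    have e2 : x₁ • b i₀ = sig F L s x₁ • b i₀ := add_left_cancel e1
    apply hx₁
    have : (sig F L s x₁ - x₁) • b i₀ = 0 := by rw [sub_smul, ← e2, sub_self]
    rcases smul_eq_zero.mp this with h | h
    · exact sub_eq_zero.mp h
    · exact absurd h (b.ne_zero i₀)

end concrete

end Cfsg.Agent.Lib.Helper27.ExtField
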