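import Mathlib
import Cfsg.Prelude.Def_GeometricClasses
import Cfsg.Agent.Lib.Helper27.ExtField3

set_option autoImplicit false

/-!
The normaliser of an extension field of composite degree is not maximal.
-/

namespace Cfsg.Agent.Lib.Helper27.ExtField

open Cfsg Matrix Module

variable {F : Type*} [Field F] [Fintype F] {n r : ℕ}

theorem isField_of (K : Subalgebra F (Matrix (Fin n) (Fin n) F))
    (hK : Cfsg.Geo.IsFieldSubalgebra r K) (hn : 0 < n) : IsField K where
  exists_pair_ne := by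
    haveI : Nonempty (Fin n) := ⟨⟨0, hn⟩⟩
    refine ⟨0, 1, ?_⟩
    intro h
    have h1 : ((0 : K) : Matrix (Fin n) (Fin n) F) = ((1 : K) : Matrix (Fin n) (Fin n) F) := by
      rw [h]
    simp at h1
  mul_comm := by
    intro x y
    apply Subtype.ext
    exact hK.comm x.1 x.2 y.1 y.2
  mul_inv_cancel := by
    intro a ha
    have ha' : (a : Matrix (Fin n) (Fin n) F) ≠ 0 := by
      intro h
      apply ha
      apply Subtype.ext
      exact h
    obtain ⟨y, hy, hxy⟩ := hK.inv a.1 a.2 ha'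
    exact ⟨⟨y, hy⟩, Subtype.ext hxy⟩

theorem not_max_of_field {L : Type*} [Field L] [Algebra F L] [Fintype L]
    (ι : L →ₐ[F] Matrix (Fin n) (Fin n) F) (hr1 : 1 < Module.finrank F L)
    (hrp : ¬ (Module.finrank F L).Prime) (hlt : Module.finrank F L < n) :
    ¬ IsCoatom (Cfsg.Geo.subalgebraNormalizer ι.range) ∧
      ¬ Cfsg.Geo.IsMaximalIn (Cfsg.Geo.specialLinear (Fin n) F)
        (Cfsg.Geo.subalgebraNormalizer ι.range ⊓ Cfsg.Geo.specialLinear (Fin n) F) := by
  obtain ⟨s, hsdef⟩ : ∃ s, s = (Module.finrank F L).minFac := ⟨_, rfl⟩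
  have hsp : s.Prime := by rw [hsdef]; exact Nat.minFac_prime (by omega)
  have hsd : s ∣ Module.finrank F L := by rw [hsdef]; exact Nat.minFac_dvd _
  have hsle : s ≤ Module.finrank F L := Nat.le_of_dvd (by omega) hsd
  have hsne : s ≠ Module.finrank F L := by
    intro h
    rw [h] at hsp
    exact hrp hsp
  have hs2 : 2 ≤ s := hsp.two_le
  have hAB := normalizer_le ι (by omega : 0 < n) s
  obtain ⟨t, htSL, htB, htA⟩ := exists_SL_normalizer_sub_not ι (s := s) (by omega) (by omega) hlt
  obtain ⟨t', ht'SL, ht'B⟩ := exists_SL_not_normalizer ι (by omega : 3 ≤ n) hs2 hsd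
  constructor
  · intro hco
    have hABlt : Cfsg.Geo.subalgebraNormalizer ι.range < Cfsg.Geo.subalgebraNormalizer (subK ι s) := by
      refine lt_of_le_of_ne hAB ?_
      intro h
      rw [h] at htA
      exact htA htB
    have := hco.2 _ hABlt
    rw [this] at ht'B
    exact ht'B (Subgroup.mem_top _)
  · rintro ⟨_, hmax⟩
    rcases hmax (Cfsg.Geo.subalgebraNormalizer (subK ι s) ⊓ Cfsg.Geo.specialLinear (Fin n) F)
      (inf_le_inf_right _ hAB) inf_le_right with h | h
    · have h1 : t ∈ Cfsg.Geo.subalgebraNormalizer (subK ι s) ⊓ Cfsg.Geo.specialLinear (Fin n) F :=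
        ⟨htB, htSL⟩
      rw [h] at h1
      exact htA h1.1
    · have h1 : t' ∈ Cfsg.Geo.subalgebraNormalizer (subK ι s) ⊓ Cfsg.Geo.specialLinear (Fin n) F := by
        rw [h]; exact ht'SL
      exact ht'B h1.1

theorem not_max_of_fieldSubalgebra (hr1 : 1 < r) (hrp : ¬ r.Prime) (hlt : r < n)
    (K : Subalgebra F (Matrix (Fin n) (Fin n) F)) (hK : Cfsg.Geo.IsFieldSubalgebra r K) :
    ¬ IsCoatom (Cfsg.Geo.subalgebraNormalizer K) ∧
      ¬ Cfsg.Geo.IsMaximalIn (Cfsg.Geo.specialLinear (Fin n) F)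
        (Cfsg.Geo.subalgebraNormalizer K ⊓ Cfsg.Geo.specialLinear (Fin n) F) := by
  classical
  letI : Field K := (isField_of K hK (by omega)).toField
  letI : Fintype K := Fintype.ofFinite K
  have h := not_max_of_field (F := F) (L := K) K.val (by rw [hK.finrank_eq]; exact hr1)
    (by rw [hK.finrank_eq]; exact hrp) (by rw [hK.finrank_eq]; exact hlt)
  rw [Subalgebra.range_val] at h
  exact h

end Cfsg.Agent.Lib.Helper27.ExtField
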