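import Mathlib

set_option autoImplicit false

/-!
Generation by centralisers for a Klein four-group of automorphisms of a group of odd order:
if `x`, `y` are commuting involutive automorphisms of a finite group `N` of odd order then `N` is
generated by the fixed points of `x`, `y` and `x ∘ y`.
-/

namespace Cfsg.Agent.Lib.Helper27.KleinFour

open scoped Pointwise

universe u

/-- The generating set: fixed points of `x`, `y`, `x ∘ y`. -/
def fixGen {N : Type u} [Group N] (x y : N ≃* N) : Set N :=
  {n | x n = n} ∪ {n | y n = n} ∪ {n | x (y n) = n}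

/-- The subgroup generated by the fixed points. -/
def fixClosure {N : Type u} [Group N] (x y : N ≃* N) : Subgroup N :=
  Subgroup.closure (fixGen x y)

/-- `x`, `y` are commuting involutions. -/
structure KleinAct {N : Type u} [Group N] (x y : N ≃* N) : Prop where
  xx : ∀ n, x (x n) = n
  yy : ∀ n, y (y n) = n
  xy : ∀ n, x (y n) = y (x n)

variable {N : Type u} [Group N]

theorem mem_fix_x {x y : N ≃* N} {n : N} (h : x n = n) : n ∈ fixClosure x y :=
  Subgroup.subset_closure (Or.inl (Or.inl h))

theorem mem_fix_y {x y : N ≃* N} {n : N} (h : y n = n) : n ∈ fixClosure x y :=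
  Subgroup.subset_closure (Or.inl (Or.inr h))

theorem mem_fix_xy {x y : N ≃* N} {n : N} (h : x (y n) = n) : n ∈ fixClosure x y :=
  Subgroup.subset_closure (Or.inr h)

/-- In a group of odd order there is `k` with `g ^ (2 * k) = g` for all `g`. -/
theorem exists_half [Finite N] (hodd : Odd (Nat.card N)) : ∃ k : ℕ, ∀ g : N, g ^ (2 * k) = g := by
  obtain ⟨m, hm⟩ := hodd
  refine ⟨m + 1, fun g => ?_⟩
  have h1 : g ^ (2 * m + 1) = 1 := by rw [← hm]; exact pow_card_eq_one'
  rw [show 2 * (m + 1) = (2 * m + 1) + 1 by ring, pow_succ, h1, one_mul]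

/-- Decomposition of an element commuting with its image under an involutive automorphism. -/
theorem decomp_of_commute {k : ℕ} (hk : ∀ g : N, g ^ (2 * k) = g) (φ : N ≃* N)
    (hφ : ∀ n, φ (φ n) = n) (g : N) (hcomm : Commute g (φ g)) :
    φ ((g * φ g) ^ k) = (g * φ g) ^ k ∧ φ ((g * (φ g)⁻¹) ^ k) = ((g * (φ g)⁻¹) ^ k)⁻¹ ∧
      (g * φ g) ^ k * (g * (φ g)⁻¹) ^ k = g := by
  refine ⟨?_, ?_, ?_⟩
  · rw [map_pow, map_mul, hφ, hcomm.eq]
  · rw [map_pow, map_mul, map_inv, hφ, ← inv_pow, mul_inv_rev, inv_inv]
  · have c1 : Commute (g * φ g) g := (Commute.refl g).mul_left hcomm.symm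
    have c2 : Commute (g * φ g) (φ g)⁻¹ := (hcomm.mul_left (Commute.refl _)).inv_right
    have c3 : Commute (g * φ g) (g * (φ g)⁻¹) := c1.mul_right c2
    rw [← c3.mul_pow]
    have : g * φ g * (g * (φ g)⁻¹) = g * g := by
      calc g * φ g * (g * (φ g)⁻¹) = g * (φ g * g) * (φ g)⁻¹ := by group
        _ = g * (g * φ g) * (φ g)⁻¹ := by rw [hcomm.eq]
        _ = g * g := by group
    rw [this, ← pow_two, ← pow_mul, hk]

/-- Element-wise abelian case: if the orbit of `m` under the four-group is commutative,
then `m` is a product of fixed points. -/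
theorem mem_fixClosure_of_commute [Finite N] (hodd : Odd (Nat.card N)) {x y : N ≃* N}
    (h : KleinAct x y) (m : N) (h1 : Commute m (x m)) (h2 : Commute m (y m))
    (h3 : Commute m (x (y m))) : m ∈ fixClosure x y := by
  obtain ⟨k, hk⟩ := exists_half hodd
  have e1 : Commute (x m) (y m) := by
    have := h3.map x
    rw [h.xx] at this
    exact this
  have e2 : Commute (x m) (x (y m)) := h2.map x
  obtain ⟨hxc, hxi, hci⟩ := decomp_of_commute hk x h.xx m h1
  obtain ⟨c, hc⟩ : ∃ c, c = (m * x m) ^ k := ⟨_, rfl⟩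
  obtain ⟨i, hi⟩ : ∃ i, i = (m * (x m)⁻¹) ^ k := ⟨_, rfl⟩
  rw [← hc] at hxc hci
  rw [← hi] at hxi hci
  have hyi : y i = (y m * (x (y m))⁻¹) ^ k := by
    rw [hi, map_pow, map_mul, map_inv, ← h.xy]
  have cbase : Commute (m * (x m)⁻¹) (y m * (x (y m))⁻¹) :=
    (h2.mul_right h3.inv_right).mul_left ((e1.mul_right e2.inv_right).inv_left)
  have ciyi : Commute i (y i) := by
    rw [hyi, hi]
    exact cbase.pow_pow k k
  obtain ⟨hyc', hyi', hc'i'⟩ := decomp_of_commute hk y h.yy i ciyi
  obtain ⟨c', hc'⟩ : ∃ c', c' = (i * y i) ^ k := ⟨_, rfl⟩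
  obtain ⟨i', hi'⟩ : ∃ i', i' = (i * (y i)⁻¹) ^ k := ⟨_, rfl⟩
  rw [← hc'] at hyc' hc'i'
  rw [← hi'] at hyi' hc'i'
  have hxi' : x i' = i'⁻¹ := by
    rw [hi', map_pow, map_mul, map_inv, h.xy, hxi, map_inv, inv_inv, ← inv_pow, mul_inv_rev,
      inv_inv, (ciyi.inv_left).eq]
  have hxyi' : x (y i') = i' := by
    rw [hyi', map_inv, hxi', inv_inv]
  rw [← hci, ← hc'i', ← mul_assoc]
  exact mul_mem (mul_mem (mem_fix_x hxc) (mem_fix_y hyc')) (mem_fix_xy hxyi')

/-- Coprime lifting of fixed points: if `g⁻¹ φ(g)` lies in a subgroup `M`, then the coset `g M`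
contains a fixed point of the involutive automorphism `φ`. -/
theorem exists_fixed_in_coset [Finite N] (hodd : Odd (Nat.card N)) (φ : N ≃* N)
    (hφ : ∀ n, φ (φ n) = n) (M : Subgroup N) (g : N) (hg : g⁻¹ * φ g ∈ M) :
    ∃ c : N, φ c = c ∧ g⁻¹ * c ∈ M := by
  obtain ⟨k, hk⟩ := exists_half hodd
  obtain ⟨w, hw⟩ : ∃ w, w = g⁻¹ * φ g := ⟨_, rfl⟩
  have hφw : φ w = w⁻¹ := by
    rw [hw, map_mul, map_inv, hφ, mul_inv_rev, inv_inv]
  have hi2 : w ^ k * w ^ k = w := by
    rw [← pow_add, ← two_mul, hk]
  have hφi : φ (w ^ k) = (w ^ k)⁻¹ := by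
    rw [map_pow, hφw, inv_pow]
  refine ⟨g * w ^ k, ?_, ?_⟩
  · have e1 : φ g = g * w := by rw [hw]; group
    rw [map_mul, hφi, e1]
    calc g * w * (w ^ k)⁻¹ = g * (w ^ k * w ^ k) * (w ^ k)⁻¹ := by rw [hi2]
      _ = g * w ^ k := by group
  · have : g⁻¹ * (g * w ^ k) = w ^ k := by group
    rw [this, hw]
    exact pow_mem hg k

/-- The composite `x ∘ y` as an automorphism. -/
def comp (x y : N ≃* N) : N ≃* N := y.trans x

theorem comp_apply (x y : N ≃* N) (n : N) : comp x y n = x (y n) := rfl

theorem comp_invol {x y : N ≃* N} (h : KleinAct x y) (n : N) : comp x y (comp x y n) = n := by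
  simp only [comp_apply]
  rw [h.xy (x (y n)), h.xx, h.yy]

/-- The `q`-group case, by induction on the order. -/
theorem fixClosure_eq_top_of_pgroup (q : ℕ) [Fact q.Prime] (n : ℕ) :
    ∀ (N : Type u) [Group N] [Finite N], Nat.card N = n → Odd (Nat.card N) → IsPGroup q N →
      ∀ x y : N ≃* N, KleinAct x y → fixClosure x y = ⊤ := by
  induction n using Nat.strong_induction_on with
  | _ n ih =>
    intro N _ _ hn hodd hq x y h
    rcases subsingleton_or_nontrivial N with hsub | hnt
    · exact Subsingleton.elim _ _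
    · have hZnt : Nontrivial (Subgroup.center N) := hq.center_nontrivial
      have hZx : (Subgroup.center N).map x.toMonoidHom = Subgroup.center N :=
        Subgroup.characteristic_iff_map_eq.mp inferInstance x
      have hZy : (Subgroup.center N).map y.toMonoidHom = Subgroup.center N :=
        Subgroup.characteristic_iff_map_eq.mp inferInstance y
      let xb : N ⧸ Subgroup.center N ≃* N ⧸ Subgroup.center N :=
        QuotientGroup.congr (Subgroup.center N) (Subgroup.center N) x hZx
      let yb : N ⧸ Subgroup.center N ≃* N ⧸ Subgroup.center N :=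
        QuotientGroup.congr (Subgroup.center N) (Subgroup.center N) y hZy
      have hxb : ∀ g : N, xb (QuotientGroup.mk g) = QuotientGroup.mk (x g) := fun g => rfl
      have hyb : ∀ g : N, yb (QuotientGroup.mk g) = QuotientGroup.mk (y g) := fun g => rfl
      have hb : KleinAct xb yb := by
        refine ⟨?_, ?_, ?_⟩
        · intro g
          induction g using QuotientGroup.induction_on with
          | H g => rw [hxb, hxb, h.xx]
        · intro g
          induction g using QuotientGroup.induction_on with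
          | H g => rw [hyb, hyb, h.yy]
        · intro g
          induction g using QuotientGroup.induction_on with
          | H g => rw [hyb, hxb, hxb, hyb, h.xy]
      have hcard := Subgroup.card_eq_card_quotient_mul_card_subgroup (Subgroup.center N)
      have hZcard : 1 < Nat.card (Subgroup.center N) := Finite.one_lt_card
      have hqpos : 0 < Nat.card (N ⧸ Subgroup.center N) := Nat.card_pos
      have hlt : Nat.card (N ⧸ Subgroup.center N) < n := by
        rw [← hn, hcard]
        nlinarith
      have hoddq : Odd (Nat.card (N ⧸ Subgroup.center N)) :=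
        Odd.of_dvd_nat hodd ⟨_, hcard⟩
      have hIH := ih _ hlt (N ⧸ Subgroup.center N) rfl hoddq (hq.to_quotient _) xb yb hb
      -- the centre lies in the closure
      have hZle : Subgroup.center N ≤ fixClosure x y := by
        intro z hz
        rw [Subgroup.mem_center_iff] at hz
        exact mem_fixClosure_of_commute hodd h z (hz _).symm (hz _).symm (hz _).symm
      -- lifting generators
      have hle : fixClosure xb yb ≤ (fixClosure x y).map (QuotientGroup.mk' (Subgroup.center N)) := by
        unfold fixClosure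
        rw [Subgroup.closure_le]
        intro gb hgb
        induction gb using QuotientGroup.induction_on with
        | H g =>
          have lift : ∀ φ : N ≃* N, (∀ n, φ (φ n) = n) →
              (QuotientGroup.mk (φ g) : N ⧸ Subgroup.center N) = QuotientGroup.mk g →
              ∃ c : N, φ c = c ∧
                (QuotientGroup.mk c : N ⧸ Subgroup.center N) = QuotientGroup.mk g := by
            intro φ hφ hfix
            have h1 : g⁻¹ * φ g ∈ Subgroup.center N := QuotientGroup.eq.mp hfix.symm
            obtain ⟨c, hc, hcm⟩ := exists_fixed_in_coset hodd φ hφ _ g h1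
            exact ⟨c, hc, (QuotientGroup.eq.mpr hcm).symm⟩
          rcases hgb with (hgb | hgb) | hgb
          · obtain ⟨c, hc, hcm⟩ := lift x h.xx hgb
            exact ⟨c, Subgroup.subset_closure (Or.inl (Or.inl hc)), hcm⟩
          · obtain ⟨c, hc, hcm⟩ := lift y h.yy hgb
            exact ⟨c, Subgroup.subset_closure (Or.inl (Or.inr hc)), hcm⟩
          · obtain ⟨c, hc, hcm⟩ := lift (comp x y) (comp_invol h) hgb
            exact ⟨c, Subgroup.subset_closure (Or.inr hc), hcm⟩
      rw [eq_top_iff]
      intro g _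
      have hg : (QuotientGroup.mk g : N ⧸ Subgroup.center N) ∈ fixClosure xb yb := by
        rw [hIH]; trivial
      obtain ⟨g₀, hg₀, hg₀g⟩ := hle hg
      have h2 : g₀⁻¹ * g ∈ Subgroup.center N := QuotientGroup.eq.mp hg₀g
      have : g = g₀ * (g₀⁻¹ * g) := by group
      rw [this]
      exact mul_mem hg₀ (hZle h2)

/-- Restriction of an involutive automorphism to an invariant subgroup. -/
def restrict (φ : N ≃* N) (hφ : ∀ n, φ (φ n) = n) (P : Subgroup N) (hP : ∀ p ∈ P, φ p ∈ P) :
    P ≃* P where
  toFun p := ⟨φ p, hP p p.2⟩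
  invFun p := ⟨φ p, hP p p.2⟩
  left_inv p := Subtype.ext (hφ p)
  right_inv p := Subtype.ext (hφ p)
  map_mul' a b := Subtype.ext (map_mul φ (a : N) (b : N))

theorem restrict_apply (φ : N ≃* N) (hφ : ∀ n, φ (φ n) = n) (P : Subgroup N)
    (hP : ∀ p ∈ P, φ p ∈ P) (p : P) : ((restrict φ hφ P hP p : P) : N) = φ p := rfl

/-- An invariant `q`-subgroup of odd order lies in the closure of the fixed points. -/
theorem le_fixClosure_of_pgroup [Finite N] {x y : N ≃* N} (h : KleinAct x y) (q : ℕ)
    [Fact q.Prime] (P : Subgroup N) (hPq : IsPGroup q P) (hPodd : Odd (Nat.card P))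
    (hPx : ∀ p ∈ P, x p ∈ P) (hPy : ∀ p ∈ P, y p ∈ P) : P ≤ fixClosure x y := by
  have hK : KleinAct (restrict x h.xx P hPx) (restrict y h.yy P hPy) := by
    refine ⟨?_, ?_, ?_⟩
    · intro p; exact Subtype.ext (h.xx p)
    · intro p; exact Subtype.ext (h.yy p)
    · intro p; exact Subtype.ext (h.xy p)
  have htop := fixClosure_eq_top_of_pgroup q (Nat.card P) P rfl hPodd hPq _ _ hK
  have hle : (fixClosure (restrict x h.xx P hPx) (restrict y h.yy P hPy)).map P.subtype ≤
      fixClosure x y := by
    rw [Subgroup.map_le_iff_le_comap]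
    unfold fixClosure
    rw [Subgroup.closure_le]
    intro g hg
    show (g : N) ∈ Subgroup.closure (fixGen x y)
    apply Subgroup.subset_closure
    rcases hg with (hg | hg) | hg
    · exact Or.inl (Or.inl (congrArg Subtype.val hg))
    · exact Or.inl (Or.inr (congrArg Subtype.val hg))
    · exact Or.inr (congrArg Subtype.val hg)
  intro p hp
  apply hle
  refine ⟨⟨p, hp⟩, ?_, rfl⟩
  rw [htop]
  trivial

/-- **Generation by centralisers** for a four-group acting on a group of odd order. -/
theorem fixClosure_eq_top [Finite N] (hodd : Odd (Nat.card N)) {x y : N ≃* N}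
    (h : KleinAct x y) : fixClosure x y = ⊤ := by
  rw [← Subgroup.index_eq_one, Nat.eq_one_iff_not_exists_prime_dvd]
  intro q hq
  have : Fact q.Prime := ⟨hq⟩
  -- the four-group as a subgroup of `MulAut N`
  let X : MulAut N := x
  let Y : MulAut N := y
  have hXX : X * X = 1 := by ext n; exact h.xx n
  have hYY : Y * Y = 1 := by ext n; exact h.yy n
  have hXY : X * Y = Y * X := by ext n; exact h.xy n
  set E : Subgroup (MulAut N) := Subgroup.closure {X, Y} with hE
  have hcommS : ∀ a ∈ ({X, Y} : Set (MulAut N)), ∀ b ∈ ({X, Y} : Set (MulAut N)),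
      a * b = b * a := by
    intro a ha b hb
    simp only [Set.mem_insert_iff, Set.mem_singleton_iff] at ha hb
    rcases ha with rfl | rfl <;> rcases hb with rfl | rfl
    · rfl
    · exact hXY
    · exact hXY.symm
    · rfl
  have hEc := Subgroup.isMulCommutative_closure hcommS
  have hEcomm : ∀ a ∈ E, ∀ b ∈ E, a * b = b * a := by
    intro a ha b hb
    have := hEc.is_comm.comm (⟨a, ha⟩ : E) ⟨b, hb⟩
    exact congrArg Subtype.val this
  have hEsq : ∀ e ∈ E, e * e = 1 := by
    intro e he
    induction he using Subgroup.closure_induction with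
    | mem e he =>
      simp only [Set.mem_insert_iff, Set.mem_singleton_iff] at he
      rcases he with rfl | rfl
      · exact hXX
      · exact hYY
    | one => simp
    | mul a b ha hb iha ihb =>
      calc a * b * (a * b) = a * (b * a) * b := by group
        _ = a * (a * b) * b := by rw [hEcomm b hb a ha]
        _ = (a * a) * (b * b) := by group
        _ = 1 := by rw [iha, ihb, one_mul]
    | inv a ha iha =>
      calc a⁻¹ * a⁻¹ = (a * a)⁻¹ := by group
        _ = 1 := by rw [iha, inv_one]
  have hE2 : IsPGroup 2 E := by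
    intro e
    refine ⟨1, ?_⟩
    apply Subtype.ext
    rw [pow_one, pow_two]
    exact hEsq e e.2
  -- the number of Sylow q-subgroups is odd
  obtain ⟨P0⟩ : Nonempty (Sylow q N) := inferInstance
  have hcardS : ¬ 2 ∣ Nat.card (Sylow q N) := by
    intro h2
    have h1 : Nat.card (Sylow q N) ∣ Nat.card N :=
      (Sylow.card_dvd_index P0).trans (Subgroup.index_dvd_card _)
    have : Even (Nat.card N) := even_iff_two_dvd.mpr (h2.trans h1)
    exact (Nat.not_even_iff_odd.mpr hodd) this
  obtain ⟨P, hP⟩ := hE2.nonempty_fixed_point_of_prime_not_dvd_card (Sylow q N) hcardS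
  have hPfix : ∀ e ∈ E, ∀ p ∈ (P : Subgroup N), (e : MulAut N) p ∈ (P : Subgroup N) := by
    intro e he p hp
    have h1 : (⟨e, he⟩ : E) • P = P := hP ⟨e, he⟩
    have h2 : (⟨e, he⟩ : E) • (P : Subgroup N) = (P : Subgroup N) :=
      congrArg (fun S : Sylow q N => (S : Subgroup N)) h1
    rw [← h2]
    exact Subgroup.smul_mem_pointwise_smul p (⟨e, he⟩ : E) (P : Subgroup N) hp
  have hPx : ∀ p ∈ (P : Subgroup N), x p ∈ (P : Subgroup N) :=
    hPfix X (Subgroup.subset_closure (by simp))
  have hPy : ∀ p ∈ (P : Subgroup N), y p ∈ (P : Subgroup N) :=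
    hPfix Y (Subgroup.subset_closure (by simp))
  have hPodd : Odd (Nat.card (P : Subgroup N)) :=
    Odd.of_dvd_nat hodd (Subgroup.card_subgroup_dvd_card _)
  have hle := le_fixClosure_of_pgroup h q (P : Subgroup N) P.isPGroup' hPodd hPx hPy
  intro hdvd
  exact P.not_dvd_index (hdvd.trans (Subgroup.index_dvd_of_le hle))

end Cfsg.Agent.Lib.Helper27.KleinFour
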