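import Mathlib
import Cfsg.Prelude.Def_GeometricClasses

set_option autoImplicit false

/-!
Decompositions `D` of `F^n` into `t` subspaces of dimension `m`: projections, adapted coordinates,
the weight function (number of non-zero components, read in `F`) and its isometry group, which
contains the stabiliser of the decomposition.
-/

namespace Cfsg.Agent.Lib.Helper27.LinDecomp

open Matrix Cfsg Cfsg.Geo

variable {F : Type*} [Field F] {n t m : ℕ} {D : Fin t → Submodule F (Fin n → F)}

theorem isCompl (hD : IsMDecomposition m D) (i : Fin t) :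
    IsCompl (D i) (⨆ (j) (_ : j ≠ i), D j) := by
  constructor
  · exact hD.indep i
  · rw [codisjoint_iff, ← iSup_split_single D i]
    exact hD.iSup_eq_top

/-- The projection onto `D i`, with values in `D i`. -/
noncomputable def prOn (hD : IsMDecomposition m D) (i : Fin t) : (Fin n → F) →ₗ[F] ↥(D i) :=
  (D i).projectionOnto _ (isCompl hD i)

/-- The projection onto `D i`, as an endomorphism. -/
noncomputable def proj (hD : IsMDecomposition m D) (i : Fin t) :
    (Fin n → F) →ₗ[F] (Fin n → F) :=
  (D i).subtype ∘ₗ prOn hD i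

theorem proj_apply (hD : IsMDecomposition m D) (i : Fin t) (x : Fin n → F) :
    proj hD i x = ((prOn hD i x : ↥(D i)) : Fin n → F) := rfl

theorem proj_mem (hD : IsMDecomposition m D) (i : Fin t) (x : Fin n → F) :
    proj hD i x ∈ D i := (prOn hD i x).2

theorem prOn_of_mem (hD : IsMDecomposition m D) {i : Fin t} {x : Fin n → F} (hx : x ∈ D i) :
    prOn hD i x = ⟨x, hx⟩ :=
  Submodule.projectionOnto_apply_left (isCompl hD i) ⟨x, hx⟩

theorem proj_of_mem (hD : IsMDecomposition m D) {i : Fin t} {x : Fin n → F} (hx : x ∈ D i) :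
    proj hD i x = x := by
  rw [proj_apply, prOn_of_mem hD hx]

theorem prOn_of_mem_ne (hD : IsMDecomposition m D) {i j : Fin t} (hij : i ≠ j)
    {x : Fin n → F} (hx : x ∈ D j) : prOn hD i x = 0 := by
  have hx' : x ∈ ⨆ (k) (_ : k ≠ i), D k :=
    (le_iSup₂ (f := fun k (_ : k ≠ i) => D k) j (Ne.symm hij)) hx
  exact Submodule.projectionOnto_apply_right (isCompl hD i) ⟨x, hx'⟩

theorem proj_of_mem_ne (hD : IsMDecomposition m D) {i j : Fin t} (hij : i ≠ j)
    {x : Fin n → F} (hx : x ∈ D j) : proj hD i x = 0 := by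
  rw [proj_apply, prOn_of_mem_ne hD hij hx]
  rfl

theorem sum_proj (hD : IsMDecomposition m D) (x : Fin n → F) : ∑ i, proj hD i x = x := by
  have hx : x ∈ iSup D := by
    rw [hD.iSup_eq_top]
    exact Submodule.mem_top
  induction hx using Submodule.iSup_induction' with
  | mem j y hy =>
    rw [Finset.sum_eq_single j]
    · exact proj_of_mem hD hy
    · intro l _ hl
      exact proj_of_mem_ne hD hl hy
    · intro h
      exact absurd (Finset.mem_univ j) h
  | zero => simp
  | add y z _ _ hy hz =>
    simp only [map_add, Finset.sum_add_distrib]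
    rw [hy, hz]

/-- A vector with two non-zero components lies in no member of the decomposition. -/
theorem not_mem_of_two (hD : IsMDecomposition m D) {a b : Fin t} (hab : a ≠ b)
    {y : Fin n → F} (ha : proj hD a y ≠ 0) (hb : proj hD b y ≠ 0) (j : Fin t) : y ∉ D j := by
  intro hy
  by_cases hja : a = j
  · apply hb
    exact proj_of_mem_ne hD (fun h => hab (hja.trans h.symm)) hy
  · apply ha
    exact proj_of_mem_ne hD hja hy

/-! ### Adapted coordinates -/

/-- A basis of `D i`. -/
noncomputable def bas (hD : IsMDecomposition m D) (i : Fin t) : Module.Basis (Fin m) F ↥(D i) :=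
  Module.finBasisOfFinrankEq F ↥(D i) (hD.finrank_eq i)

/-- The basis vectors. -/
noncomputable def ev (hD : IsMDecomposition m D) (i : Fin t) (j : Fin m) : Fin n → F :=
  ((bas hD i j : ↥(D i)) : Fin n → F)

/-- The coordinate functionals. -/
noncomputable def co (hD : IsMDecomposition m D) (i : Fin t) (j : Fin m) :
    (Fin n → F) →ₗ[F] F :=
  (bas hD i).coord j ∘ₗ prOn hD i

theorem ev_mem (hD : IsMDecomposition m D) (i : Fin t) (j : Fin m) : ev hD i j ∈ D i :=
  (bas hD i j).2

theorem co_ev (hD : IsMDecomposition m D) (i i' : Fin t) (j j' : Fin m) :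
    co hD i j (ev hD i' j') = if i = i' ∧ j = j' then 1 else 0 := by
  classical
  unfold co
  rw [LinearMap.comp_apply]
  by_cases hi : i = i'
  · subst hi
    have h1 : prOn hD i (ev hD i j') = bas hD i j' := by
      rw [prOn_of_mem hD (ev_mem hD i j')]
      rfl
    rw [h1, Module.Basis.coord_apply, Module.Basis.repr_self, Finsupp.single_apply]
    by_cases hj : j = j'
    · rw [if_pos hj.symm, if_pos ⟨rfl, hj⟩]
    · rw [if_neg (Ne.symm hj), if_neg (fun h => hj h.2)]
  · rw [prOn_of_mem_ne hD hi (ev_mem hD i' j'), map_zero, if_neg (fun h => hi h.1)]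

theorem proj_eq_sum (hD : IsMDecomposition m D) (i : Fin t) (x : Fin n → F) :
    proj hD i x = ∑ j, co hD i j x • ev hD i j := by
  have h := (bas hD i).sum_repr (prOn hD i x)
  have h2 := congrArg (fun y : ↥(D i) => (y : Fin n → F)) h
  simp only [Submodule.coe_sum, Submodule.coe_smul] at h2
  rw [proj_apply, ← h2]
  rfl

theorem proj_eq_zero_iff (hD : IsMDecomposition m D) (i : Fin t) (x : Fin n → F) :
    proj hD i x = 0 ↔ ∀ j, co hD i j x = 0 := by
  constructor
  · intro h j
    unfold co
    rw [LinearMap.comp_apply]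
    have h1 : prOn hD i x = 0 := by
      apply Subtype.ext
      exact h
    rw [h1, map_zero]
  · intro h
    rw [proj_eq_sum]
    apply Finset.sum_eq_zero
    intro j _
    rw [h j, zero_smul]

theorem co_proj (hD : IsMDecomposition m D) (i l : Fin t) (j : Fin m) (x : Fin n → F) :
    co hD i j (proj hD l x) = if i = l then co hD i j x else 0 := by
  by_cases hil : i = l
  · subst hil
    rw [if_pos rfl]
    unfold co
    rw [LinearMap.comp_apply, LinearMap.comp_apply, prOn_of_mem hD (proj_mem hD i x)]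
    rfl
  · rw [if_neg hil]
    unfold co
    rw [LinearMap.comp_apply, prOn_of_mem_ne hD hil (proj_mem hD l x), map_zero]

theorem ev_ne_zero (hD : IsMDecomposition m D) (i : Fin t) (j : Fin m) : ev hD i j ≠ 0 := by
  intro h
  have h1 := co_ev hD i i j j
  rw [h, map_zero, if_pos ⟨rfl, rfl⟩] at h1
  exact zero_ne_one h1

/-! ### The weight function and its isometry group -/

open Classical in
/-- The indicator of being non-zero, with values in the field. -/
noncomputable def ind (z : Fin n → F) : F := if z = 0 then 0 else 1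

theorem ind_zero : ind (0 : Fin n → F) = 0 := by
  unfold ind
  rw [if_pos rfl]

theorem ind_of_ne {z : Fin n → F} (hz : z ≠ 0) : ind z = 1 := by
  unfold ind
  rw [if_neg hz]

/-- The number of non-zero components, read in the field. -/
noncomputable def wt (hD : IsMDecomposition m D) (x : Fin n → F) : F :=
  ∑ l, ind (proj hD l x)

/-- The invertible matrices preserving the weight. -/
def K0 (hD : IsMDecomposition m D) : Subgroup (GL (Fin n) F) where
  carrier := {g | ∀ x, wt hD ((g : Matrix (Fin n) (Fin n) F) *ᵥ x) = wt hD x}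
  mul_mem' := by
    intro a b ha hb x
    rw [Units.val_mul, ← Matrix.mulVec_mulVec, ha, hb]
  one_mem' := by
    intro x
    rw [Units.val_one, Matrix.one_mulVec]
  inv_mem' := by
    intro a ha x
    have h := ha (((a⁻¹ : GL (Fin n) F) : Matrix (Fin n) (Fin n) F) *ᵥ x)
    rw [Matrix.mulVec_mulVec, ← Units.val_mul, mul_inv_cancel, Units.val_one,
      Matrix.one_mulVec] at h
    exact h.symm

theorem mem_K0 (hD : IsMDecomposition m D) (g : GL (Fin n) F) :
    g ∈ K0 hD ↔ ∀ x, wt hD ((g : Matrix (Fin n) (Fin n) F) *ᵥ x) = wt hD x := Iff.rfl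

theorem mulVec_ne_zero (g : GL (Fin n) F) {x : Fin n → F} (hx : x ≠ 0) :
    (g : Matrix (Fin n) (Fin n) F) *ᵥ x ≠ 0 := by
  intro h
  apply hx
  have h2 := congrArg (fun y => ((g⁻¹ : GL (Fin n) F) : Matrix (Fin n) (Fin n) F) *ᵥ y) h
  simp only [Matrix.mulVec_mulVec, ← Units.val_mul, inv_mul_cancel, Units.val_one,
    Matrix.one_mulVec, Matrix.mulVec_zero] at h2
  exact h2

theorem stab_le_K0 (hD : IsMDecomposition m D) : decompositionStabilizer D ≤ K0 hD := by
  rintro g ⟨σ, hσ⟩ x
  have hmap : ∀ l, ∀ y ∈ D l, (g : Matrix (Fin n) (Fin n) F) *ᵥ y ∈ D (σ l) := by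
    intro l y hy
    rw [← hσ l]
    exact ⟨y, hy, rfl⟩
  have hproj : ∀ l, proj hD (σ l) ((g : Matrix (Fin n) (Fin n) F) *ᵥ x) =
      (g : Matrix (Fin n) (Fin n) F) *ᵥ (proj hD l x) := by
    intro l
    have e : (g : Matrix (Fin n) (Fin n) F) *ᵥ x =
        ∑ j, (g : Matrix (Fin n) (Fin n) F) *ᵥ (proj hD j x) := by
      conv_lhs => rw [← sum_proj hD x]
      exact map_sum (Matrix.mulVecLin (g : Matrix (Fin n) (Fin n) F)) _ _
    rw [e, map_sum, Finset.sum_eq_single l]
    · exact proj_of_mem hD (hmap l _ (proj_mem hD l x))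
    · intro j _ hj
      exact proj_of_mem_ne hD (fun h => hj (σ.injective h).symm) (hmap j _ (proj_mem hD j x))
    · intro hl
      exact absurd (Finset.mem_univ l) hl
  unfold wt
  rw [← Equiv.sum_comp σ]
  apply Finset.sum_congr rfl
  intro l _
  rw [hproj]
  by_cases h0 : proj hD l x = 0
  · rw [h0, Matrix.mulVec_zero]
  · rw [ind_of_ne h0, ind_of_ne (mulVec_ne_zero g h0)]

/-! ### Rank one perturbations of the identity -/

/-- The matrix of `v ↦ v + f v • u`. -/
noncomputable def rk (f : (Fin n → F) →ₗ[F] F) (u : Fin n → F) : Matrix (Fin n) (Fin n) F :=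
  1 + Matrix.vecMulVec u (fun k => f (Pi.single k 1))

theorem functional_dot (f : (Fin n → F) →ₗ[F] F) (x : Fin n → F) :
    (fun k => f (Pi.single k 1)) ⬝ᵥ x = f x := by
  rw [LinearMap.pi_apply_eq_sum_univ f x, dotProduct]
  apply Finset.sum_congr rfl
  intro i _
  rw [smul_eq_mul, mul_comm]
  congr 2
  funext j
  rw [Pi.single_apply]
  by_cases h : i = j
  · rw [if_pos h, if_pos h.symm]
  · rw [if_neg h, if_neg (Ne.symm h)]

theorem rk_mulVec (f : (Fin n → F) →ₗ[F] F) (u x : Fin n → F) :
    rk f u *ᵥ x = x + f x • u := by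
  unfold rk
  rw [Matrix.add_mulVec, Matrix.one_mulVec, Matrix.vecMulVec_mulVec, functional_dot,
    op_smul_eq_smul]

theorem rk_det (f : (Fin n → F) →ₗ[F] F) (u : Fin n → F) : (rk f u).det = 1 + f u := by
  unfold rk
  rw [Matrix.vecMulVec_eq Unit, Matrix.det_one_add_replicateCol_mul_replicateRow, functional_dot]

/-- The element of the general linear group. -/
noncomputable def rkg (f : (Fin n → F) →ₗ[F] F) (u : Fin n → F) (h : 1 + f u ≠ 0) :
    GL (Fin n) F :=
  Matrix.GeneralLinearGroup.mkOfDetNeZero (rk f u) (by rw [rk_det]; exact h)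

theorem rkg_coe (f : (Fin n → F) →ₗ[F] F) (u : Fin n → F) (h : 1 + f u ≠ 0) :
    ((rkg f u h : GL (Fin n) F) : Matrix (Fin n) (Fin n) F) = rk f u := rfl

theorem rkg_mulVec (f : (Fin n → F) →ₗ[F] F) (u : Fin n → F) (h : 1 + f u ≠ 0)
    (x : Fin n → F) :
    ((rkg f u h : GL (Fin n) F) : Matrix (Fin n) (Fin n) F) *ᵥ x = x + f x • u := by
  rw [rkg_coe, rk_mulVec]

theorem rkg_mem_SL (f : (Fin n → F) →ₗ[F] F) (u : Fin n → F) (h : 1 + f u ≠ 0)
    (h1 : f u = 0) : rkg f u h ∈ specialLinear (Fin n) F := by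
  show rkg f u h ∈ (Matrix.GeneralLinearGroup.det : GL (Fin n) F →* Fˣ).ker
  rw [MonoidHom.mem_ker]
  apply Units.ext
  rw [Matrix.GeneralLinearGroup.val_det_apply, rkg_coe, rk_det, h1, add_zero, Units.val_one]

end Cfsg.Agent.Lib.Helper27.LinDecomp
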