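import Mathlib
import Cfsg.Agent.Lib.Helper27.LinDecomp

set_option autoImplicit false

/-!
The isometry group of the weight function is a proper subgroup of the special linear group, and
for lines over fields with at most four elements it is strictly bigger than the stabiliser of the
decomposition.
-/

namespace Cfsg.Agent.Lib.Helper27.LinDecomp

open Matrix Cfsg Cfsg.Geo

variable {F : Type*} [Field F] {n t m : ℕ} {D : Fin t → Submodule F (Fin n → F)}

theorem finrank_le_card (hD : IsMDecomposition m D) (S : Finset (Fin t)) :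
    Module.finrank F ↥(⨆ i ∈ S, D i) ≤ m * S.card := by
  classical
  induction S using Finset.induction_on with
  | empty =>
    have h0 : (⨆ i ∈ (∅ : Finset (Fin t)), D i) = ⊥ := by simp
    rw [h0, finrank_bot]
    exact Nat.zero_le _
  | insert j S hj ih =>
    rw [Finset.iSup_insert, Finset.card_insert_of_notMem hj]
    have := Submodule.finrank_add_le_finrank_add_finrank (D j) (⨆ i ∈ S, D i)
    rw [hD.finrank_eq j] at this
    rw [Nat.mul_succ]
    omega

theorem le_mul (hD : IsMDecomposition m D) : n ≤ m * t := by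
  have h1 := finrank_le_card hD (Finset.univ : Finset (Fin t))
  have htop : (⨆ i ∈ (Finset.univ : Finset (Fin t)), D i) = ⊤ := by
    simp only [Finset.mem_univ, iSup_pos]
    exact hD.iSup_eq_top
  rw [htop, finrank_top, Module.finrank_fin_fun, Finset.card_univ, Fintype.card_fin] at h1
  exact h1

theorem wt_of_mem (hD : IsMDecomposition m D) {a : Fin t} {x : Fin n → F} (hx : x ∈ D a) :
    wt hD x = ind x := by
  unfold wt
  rw [Finset.sum_eq_single a, proj_of_mem hD hx]
  · intro l _ hl
    rw [proj_of_mem_ne hD hl hx, ind_zero]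
  · intro h
    exact absurd (Finset.mem_univ a) h

theorem wt_pair (hD : IsMDecomposition m D) {a b : Fin t} (hab : a ≠ b) {x y : Fin n → F}
    (hx : x ∈ D a) (hy : y ∈ D b) : wt hD (x + y) = ind x + ind y := by
  unfold wt
  rw [Finset.sum_eq_add a b hab]
  · rw [map_add, map_add, proj_of_mem hD hx, proj_of_mem_ne hD hab hy, add_zero,
      proj_of_mem_ne hD (Ne.symm hab) hx, proj_of_mem hD hy, zero_add]
  · intro l _ hl
    rw [map_add, proj_of_mem_ne hD hl.1 hx, proj_of_mem_ne hD hl.2 hy, add_zero, ind_zero]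
  · intro h
    exact absurd (Finset.mem_univ a) h
  · intro h
    exact absurd (Finset.mem_univ b) h

/-- Some element of the special linear group does not preserve the weight. -/
theorem exists_SL_not_K0 (hD : IsMDecomposition m D) :
    ∃ g : GL (Fin n) F, g ∈ specialLinear (Fin n) F ∧ g ∉ K0 hD := by
  have ht := hD.two_le
  have hm := hD.pos
  obtain ⟨a, ha⟩ : ∃ a : Fin t, a = ⟨0, by omega⟩ := ⟨_, rfl⟩
  obtain ⟨b, hb⟩ : ∃ b : Fin t, b = ⟨1, by omega⟩ := ⟨_, rfl⟩
  obtain ⟨j, hj⟩ : ∃ j : Fin m, j = ⟨0, hm⟩ := ⟨_, rfl⟩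
  have hab : a ≠ b := by
    intro h
    rw [ha, hb] at h
    have := congrArg Fin.val h
    simp at this
  have h0 : co hD a j (ev hD b j) = 0 := by
    rw [co_ev, if_neg (fun h => hab h.1)]
  have hne : (1 : F) + co hD a j (ev hD b j) ≠ 0 := by
    rw [h0, add_zero]
    exact one_ne_zero
  refine ⟨rkg (co hD a j) (ev hD b j) hne, rkg_mem_SL _ _ hne h0, ?_⟩
  intro hK
  have h1 := hK (ev hD a j)
  rw [rkg_mulVec, co_ev, if_pos ⟨rfl, rfl⟩, one_smul, wt_pair hD hab (ev_mem hD a j)
    (ev_mem hD b j), wt_of_mem hD (ev_mem hD a j), ind_of_ne (ev_ne_zero hD a j),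
    ind_of_ne (ev_ne_zero hD b j)] at h1
  have h2 : (1 : F) = 0 := by
    have h3 : (1 : F) + 1 = 1 + 0 := by rw [h1, add_zero]
    exact add_left_cancel h3
  exact one_ne_zero h2

/-! ### Lines: `m = 1` -/

section lines

variable (hD : IsMDecomposition 1 D)

theorem proj_eq1 (l : Fin t) (x : Fin n → F) :
    proj hD l x = co hD l 0 x • ev hD l 0 := by
  rw [proj_eq_sum, Fin.sum_univ_one]

theorem ind_proj1 [Fintype F] (l : Fin t) (x : Fin n → F) :
    ind (proj hD l x) = (co hD l 0 x) ^ (Fintype.card F - 1) := by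
  by_cases h : co hD l 0 x = 0
  · rw [proj_eq1, h, zero_smul, ind_zero, zero_pow]
    have := Fintype.one_lt_card (α := F)
    omega
  · rw [ind_of_ne, FiniteField.pow_card_sub_one_eq_one _ h]
    rw [proj_eq1]
    exact smul_ne_zero h (ev_ne_zero hD l 0)

theorem wt_eq1 [Fintype F] (x : Fin n → F) :
    wt hD x = ∑ l, (co hD l 0 x) ^ (Fintype.card F - 1) := by
  unfold wt
  apply Finset.sum_congr rfl
  intro l _
  exact ind_proj1 hD l x

/-- The sum of four coordinate functionals. -/
noncomputable def f4 (a b c d : Fin t) : (Fin n → F) →ₗ[F] F :=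
  co hD a 0 + co hD b 0 + co hD c 0 + co hD d 0

/-- The sum of four basis vectors. -/
noncomputable def u4 (a b c d : Fin t) : Fin n → F :=
  ev hD a 0 + ev hD b 0 + ev hD c 0 + ev hD d 0

theorem co_u4 {a b c d : Fin t} (hab : a ≠ b) (hac : a ≠ c) (had : a ≠ d) (hbc : b ≠ c)
    (hbd : b ≠ d) (hcd : c ≠ d) (l : Fin t) :
    co hD l 0 (u4 hD a b c d) = if l = a ∨ l = b ∨ l = c ∨ l = d then 1 else 0 := by
  unfold u4
  simp only [map_add, co_ev, and_true]
  by_cases h1 : l = a
  · subst h1
    simp [hab, hac, had]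
  by_cases h2 : l = b
  · subst h2
    simp [h1, hbc, hbd]
  by_cases h3 : l = c
  · subst h3
    simp [h1, h2, hcd]
  by_cases h4 : l = d
  · subst h4
    simp [h1, h2, h3]
  · simp [h1, h2, h3, h4]

theorem f4_u4 {a b c d : Fin t} (hab : a ≠ b) (hac : a ≠ c) (had : a ≠ d) (hbc : b ≠ c)
    (hbd : b ≠ d) (hcd : c ≠ d) : f4 hD a b c d (u4 hD a b c d) = 4 := by
  unfold f4
  simp only [LinearMap.add_apply]
  rw [co_u4 hD hab hac had hbc hbd hcd, co_u4 hD hab hac had hbc hbd hcd,
    co_u4 hD hab hac had hbc hbd hcd, co_u4 hD hab hac had hbc hbd hcd]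
  simp
  norm_num

/-- The polynomial identity behind the invariance of the weight. -/
theorem key_identity [Fintype F] (hq : Fintype.card F ≤ 4) (xa xb xc xd : F) :
    (xa + (xa + xb + xc + xd)) ^ (Fintype.card F - 1) +
      (xb + (xa + xb + xc + xd)) ^ (Fintype.card F - 1) +
      (xc + (xa + xb + xc + xd)) ^ (Fintype.card F - 1) +
      (xd + (xa + xb + xc + xd)) ^ (Fintype.card F - 1) =
    xa ^ (Fintype.card F - 1) + xb ^ (Fintype.card F - 1) + xc ^ (Fintype.card F - 1) +
      xd ^ (Fintype.card F - 1) := by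
  have h1 := Fintype.one_lt_card (α := F)
  have hcast := FiniteField.cast_card_eq_zero F
  obtain ⟨p, k, hp, hk⟩ : IsPrimePow (Fintype.card F) := Fintype.isPrimePow_card_of_field
  have hcases : Fintype.card F = 2 ∨ Fintype.card F = 3 ∨ Fintype.card F = 4 := by omega
  rcases hcases with h | h | h
  · rw [h] at hcast ⊢
    have h2 : (2 : F) = 0 := by exact_mod_cast hcast
    simp only [Nat.add_one_sub_one, pow_one]
    linear_combination (2 * (xa + xb + xc + xd)) * h2
  · rw [h] at hcast ⊢
    have h3 : (3 : F) = 0 := by exact_mod_cast hcast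
    have e : (3 : ℕ) - 1 = 2 := rfl
    rw [e]
    linear_combination (2 * (xa + xb + xc + xd) ^ 2) * h3
  · rw [h] at hcast ⊢
    have h4 : (4 : F) = 0 := by exact_mod_cast hcast
    have h2 : (2 : F) = 0 := by
      have : (2 : F) * 2 = 0 := by rw [← h4]; norm_num
      exact mul_self_eq_zero.mp this
    have e : (4 : ℕ) - 1 = 3 := rfl
    rw [e]
    linear_combination (5 * (xa + xb + xc + xd) ^ 3 - 3 * (xa + xb + xc + xd) *
      (xa * xb + xa * xc + xa * xd + xb * xc + xb * xd + xc * xd)) * h2

theorem wt_refl [Fintype F] (hq : Fintype.card F ≤ 4) {a b c d : Fin t} (hab : a ≠ b)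
    (hac : a ≠ c) (had : a ≠ d) (hbc : b ≠ c) (hbd : b ≠ d) (hcd : c ≠ d) (x : Fin n → F) :
    wt hD (x + f4 hD a b c d x • u4 hD a b c d) = wt hD x := by
  classical
  rw [wt_eq1, wt_eq1, ← sub_eq_zero, ← Finset.sum_sub_distrib]
  have hsub : ({a, b, c, d} : Finset (Fin t)) ⊆ Finset.univ := Finset.subset_univ _
  rw [← Finset.sum_subset hsub]
  · rw [Finset.sum_insert (by simp [hab, hac, had]), Finset.sum_insert (by simp [hbc, hbd]),
      Finset.sum_insert (by simp [hcd]), Finset.sum_singleton]
    simp only [map_add, map_smul, smul_eq_mul, co_u4 hD hab hac had hbc hbd hcd]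
    simp only [true_or, or_true, if_true, mul_one]
    have hs : f4 hD a b c d x = co hD a 0 x + co hD b 0 x + co hD c 0 x + co hD d 0 x := by
      unfold f4
      simp only [LinearMap.add_apply]
    rw [hs]
    have key := key_identity hq (co hD a 0 x) (co hD b 0 x) (co hD c 0 x) (co hD d 0 x)
    linear_combination key
  · intro l _ hl
    have hl' : ¬ (l = a ∨ l = b ∨ l = c ∨ l = d) := by
      intro h
      apply hl
      simp only [Finset.mem_insert, Finset.mem_singleton]
      exact h
    simp only [map_add, map_smul, smul_eq_mul, co_u4 hD hab hac had hbc hbd hcd, if_neg hl',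
      mul_zero, add_zero, sub_self]

end lines

end Cfsg.Agent.Lib.Helper27.LinDecomp
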