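import Mathlib
import Cfsg.Prelude.Def_GeometricClasses

set_option autoImplicit false

/-!
Over the field with two elements the Kronecker subgroup `GL₂ ⊗ GL_m` is not maximal in
`GL_{2m}`: it normalises the cyclic group generated by `ω ⊗ 1`, `ω` of order three.
-/

namespace Cfsg.Agent.Lib.Helper27.TensorF2

open Matrix Cfsg Cfsg.Geo
open scoped Kronecker

variable {F : Type*} [Field F] [Fintype F]

theorem units_subsingleton (hq : Fintype.card F = 2) : Subsingleton Fˣ := by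
  classical
  rw [← Fintype.card_le_one_iff_subsingleton, Fintype.card_units, hq]

theorem f2_cases (hq : Fintype.card F = 2) (x : F) : x = 0 ∨ x = 1 := by
  by_cases hx : x = 0
  · exact Or.inl hx
  · right
    haveI := units_subsingleton hq
    have h : Units.mk0 x hx = 1 := Subsingleton.elim _ _
    have h2 := congrArg Units.val h
    simpa using h2

theorem two_eq_zero (hq : Fintype.card F = 2) : (1 : F) + 1 = 0 := by
  have h := FiniteField.cast_card_eq_zero F
  rw [hq] at h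
  have h2 : ((2 : ℕ) : F) = 1 + 1 := by norm_num
  rw [← h2]
  exact h

/-- The matrix of order three. -/
def om (F : Type*) [Field F] : Matrix (Fin 2) (Fin 2) F := !![0, 1; 1, 1]

/-- Its square. -/
def om2 (F : Type*) [Field F] : Matrix (Fin 2) (Fin 2) F := !![1, 1; 1, 0]

theorem om_mul_om (hq : Fintype.card F = 2) : om F * om F = om2 F := by
  have h2 := two_eq_zero hq
  unfold om om2
  ext i j
  fin_cases i <;> fin_cases j <;> simp [Matrix.mul_apply, Fin.sum_univ_two, h2]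

theorem om_mul_om2 (hq : Fintype.card F = 2) : om F * om2 F = 1 := by
  have h2 := two_eq_zero hq
  unfold om om2
  ext i j
  fin_cases i <;> fin_cases j <;> simp [Matrix.mul_apply, Fin.sum_univ_two, h2]

theorem om2_mul_om (hq : Fintype.card F = 2) : om2 F * om F = 1 := by
  have h2 := two_eq_zero hq
  unfold om om2
  ext i j
  fin_cases i <;> fin_cases j <;> simp [Matrix.mul_apply, Fin.sum_univ_two, h2]

/-- Every invertible `2 × 2` matrix over the field with two elements normalises `⟨ω⟩`. -/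
theorem gl2_normalizes (hq : Fintype.card F = 2) (a : Matrix (Fin 2) (Fin 2) F)
    (ha : a.det ≠ 0) : a * om F = om F * a ∨ a * om F = om2 F * a := by
  have h2 := two_eq_zero hq
  have hneg : (-1 : F) = 1 := by
    rw [neg_eq_iff_add_eq_zero]
    exact h2
  rw [Matrix.det_fin_two] at ha
  obtain ⟨p, hp⟩ : ∃ p, p = a 0 0 := ⟨_, rfl⟩
  obtain ⟨q, hq'⟩ : ∃ q, q = a 0 1 := ⟨_, rfl⟩
  obtain ⟨r, hr⟩ : ∃ r, r = a 1 0 := ⟨_, rfl⟩
  obtain ⟨s, hs⟩ : ∃ s, s = a 1 1 := ⟨_, rfl⟩
  have ha' : a = !![p, q; r, s] := by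
    rw [hp, hq', hr, hs]
    exact Matrix.eta_fin_two a
  rw [← hp, ← hq', ← hr, ← hs] at ha
  rw [ha']
  rcases f2_cases hq p with rfl | rfl <;> rcases f2_cases hq q with rfl | rfl <;>
    rcases f2_cases hq r with rfl | rfl <;> rcases f2_cases hq s with rfl | rfl <;>
    first
    | (exfalso; apply ha; simp [h2, hneg]; done)
    | (left; unfold om; ext i j; (fin_cases i <;> fin_cases j <;>
        simp [Matrix.mul_apply, Fin.sum_univ_two, h2]); done)
    | (right; unfold om om2; ext i j; (fin_cases i <;> fin_cases j <;>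
        simp [Matrix.mul_apply, Fin.sum_univ_two, h2]); done)

/-! ### Normalisers of cyclic subgroups -/

theorem mem_normalizer_zpowers {G : Type*} [Group G] (w g : G)
    (h1 : g * w * g⁻¹ ∈ Subgroup.zpowers w) (h2 : g⁻¹ * w * g ∈ Subgroup.zpowers w) :
    g ∈ Subgroup.normalizer ((Subgroup.zpowers w : Subgroup G) : Set G) := by
  rw [Subgroup.mem_normalizer_iff]
  intro h
  constructor
  · rintro ⟨k, rfl⟩
    have e : g * w ^ k * g⁻¹ = (g * w * g⁻¹) ^ k := by rw [conj_zpow]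
    show g * w ^ k * g⁻¹ ∈ Subgroup.zpowers w
    rw [e]
    exact Subgroup.zpow_mem _ h1 k
  · intro hh
    obtain ⟨k, hk⟩ := Subgroup.mem_zpowers_iff.mp hh
    have e : h = (g⁻¹ * w * g) ^ k := by
      have e2 : (g⁻¹ * w * g⁻¹⁻¹) ^ k = g⁻¹ * w ^ k * g⁻¹⁻¹ := conj_zpow
      rw [inv_inv] at e2
      rw [e2, hk]
      group
    rw [e]
    exact Subgroup.zpow_mem _ h2 k

/-! ### The block matrices -/

variable (F) in
/-- `ω ⊗ 1`. -/
def Wm (m : ℕ) : Matrix (Fin 2 × Fin m) (Fin 2 × Fin m) F :=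
  Matrix.blockDiagonal fun _ : Fin m => om F

variable (F) in
/-- `ω² ⊗ 1`. -/
def Wm2 (m : ℕ) : Matrix (Fin 2 × Fin m) (Fin 2 × Fin m) F :=
  Matrix.blockDiagonal fun _ : Fin m => om2 F

theorem Wm_eq_kron (m : ℕ) : Wm F m = om F ⊗ₖ (1 : Matrix (Fin m) (Fin m) F) :=
  (Matrix.kronecker_one _).symm

theorem Wm2_eq_kron (m : ℕ) : Wm2 F m = om2 F ⊗ₖ (1 : Matrix (Fin m) (Fin m) F) :=
  (Matrix.kronecker_one _).symm

theorem Wm_mul_Wm (hq : Fintype.card F = 2) (m : ℕ) : Wm F m * Wm F m = Wm2 F m := by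
  unfold Wm Wm2
  rw [← Matrix.blockDiagonal_mul]
  congr 1
  funext k
  exact om_mul_om hq

theorem Wm_mul_Wm2 (hq : Fintype.card F = 2) (m : ℕ) : Wm F m * Wm2 F m = 1 := by
  unfold Wm Wm2
  rw [← Matrix.blockDiagonal_mul, ← Matrix.blockDiagonal_one]
  congr 1
  funext k
  exact om_mul_om2 hq

theorem Wm2_mul_Wm (hq : Fintype.card F = 2) (m : ℕ) : Wm2 F m * Wm F m = 1 := by
  unfold Wm Wm2
  rw [← Matrix.blockDiagonal_mul, ← Matrix.blockDiagonal_one]
  congr 1
  funext k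
  exact om2_mul_om hq

/-- `ω ⊗ 1` as an element of the general linear group. -/
def Wg (hq : Fintype.card F = 2) (m : ℕ) : GL (Fin 2 × Fin m) F :=
  ⟨Wm F m, Wm2 F m, Wm_mul_Wm2 hq m, Wm2_mul_Wm hq m⟩

theorem Wg_coe (hq : Fintype.card F = 2) (m : ℕ) :
    ((Wg hq m : GL (Fin 2 × Fin m) F) : Matrix (Fin 2 × Fin m) (Fin 2 × Fin m) F) = Wm F m := rfl

theorem Wg_sq_coe (hq : Fintype.card F = 2) (m : ℕ) :
    (((Wg hq m) ^ 2 : GL (Fin 2 × Fin m) F) : Matrix (Fin 2 × Fin m) (Fin 2 × Fin m) F) =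
      Wm2 F m := by
  rw [pow_two, Units.val_mul, Wg_coe, Wm_mul_Wm hq]

theorem Wg_pow_three (hq : Fintype.card F = 2) (m : ℕ) : (Wg hq m) ^ 3 = 1 := by
  apply Units.ext
  rw [pow_succ, Units.val_mul, Wg_sq_coe, Wg_coe, Wm2_mul_Wm hq, Units.val_one]

/-- The overgroup: the normaliser of `⟨ω ⊗ 1⟩`. -/
def Kn (hq : Fintype.card F = 2) (m : ℕ) : Subgroup (GL (Fin 2 × Fin m) F) :=
  Subgroup.normalizer ((Subgroup.zpowers (Wg hq m) : Subgroup (GL (Fin 2 × Fin m) F)) :
    Set (GL (Fin 2 × Fin m) F))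

theorem conj_mem_of_kron (hq : Fintype.card F = 2) (m : ℕ) (g : GL (Fin 2 × Fin m) F)
    (hg : g ∈ kroneckerSubgroup 2 m F) :
    g * Wg hq m * g⁻¹ ∈ Subgroup.zpowers (Wg hq m) := by
  obtain ⟨a, b, hab⟩ := hg
  have hdet : (a : Matrix (Fin 2) (Fin 2) F).det ≠ 0 :=
    Matrix.det_ne_zero_of_right_inverse (B := ((a⁻¹ : GL (Fin 2) F) : Matrix (Fin 2) (Fin 2) F))
      (by rw [← Units.val_mul, mul_inv_cancel, Units.val_one])
  rcases gl2_normalizes hq _ hdet with h | h
  · have e : g * Wg hq m = Wg hq m * g := by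
      apply Units.ext
      rw [Units.val_mul, Units.val_mul, Wg_coe, hab, Wm_eq_kron, ← Matrix.mul_kronecker_mul,
        ← Matrix.mul_kronecker_mul, h, Matrix.mul_one, Matrix.one_mul]
    rw [e, mul_inv_cancel_right]
    exact Subgroup.mem_zpowers _
  · have e : g * Wg hq m = (Wg hq m) ^ 2 * g := by
      apply Units.ext
      rw [Units.val_mul, Units.val_mul, Wg_sq_coe, Wg_coe, hab, Wm_eq_kron, Wm2_eq_kron,
        ← Matrix.mul_kronecker_mul, ← Matrix.mul_kronecker_mul, h, Matrix.mul_one,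
        Matrix.one_mul]
    rw [e, mul_inv_cancel_right]
    exact Subgroup.pow_mem _ (Subgroup.mem_zpowers _) 2

theorem kron_le_Kn (hq : Fintype.card F = 2) (m : ℕ) : kroneckerSubgroup 2 m F ≤ Kn hq m := by
  intro g hg
  apply mem_normalizer_zpowers
  · exact conj_mem_of_kron hq m g hg
  · have h := conj_mem_of_kron hq m g⁻¹ (Subgroup.inv_mem _ hg)
    rwa [inv_inv] at h

/-! ### An element of the normaliser that is not a Kronecker product -/

variable (F) in
/-- `ω` on the first block, the identity elsewhere. -/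
def G1m (m : ℕ) : Matrix (Fin 2 × Fin (m + 2)) (Fin 2 × Fin (m + 2)) F :=
  Matrix.blockDiagonal fun k : Fin (m + 2) => if k = 0 then om F else 1

variable (F) in
/-- Its inverse. -/
def G1m' (m : ℕ) : Matrix (Fin 2 × Fin (m + 2)) (Fin 2 × Fin (m + 2)) F :=
  Matrix.blockDiagonal fun k : Fin (m + 2) => if k = 0 then om2 F else 1

theorem G1m_mul (hq : Fintype.card F = 2) (m : ℕ) : G1m F m * G1m' F m = 1 := by
  unfold G1m G1m'
  rw [← Matrix.blockDiagonal_mul, ← Matrix.blockDiagonal_one]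
  congr 1
  funext k
  by_cases hk : k = 0
  · simp only [hk, if_true, Pi.one_apply]
    exact om_mul_om2 hq
  · simp only [hk, if_false, Pi.one_apply, Matrix.mul_one]

theorem G1m'_mul (hq : Fintype.card F = 2) (m : ℕ) : G1m' F m * G1m F m = 1 := by
  unfold G1m G1m'
  rw [← Matrix.blockDiagonal_mul, ← Matrix.blockDiagonal_one]
  congr 1
  funext k
  by_cases hk : k = 0
  · simp only [hk, if_true, Pi.one_apply]
    exact om2_mul_om hq
  · simp only [hk, if_false, Pi.one_apply, Matrix.mul_one]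

/-- The element as a member of the general linear group. -/
def G1g (hq : Fintype.card F = 2) (m : ℕ) : GL (Fin 2 × Fin (m + 2)) F :=
  ⟨G1m F m, G1m' F m, G1m_mul hq m, G1m'_mul hq m⟩

theorem G1g_comm (hq : Fintype.card F = 2) (m : ℕ) :
    G1g hq m * Wg hq (m + 2) = Wg hq (m + 2) * G1g hq m := by
  apply Units.ext
  rw [Units.val_mul, Units.val_mul, Wg_coe]
  show G1m F m * Wm F (m + 2) = Wm F (m + 2) * G1m F m
  unfold G1m Wm
  rw [← Matrix.blockDiagonal_mul, ← Matrix.blockDiagonal_mul]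
  congr 1
  funext k
  by_cases hk : k = 0
  · simp only [hk, if_true]
  · simp only [hk, if_false, Matrix.mul_one, Matrix.one_mul]

theorem G1g_mem_Kn (hq : Fintype.card F = 2) (m : ℕ) : G1g hq m ∈ Kn hq (m + 2) := by
  apply mem_normalizer_zpowers
  · rw [G1g_comm, mul_inv_cancel_right]
    exact Subgroup.mem_zpowers _
  · rw [mul_assoc, ← G1g_comm, ← mul_assoc, inv_mul_cancel, one_mul]
    exact Subgroup.mem_zpowers _

theorem G1g_not_mem_kron (hq : Fintype.card F = 2) (m : ℕ) :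
    G1g hq m ∉ kroneckerSubgroup 2 (m + 2) F := by
  rintro ⟨a, b, hab⟩
  have hab' : G1m F m = (a : Matrix (Fin 2) (Fin 2) F) ⊗ₖ
      (b : Matrix (Fin (m + 2)) (Fin (m + 2)) F) := hab
  have h1 : (1 : Fin (m + 2)) ≠ 0 := by
    intro h
    have := congrArg Fin.val h
    simp at this
  have e1 : G1m F m ((0 : Fin 2), (1 : Fin (m + 2))) ((0 : Fin 2), (1 : Fin (m + 2))) = 1 := by
    unfold G1m
    rw [Matrix.blockDiagonal_apply_eq, if_neg h1, Matrix.one_apply_eq]
  have e2 : G1m F m ((0 : Fin 2), (1 : Fin (m + 2))) ((1 : Fin 2), (1 : Fin (m + 2))) = 0 := by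
    unfold G1m
    rw [Matrix.blockDiagonal_apply_eq, if_neg h1, Matrix.one_apply_ne (by decide)]
  have e3 : G1m F m ((0 : Fin 2), (0 : Fin (m + 2))) ((1 : Fin 2), (0 : Fin (m + 2))) = 1 := by
    unfold G1m
    rw [Matrix.blockDiagonal_apply_eq, if_pos rfl]
    simp [om]
  rw [hab', Matrix.kroneckerMap_apply] at e1 e2 e3
  have hb : (b : Matrix (Fin (m + 2)) (Fin (m + 2)) F) 1 1 ≠ 0 := by
    intro h
    rw [h, mul_zero] at e1
    exact zero_ne_one e1
  have ha : (a : Matrix (Fin 2) (Fin 2) F) 0 1 = 0 := by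
    rcases mul_eq_zero.mp e2 with h | h
    · exact h
    · exact (hb h).elim
  rw [ha, zero_mul] at e3
  exact zero_ne_one e3

/-! ### A transvection outside the normaliser -/

variable (F) in
/-- The transvection `1 + E_{(0,0),(1,0)}`. -/
def Tm (m : ℕ) : Matrix (Fin 2 × Fin (m + 2)) (Fin 2 × Fin (m + 2)) F :=
  Matrix.transvection ((0 : Fin 2), (0 : Fin (m + 2))) ((1 : Fin 2), (0 : Fin (m + 2))) (1 : F)

theorem Tm_mul_Tm (hq : Fintype.card F = 2) (m : ℕ) : Tm F m * Tm F m = 1 := by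
  unfold Tm
  rw [Matrix.transvection_mul_transvection_same _ _ (by
    intro h
    have := congrArg Prod.fst h
    simp at this), two_eq_zero hq, Matrix.transvection_zero]

/-- The transvection as a member of the general linear group. -/
def Tg (hq : Fintype.card F = 2) (m : ℕ) : GL (Fin 2 × Fin (m + 2)) F :=
  ⟨Tm F m, Tm F m, Tm_mul_Tm hq m, Tm_mul_Tm hq m⟩

theorem Tg_not_mem_Kn (hq : Fintype.card F = 2) (m : ℕ) : Tg hq m ∉ Kn hq (m + 2) := by
  intro hT
  have h1 := (Subgroup.mem_normalizer_iff.mp hT (Wg hq (m + 2))).mp (Subgroup.mem_zpowers _)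
  obtain ⟨k, hk⟩ := Subgroup.mem_zpowers_iff.mp h1
  rw [zpow_eq_zpow_emod' k (Wg_pow_three hq (m + 2))] at hk
  have hk0 : 0 ≤ k % (3 : ℕ) := Int.emod_nonneg k (by norm_num)
  have hk3 : k % (3 : ℕ) < 3 := Int.emod_lt_of_pos k (by norm_num)
  have hx : ((0 : Fin 2), (0 : Fin (m + 2))) ≠ ((1 : Fin 2), (0 : Fin (m + 2))) := by
    intro h
    have := congrArg Prod.fst h
    simp at this
  have h10 : (1 : Fin (m + 2)) ≠ 0 := by
    intro h
    have := congrArg Fin.val h
    simp at this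
  have hz : ((0 : Fin 2), (1 : Fin (m + 2))) ≠ ((0 : Fin 2), (0 : Fin (m + 2))) := by
    intro h
    exact h10 (congrArg Prod.snd h)
  have hz' : ((0 : Fin 2), (1 : Fin (m + 2))) ≠ ((1 : Fin 2), (0 : Fin (m + 2))) := by
    intro h
    exact h10 (congrArg Prod.snd h)
  obtain ⟨r, hr⟩ : ∃ r : ℤ, r = k % (3 : ℕ) := ⟨_, rfl⟩
  rw [← hr] at hk hk0 hk3
  have hcases : r = 0 ∨ r = 1 ∨ r = 2 := by omega
  rcases hcases with rfl | rfl | rfl
  · -- conjugate trivial: `W = 1`
    rw [zpow_zero] at hk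
    have h2 : Wg hq (m + 2) = 1 := by
      have : Wg hq (m + 2) = (Tg hq m)⁻¹ * (Tg hq m * Wg hq (m + 2) * (Tg hq m)⁻¹) * Tg hq m := by
        group
      rw [this, ← hk]
      group
    have h3 := congrArg (fun g : GL (Fin 2 × Fin (m + 2)) F =>
      (g : Matrix (Fin 2 × Fin (m + 2)) (Fin 2 × Fin (m + 2)) F)
        ((0 : Fin 2), (0 : Fin (m + 2))) ((0 : Fin 2), (0 : Fin (m + 2)))) h2
    simp only [Wg_coe, Units.val_one, Matrix.one_apply_eq] at h3
    unfold Wm at h3
    rw [Matrix.blockDiagonal_apply_eq] at h3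
    simp [om] at h3
  · -- `T W = W T`
    rw [zpow_one] at hk
    have h2 : Tg hq m * Wg hq (m + 2) = Wg hq (m + 2) * Tg hq m := by
      have e : Tg hq m * Wg hq (m + 2) =
          (Tg hq m * Wg hq (m + 2) * (Tg hq m)⁻¹) * Tg hq m := by group
      conv_lhs => rw [e, ← hk]
    have h3 := congrArg (fun g : GL (Fin 2 × Fin (m + 2)) F =>
      (g : Matrix (Fin 2 × Fin (m + 2)) (Fin 2 × Fin (m + 2)) F)
        ((0 : Fin 2), (0 : Fin (m + 2))) ((0 : Fin 2), (0 : Fin (m + 2)))) h2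
    simp only [Units.val_mul, Wg_coe] at h3
    have h4 : (Tm F m * Wm F (m + 2)) ((0 : Fin 2), (0 : Fin (m + 2)))
        ((0 : Fin 2), (0 : Fin (m + 2))) =
        (Wm F (m + 2) * Tm F m) ((0 : Fin 2), (0 : Fin (m + 2)))
          ((0 : Fin 2), (0 : Fin (m + 2))) := h3
    unfold Tm Matrix.transvection at h4
    rw [Matrix.add_mul, Matrix.mul_add, Matrix.one_mul, Matrix.mul_one, Matrix.add_apply,
      Matrix.add_apply, Matrix.single_mul_apply_same,
      Matrix.mul_single_apply_of_ne _ _ _ _ _ hx] at h4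
    unfold Wm at h4
    rw [Matrix.blockDiagonal_apply_eq, Matrix.blockDiagonal_apply_eq] at h4
    simp [om] at h4
  · -- `T W = W² T`
    have h2 : Tg hq m * Wg hq (m + 2) = (Wg hq (m + 2)) ^ 2 * Tg hq m := by
      have : (Wg hq (m + 2)) ^ (2 : ℤ) = (Wg hq (m + 2)) ^ 2 := zpow_ofNat _ 2
      rw [← this, hk]
      group
    have h3 := congrArg (fun g : GL (Fin 2 × Fin (m + 2)) F =>
      (g : Matrix (Fin 2 × Fin (m + 2)) (Fin 2 × Fin (m + 2)) F)
        ((0 : Fin 2), (1 : Fin (m + 2))) ((0 : Fin 2), (1 : Fin (m + 2)))) h2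
    simp only [Units.val_mul, Wg_sq_coe, Wg_coe] at h3
    have h4 : (Tm F m * Wm F (m + 2)) ((0 : Fin 2), (1 : Fin (m + 2)))
        ((0 : Fin 2), (1 : Fin (m + 2))) =
        (Wm2 F (m + 2) * Tm F m) ((0 : Fin 2), (1 : Fin (m + 2)))
          ((0 : Fin 2), (1 : Fin (m + 2))) := h3
    unfold Tm Matrix.transvection at h4
    rw [Matrix.add_mul, Matrix.mul_add, Matrix.one_mul, Matrix.mul_one, Matrix.add_apply,
      Matrix.add_apply, Matrix.single_mul_apply_of_ne _ _ _ _ _ hz,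
      Matrix.mul_single_apply_of_ne _ _ _ _ _ hz'] at h4
    unfold Wm Wm2 at h4
    rw [Matrix.blockDiagonal_apply_eq, Matrix.blockDiagonal_apply_eq] at h4
    simp [om, om2] at h4

/-- The Kronecker subgroup is not maximal. -/
theorem exists_between (hq : Fintype.card F = 2) (m : ℕ) :
    ∃ K : Subgroup (GL (Fin 2 × Fin (m + 2)) F), kroneckerSubgroup 2 (m + 2) F < K ∧ K < ⊤ := by
  refine ⟨Kn hq (m + 2), lt_of_le_of_ne (kron_le_Kn hq (m + 2)) ?_, lt_top_iff_ne_top.mpr ?_⟩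
  · intro h
    apply G1g_not_mem_kron hq m
    rw [h]
    exact G1g_mem_Kn hq m
  · intro h
    apply Tg_not_mem_Kn hq m
    rw [h]
    exact Subgroup.mem_top _

end Cfsg.Agent.Lib.Helper27.TensorF2
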