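import Mathlib
import Cfsg.Agent.Lib.Helper27.LinDecomp2
import Cfsg.Agent.Lib.Helper27.TensorF2

set_option autoImplicit false

/-!
Weight-preserving elements of the special linear group outside the stabiliser of the
decomposition: lines over fields with at most four elements, planes over the field with two
elements.
-/

namespace Cfsg.Agent.Lib.Helper27.LinDecomp

open Matrix Cfsg Cfsg.Geo

variable {F : Type*} [Field F] {n t m : ℕ} {D : Fin t → Submodule F (Fin n → F)}

/-- A member of the stabiliser maps each basis vector into a member of the decomposition. -/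
theorem stab_maps (hD : IsMDecomposition m D) {g : GL (Fin n) F}
    (hg : g ∈ decompositionStabilizer D) (i : Fin t) (j : Fin m) :
    ∃ k, (g : Matrix (Fin n) (Fin n) F) *ᵥ ev hD i j ∈ D k := by
  obtain ⟨σ, hσ⟩ := hg
  refine ⟨σ i, ?_⟩
  rw [← hσ i]
  exact ⟨ev hD i j, ev_mem hD i j, rfl⟩

section lines

variable (hD : IsMDecomposition 1 D)

theorem five_sq [Fintype F] (hq : Fintype.card F ≤ 4) : (5 : F) * 5 = 1 := by
  have h1 := Fintype.one_lt_card (α := F)
  have hcast := FiniteField.cast_card_eq_zero F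
  have hcases : Fintype.card F = 2 ∨ Fintype.card F = 3 ∨ Fintype.card F = 4 := by omega
  rcases hcases with h | h | h
  · rw [h] at hcast
    have h2 : (2 : F) = 0 := by exact_mod_cast hcast
    linear_combination 12 * h2
  · rw [h] at hcast
    have h3 : (3 : F) = 0 := by exact_mod_cast hcast
    linear_combination 8 * h3
  · rw [h] at hcast
    have h4 : (4 : F) = 0 := by exact_mod_cast hcast
    linear_combination 6 * h4

theorem five_ne_zero [Fintype F] (hq : Fintype.card F ≤ 4) : (5 : F) ≠ 0 := by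
  intro h
  have h1 := five_sq (F := F) hq
  rw [h, mul_zero] at h1
  exact zero_ne_one h1

/-- For lines over a field with at most four elements, some weight-preserving element of the
special linear group does not stabilise the decomposition. -/
theorem exists_lines [Fintype F] (hq : Fintype.card F ≤ 4) (ht : 8 ≤ t) :
    ∃ g : GL (Fin n) F, g ∈ K0 hD ∧ g ∈ specialLinear (Fin n) F ∧
      g ∉ decompositionStabilizer D := by
  obtain ⟨a, ha⟩ : ∃ a : Fin t, a = ⟨0, by omega⟩ := ⟨_, rfl⟩
  obtain ⟨b, hb⟩ : ∃ b : Fin t, b = ⟨1, by omega⟩ := ⟨_, rfl⟩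
  obtain ⟨c, hc⟩ : ∃ c : Fin t, c = ⟨2, by omega⟩ := ⟨_, rfl⟩
  obtain ⟨d, hd⟩ : ∃ d : Fin t, d = ⟨3, by omega⟩ := ⟨_, rfl⟩
  obtain ⟨a', ha'⟩ : ∃ a' : Fin t, a' = ⟨4, by omega⟩ := ⟨_, rfl⟩
  obtain ⟨b', hb'⟩ : ∃ b' : Fin t, b' = ⟨5, by omega⟩ := ⟨_, rfl⟩
  obtain ⟨c', hc'⟩ : ∃ c' : Fin t, c' = ⟨6, by omega⟩ := ⟨_, rfl⟩
  obtain ⟨d', hd'⟩ : ∃ d' : Fin t, d' = ⟨7, by omega⟩ := ⟨_, rfl⟩
  have hne : ∀ {x y : Fin t} {i j : ℕ} (hi : i < t) (hj : j < t), x = ⟨i, hi⟩ → y = ⟨j, hj⟩ →
      i ≠ j → x ≠ y := by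
    intro x y i j hi hj hx hy hij h
    rw [hx, hy] at h
    exact hij (congrArg Fin.val h)
  have hab : a ≠ b := hne _ _ ha hb (by decide)
  have hac : a ≠ c := hne _ _ ha hc (by decide)
  have had : a ≠ d := hne _ _ ha hd (by decide)
  have hbc : b ≠ c := hne _ _ hb hc (by decide)
  have hbd : b ≠ d := hne _ _ hb hd (by decide)
  have hcd : c ≠ d := hne _ _ hc hd (by decide)
  have hab' : a' ≠ b' := hne _ _ ha' hb' (by decide)
  have hac' : a' ≠ c' := hne _ _ ha' hc' (by decide)
  have had' : a' ≠ d' := hne _ _ ha' hd' (by decide)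
  have hbc' : b' ≠ c' := hne _ _ hb' hc' (by decide)
  have hbd' : b' ≠ d' := hne _ _ hb' hd' (by decide)
  have hcd' : c' ≠ d' := hne _ _ hc' hd' (by decide)
  have haa' : a ≠ a' := hne _ _ ha ha' (by decide)
  have hab'' : a ≠ b' := hne _ _ ha hb' (by decide)
  have hac'' : a ≠ c' := hne _ _ ha hc' (by decide)
  have had'' : a ≠ d' := hne _ _ ha hd' (by decide)
  have h5 := five_ne_zero (F := F) hq
  have hf1 : (1 : F) + f4 hD a b c d (u4 hD a b c d) ≠ 0 := by
    rw [f4_u4 hD hab hac had hbc hbd hcd]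
    have : (1 : F) + 4 = 5 := by norm_num
    rw [this]
    exact h5
  have hf2 : (1 : F) + f4 hD a' b' c' d' (u4 hD a' b' c' d') ≠ 0 := by
    rw [f4_u4 hD hab' hac' had' hbc' hbd' hcd']
    have : (1 : F) + 4 = 5 := by norm_num
    rw [this]
    exact h5
  obtain ⟨R1, hR1⟩ : ∃ R1, R1 = rkg (f4 hD a b c d) (u4 hD a b c d) hf1 := ⟨_, rfl⟩
  obtain ⟨R2, hR2⟩ : ∃ R2, R2 = rkg (f4 hD a' b' c' d') (u4 hD a' b' c' d') hf2 := ⟨_, rfl⟩
  have hR1K : R1 ∈ K0 hD := by
    intro x
    rw [hR1, rkg_mulVec]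
    exact wt_refl hD hq hab hac had hbc hbd hcd x
  have hR2K : R2 ∈ K0 hD := by
    intro x
    rw [hR2, rkg_mulVec]
    exact wt_refl hD hq hab' hac' had' hbc' hbd' hcd' x
  refine ⟨R1 * R2, (K0 hD).mul_mem hR1K hR2K, ?_, ?_⟩
  · show R1 * R2 ∈ (Matrix.GeneralLinearGroup.det : GL (Fin n) F →* Fˣ).ker
    rw [MonoidHom.mem_ker]
    apply Units.ext
    rw [map_mul, Units.val_mul, Matrix.GeneralLinearGroup.val_det_apply,
      Matrix.GeneralLinearGroup.val_det_apply, hR1, hR2, rkg_coe, rkg_coe, rk_det, rk_det,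
      f4_u4 hD hab hac had hbc hbd hcd, f4_u4 hD hab' hac' had' hbc' hbd' hcd', Units.val_one]
    have : (1 : F) + 4 = 5 := by norm_num
    rw [this]
    exact five_sq hq
  · intro hstab
    obtain ⟨k, hk⟩ := stab_maps hD hstab a 0
    have e0 : f4 hD a' b' c' d' (ev hD a 0) = 0 := by
      unfold f4
      simp only [LinearMap.add_apply, co_ev]
      simp [Ne.symm haa', Ne.symm hab'', Ne.symm hac'', Ne.symm had'']
    have e1 : f4 hD a b c d (ev hD a 0) = 1 := by
      unfold f4
      simp only [LinearMap.add_apply, co_ev]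
      simp [Ne.symm hab, Ne.symm hac, Ne.symm had]
    rw [Units.val_mul, ← Matrix.mulVec_mulVec, hR2, rkg_mulVec, e0, zero_smul, add_zero, hR1,
      rkg_mulVec, e1, one_smul] at hk
    refine not_mem_of_two hD hbc ?_ ?_ k hk
    · intro h0
      have h1 := (proj_eq_zero_iff hD b _).mp h0 0
      rw [map_add, co_u4 hD hab hac had hbc hbd hcd, co_ev, if_neg (fun h => hab h.1.symm)] at h1
      simp at h1
    · intro h0
      have h1 := (proj_eq_zero_iff hD c _).mp h0 0
      rw [map_add, co_u4 hD hab hac had hbc hbd hcd, co_ev, if_neg (fun h => hac h.1.symm)] at h1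
      simp at h1

end lines

/-! ### Planes over the field with two elements -/

section planes

variable (hD : IsMDecomposition 2 D)

open Cfsg.Agent.Lib.Helper27.TensorF2 in
theorem ind_proj2 [Fintype F] (hq : Fintype.card F = 2) (l : Fin t) (x : Fin n → F) :
    ind (proj hD l x) = co hD l 0 x + co hD l 0 x * co hD l 1 x + co hD l 1 x := by
  have h2 := two_eq_zero hq
  by_cases h : proj hD l x = 0
  · have h1 := (proj_eq_zero_iff hD l x).mp h
    rw [h, ind_zero, h1 0, h1 1]
    ring
  · rw [ind_of_ne h]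
    rcases f2_cases hq (co hD l 0 x) with h0 | h0 <;> rcases f2_cases hq (co hD l 1 x) with h1 | h1
    · exfalso
      apply h
      rw [proj_eq_zero_iff]
      intro j
      fin_cases j
      · exact h0
      · exact h1
    · rw [h0, h1]
      ring
    · rw [h0, h1]
      ring
    · rw [h0, h1]
      linear_combination (-1 : F) * h2

theorem wt_eq2 [Fintype F] (hq : Fintype.card F = 2) (x : Fin n → F) :
    wt hD x = ∑ l, (co hD l 0 x + co hD l 0 x * co hD l 1 x + co hD l 1 x) := by
  unfold wt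
  apply Finset.sum_congr rfl
  intro l _
  exact ind_proj2 hD hq l x

/-- The sum of three second coordinate functionals. -/
noncomputable def f3 (a b c : Fin t) : (Fin n → F) →ₗ[F] F :=
  co hD a 1 + co hD b 1 + co hD c 1

/-- The sum of three first basis vectors. -/
noncomputable def u3 (a b c : Fin t) : Fin n → F :=
  ev hD a 0 + ev hD b 0 + ev hD c 0

theorem co0_u3 {a b c : Fin t} (hab : a ≠ b) (hac : a ≠ c) (hbc : b ≠ c) (l : Fin t) :
    co hD l 0 (u3 hD a b c) = if l = a ∨ l = b ∨ l = c then 1 else 0 := by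
  unfold u3
  simp only [map_add, co_ev, and_true]
  by_cases h1 : l = a
  · subst h1
    simp [hab, hac]
  by_cases h2 : l = b
  · subst h2
    simp [h1, hbc]
  by_cases h3 : l = c
  · subst h3
    simp [h1, h2]
  · simp [h1, h2, h3]

theorem co1_u3 (a b c : Fin t) (l : Fin t) : co hD l 1 (u3 hD a b c) = 0 := by
  unfold u3
  have h10 : ¬ ((1 : Fin 2) = 0) := by decide
  simp only [map_add, co_ev, h10, and_false, if_false, add_zero]

theorem f3_u3 (a b c : Fin t) : f3 hD a b c (u3 hD a b c) = 0 := by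
  unfold f3
  simp only [LinearMap.add_apply, co1_u3, add_zero]

open Cfsg.Agent.Lib.Helper27.TensorF2 in
theorem wt_transv [Fintype F] (hq : Fintype.card F = 2) {a b c : Fin t} (hab : a ≠ b)
    (hac : a ≠ c) (hbc : b ≠ c) (x : Fin n → F) :
    wt hD (x + f3 hD a b c x • u3 hD a b c) = wt hD x := by
  classical
  have h2 := two_eq_zero hq
  rw [wt_eq2 hD hq, wt_eq2 hD hq, ← sub_eq_zero, ← Finset.sum_sub_distrib]
  have hsub : ({a, b, c} : Finset (Fin t)) ⊆ Finset.univ := Finset.subset_univ _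
  rw [← Finset.sum_subset hsub]
  · rw [Finset.sum_insert (by simp [hab, hac]), Finset.sum_insert (by simp [hbc]),
      Finset.sum_singleton]
    simp only [map_add, map_smul, smul_eq_mul, co0_u3 hD hab hac hbc, co1_u3]
    simp only [true_or, or_true, if_true, mul_one, mul_zero, add_zero]
    have hs : f3 hD a b c x = co hD a 1 x + co hD b 1 x + co hD c 1 x := by
      unfold f3
      simp only [LinearMap.add_apply]
    rw [hs]
    obtain ⟨s, hs'⟩ : ∃ s, s = co hD a 1 x + co hD b 1 x + co hD c 1 x := ⟨_, rfl⟩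
    have hss : s * s = s := by
      rcases f2_cases hq s with h | h <;> rw [h] <;> ring
    rw [← hs']
    linear_combination (2 * s) * h2 + hss - s * hs'
  · intro l _ hl
    have hl' : ¬ (l = a ∨ l = b ∨ l = c) := by
      intro h
      apply hl
      simp only [Finset.mem_insert, Finset.mem_singleton]
      exact h
    simp only [map_add, map_smul, smul_eq_mul, co0_u3 hD hab hac hbc, co1_u3, if_neg hl',
      mul_zero, add_zero, sub_self]

/-- For planes over the field with two elements, some weight-preserving element of the special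
linear group does not stabilise the decomposition. -/
theorem exists_planes [Fintype F] (hq : Fintype.card F = 2) (ht : 3 ≤ t) :
    ∃ g : GL (Fin n) F, g ∈ K0 hD ∧ g ∈ specialLinear (Fin n) F ∧
      g ∉ decompositionStabilizer D := by
  obtain ⟨a, ha⟩ : ∃ a : Fin t, a = ⟨0, by omega⟩ := ⟨_, rfl⟩
  obtain ⟨b, hb⟩ : ∃ b : Fin t, b = ⟨1, by omega⟩ := ⟨_, rfl⟩
  obtain ⟨c, hc⟩ : ∃ c : Fin t, c = ⟨2, by omega⟩ := ⟨_, rfl⟩
  have hne : ∀ {x y : Fin t} {i j : ℕ} (hi : i < t) (hj : j < t), x = ⟨i, hi⟩ → y = ⟨j, hj⟩ →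
      i ≠ j → x ≠ y := by
    intro x y i j hi hj hx hy hij h
    rw [hx, hy] at h
    exact hij (congrArg Fin.val h)
  have hab : a ≠ b := hne _ _ ha hb (by decide)
  have hac : a ≠ c := hne _ _ ha hc (by decide)
  have hbc : b ≠ c := hne _ _ hb hc (by decide)
  have hf : (1 : F) + f3 hD a b c (u3 hD a b c) ≠ 0 := by
    rw [f3_u3, add_zero]
    exact one_ne_zero
  refine ⟨rkg (f3 hD a b c) (u3 hD a b c) hf, ?_, rkg_mem_SL _ _ hf (f3_u3 hD a b c), ?_⟩
  · intro x
    rw [rkg_mulVec]
    exact wt_transv hD hq hab hac hbc x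
  · intro hstab
    obtain ⟨k, hk⟩ := stab_maps hD hstab a 1
    have e1 : f3 hD a b c (ev hD a 1) = 1 := by
      unfold f3
      simp only [LinearMap.add_apply, co_ev]
      simp [Ne.symm hab, Ne.symm hac]
    rw [rkg_mulVec, e1, one_smul] at hk
    refine not_mem_of_two hD hbc ?_ ?_ k hk
    · intro h0
      have h1 := (proj_eq_zero_iff hD b _).mp h0 0
      rw [map_add, co0_u3 hD hab hac hbc, co_ev, if_neg (fun h => hab h.1.symm)] at h1
      simp at h1
    · intro h0
      have h1 := (proj_eq_zero_iff hD c _).mp h0 0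
      rw [map_add, co0_u3 hD hab hac hbc, co_ev, if_neg (fun h => hac h.1.symm)] at h1
      simp at h1

end planes

end Cfsg.Agent.Lib.Helper27.LinDecomp
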