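import Mathlib
import Cfsg.Agent.Lib.Helper21.GolayOctSplit
import Cfsg.Agent.Lib.Helper21.GolayOctA8
import Cfsg.Agent.Lib.Helper21.GolayTrioOrb

/-! # The octad stabilizer `2^4 : A_8` in `M24`: faithfulness of the complement -/

set_option autoImplicit false
set_option linter.style.haveILetI false

namespace Cfsg.Agent.Lib.Helper27.M24Oct

open Cfsg Cfsg.Agent.Lib.Helper21
open scoped Pointwise

theorem octChk_disj : octChk 11952160 := by decide +kernel

theorem exists_disjoint_octad (o : Finset GolayPt) (ho : o ∈ octads) :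
    ∃ o' ∈ octads, Disjoint o o' := by
  obtain ⟨k, hk⟩ := octads_transitive oct0 o oct0_mem ho
  have hk' : (k : Equiv.Perm GolayPt) • oct0 = o := hk
  refine ⟨(k : Equiv.Perm GolayPt) • maskFS 11952160,
    smul_mem_octads k.2 (maskFS_mem_octads_of_chk octChk_disj), ?_⟩
  rw [← hk']
  have hd : Disjoint oct0 (maskFS 11952160) := by
    unfold oct0
    exact disjoint_maskFS (by decide)
  rw [Finset.disjoint_left] at hd ⊢
  intro x hx hx'
  rw [← Finset.inv_smul_mem_iff] at hx hx'
  exact hd hx hx'

/-- An element of `M24` fixing all points outside an octad is trivial. -/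
theorem eq_one_of_fix_compl (o : Finset GolayPt) (ho : o ∈ octads) (g : Equiv.Perm GolayPt)
    (hg : g ∈ M24) (hfix : ∀ x, x ∉ o → g x = x) : g = 1 := by
  obtain ⟨o', ho', hd⟩ := exists_disjoint_octad o ho
  have hcard : (o ∪ o').card < Fintype.card GolayPt := by
    have h1 := Finset.card_union_le o o'
    have h2 := octad_card o ho
    have h3 := octad_card o' ho'
    have h4 : Fintype.card GolayPt = 24 := by decide
    omega
  obtain ⟨p', hp'⟩ : ∃ p', p' ∉ o ∪ o' := by
    by_contra hcon
    push Not at hcon
    have : o ∪ o' = Finset.univ := Finset.eq_univ_iff_forall.2 hcon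
    rw [this, Finset.card_univ] at hcard
    exact lt_irrefl _ hcard
  rw [Finset.mem_union, not_or] at hp'
  apply eq_one_of_fix_octad_pt o' ho' p' hp'.2 g hg
  · intro x hx
    exact hfix x (fun hxo => Finset.disjoint_left.1 hd hxo hx)
  · exact hfix p' hp'.1

/-- The complement `M` of the octad stabilizer acts faithfully on the translation group. -/
theorem faithful (o : Finset GolayPt) (ho : o ∈ octads) (p : GolayPt) (hp : p ∉ o)
    (m : Equiv.Perm GolayPt) (hm : m ∈ M24) (hmp : m p = p)
    (hcomm : ∀ u ∈ M24, (∀ x ∈ o, u x = x) → m * u = u * m) : m = 1 := by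
  apply eq_one_of_fix_compl o ho m hm
  intro q hq
  obtain ⟨t, ht, hto, htp⟩ := octad_fix_trans o ho p q hp hq
  have h1 := hcomm t ht hto
  have h2 := congrArg (fun f : Equiv.Perm GolayPt => f p) h1
  simp only [Equiv.Perm.mul_apply] at h2
  rw [htp, hmp, htp] at h2
  exact h2

end Cfsg.Agent.Lib.Helper27.M24Oct
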