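import Mathlib

/-! # Centralizer of a transvection in `SL_{n+2}(2)`: block-matrix model -/

set_option autoImplicit false

namespace Cfsg.Agent.Lib.Helper27.TvCent

open Matrix

/-- The block matrix `[[1, c, a], [0, 1, 0], [0, b, M]]` in the basis order `0, 1, 2..`. -/
def mk {n : ℕ} (M : Matrix (Fin n) (Fin n) (ZMod 2)) (a b : Fin n → ZMod 2) (c : ZMod 2) :
    Matrix (Fin (n + 2)) (Fin (n + 2)) (ZMod 2) :=
  fun i j =>
    Fin.cases (Fin.cases 1 (Fin.cases c a) j)
      (Fin.cases (Fin.cases 0 (Fin.cases 1 (fun _ => 0)) j)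
        (fun i'' => Fin.cases 0 (Fin.cases (b i'') (M i'')) j)) i

variable {n : ℕ} (M M' : Matrix (Fin n) (Fin n) (ZMod 2)) (a b a' b' : Fin n → ZMod 2) (c c' : ZMod 2)

@[simp] theorem mk_00 : mk M a b c 0 0 = 1 := rfl
@[simp] theorem mk_01 : mk M a b c 0 1 = c := rfl
@[simp] theorem mk_01' : mk M a b c 0 (Fin.succ 0) = c := rfl
@[simp] theorem mk_0s (j : Fin n) : mk M a b c 0 j.succ.succ = a j := rfl
@[simp] theorem mk_10 : mk M a b c 1 0 = 0 := rfl
@[simp] theorem mk_10' : mk M a b c (Fin.succ 0) 0 = 0 := rfl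
@[simp] theorem mk_11 : mk M a b c 1 1 = 1 := rfl
@[simp] theorem mk_11' : mk M a b c (Fin.succ 0) (Fin.succ 0) = 1 := rfl
@[simp] theorem mk_11'' : mk M a b c (Fin.succ 0) 1 = 1 := rfl
@[simp] theorem mk_11''' : mk M a b c 1 (Fin.succ 0) = 1 := rfl
@[simp] theorem mk_1s (j : Fin n) : mk M a b c 1 j.succ.succ = 0 := rfl
@[simp] theorem mk_1s' (j : Fin n) : mk M a b c (Fin.succ 0) j.succ.succ = 0 := rfl
@[simp] theorem mk_s0 (i : Fin n) : mk M a b c i.succ.succ 0 = 0 := rfl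
@[simp] theorem mk_s1 (i : Fin n) : mk M a b c i.succ.succ 1 = b i := rfl
@[simp] theorem mk_s1' (i : Fin n) : mk M a b c i.succ.succ (Fin.succ 0) = b i := rfl
@[simp] theorem mk_ss (i j : Fin n) : mk M a b c i.succ.succ j.succ.succ = M i j := rfl

theorem mk_mul_mk : mk M a b c * mk M' a' b' c' =
    mk (M * M') (a' + a ᵥ* M') (M *ᵥ b' + b) (c + c' + a ⬝ᵥ b') := by
  ext i j
  refine Fin.cases ?_ (fun i => Fin.cases ?_ (fun i => ?_) i) i <;>
  refine Fin.cases ?_ (fun j => Fin.cases ?_ (fun j => ?_) j) j <;>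
  (simp [Matrix.mul_apply, Fin.sum_univ_succ, dotProduct, Matrix.mulVec, Matrix.vecMul, add_comm] <;>
    try ring)

theorem mk_one_zero : mk (1 : Matrix (Fin n) (Fin n) (ZMod 2)) 0 0 0 = 1 := by
  ext i j
  refine Fin.cases ?_ (fun i => Fin.cases ?_ (fun i => ?_) i) i <;>
  refine Fin.cases ?_ (fun j => Fin.cases ?_ (fun j => ?_) j) j <;>
  simp [Matrix.one_apply, Fin.succ_ne_zero, Fin.ext_iff]

theorem transvection_eq_mk :
    Matrix.transvection (0 : Fin (n + 2)) 1 (1 : ZMod 2) = mk (1 : Matrix (Fin n) (Fin n) (ZMod 2)) 0 0 1 := by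
  ext i j
  refine Fin.cases ?_ (fun i => Fin.cases ?_ (fun i => ?_) i) i <;>
  refine Fin.cases ?_ (fun j => Fin.cases ?_ (fun j => ?_) j) j <;>
  simp [Matrix.transvection, Matrix.one_apply, Matrix.single_apply, Fin.succ_ne_zero, Fin.ext_iff]

theorem det_mk : (mk M a b c).det = M.det := by
  rw [Matrix.det_succ_column_zero, Fin.sum_univ_succ]
  have h0 : ∀ i : Fin (n + 1), mk M a b c i.succ 0 = 0 := by
    intro i
    refine Fin.cases ?_ (fun i => ?_) i <;> simp
  simp only [h0, mul_zero, zero_mul, Finset.sum_const_zero, add_zero, Fin.val_zero, pow_zero,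
    one_mul, mk_00, Fin.succAbove_zero]
  rw [Matrix.det_succ_row_zero, Fin.sum_univ_succ]
  have h1 : ∀ j : Fin n, (mk M a b c).submatrix Fin.succ Fin.succ 0 j.succ = 0 := by
    intro j; simp
  simp only [h1, mul_zero, zero_mul, Finset.sum_const_zero, add_zero, Fin.val_zero, pow_zero,
    one_mul, Fin.succAbove_zero]
  have h2 : (mk M a b c).submatrix Fin.succ Fin.succ 0 0 = 1 := by simp
  rw [h2, one_mul]
  congr 1

/-- the middle block -/
def mid (A : Matrix (Fin (n + 2)) (Fin (n + 2)) (ZMod 2)) : Matrix (Fin n) (Fin n) (ZMod 2) :=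
  fun i j => A i.succ.succ j.succ.succ
/-- the top row part -/
def rowA (A : Matrix (Fin (n + 2)) (Fin (n + 2)) (ZMod 2)) : Fin n → ZMod 2 :=
  fun j => A 0 j.succ.succ
/-- the column part -/
def colB (A : Matrix (Fin (n + 2)) (Fin (n + 2)) (ZMod 2)) : Fin n → ZMod 2 :=
  fun i => A i.succ.succ 1
/-- the corner -/
def cor (A : Matrix (Fin (n + 2)) (Fin (n + 2)) (ZMod 2)) : ZMod 2 := A 0 1

@[simp] theorem mid_mk : mid (mk M a b c) = M := rfl
@[simp] theorem rowA_mk : rowA (mk M a b c) = a := rfl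
@[simp] theorem colB_mk : colB (mk M a b c) = b := rfl
@[simp] theorem cor_mk : cor (mk M a b c) = c := rfl

theorem mk_inj (h : mk M a b c = mk M' a' b' c') : M = M' ∧ a = a' ∧ b = b' ∧ c = c' := by
  refine ⟨?_, ?_, ?_, ?_⟩
  · simpa using congrArg mid h
  · simpa using congrArg rowA h
  · simpa using congrArg colB h
  · simpa using congrArg cor h

/-- A matrix with first column `e₀` and second row `e₁ᵀ` is of the block form. -/
theorem eq_mk_of_entries (A : Matrix (Fin (n + 2)) (Fin (n + 2)) (ZMod 2))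
    (h00 : A 0 0 = 1) (h11 : A 1 1 = 1) (hc : ∀ i, i ≠ 0 → A i 0 = 0) (hr : ∀ j, j ≠ 1 → A 1 j = 0) :
    A = mk (mid A) (rowA A) (colB A) (cor A) := by
  ext i j
  refine Fin.cases ?_ (fun i => Fin.cases ?_ (fun i => ?_) i) i <;>
  refine Fin.cases ?_ (fun j => Fin.cases ?_ (fun j => ?_) j) j
  · simpa using h00
  · simp [cor]
  · simp [rowA]
  · simpa using hc 1 (by simp)
  · simpa using h11
  · simpa using hr j.succ.succ (by simp [Fin.ext_iff])
  · simpa using hc i.succ.succ (by simp [Fin.ext_iff])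
  · simp [colB]
  · simp [mid]

end Cfsg.Agent.Lib.Helper27.TvCent
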