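import Mathlib
import Cfsg.Agent.Lib.Helper27.TvCentA

/-! # Centralizer of a transvection in `SL_{n+2}(2)`: group structure -/

set_option autoImplicit false

namespace Cfsg.Agent.Lib.Helper27.TvCent

open Matrix

variable {n : ℕ}

/-- The ambient group. -/
abbrev GG (n : ℕ) := Matrix.SpecialLinearGroup (Fin (n + 2)) (ZMod 2)
/-- The Levi quotient. -/
abbrev LL (n : ℕ) := Matrix.SpecialLinearGroup (Fin n) (ZMod 2)

/-- `SL` element from block data. -/
def mkSL (M : LL n) (a b : Fin n → ZMod 2) (c : ZMod 2) : GG n :=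
  ⟨mk M.1 a b c, by rw [det_mk]; exact M.2⟩

@[simp] theorem coe_mkSL (M : LL n) (a b : Fin n → ZMod 2) (c : ZMod 2) :
    ((mkSL M a b c : GG n) : Matrix (Fin (n + 2)) (Fin (n + 2)) (ZMod 2)) = mk M.1 a b c := rfl

theorem mkSL_mul (M M' : LL n) (a b a' b' : Fin n → ZMod 2) (c c' : ZMod 2) :
    mkSL M a b c * mkSL M' a' b' c' =
      mkSL (M * M') (a' + a ᵥ* M'.1) (M.1 *ᵥ b' + b) (c + c' + a ⬝ᵥ b') := by
  apply Subtype.ext
  simp [mk_mul_mk]

theorem mkSL_one : mkSL (1 : LL n) 0 0 0 = 1 := by
  apply Subtype.ext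
  simp [mk_one_zero]

/-- the transvection -/
def zz (n : ℕ) : GG n := mkSL 1 0 0 1

theorem coe_zz : ((zz n : GG n) : Matrix (Fin (n + 2)) (Fin (n + 2)) (ZMod 2)) =
    Matrix.transvection 0 1 1 := by
  rw [transvection_eq_mk]; rfl

theorem zmod2_eq_one_of_ne_zero : ∀ x : ZMod 2, x ≠ 0 → x = 1 := by decide

theorem zmod2_add_self (x : ZMod 2) : x + x = 0 := CharTwo.add_self_eq_zero x

/-- Entry characterization of the centralizer of the transvection. -/
theorem mem_centralizer_iff (g : GG n) :
    g ∈ Subgroup.centralizer ({zz n} : Set (GG n)) ↔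
      (∀ i, i ≠ 0 → g.1 i 0 = 0) ∧ (∀ j, j ≠ 1 → g.1 1 j = 0) := by
  rw [Subgroup.mem_centralizer_singleton_iff]
  constructor
  · intro h
    have h' : g.1 * (zz n).1 = (zz n).1 * g.1 := by
      have := congrArg Subtype.val h
      simpa using this
    rw [coe_zz, Matrix.transvection, mul_add, add_mul, mul_one, one_mul] at h'
    have h'' : g.1 * Matrix.single 0 1 1 = Matrix.single 0 1 1 * g.1 := add_left_cancel h'
    constructor
    · intro i hi
      have := congrFun (congrFun h'' i) 1
      rw [Matrix.mul_single_apply_same, Matrix.single_mul_apply_of_ne _ _ _ _ _ hi] at this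
      simpa using this
    · intro j hj
      have := congrFun (congrFun h'' 0) j
      rw [Matrix.single_mul_apply_same, Matrix.mul_single_apply_of_ne _ _ _ _ _ hj] at this
      simpa using this.symm
  · rintro ⟨hc, hr⟩
    have h00 : g.1 0 0 = 1 := by
      apply zmod2_eq_one_of_ne_zero
      intro h0
      have : g.1.det = 0 := by
        apply Matrix.det_eq_zero_of_column_eq_zero 0
        intro i
        by_cases hi : i = 0
        · rw [hi]; exact h0
        · exact hc i hi
      rw [g.2] at this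
      exact one_ne_zero this
    have h11 : g.1 1 1 = 1 := by
      apply zmod2_eq_one_of_ne_zero
      intro h0
      have : g.1.det = 0 := by
        apply Matrix.det_eq_zero_of_row_eq_zero 1
        intro j
        by_cases hj : j = 1
        · rw [hj]; exact h0
        · exact hr j hj
      rw [g.2] at this
      exact one_ne_zero this
    have hg := eq_mk_of_entries g.1 h00 h11 hc hr
    apply Subtype.ext
    show g.1 * (zz n).1 = (zz n).1 * g.1
    rw [hg]
    show mk _ _ _ _ * mk _ _ _ _ = mk _ _ _ _ * mk _ _ _ _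
    rw [mk_mul_mk, mk_mul_mk]
    simp [add_comm]

theorem entries_of_mem {g : GG n} (hg : g ∈ Subgroup.centralizer ({zz n} : Set (GG n))) :
    g.1 0 0 = 1 ∧ g.1 1 1 = 1 ∧ (∀ i, i ≠ 0 → g.1 i 0 = 0) ∧ (∀ j, j ≠ 1 → g.1 1 j = 0) := by
  obtain ⟨hc, hr⟩ := (mem_centralizer_iff g).1 hg
  refine ⟨?_, ?_, hc, hr⟩
  · apply zmod2_eq_one_of_ne_zero
    intro h0
    have : g.1.det = 0 := by
      apply Matrix.det_eq_zero_of_column_eq_zero 0
      intro i
      by_cases hi : i = 0
      · rw [hi]; exact h0
      · exact hc i hi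
    rw [g.2] at this
    exact one_ne_zero this
  · apply zmod2_eq_one_of_ne_zero
    intro h0
    have : g.1.det = 0 := by
      apply Matrix.det_eq_zero_of_row_eq_zero 1
      intro j
      by_cases hj : j = 1
      · rw [hj]; exact h0
      · exact hr j hj
    rw [g.2] at this
    exact one_ne_zero this

theorem eq_mk_of_mem {g : GG n} (hg : g ∈ Subgroup.centralizer ({zz n} : Set (GG n))) :
    g.1 = mk (mid g.1) (rowA g.1) (colB g.1) (cor g.1) := by
  obtain ⟨h00, h11, hc, hr⟩ := entries_of_mem hg
  exact eq_mk_of_entries g.1 h00 h11 hc hr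

theorem det_mid_of_mem {g : GG n} (hg : g ∈ Subgroup.centralizer ({zz n} : Set (GG n))) :
    (mid g.1).det = 1 := by
  have h := g.2
  rw [eq_mk_of_mem hg, det_mk] at h
  exact h

theorem mkSL_mem (M : LL n) (a b : Fin n → ZMod 2) (c : ZMod 2) :
    mkSL M a b c ∈ Subgroup.centralizer ({zz n} : Set (GG n)) := by
  rw [mem_centralizer_iff]
  constructor
  · intro i hi
    revert hi
    refine Fin.cases ?_ (fun i => Fin.cases ?_ (fun i => ?_) i) i <;> simp
  · intro j hj
    revert hj
    refine Fin.cases ?_ (fun j => Fin.cases ?_ (fun j => ?_) j) j <;> simp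

theorem exists_mkSL_of_mem {g : GG n} (hg : g ∈ Subgroup.centralizer ({zz n} : Set (GG n))) :
    g = mkSL ⟨mid g.1, det_mid_of_mem hg⟩ (rowA g.1) (colB g.1) (cor g.1) := by
  apply Subtype.ext
  exact eq_mk_of_mem hg

/-- The projection of the centralizer onto the Levi factor. -/
def midHom (n : ℕ) : ↥(Subgroup.centralizer ({zz n} : Set (GG n))) →* LL n where
  toFun g := ⟨mid g.1.1, det_mid_of_mem g.2⟩
  map_one' := by
    apply Subtype.ext
    show mid (1 : Matrix (Fin (n + 2)) (Fin (n + 2)) (ZMod 2)) = 1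
    rw [← mk_one_zero, mid_mk]
  map_mul' g h := by
    apply Subtype.ext
    show mid (g.1.1 * h.1.1) = mid g.1.1 * mid h.1.1
    rw [eq_mk_of_mem g.2, eq_mk_of_mem h.2, mk_mul_mk]
    simp

@[simp] theorem midHom_apply (g : ↥(Subgroup.centralizer ({zz n} : Set (GG n)))) :
    ((midHom n g : LL n) : Matrix (Fin n) (Fin n) (ZMod 2)) = mid g.1.1 := rfl

/-- The diagonal embedding of the Levi factor. -/
def diagHom (n : ℕ) : LL n →* GG n where
  toFun M := mkSL M 0 0 0
  map_one' := mkSL_one
  map_mul' M M' := by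
    rw [mkSL_mul]
    simp

/-- The diagonal embedding of the Levi factor into the centralizer. -/
def diagHom' (n : ℕ) : LL n →* ↥(Subgroup.centralizer ({zz n} : Set (GG n))) :=
  (diagHom n).codRestrict _ (fun M => mkSL_mem M 0 0 0)

theorem midHom_diagHom' (M : LL n) : midHom n (diagHom' n M) = M := by
  apply Subtype.ext
  rfl

theorem midHom_surjective : Function.Surjective (midHom n) :=
  fun M => ⟨diagHom' n M, midHom_diagHom' M⟩

theorem diagHom_injective : Function.Injective (diagHom n) := by
  intro M M' h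
  have := congrArg (fun g : GG n => mid g.1) h
  apply Subtype.ext
  simpa [diagHom] using this

end Cfsg.Agent.Lib.Helper27.TvCent
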