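import Mathlib

/-! # Two general lemmas on `SL_n(2)`:
* a normal 2-subgroup of `SL_n(2)`, `n ≥ 2`, is trivial;
* an odd-order subgroup normalized by a transvection-like involution. -/

set_option autoImplicit false

namespace Cfsg.Agent.Lib.Helper27.TvCent

open Matrix
open scoped commutatorElement

theorem zmod2_eq_one_of_ne_zero' : ∀ x : ZMod 2, x ≠ 0 → x = 1 := by decide

section O2

variable {n : ℕ}

/-- A normal `2`-subgroup of `SL_n(2)` is trivial when `n ≥ 2`. -/
theorem normal_two_subgroup_eq_bot (hn : 2 ≤ n)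
    (N : Subgroup (Matrix.SpecialLinearGroup (Fin n) (ZMod 2))) [hNn : N.Normal]
    (hN : IsPGroup 2 N) : N = ⊥ := by
  classical
  haveI : Fact (Nat.Prime 2) := ⟨Nat.prime_two⟩
  -- the set of fixed vectors
  let W : Set (Fin n → ZMod 2) := {v | ∀ g ∈ N, g.1 *ᵥ v = v}
  have hW0 : (0 : Fin n → ZMod 2) ∈ W := fun g _ => Matrix.mulVec_zero _
  have hWadd : ∀ v w, v ∈ W → w ∈ W → v + w ∈ W := by
    intro v w hv hw g hg
    rw [Matrix.mulVec_add, hv g hg, hw g hg]
  have hWG : ∀ (h : Matrix.SpecialLinearGroup (Fin n) (ZMod 2)) v, v ∈ W → h.1 *ᵥ v ∈ W := by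
    intro h v hv g hg
    have h1 : h⁻¹ * g * h⁻¹⁻¹ ∈ N := hNn.conj_mem g hg h⁻¹
    have h2 := hv _ h1
    have h3 : g = h * (h⁻¹ * g * h⁻¹⁻¹) * h⁻¹ := by group
    have h4 : g.1 * h.1 = h.1 * (h⁻¹ * g * h⁻¹⁻¹).1 := by
      have : g * h = h * (h⁻¹ * g * h⁻¹⁻¹) := by group
      have := congrArg Subtype.val this
      simpa using this
    rw [Matrix.mulVec_mulVec, h4, ← Matrix.mulVec_mulVec, h2]
  -- a nonzero fixed vector
  have hcard : 2 ∣ Nat.card (Fin n → ZMod 2) := by
    rw [Nat.card_fun, Nat.card_zmod, Nat.card_fin]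
    exact dvd_pow_self 2 (by omega)
  have h0fix : (0 : Fin n → ZMod 2) ∈ MulAction.fixedPoints ↥N (Fin n → ZMod 2) := by
    intro g
    exact smul_zero g
  obtain ⟨w, hwfix, hw0⟩ :=
    hN.exists_fixed_point_of_prime_dvd_card_of_fixed_point (Fin n → ZMod 2) hcard h0fix
  have hwW : w ∈ W := by
    intro g hg
    exact hwfix ⟨g, hg⟩
  -- transvections
  have htr : ∀ v, v ∈ W → ∀ i j : Fin n, i ≠ j → v j = 1 → Pi.single i (1 : ZMod 2) ∈ W := by
    intro v hv i j hij hvj
    have h1 := hWG ⟨Matrix.transvection i j 1, Matrix.det_transvection_of_ne i j hij 1⟩ v hv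
    have h2 : (Matrix.transvection i j (1 : ZMod 2)) *ᵥ v = v + Pi.single i 1 := by
      rw [Matrix.transvection, Matrix.add_mulVec, Matrix.one_mulVec, Matrix.single_mulVec, hvj,
        mul_one]
      congr 1
    change (Matrix.transvection i j (1 : ZMod 2)) *ᵥ v ∈ W at h1
    rw [h2] at h1
    have h3 := hWadd _ _ hv h1
    have h4 : v + (v + Pi.single i 1) = Pi.single i (1 : ZMod 2) := by
      have hvv : v + v = 0 := funext fun k => CharTwo.add_self_eq_zero (v k)
      rw [← add_assoc, hvv, zero_add]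
    rwa [h4] at h3
  obtain ⟨j, hj⟩ : ∃ j, w j ≠ 0 := by
    by_contra hcon
    push Not at hcon
    exact hw0 (funext fun j => (hcon j).symm)
  have hwj : w j = 1 := zmod2_eq_one_of_ne_zero' _ hj
  obtain ⟨i₀, hi₀⟩ : ∃ i₀ : Fin n, i₀ ≠ j := by
    by_cases hj0 : j = ⟨0, by omega⟩
    · exact ⟨⟨1, by omega⟩, by rw [hj0]; simp [Fin.ext_iff]⟩
    · exact ⟨⟨0, by omega⟩, fun h => hj0 h.symm⟩
  have he0 : Pi.single i₀ (1 : ZMod 2) ∈ W := htr w hwW i₀ j hi₀ hwj
  have hall : ∀ i : Fin n, Pi.single i (1 : ZMod 2) ∈ W := by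
    intro i
    by_cases hi : i = i₀
    · rw [hi]; exact he0
    · exact htr _ he0 i i₀ hi (by simp)
  rw [eq_bot_iff]
  intro g hg
  rw [Subgroup.mem_bot]
  apply Subtype.ext
  ext i k
  have := congrFun (hall k g hg) i
  rw [Matrix.mulVec_single_one] at this
  simpa [Matrix.one_apply, Pi.single_apply] using this

end O2

section OddComm

variable {ι : Type*} [Fintype ι] [DecidableEq ι]

theorem add_self_matrix (X : Matrix ι ι (ZMod 2)) : X + X = 0 := by
  ext i j
  exact CharTwo.add_self_eq_zero _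

/-- If `X² = 0` then `(1+X)² = 1` over `𝔽₂`. -/
theorem one_add_sq (X : Matrix ι ι (ZMod 2)) : (1 + X) * (1 + X) = 1 + X * X := by
  rw [mul_add, add_mul, add_mul, one_mul, mul_one, one_mul, add_assoc, ← add_assoc X X,
    add_self_matrix, zero_add]

/-- An odd-order subgroup `K` normalized by the involution `t = 1 + a bᵀ`; if `k ∈ K` is such
that `bᵀ k a = 0` then `k` commutes with `t`. -/
theorem commute_of_odd (K : Subgroup (Matrix.SpecialLinearGroup ι (ZMod 2)))
    (hK : Odd (Nat.card K)) (a b : ι → ZMod 2) (hab : b ⬝ᵥ a = 0)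
    (t : Matrix.SpecialLinearGroup ι (ZMod 2)) (ht : t.1 = 1 + Matrix.vecMulVec a b)
    (htK : t ∈ Subgroup.normalizer (K : Set (Matrix.SpecialLinearGroup ι (ZMod 2))))
    (k : Matrix.SpecialLinearGroup ι (ZMod 2)) (hk : k ∈ K)
    (hkab : b ⬝ᵥ (k.1 *ᵥ a) = 0) : t * k = k * t := by
  set X : Matrix ι ι (ZMod 2) := Matrix.vecMulVec a b with hX
  have hXX : X * X = 0 := by
    rw [hX, Matrix.vecMulVec_mul_vecMulVec, hab, zero_smul, Matrix.vecMulVec_zero]
  have htt : t * t = 1 := by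
    apply Subtype.ext
    show t.1 * t.1 = 1
    rw [ht, one_add_sq, hXX, add_zero]
  have htinv : t⁻¹ = t := inv_eq_of_mul_eq_one_left htt
  have hk1 : k.1 * (k⁻¹).1 = 1 := congrArg Subtype.val (mul_inv_cancel k)
  have hk2 : (k⁻¹).1 * k.1 = 1 := congrArg Subtype.val (inv_mul_cancel k)
  set Y : Matrix ι ι (ZMod 2) := k.1 * X * (k⁻¹).1 with hY
  have hXkX : X * k.1 * X = 0 := by
    rw [hX, Matrix.vecMulVec_mul, Matrix.vecMulVec_mul_vecMulVec, ← Matrix.dotProduct_mulVec,
      hkab, zero_smul, Matrix.vecMulVec_zero]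
  have hXY : X * Y = 0 := by
    rw [hY, ← mul_assoc, ← mul_assoc, hXkX, zero_mul]
  have hYY : Y * Y = 0 := by
    rw [hY]
    calc k.1 * X * (k⁻¹).1 * (k.1 * X * (k⁻¹).1)
        = k.1 * X * ((k⁻¹).1 * k.1) * X * (k⁻¹).1 := by simp only [mul_assoc]
      _ = k.1 * (X * X) * (k⁻¹).1 := by rw [hk2, mul_one]; simp only [mul_assoc]
      _ = 0 := by rw [hXX, mul_zero, zero_mul]
  -- the commutator
  set u : Matrix.SpecialLinearGroup ι (ZMod 2) := ⁅t, k⁆ with hu
  have huK : u ∈ K := by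
    rw [hu, commutatorElement_def]
    exact K.mul_mem (((Subgroup.mem_normalizer_iff).1 htK k).1 hk) (K.inv_mem hk)
  have hu1 : u.1 = 1 + (X + Y) := by
    have : u = t * (k * t * k⁻¹) := by
      rw [hu, commutatorElement_def, htinv]; group
    rw [this]
    show t.1 * (k.1 * t.1 * (k⁻¹).1) = _
    have h1 : k.1 * t.1 * (k⁻¹).1 = 1 + Y := by
      rw [ht, mul_add, add_mul, mul_one, hk1]
    rw [h1, ht]
    have h2 : (1 + X) * (1 + Y) = 1 + (X + Y) + X * Y := by noncomm_ring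
    rw [h2, hXY, add_zero]
  have hWW : (X + Y) * (X + Y) = Y * X := by
    have h2 : (X + Y) * (X + Y) = X * X + X * Y + Y * X + Y * Y := by noncomm_ring
    rw [h2, hXX, hXY, hYY, zero_add, add_zero, zero_add]
  have hu2 : (u * u).1 = 1 + Y * X := by
    show u.1 * u.1 = _
    rw [hu1, one_add_sq, hWW]
  have hu4 : (u * u) * (u * u) = 1 := by
    apply Subtype.ext
    show (u * u).1 * (u * u).1 = 1
    rw [hu2, one_add_sq]
    have : Y * X * (Y * X) = 0 := by
      calc Y * X * (Y * X) = Y * (X * Y) * X := by simp only [mul_assoc]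
        _ = 0 := by rw [hXY, mul_zero, zero_mul]
    rw [this, add_zero]
  have hu4' : u ^ 4 = 1 := by
    have : u ^ 4 = (u * u) * (u * u) := by
      rw [show (4 : ℕ) = 2 + 2 from rfl, pow_add, pow_two]
    rw [this, hu4]
  have hord : orderOf u ∣ 4 := orderOf_dvd_of_pow_eq_one hu4'
  have hord2 : orderOf u ∣ Nat.card K := Subgroup.orderOf_dvd_natCard K huK
  have hu_one : u = 1 := by
    rw [← orderOf_eq_one_iff]
    have h4 : (4 : ℕ) = 2 ^ 2 := by norm_num
    rw [h4] at hord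
    obtain ⟨j, _, hj⟩ := (Nat.dvd_prime_pow Nat.prime_two).1 hord
    rcases Nat.eq_zero_or_pos j with rfl | hjpos
    · simpa using hj
    · exfalso
      have h2 : 2 ∣ orderOf u := by rw [hj]; exact dvd_pow_self 2 (by omega)
      have h3 : 2 ∣ Nat.card K := h2.trans hord2
      rcases hK with ⟨m, hm⟩
      omega
  rw [hu, commutatorElement_eq_one_iff_mul_comm] at hu_one
  exact hu_one

end OddComm

end Cfsg.Agent.Lib.Helper27.TvCent
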