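import Mathlib
import Cfsg.Prelude.Def_Solvable
import Cfsg.Prelude.Def_Transfer
import Cfsg.Agent.Lib.Helper2.PGroupFrattini
import Cfsg.Agent.Lib.Helper16.Frattini2
import Cfsg.Agent.Lib.Helper16.PCore
import Cfsg.Agent.Lib.Helper27.TvCentB
import Cfsg.Agent.Lib.Helper27.TvCentC

/-! # Centralizer of a transvection in `SL_{n+2}(2)`: the extraspecial radical -/

set_option autoImplicit false
set_option linter.style.haveILetI false

namespace Cfsg.Agent.Lib.Helper27.TvCent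

open Matrix
open scoped commutatorElement

variable {n : ℕ}

/-- A criterion for a whole group to be extraspecial. -/
theorem isExtraspecial_of_center' {G : Type*} [Group G] [Finite G] {p : ℕ} [hp : Fact p.Prime]
    (hG : IsPGroup p G) (hcard : Nat.card (Subgroup.center G) = p)
    (hcomm : ∀ a b : G, ⁅a, b⁆ ∈ Subgroup.center G)
    (hpow : ∀ a : G, a ^ p ∈ Subgroup.center G) (hna : ∃ a b : G, a * b ≠ b * a) :
    Cfsg.IsExtraspecial p G := by
  have hle : commutator G ≤ Subgroup.center G := by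
    rw [_root_.commutator_def, Subgroup.commutator_le]
    intro x _ y _
    exact hcomm x y
  have hne : commutator G ≠ ⊥ := by
    intro h
    obtain ⟨a, b, hab⟩ := hna
    have h1 : ⁅a, b⁆ ∈ commutator G := by
      rw [_root_.commutator_def]
      exact Subgroup.commutator_mem_commutator (Subgroup.mem_top _) (Subgroup.mem_top _)
    rw [h, Subgroup.mem_bot, commutatorElement_eq_one_iff_mul_comm] at h1
    exact hab h1
  have heq : commutator G = Subgroup.center G := by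
    apply Subgroup.eq_of_le_of_card_ge hle
    have hdvd := Subgroup.card_dvd_of_le hle
    rw [hcard] at hdvd ⊢
    rcases (Nat.dvd_prime hp.out).mp hdvd with h | h
    · exact absurd (Subgroup.card_eq_one.mp h) hne
    · exact h.ge
  refine ⟨⟨hG, ?_, heq⟩, hcard⟩
  apply le_antisymm
  · exact Cfsg.Agent.Lib.Helper16.frattini_le_of_forall (p := p) _ hcomm hpow
  · rw [← heq]
    exact Cfsg.Agent.Lib.Helper2.commutator_le_frattini_of_isPGroup hG

/-- The centralizer of the transvection. -/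
abbrev CC (n : ℕ) : Subgroup (GG n) := Subgroup.centralizer ({zz n} : Set (GG n))

/-- The unipotent radical: kernel of the Levi projection, as a subgroup of `SL`. -/
def QQ (n : ℕ) : Subgroup (GG n) := (midHom n).ker.map (CC n).subtype

theorem mkSL_one_mem_ker (a b : Fin n → ZMod 2) (c : ZMod 2) :
    (⟨mkSL 1 a b c, mkSL_mem 1 a b c⟩ : ↥(CC n)) ∈ (midHom n).ker := by
  rw [MonoidHom.mem_ker]
  apply Subtype.ext
  rfl

theorem mkSL_one_mem_QQ (a b : Fin n → ZMod 2) (c : ZMod 2) : mkSL 1 a b c ∈ QQ n :=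
  Subgroup.mem_map.2 ⟨⟨mkSL 1 a b c, mkSL_mem 1 a b c⟩, mkSL_one_mem_ker a b c, rfl⟩

theorem mem_QQ_iff (g : GG n) : g ∈ QQ n ↔ ∃ a b c, g = mkSL 1 a b c := by
  constructor
  · intro hg
    obtain ⟨g', hg', rfl⟩ := Subgroup.mem_map.1 hg
    rw [MonoidHom.mem_ker] at hg'
    refine ⟨rowA g'.1.1, colB g'.1.1, cor g'.1.1, ?_⟩
    have h1 := exists_mkSL_of_mem g'.2
    have h2 : (⟨mid g'.1.1, det_mid_of_mem g'.2⟩ : LL n) = (1 : LL n) := hg'
    rw [h2] at h1
    exact h1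
  · rintro ⟨a, b, c, rfl⟩
    exact mkSL_one_mem_QQ a b c

theorem QQ_le_CC : QQ n ≤ CC n := by
  intro g hg
  obtain ⟨g', _, rfl⟩ := Subgroup.mem_map.1 hg
  exact g'.2

theorem mkSL_inj {M M' : LL n} {a b a' b' : Fin n → ZMod 2} {c c' : ZMod 2}
    (h : mkSL M a b c = mkSL M' a' b' c') : M = M' ∧ a = a' ∧ b = b' ∧ c = c' := by
  have := mk_inj _ _ _ _ _ _ _ _ (congrArg Subtype.val h)
  exact ⟨Subtype.ext this.1, this.2⟩

theorem mkSL_one_mul (a b a' b' : Fin n → ZMod 2) (c c' : ZMod 2) :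
    mkSL (1 : LL n) a b c * mkSL 1 a' b' c' = mkSL 1 (a' + a) (b' + b) (c + c' + a ⬝ᵥ b') := by
  rw [mkSL_mul]
  simp

/-- Parametrization of the radical. -/
def paramQQ (n : ℕ) : (Fin n → ZMod 2) × (Fin n → ZMod 2) × ZMod 2 → ↥(QQ n) :=
  fun p => ⟨mkSL 1 p.1 p.2.1 p.2.2, mkSL_one_mem_QQ _ _ _⟩

theorem paramQQ_bijective : Function.Bijective (paramQQ n) := by
  constructor
  · rintro ⟨a, b, c⟩ ⟨a', b', c'⟩ h
    have h1 : mkSL (1 : LL n) a b c = mkSL 1 a' b' c' := congrArg Subtype.val h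
    obtain ⟨_, rfl, rfl, rfl⟩ := mkSL_inj h1
    rfl
  · rintro ⟨g, hg⟩
    obtain ⟨a, b, c, rfl⟩ := (mem_QQ_iff g).1 hg
    exact ⟨(a, b, c), rfl⟩

theorem card_QQ : Nat.card ↥(QQ n) = 2 ^ (2 * n + 1) := by
  rw [← Nat.card_congr (Equiv.ofBijective _ (paramQQ_bijective (n := n)))]
  rw [Nat.card_prod, Nat.card_prod, Nat.card_fun, Nat.card_zmod, Nat.card_fin]
  ring

theorem isPGroup_QQ : IsPGroup 2 ↥(QQ n) := IsPGroup.of_card card_QQ

theorem isPGroup_ker : IsPGroup 2 ↥(midHom n).ker :=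
  (isPGroup_QQ (n := n)).of_equiv
    (((midHom n).ker.equivMapOfInjective (CC n).subtype (Subgroup.subtype_injective _)).symm)

/-- The `2`-core of the centralizer is the kernel of the Levi projection. -/
theorem pCore_eq_ker (hn : 2 ≤ n) : Cfsg.pCore 2 ↥(CC n) = (midHom n).ker := by
  haveI : Fact (Nat.Prime 2) := ⟨Nat.prime_two⟩
  apply le_antisymm
  · have hP : IsPGroup 2 ↥(Cfsg.pCore 2 ↥(CC n)) := Cfsg.Agent.Lib.Helper16.pCore_isPGroup 2 _
    haveI hPn : (Cfsg.pCore 2 ↥(CC n)).Normal := Cfsg.Agent.Lib.Helper16.pCore_normal 2 _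
    haveI : ((Cfsg.pCore 2 ↥(CC n)).map (midHom n)).Normal :=
      Subgroup.Normal.map hPn (midHom n) midHom_surjective
    have h2 : IsPGroup 2 ↥((Cfsg.pCore 2 ↥(CC n)).map (midHom n)) := hP.map (midHom n)
    have := normal_two_subgroup_eq_bot hn _ h2
    exact (Subgroup.map_eq_bot_iff _).1 this
  · exact Cfsg.Agent.Lib.Helper16.le_pCore (MonoidHom.normal_ker _) isPGroup_ker

theorem pCore_map_eq (hn : 2 ≤ n) :
    (Cfsg.pCore 2 ↥(CC n)).map (CC n).subtype = QQ n := by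
  rw [pCore_eq_ker hn]; rfl

end Cfsg.Agent.Lib.Helper27.TvCent
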