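import Mathlib
import Cfsg.Agent.Lib.Helper27.TvCentD

/-! # Centralizer of a transvection in `SL_{n+2}(2)`: extraspeciality and the splitting -/

set_option autoImplicit false
set_option linter.style.haveILetI false

namespace Cfsg.Agent.Lib.Helper27.TvCent

open Matrix
open scoped commutatorElement

variable {n : ℕ}

theorem vec_add_self (v : Fin n → ZMod 2) : v + v = 0 :=
  funext fun k => CharTwo.add_self_eq_zero (v k)

/-- The abelianization-like map of the radical. -/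
def thetaHom (n : ℕ) : ↥(QQ n) →* Multiplicative ((Fin n → ZMod 2) × (Fin n → ZMod 2)) where
  toFun x := Multiplicative.ofAdd (rowA x.1.1, colB x.1.1)
  map_one' := by
    have : ((1 : ↥(QQ n)) : GG n) = mkSL 1 0 0 0 := mkSL_one.symm
    rw [this]
    rfl
  map_mul' x y := by
    obtain ⟨x, hx⟩ := x
    obtain ⟨y, hy⟩ := y
    obtain ⟨a, b, c, rfl⟩ := (mem_QQ_iff x).1 hx
    obtain ⟨a', b', c', rfl⟩ := (mem_QQ_iff y).1 hy
    show Multiplicative.ofAdd (rowA (mkSL 1 a b c * mkSL 1 a' b' c').1,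
      colB (mkSL 1 a b c * mkSL 1 a' b' c').1) = _
    rw [mkSL_one_mul]
    show Multiplicative.ofAdd (a' + a, b' + b) = Multiplicative.ofAdd ((a, b) + (a', b'))
    rw [Prod.mk_add_mk, add_comm a' a, add_comm b' b]

theorem mem_center_QQ_iff (x : ↥(QQ n)) :
    x ∈ Subgroup.center ↥(QQ n) ↔ rowA x.1.1 = 0 ∧ colB x.1.1 = 0 := by
  obtain ⟨x, hx⟩ := x
  obtain ⟨a, b, c, rfl⟩ := (mem_QQ_iff x).1 hx
  rw [Subgroup.mem_center_iff]
  constructor
  · intro h
    constructor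
    · funext j
      have h1 := h ⟨mkSL 1 0 (Pi.single j 1) 0, mkSL_one_mem_QQ _ _ _⟩
      have h2 : mkSL (1 : LL n) 0 (Pi.single j 1) 0 * mkSL 1 a b c =
          mkSL 1 a b c * mkSL 1 0 (Pi.single j 1) 0 := congrArg Subtype.val h1
      rw [mkSL_one_mul, mkSL_one_mul] at h2
      obtain ⟨_, _, _, h3⟩ := mkSL_inj h2
      simpa using h3.symm
    · funext i
      have h1 := h ⟨mkSL 1 (Pi.single i 1) 0 0, mkSL_one_mem_QQ _ _ _⟩
      have h2 : mkSL (1 : LL n) (Pi.single i 1) 0 0 * mkSL 1 a b c =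
          mkSL 1 a b c * mkSL 1 (Pi.single i 1) 0 0 := congrArg Subtype.val h1
      rw [mkSL_one_mul, mkSL_one_mul] at h2
      obtain ⟨_, _, _, h3⟩ := mkSL_inj h2
      simpa using h3
  · rintro ⟨ha, hb⟩ ⟨y, hy⟩
    obtain ⟨a', b', c', rfl⟩ := (mem_QQ_iff y).1 hy
    have ha' : a = 0 := ha
    have hb' : b = 0 := hb
    subst ha' hb'
    apply Subtype.ext
    show mkSL (1 : LL n) a' b' c' * mkSL 1 0 0 c = mkSL 1 0 0 c * mkSL 1 a' b' c'
    rw [mkSL_one_mul, mkSL_one_mul]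
    simp [add_comm]

theorem ker_thetaHom_le_center : (thetaHom n).ker ≤ Subgroup.center ↥(QQ n) := by
  intro x hx
  rw [MonoidHom.mem_ker] at hx
  rw [mem_center_QQ_iff]
  have : (rowA x.1.1, colB x.1.1) = ((0 : Fin n → ZMod 2), (0 : Fin n → ZMod 2)) :=
    Multiplicative.ofAdd.injective hx
  exact ⟨congrArg Prod.fst this, congrArg Prod.snd this⟩

/-- the central elements -/
def centerParam (n : ℕ) : ZMod 2 → ↥(Subgroup.center ↥(QQ n)) :=
  fun c => ⟨⟨mkSL 1 0 0 c, mkSL_one_mem_QQ _ _ _⟩, by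
    rw [mem_center_QQ_iff]; exact ⟨rfl, rfl⟩⟩

theorem centerParam_bijective : Function.Bijective (centerParam n) := by
  constructor
  · intro c c' h
    have h1 : mkSL (1 : LL n) 0 0 c = mkSL 1 0 0 c' :=
      congrArg (fun x : ↥(Subgroup.center ↥(QQ n)) => (x.1.1 : GG n)) h
    exact (mkSL_inj h1).2.2.2
  · rintro ⟨⟨x, hx⟩, hxc⟩
    obtain ⟨a, b, c, rfl⟩ := (mem_QQ_iff x).1 hx
    rw [mem_center_QQ_iff] at hxc
    obtain ⟨ha, hb⟩ := hxc
    have ha' : a = 0 := ha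
    have hb' : b = 0 := hb
    subst ha' hb'
    exact ⟨c, rfl⟩

theorem card_center_QQ : Nat.card ↥(Subgroup.center ↥(QQ n)) = 2 := by
  rw [← Nat.card_congr (Equiv.ofBijective _ (centerParam_bijective (n := n))), Nat.card_zmod]

theorem isExtraspecial_QQ (hn : 1 ≤ n) : Cfsg.IsExtraspecial 2 ↥(QQ n) := by
  haveI : Fact (Nat.Prime 2) := ⟨Nat.prime_two⟩
  apply isExtraspecial_of_center' isPGroup_QQ card_center_QQ
  · intro x y
    apply ker_thetaHom_le_center
    rw [MonoidHom.mem_ker, map_commutatorElement, commutatorElement_eq_one_iff_mul_comm]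
    exact mul_comm _ _
  · intro x
    apply ker_thetaHom_le_center
    rw [MonoidHom.mem_ker, map_pow]
    generalize thetaHom n x = v
    show Multiplicative.ofAdd (2 • Multiplicative.toAdd v) = Multiplicative.ofAdd 0
    congr 1
    rw [two_smul]
    ext k
    · exact CharTwo.add_self_eq_zero _
    · exact CharTwo.add_self_eq_zero _
  · refine ⟨⟨mkSL 1 (Pi.single ⟨0, by omega⟩ 1) 0 0, mkSL_one_mem_QQ _ _ _⟩,
      ⟨mkSL 1 0 (Pi.single ⟨0, by omega⟩ 1) 0, mkSL_one_mem_QQ _ _ _⟩, ?_⟩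
    intro h
    have h2 : mkSL (1 : LL n) (Pi.single ⟨0, by omega⟩ 1) 0 0 * mkSL 1 0 (Pi.single ⟨0, by omega⟩ 1) 0 =
        mkSL 1 0 (Pi.single ⟨0, by omega⟩ 1) 0 * mkSL 1 (Pi.single ⟨0, by omega⟩ 1) 0 0 :=
      congrArg Subtype.val h
    rw [mkSL_one_mul, mkSL_one_mul] at h2
    obtain ⟨_, _, _, h3⟩ := mkSL_inj h2
    simp at h3

/-! ### The elementary abelian subgroup -/

/-- The elementary abelian subgroup `{(a, 0, c)}`. -/
def eHom (n : ℕ) : Multiplicative ((Fin n → ZMod 2) × ZMod 2) →* GG n where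
  toFun p := mkSL 1 (Multiplicative.toAdd p).1 0 (Multiplicative.toAdd p).2
  map_one' := mkSL_one
  map_mul' p q := by
    rw [mkSL_one_mul]
    simp [add_comm]

theorem eHom_injective : Function.Injective (eHom n) := by
  intro p q h
  obtain ⟨_, h1, _, h2⟩ := mkSL_inj h
  exact Multiplicative.toAdd.injective (Prod.ext h1 h2)

theorem eHom_range_le : (eHom n).range ≤ QQ n := by
  rintro _ ⟨p, rfl⟩
  exact mkSL_one_mem_QQ _ _ _

theorem card_eHom_range : Nat.card ↥(eHom n).range = 2 ^ (n + 1) := by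
  rw [← Nat.card_congr (MonoidHom.ofInjective (eHom_injective (n := n))).toEquiv]
  show Nat.card ((Fin n → ZMod 2) × ZMod 2) = _
  rw [Nat.card_prod, Nat.card_fun, Nat.card_zmod, Nat.card_fin, pow_succ]

theorem eHom_range_elementary : Cfsg.IsElementaryAbelian 2 (eHom n).range := by
  refine ⟨inferInstance, ?_⟩
  rintro _ ⟨p, rfl⟩
  rw [← map_pow]
  have : p ^ 2 = 1 := by
    show Multiplicative.ofAdd (2 • Multiplicative.toAdd p) = Multiplicative.ofAdd 0
    congr 1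
    rw [two_smul]
    ext k
    · exact CharTwo.add_self_eq_zero _
    · exact CharTwo.add_self_eq_zero _
  rw [this, map_one]

/-! ### The splitting -/

theorem diag_range_le : (diagHom n).range ≤ CC n := by
  rintro _ ⟨M, rfl⟩
  exact mkSL_mem M 0 0 0

theorem QQ_inf_diag : QQ n ⊓ (diagHom n).range = ⊥ := by
  rw [eq_bot_iff]
  rintro g ⟨hg1, hg2⟩
  obtain ⟨a, b, c, rfl⟩ := (mem_QQ_iff g).1 hg1
  obtain ⟨M, hM⟩ := hg2
  have hM' : mkSL M 0 0 0 = mkSL 1 a b c := hM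
  obtain ⟨rfl, rfl, rfl, rfl⟩ := mkSL_inj hM'
  rw [Subgroup.mem_bot]
  exact mkSL_one

theorem QQ_sup_diag : QQ n ⊔ (diagHom n).range = CC n := by
  apply le_antisymm
  · exact sup_le QQ_le_CC diag_range_le
  · intro g hg
    set g' : ↥(CC n) := ⟨g, hg⟩ with hg'
    set k' : ↥(CC n) := diagHom' n (midHom n g') with hk'
    have hq : g' * k'⁻¹ ∈ (midHom n).ker := by
      rw [MonoidHom.mem_ker, map_mul, map_inv, hk', midHom_diagHom', mul_inv_cancel]
    have h1 : ((g' * k'⁻¹ : ↥(CC n)) : GG n) ∈ QQ n := Subgroup.mem_map.2 ⟨_, hq, rfl⟩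
    have h2 : (k' : GG n) ∈ (diagHom n).range := ⟨midHom n g', rfl⟩
    have h3 : g = ((g' * k'⁻¹ : ↥(CC n)) : GG n) * (k' : GG n) := by
      rw [← Subgroup.coe_mul, inv_mul_cancel_right]
    rw [h3]
    exact Subgroup.mul_mem_sup h1 h2

/-- The unipotent radical is normalized by the centralizer. -/
theorem conj_mem_QQ {g h : GG n} (hg : g ∈ CC n) (hh : h ∈ QQ n) : g * h * g⁻¹ ∈ QQ n := by
  obtain ⟨h', hh', rfl⟩ := Subgroup.mem_map.1 hh
  have : (⟨g, hg⟩ : ↥(CC n)) * h' * (⟨g, hg⟩ : ↥(CC n))⁻¹ ∈ (midHom n).ker :=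
    (MonoidHom.normal_ker (midHom n)).conj_mem h' hh' _
  exact Subgroup.mem_map.2 ⟨_, this, rfl⟩

theorem CC_le_normalizer_QQ : CC n ≤ Subgroup.normalizer (QQ n : Set (GG n)) := by
  intro g hg
  rw [Subgroup.mem_normalizer_iff]
  intro h
  constructor
  · exact conj_mem_QQ hg
  · intro hh
    have := conj_mem_QQ ((CC n).inv_mem hg) hh
    have h2 : g⁻¹ * (g * h * g⁻¹) * g⁻¹⁻¹ = h := by group
    rwa [h2] at this

end Cfsg.Agent.Lib.Helper27.TvCent
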