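import Mathlib
import Cfsg.Agent.Lib.Helper27.TvCentE
import Cfsg.Prelude.Def_MonsterType

/-! # Centralizer of a transvection in `SL_{n+2}(2)`: the radical is large extraspecial -/

set_option autoImplicit false
set_option linter.style.haveILetI false

namespace Cfsg.Agent.Lib.Helper27.TvCent

open Matrix
open scoped commutatorElement

variable {n : ℕ}

theorem zz_mem_QQ : zz n ∈ QQ n := mkSL_one_mem_QQ 0 0 1

theorem mem_CC_of_commute_zz {g : GG n} (h : zz n * g = g * zz n) : g ∈ CC n := by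
  rw [Subgroup.mem_centralizer_iff]
  intro x hx
  rw [Set.mem_singleton_iff] at hx
  rw [hx]; exact h

/-- The centralizer of the radical. -/
theorem mem_centralizer_QQ_iff (g : GG n) :
    g ∈ Subgroup.centralizer (QQ n : Set (GG n)) ↔ ∃ c, g = mkSL 1 0 0 c := by
  rw [Subgroup.mem_centralizer_iff]
  constructor
  · intro h
    have hgC : g ∈ CC n := mem_CC_of_commute_zz (h _ zz_mem_QQ)
    obtain ⟨M, a, b, c, hg⟩ : ∃ (M : LL n) (a b : Fin n → ZMod 2) (c : ZMod 2),
        g = mkSL M a b c := ⟨_, _, _, _, exists_mkSL_of_mem hgC⟩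
    subst hg
    have key : ∀ a' b' : Fin n → ZMod 2, a' ᵥ* M.1 = a' ∧ a' ⬝ᵥ b = a ⬝ᵥ b' := by
      intro a' b'
      have h1 := h _ (mkSL_one_mem_QQ a' b' 0)
      rw [mkSL_mul, mkSL_mul] at h1
      obtain ⟨_, h2, _, h3⟩ := mkSL_inj h1
      constructor
      · have h2' : a + a' ᵥ* M.1 = a' + a := by simpa using h2
        have : a + a' ᵥ* M.1 = a + a' := by rw [h2', add_comm]
        exact add_left_cancel this
      · have h3' : (0 : ZMod 2) + c + a' ⬝ᵥ b = c + 0 + a ⬝ᵥ b' := h3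
        rw [zero_add, add_zero] at h3'
        exact add_left_cancel h3'
    have hM : M = 1 := by
      apply Subtype.ext
      ext i j
      have := congrFun (key (Pi.single i 1) 0).1 j
      rw [Matrix.single_one_vecMul, Matrix.row_apply, Pi.single_apply] at this
      show M.1 i j = (1 : Matrix (Fin n) (Fin n) (ZMod 2)) i j
      rw [this, Matrix.one_apply]
      simp [eq_comm]
    have hb : b = 0 := by
      funext i
      have := (key (Pi.single i 1) 0).2
      simpa using this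
    have ha : a = 0 := by
      funext i
      have := (key 0 (Pi.single i 1)).2
      simpa using this.symm
    subst hM ha hb
    exact ⟨c, rfl⟩
  · rintro ⟨c, rfl⟩ h hh
    obtain ⟨a', b', c', rfl⟩ := (mem_QQ_iff h).1 hh
    rw [mkSL_one_mul, mkSL_one_mul]
    simp [add_comm]

theorem mem_map_center_QQ_iff (g : GG n) :
    g ∈ (Subgroup.center ↥(QQ n)).map (QQ n).subtype ↔ ∃ c, g = mkSL 1 0 0 c := by
  constructor
  · intro hg
    obtain ⟨x, hx, rfl⟩ := Subgroup.mem_map.1 hg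
    obtain ⟨c, hc⟩ := centerParam_bijective.2 ⟨x, hx⟩
    refine ⟨c, ?_⟩
    have := congrArg (fun y : ↥(Subgroup.center ↥(QQ n)) => (y.1.1 : GG n)) hc
    exact this.symm
  · rintro ⟨c, rfl⟩
    exact Subgroup.mem_map.2 ⟨(centerParam n c).1, (centerParam n c).2, rfl⟩

theorem centralizer_QQ_eq :
    Subgroup.centralizer (QQ n : Set (GG n)) = (Subgroup.center ↥(QQ n)).map (QQ n).subtype := by
  ext g
  rw [mem_centralizer_QQ_iff, mem_map_center_QQ_iff]

theorem centralizer_center_le_normalizer :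
    Subgroup.centralizer (((Subgroup.center ↥(QQ n)).map (QQ n).subtype : Subgroup (GG n)) : Set (GG n))
      ≤ Subgroup.normalizer (QQ n : Set (GG n)) := by
  intro g hg
  apply CC_le_normalizer_QQ
  apply mem_CC_of_commute_zz
  rw [Subgroup.mem_centralizer_iff] at hg
  exact hg _ ((mem_map_center_QQ_iff _).2 ⟨1, rfl⟩)

/-! ### Odd-order subgroups normalized by the radical -/

theorem mk_one_row (φ : Fin (n + 2) → ZMod 2) (h0 : φ 0 = 0) :
    mk (1 : Matrix (Fin n) (Fin n) (ZMod 2)) (fun j => φ j.succ.succ) 0 (φ 1) =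
      1 + Matrix.vecMulVec (Pi.single 0 1) φ := by
  ext i j
  refine Fin.cases ?_ (fun i => Fin.cases ?_ (fun i => ?_) i) i <;>
  refine Fin.cases ?_ (fun j => Fin.cases ?_ (fun j => ?_) j) j <;>
  simp [Matrix.vecMulVec_apply, Matrix.one_apply, Pi.single_apply, Fin.succ_ne_zero, Fin.ext_iff, h0]

theorem mk_one_col (ψ : Fin (n + 2) → ZMod 2) (h1 : ψ 1 = 0) :
    mk (1 : Matrix (Fin n) (Fin n) (ZMod 2)) 0 (fun i => ψ i.succ.succ) (ψ 0) =
      1 + Matrix.vecMulVec ψ (Pi.single 1 1) := by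
  ext i j
  refine Fin.cases ?_ (fun i => Fin.cases ?_ (fun i => ?_) i) i <;>
  refine Fin.cases ?_ (fun j => Fin.cases ?_ (fun j => ?_) j) j <;>
  simp [Matrix.vecMulVec_apply, Matrix.one_apply, Pi.single_apply, Fin.succ_ne_zero, Fin.ext_iff, h1]

section Odd

variable (hn : 1 ≤ n) (K : Subgroup (GG n)) (hK : Odd (Nat.card K))
  (hQK : QQ n ≤ Subgroup.normalizer (K : Set (GG n)))

include hn hK hQK

theorem odd_col_zero {k : GG n} (hk : k ∈ K) : ∀ i, i ≠ 0 → k.1 i 0 = 0 := by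
  set j2 : Fin (n + 2) := (⟨0, by omega⟩ : Fin n).succ.succ with hj2
  have hj20 : j2 ≠ 0 := Fin.succ_ne_zero _
  have hj21 : j2 ≠ 1 := by rw [hj2]; simp [Fin.ext_iff]
  have h10 : (1 : Fin (n + 2)) ≠ 0 := by simp [Fin.ext_iff]
  -- choose the functional
  obtain ⟨φ, hφ0, hφv, j₀, hφj⟩ : ∃ φ : Fin (n + 2) → ZMod 2, φ 0 = 0 ∧
      φ ⬝ᵥ (k.1 *ᵥ Pi.single 0 1) = 0 ∧ ∃ j₀, φ j₀ = 1 := by
    by_cases hcase : ∃ j, j ≠ 0 ∧ k.1 j 0 = 0
    · obtain ⟨j, hj0, hj⟩ := hcase
      refine ⟨Pi.single j 1, by simp [Pi.single_apply, hj0.symm], ?_, j, by simp⟩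
      rw [Matrix.mulVec_single_one]
      simpa using hj
    · push Not at hcase
      have hv : ∀ j, j ≠ 0 → k.1 j 0 = 1 := fun j hj => zmod2_eq_one_of_ne_zero _ (hcase j hj)
      refine ⟨Pi.single 1 1 + Pi.single j2 1, ?_, ?_, 1, ?_⟩
      · simp [Pi.single_apply, h10.symm, hj20.symm]
      · rw [Matrix.mulVec_single_one, add_dotProduct]
        simp only [single_one_dotProduct, Matrix.col_apply]
        rw [hv 1 h10, hv j2 hj20]
        exact CharTwo.add_self_eq_zero _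
      · simp [Pi.single_apply, hj21.symm]
  set t : GG n := mkSL 1 (fun j => φ j.succ.succ) 0 (φ 1) with ht
  have htQ : t ∈ QQ n := mkSL_one_mem_QQ _ _ _
  have ht1 : t.1 = 1 + Matrix.vecMulVec (Pi.single 0 1) φ := mk_one_row φ hφ0
  have hcomm := commute_of_odd K hK (Pi.single 0 1) φ (by simp [hφ0]) t ht1 (hQK htQ) k hk hφv
  have h2 : t.1 * k.1 = k.1 * t.1 := congrArg Subtype.val hcomm
  rw [ht1, add_mul, mul_add, one_mul, mul_one] at h2
  have h3 := add_left_cancel h2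
  rw [Matrix.vecMulVec_mul, Matrix.mul_vecMulVec] at h3
  intro i hi
  have h4 := congrFun (congrFun h3 i) j₀
  rw [Matrix.vecMulVec_apply, Matrix.vecMulVec_apply, hφj, mul_one, Pi.single_apply, if_neg hi,
    zero_mul, Matrix.mulVec_single_one] at h4
  exact h4.symm

theorem odd_row_zero {k : GG n} (hk : k ∈ K) : ∀ j, j ≠ 1 → k.1 1 j = 0 := by
  set j2 : Fin (n + 2) := (⟨0, by omega⟩ : Fin n).succ.succ with hj2
  have hj20 : j2 ≠ 0 := Fin.succ_ne_zero _
  have hj21 : j2 ≠ 1 := by rw [hj2]; simp [Fin.ext_iff]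
  have h10 : (1 : Fin (n + 2)) ≠ 0 := by simp [Fin.ext_iff]
  obtain ⟨ψ, hψ1, hψv, i₀, hψi⟩ : ∃ ψ : Fin (n + 2) → ZMod 2, ψ 1 = 0 ∧
      (Pi.single 1 1 ᵥ* k.1) ⬝ᵥ ψ = 0 ∧ ∃ i₀, ψ i₀ = 1 := by
    by_cases hcase : ∃ j, j ≠ 1 ∧ k.1 1 j = 0
    · obtain ⟨j, hj1, hj⟩ := hcase
      refine ⟨Pi.single j 1, by simp [Pi.single_apply, hj1.symm], ?_, j, by simp⟩
      rw [Matrix.single_one_vecMul]
      simpa using hj
    · push Not at hcase
      have hv : ∀ j, j ≠ 1 → k.1 1 j = 1 := fun j hj => zmod2_eq_one_of_ne_zero _ (hcase j hj)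
      refine ⟨Pi.single 0 1 + Pi.single j2 1, ?_, ?_, 0, ?_⟩
      · simp [Pi.single_apply, h10, hj21.symm]
      · rw [Matrix.single_one_vecMul, dotProduct_add]
        simp only [dotProduct_single_one, Matrix.row_apply]
        rw [hv 0 h10.symm, hv j2 hj21]
        exact CharTwo.add_self_eq_zero _
      · simp [Pi.single_apply, hj20.symm]
  set t : GG n := mkSL 1 0 (fun i => ψ i.succ.succ) (ψ 0) with ht
  have htQ : t ∈ QQ n := mkSL_one_mem_QQ _ _ _
  have ht1 : t.1 = 1 + Matrix.vecMulVec ψ (Pi.single 1 1) := mk_one_col ψ hψ1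
  have hcomm := commute_of_odd K hK ψ (Pi.single 1 1) (by simp [hψ1]) t ht1 (hQK htQ) k hk
    (by rw [Matrix.dotProduct_mulVec]; exact hψv)
  have h2 : t.1 * k.1 = k.1 * t.1 := congrArg Subtype.val hcomm
  rw [ht1, add_mul, mul_add, one_mul, mul_one] at h2
  have h3 := add_left_cancel h2
  rw [Matrix.vecMulVec_mul, Matrix.mul_vecMulVec] at h3
  intro j hj
  have h4 := congrFun (congrFun h3 i₀) j
  rw [Matrix.vecMulVec_apply, Matrix.vecMulVec_apply, hψi, one_mul, Pi.single_apply, if_neg hj,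
    mul_zero, Matrix.single_one_vecMul] at h4
  exact h4

theorem odd_le_CC : K ≤ CC n := by
  intro k hk
  rw [mem_centralizer_iff]
  exact ⟨odd_col_zero hn K hK hQK hk, odd_row_zero hn K hK hQK hk⟩

omit hn hQK in
theorem odd_inf_QQ {x : GG n} (hxK : x ∈ K) (hxQ : x ∈ QQ n) : x = 1 := by
  obtain ⟨j, hj⟩ := (isPGroup_QQ (n := n)) ⟨x, hxQ⟩
  have hj' : x ^ (2 ^ j) = 1 := congrArg Subtype.val hj
  apply Cfsg.Agent.Lib.Helper16.eq_one_of_pow_prime_pow_of_coprime x j hj'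
  have hd : orderOf x ∣ Nat.card K := Subgroup.orderOf_dvd_natCard K hxK
  have hodd : Odd (orderOf x) := hK.of_dvd_nat hd
  exact Nat.Coprime.symm (Nat.coprime_two_left.2 hodd)

theorem odd_eq_bot : K = ⊥ := by
  have hKC := odd_le_CC hn K hK hQK
  rw [eq_bot_iff]
  intro k hk
  rw [Subgroup.mem_bot]
  have hcent : k ∈ Subgroup.centralizer (QQ n : Set (GG n)) := by
    rw [Subgroup.mem_centralizer_iff]
    intro q hq
    have h1 : ⁅q, k⁆ ∈ K := by
      rw [commutatorElement_def]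
      exact K.mul_mem (((Subgroup.mem_normalizer_iff).1 (hQK hq) k).1 hk) (K.inv_mem hk)
    have h2 : ⁅q, k⁆ ∈ QQ n := by
      rw [commutatorElement_def]
      have := conj_mem_QQ (hKC hk) ((QQ n).inv_mem hq)
      have h3 : q * k * q⁻¹ * k⁻¹ = q * (k * q⁻¹ * k⁻¹) := by group
      rw [h3]
      exact (QQ n).mul_mem hq this
    have h3 := odd_inf_QQ K hK h1 h2
    rwa [commutatorElement_eq_one_iff_mul_comm] at h3
  obtain ⟨c, rfl⟩ := (mem_centralizer_QQ_iff k).1 hcent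
  exact odd_inf_QQ K hK hk (mkSL_one_mem_QQ _ _ _)

end Odd

/-- The radical is a large extraspecial subgroup. -/
theorem isLargeExtraspecial_QQ (hn : 1 ≤ n) : Cfsg.IsLargeExtraspecial (QQ n) :=
  ⟨isExtraspecial_QQ hn, centralizer_QQ_eq, centralizer_center_le_normalizer,
    fun K hK hQK => odd_eq_bot hn K hK hQK⟩

end Cfsg.Agent.Lib.Helper27.TvCent
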