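import Mathlib
import Cfsg.Agent.Lib.Helper27.TvCentF
import Cfsg.Agent.Lib.Helper11.PGroupFrattini

/-! # Transfer of the transvection-centralizer structure along an embedding -/

set_option autoImplicit false
set_option linter.style.haveILetI false

namespace Cfsg.Agent.Lib.Helper27.TvCent

open Matrix
open scoped commutatorElement

/-- Extraspeciality is invariant under isomorphism. -/
theorem isExtraspecial_of_mulEquiv_gen {p : ℕ} {G H : Type*} [Group G] [Group H]
    (e : G ≃* H) (hG : Cfsg.IsExtraspecial p G) : Cfsg.IsExtraspecial p H := by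
  obtain ⟨⟨hp, hfr, hco⟩, hcard⟩ := hG
  have hcen : (Subgroup.center G).map e.toMonoidHom = Subgroup.center H := by
    ext y
    constructor
    · rintro ⟨x, hx, rfl⟩
      have hx' : x ∈ Subgroup.center G := hx
      rw [Subgroup.mem_center_iff] at hx' ⊢
      replace hx := hx'
      intro y
      obtain ⟨y, rfl⟩ := e.surjective y
      show e y * e x = e x * e y
      rw [← map_mul, ← map_mul, hx y]
    · intro hy
      refine ⟨e.symm y, ?_, by simp⟩
      show e.symm y ∈ Subgroup.center G
      rw [Subgroup.mem_center_iff] at hy ⊢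
      intro x
      apply e.injective
      rw [map_mul, map_mul, e.apply_symm_apply]
      exact hy (e x)
  have hfr' : (frattini G).map e.toMonoidHom = frattini H := e.mapSubgroup.map_radical
  have hco' : (commutator G).map e.toMonoidHom = commutator H := by
    rw [_root_.commutator_def, Subgroup.map_commutator, _root_.commutator_def,
      Subgroup.map_top_of_surjective _ e.surjective]
  refine ⟨⟨hp.of_equiv e, ?_, ?_⟩, ?_⟩
  · rw [← hfr', hfr, hcen]
  · rw [← hco', hco, hcen]
  · rw [← Nat.card_congr (Subgroup.centerCongr e).toEquiv]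
    exact hcard

theorem pCore_map_mulEquiv_le {p : ℕ} [Fact p.Prime] {A B : Type*} [Group A] [Group B] [Finite A]
    [Finite B] (e : A ≃* B) : (Cfsg.pCore p A).map e.toMonoidHom ≤ Cfsg.pCore p B := by
  haveI := Cfsg.Agent.Lib.Helper16.pCore_normal p A
  apply Cfsg.Agent.Lib.Helper16.le_pCore
  · exact Subgroup.Normal.map inferInstance _ e.surjective
  · exact (Cfsg.Agent.Lib.Helper16.pCore_isPGroup p A).map _

/-- The `p`-core is invariant under isomorphism. -/
theorem pCore_map_mulEquiv {p : ℕ} [Fact p.Prime] {A B : Type*} [Group A] [Group B] [Finite A]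
    [Finite B] (e : A ≃* B) : (Cfsg.pCore p A).map e.toMonoidHom = Cfsg.pCore p B := by
  apply le_antisymm (pCore_map_mulEquiv_le e)
  have h2 := pCore_map_mulEquiv_le (p := p) e.symm
  intro y hy
  have h3 := h2 (Subgroup.mem_map_of_mem _ hy)
  refine ⟨e.symm y, h3, by simp⟩

/-- Radicals correspond under an injective homomorphism. -/
theorem map_radical_of_injective {G H : Type*} [Group G] [Group H] [Finite G] [Finite H]
    (Φ : G →* H) (hΦ : Function.Injective Φ) (C : Subgroup G) :
    ((Cfsg.pCore 2 ↥C).map C.subtype).map Φ =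
      (Cfsg.pCore 2 ↥(C.map Φ)).map (C.map Φ).subtype := by
  haveI : Fact (Nat.Prime 2) := ⟨Nat.prime_two⟩
  rw [← pCore_map_mulEquiv (C.equivMapOfInjective Φ hΦ), Subgroup.map_map, Subgroup.map_map]
  rfl

section AllN

variable {n : ℕ}

theorem subsingleton_LL (hn : n ≤ 1) : Subsingleton (LL n) := by
  constructor
  intro g h
  apply Subtype.ext
  interval_cases n
  · exact Subsingleton.elim _ _
  · have hg := g.2
    have hh := h.2
    rw [Matrix.det_fin_one] at hg hh
    ext i j
    fin_cases i; fin_cases j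
    simp only [Fin.zero_eta, Fin.isValue]
    rw [hg, hh]

theorem normal_two_subgroup_eq_bot_all
    (N : Subgroup (Matrix.SpecialLinearGroup (Fin n) (ZMod 2))) [hNn : N.Normal]
    (hN : IsPGroup 2 N) : N = ⊥ := by
  by_cases hn : 2 ≤ n
  · exact normal_two_subgroup_eq_bot hn N hN
  · haveI := subsingleton_LL (n := n) (by omega)
    exact Subsingleton.elim _ _

theorem pCore_eq_ker_all : Cfsg.pCore 2 ↥(CC n) = (midHom n).ker := by
  haveI : Fact (Nat.Prime 2) := ⟨Nat.prime_two⟩
  apply le_antisymm
  · have hP : IsPGroup 2 ↥(Cfsg.pCore 2 ↥(CC n)) := Cfsg.Agent.Lib.Helper16.pCore_isPGroup 2 _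
    haveI hPn : (Cfsg.pCore 2 ↥(CC n)).Normal := Cfsg.Agent.Lib.Helper16.pCore_normal 2 _
    haveI : ((Cfsg.pCore 2 ↥(CC n)).map (midHom n)).Normal :=
      Subgroup.Normal.map hPn (midHom n) midHom_surjective
    have h2 : IsPGroup 2 ↥((Cfsg.pCore 2 ↥(CC n)).map (midHom n)) := hP.map (midHom n)
    have := normal_two_subgroup_eq_bot_all _ h2
    exact (Subgroup.map_eq_bot_iff _).1 this
  · exact Cfsg.Agent.Lib.Helper16.le_pCore (MonoidHom.normal_ker _) isPGroup_ker

theorem pCore_map_eq_all :
    (Cfsg.pCore 2 ↥(CC n)).map (CC n).subtype = QQ n := by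
  rw [pCore_eq_ker_all]; rfl

/-- Over `𝔽₂` the special and general linear groups coincide. -/
noncomputable def slEquivGL (n : ℕ) :
    Matrix.SpecialLinearGroup (Fin n) (ZMod 2) ≃* Matrix.GeneralLinearGroup (Fin n) (ZMod 2) :=
  MulEquiv.ofBijective Matrix.SpecialLinearGroup.toGL (by
    constructor
    · intro g h hgh
      apply Subtype.ext
      have := congrArg (fun x : Matrix.GeneralLinearGroup (Fin n) (ZMod 2) => x.1) hgh
      simpa using this
    · intro g
      have hdet : (g.1).det = 1 := by
        have hu : IsUnit (g.1).det := (Matrix.isUnit_iff_isUnit_det _).1 g.isUnit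
        have : (g.1).det ≠ 0 := hu.ne_zero
        exact zmod2_eq_one_of_ne_zero _ this
      refine ⟨⟨g.1, hdet⟩, ?_⟩
      apply Units.ext
      rfl)

end AllN

end Cfsg.Agent.Lib.Helper27.TvCent
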