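import Mathlib
import Cfsg.Agent.Lib.Helper27.TvCentG

/-! # Transfer of the transvection-centralizer structure along an embedding: main theorem -/

set_option autoImplicit false
set_option linter.style.haveILetI false

namespace Cfsg.Agent.Lib.Helper27.TvCent

open Matrix
open scoped commutatorElement

variable {G : Type*} [Group G] [Finite G] {n : ℕ}

theorem transfer_main (hn : 1 ≤ n) (Φ : G →* GG n) (hΦ : Function.Injective Φ)
    (Z : Subgroup G) (z : G) (hZ : ∀ x, x ∈ Z ↔ x = 1 ∨ x = z) (hz : Φ z = zz n)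
    (hrange : CC n ≤ Φ.range)
    (U : Subgroup G) (hU : Cfsg.IsElementaryAbelian 2 U) (hUcard : Nat.card ↥U = 2 ^ (n + 1))
    (hUQ : U.map Φ ≤ QQ n)
    (Q : Subgroup G)
    (hQ : Q = (Cfsg.pCore 2 ↥(Subgroup.centralizer (Z : Set G))).map
      (Subgroup.centralizer (Z : Set G)).subtype) :
    Cfsg.IsExtraspecial 2 ↥Q ∧ Nat.card ↥Q = 2 ^ (2 * n + 1) ∧
    (∃ E : Subgroup G, E ≤ Q ∧ Cfsg.IsElementaryAbelian 2 E ∧ Nat.card ↥E = 2 ^ (n + 1)) ∧
    Cfsg.IsLargeExtraspecial Q ∧
    ∃ K : Subgroup G, K ≤ Subgroup.centralizer (Z : Set G) ∧ Q ⊓ K = ⊥ ∧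
      Q ⊔ K = Subgroup.centralizer (Z : Set G) ∧
      Nonempty (↥K ≃* Matrix.GeneralLinearGroup (Fin n) (ZMod 2)) := by
  classical
  -- the centralizer
  have hC : Subgroup.centralizer (Z : Set G) = (CC n).comap Φ := by
    ext g
    rw [Subgroup.mem_comap, Subgroup.mem_centralizer_iff, Subgroup.mem_centralizer_iff]
    constructor
    · intro h x hx
      rw [Set.mem_singleton_iff] at hx
      rw [hx, ← hz, ← map_mul, ← map_mul, h z ((hZ z).2 (Or.inr rfl))]
    · intro h x hx
      rcases (hZ x).1 hx with rfl | rfl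
      · simp
      · apply hΦ
        rw [map_mul, map_mul, hz]
        exact h _ rfl
  have hCmap : (Subgroup.centralizer (Z : Set G)).map Φ = CC n := by
    rw [hC]; exact Subgroup.map_comap_eq_self hrange
  have hQmap : Q.map Φ = QQ n := by
    rw [hQ, map_radical_of_injective Φ hΦ]
    have : ∀ X : Subgroup (GG n), X = CC n →
        (Cfsg.pCore 2 ↥X).map X.subtype = QQ n := by
      rintro X rfl; exact pCore_map_eq_all
    exact this _ hCmap
  have hQcomap : Q = (QQ n).comap Φ := by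
    rw [← hQmap, Subgroup.comap_map_eq_self_of_injective hΦ]
  have hQrange : QQ n ≤ Φ.range := QQ_le_CC.trans hrange
  have memQ : ∀ x, x ∈ Q ↔ Φ x ∈ QQ n := by
    intro x; rw [hQcomap]; rfl
  -- the isomorphism
  let e : ↥Q ≃* ↥(QQ n) :=
    (Q.equivMapOfInjective Φ hΦ).trans (MulEquiv.subgroupCongr hQmap)
  have hES : Cfsg.IsExtraspecial 2 ↥Q := isExtraspecial_of_mulEquiv_gen e.symm (isExtraspecial_QQ hn)
  have hcardQ : Nat.card ↥Q = 2 ^ (2 * n + 1) := by
    rw [Nat.card_congr e.toEquiv, card_QQ]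
  -- centralizer of Q
  have hcentQ : ∀ x, x ∈ Subgroup.centralizer (Q : Set G) ↔
      Φ x ∈ Subgroup.centralizer (QQ n : Set (GG n)) := by
    intro x
    rw [Subgroup.mem_centralizer_iff, Subgroup.mem_centralizer_iff]
    constructor
    · intro h q' hq'
      obtain ⟨q, rfl⟩ := hQrange hq'
      rw [← map_mul, ← map_mul, h q ((memQ q).2 hq')]
    · intro h q hq
      apply hΦ
      rw [map_mul, map_mul]
      exact h _ ((memQ q).1 hq)
  have hcenter : ∀ x, x ∈ (Subgroup.center ↥Q).map Q.subtype ↔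
      x ∈ Q ∧ x ∈ Subgroup.centralizer (Q : Set G) := by
    intro x
    constructor
    · rintro ⟨y, hy, rfl⟩
      refine ⟨y.2, ?_⟩
      rw [Subgroup.mem_centralizer_iff]
      intro q hq
      have hy' : y ∈ Subgroup.center ↥Q := hy
      rw [Subgroup.mem_center_iff] at hy'
      exact congrArg Subtype.val (hy' ⟨q, hq⟩)
    · rintro ⟨hxQ, hx⟩
      refine ⟨⟨x, hxQ⟩, ?_, rfl⟩
      show (⟨x, hxQ⟩ : ↥Q) ∈ Subgroup.center ↥Q
      rw [Subgroup.mem_center_iff]
      intro q
      apply Subtype.ext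
      rw [Subgroup.mem_centralizer_iff] at hx
      exact hx q.1 q.2
  have hcent_sub : ∀ x, x ∈ Subgroup.centralizer (Q : Set G) → x ∈ Q := by
    intro x hx
    rw [memQ]
    obtain ⟨c, hc⟩ := (mem_centralizer_QQ_iff _).1 ((hcentQ x).1 hx)
    rw [hc]; exact mkSL_one_mem_QQ _ _ _
  have hzcenter : z ∈ (Subgroup.center ↥Q).map Q.subtype := by
    rw [hcenter]
    have : z ∈ Subgroup.centralizer (Q : Set G) := by
      rw [hcentQ, hz, mem_centralizer_QQ_iff]
      exact ⟨1, rfl⟩
    exact ⟨hcent_sub z this, this⟩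
  have hLarge : Cfsg.IsLargeExtraspecial Q := by
    refine ⟨hES, ?_, ?_, ?_⟩
    · ext x
      rw [hcenter]
      constructor
      · intro hx; exact ⟨hcent_sub x hx, hx⟩
      · intro hx; exact hx.2
    · intro x hx
      rw [Subgroup.mem_centralizer_iff] at hx
      have hxz : z * x = x * z := hx z hzcenter
      have hxC : Φ x ∈ CC n := by
        apply mem_CC_of_commute_zz
        rw [← hz, ← map_mul, ← map_mul, hxz]
      have hxN := CC_le_normalizer_QQ hxC
      rw [Subgroup.mem_normalizer_iff] at hxN ⊢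
      intro h
      rw [memQ, memQ, map_mul, map_mul, map_inv]
      exact hxN (Φ h)
    · intro K hK hQK
      have h1 : Odd (Nat.card ↥(K.map Φ)) := by
        rw [Subgroup.card_map_of_injective hΦ]; exact hK
      have h2 : QQ n ≤ Subgroup.normalizer ((K.map Φ : Subgroup (GG n)) : Set (GG n)) := by
        rw [← hQmap]
        exact (Subgroup.map_mono hQK).trans (Subgroup.le_normalizer_map Φ)
      have h3 := odd_eq_bot hn _ h1 h2
      exact (Subgroup.map_eq_bot_iff_of_injective _ hΦ).1 h3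
  refine ⟨hES, hcardQ, ⟨U, ?_, hU, hUcard⟩, hLarge, ?_⟩
  · intro u hu
    rw [memQ]
    exact hUQ (Subgroup.mem_map_of_mem _ hu)
  · refine ⟨(diagHom n).range.comap Φ, ?_, ?_, ?_, ?_⟩
    · rw [hC]; exact Subgroup.comap_mono diag_range_le
    · rw [hQcomap, ← Subgroup.comap_inf, QQ_inf_diag, MonoidHom.comap_bot]
      exact (MonoidHom.ker_eq_bot_iff Φ).2 hΦ
    · rw [hQcomap, hC, Subgroup.comap_sup_eq_of_le_range Φ hQrange (diag_range_le.trans hrange),
        QQ_sup_diag]
    · have hmap : ((diagHom n).range.comap Φ).map Φ = (diagHom n).range :=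
        Subgroup.map_comap_eq_self (diag_range_le.trans hrange)
      exact ⟨((((diagHom n).range.comap Φ).equivMapOfInjective Φ hΦ).trans
        (MulEquiv.subgroupCongr hmap)).trans
        ((MonoidHom.ofInjective diagHom_injective).symm.trans (slEquivGL n))⟩

end Cfsg.Agent.Lib.Helper27.TvCent
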