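import Mathlib
import Cfsg.Agent.Lib.Helper27.TvCentH

/-! # The affine group `AGL_{n+1}(2)` inside `SL_{n+2}(2)`: block matrices `[[1, r], [0, A]]` -/

set_option autoImplicit false
set_option linter.style.haveILetI false

namespace Cfsg.Agent.Lib.Helper27.TvCent

open Matrix

variable {n : ℕ}

/-- The block matrix `[[1, r], [0, A]]`. -/
def mkP (r : Fin (n + 1) → ZMod 2) (A : Matrix (Fin (n + 1)) (Fin (n + 1)) (ZMod 2)) :
    Matrix (Fin (n + 2)) (Fin (n + 2)) (ZMod 2) :=
  fun i j => Fin.cases (Fin.cases 1 r j) (fun i' => Fin.cases 0 (A i') j) i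

variable (r r' : Fin (n + 1) → ZMod 2) (A A' : Matrix (Fin (n + 1)) (Fin (n + 1)) (ZMod 2))

@[simp] theorem mkP_00 : mkP r A 0 0 = 1 := rfl
@[simp] theorem mkP_0s (j : Fin (n + 1)) : mkP r A 0 j.succ = r j := rfl
@[simp] theorem mkP_s0 (i : Fin (n + 1)) : mkP r A i.succ 0 = 0 := rfl
@[simp] theorem mkP_ss (i j : Fin (n + 1)) : mkP r A i.succ j.succ = A i j := rfl
@[simp] theorem mkP_01 : mkP r A 0 1 = r 0 := rfl
@[simp] theorem mkP_10 : mkP r A 1 0 = 0 := rfl
@[simp] theorem mkP_11 : mkP r A 1 1 = A 0 0 := rfl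
@[simp] theorem mkP_1s (j : Fin (n + 1)) : mkP r A 1 j.succ = A 0 j := rfl
@[simp] theorem mkP_s1 (i : Fin (n + 1)) : mkP r A i.succ 1 = A i 0 := rfl

theorem mkP_mul : mkP r A * mkP r' A' = mkP (r' + r ᵥ* A') (A * A') := by
  ext i j
  refine Fin.cases ?_ (fun i => ?_) i <;> refine Fin.cases ?_ (fun j => ?_) j <;>
  simp [Matrix.mul_apply, Fin.sum_univ_succ, Matrix.vecMul, dotProduct]

theorem mkP_one : mkP (0 : Fin (n + 1) → ZMod 2) 1 = 1 := by
  ext i j
  refine Fin.cases ?_ (fun i => ?_) i <;> refine Fin.cases ?_ (fun j => ?_) j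
  · rfl
  · rw [mkP_0s, Matrix.one_apply_ne (Fin.succ_ne_zero j).symm]; rfl
  · rw [mkP_s0, Matrix.one_apply_ne (Fin.succ_ne_zero i)]
  · rw [mkP_ss, Matrix.one_apply, Matrix.one_apply]
    simp only [Fin.succ_inj]

theorem det_mkP : (mkP r A).det = A.det := by
  rw [Matrix.det_succ_column_zero, Fin.sum_univ_succ]
  have h0 : ∀ i : Fin (n + 1), mkP r A i.succ 0 = 0 := fun i => rfl
  simp only [h0, mul_zero, zero_mul, Finset.sum_const_zero, add_zero, Fin.val_zero, pow_zero,
    one_mul, mkP_00, Fin.succAbove_zero]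
  congr 1

theorem mkP_inj {r r' : Fin (n + 1) → ZMod 2} {A A' : Matrix (Fin (n + 1)) (Fin (n + 1)) (ZMod 2)}
    (h : mkP r A = mkP r' A') : r = r' ∧ A = A' := by
  constructor
  · funext j
    have := congrFun (congrFun h 0) j.succ
    simpa using this
  · ext i j
    have := congrFun (congrFun h i.succ) j.succ
    simpa using this

theorem mkP_single_one :
    mkP (Pi.single 0 1 : Fin (n + 1) → ZMod 2) 1 = mk (1 : Matrix (Fin n) (Fin n) (ZMod 2)) 0 0 1 := by
  ext i j
  refine Fin.cases ?_ (fun i => Fin.cases ?_ (fun i => ?_) i) i <;>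
  refine Fin.cases ?_ (fun j => Fin.cases ?_ (fun j => ?_) j) j <;>
  simp [Matrix.one_apply, Pi.single_apply, Fin.succ_ne_zero, Fin.ext_iff]

theorem mkP_eq_mk_one :
    mkP r 1 = mk (1 : Matrix (Fin n) (Fin n) (ZMod 2)) (fun j => r j.succ) 0 (r 0) := by
  ext i j
  refine Fin.cases ?_ (fun i => Fin.cases ?_ (fun i => ?_) i) i <;>
  refine Fin.cases ?_ (fun j => Fin.cases ?_ (fun j => ?_) j) j <;>
  simp [Matrix.one_apply, Fin.succ_ne_zero, Fin.ext_iff]

/-- Elements of the centralizer are of the affine block form. -/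
theorem eq_mkP_of_mem {g : GG n} (hg : g ∈ CC n) :
    g.1 = mkP (fun j => g.1 0 j.succ) (fun i j => g.1 i.succ j.succ) := by
  obtain ⟨h00, _, hc, _⟩ := entries_of_mem hg
  ext i j
  refine Fin.cases ?_ (fun i => ?_) i <;> refine Fin.cases ?_ (fun j => ?_) j
  · exact h00
  · rfl
  · exact hc i.succ (Fin.succ_ne_zero i)
  · rfl

/-! ### Linear algebra: coordinates with a prescribed first basis vector -/

theorem exists_linearEquiv_single {K V : Type*} [Field K] [AddCommGroup V] [Module K V] {k : ℕ}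
    (hk : Module.finrank K V = k + 1) (v : V) (hv : v ≠ 0) :
    ∃ f : V ≃ₗ[K] (Fin (k + 1) → K), f v = Pi.single 0 1 := by
  classical
  have hs : LinearIndepOn K id ({v} : Set V) := LinearIndepOn.singleton (by simpa using hv)
  let B := Module.Basis.extend hs
  let i₀ : hs.extend (Set.subset_univ _) :=
    ⟨v, Module.Basis.subset_extend hs (Set.mem_singleton v)⟩
  have hB : B i₀ = v := Module.Basis.extend_apply_self hs i₀
  have hcard : Nat.card (hs.extend (Set.subset_univ _)) = k + 1 := by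
    rw [← Module.finrank_eq_nat_card_basis B, hk]
  haveI : Finite (hs.extend (Set.subset_univ _)) := Nat.finite_of_card_ne_zero (by omega)
  let e₀ := Finite.equivFinOfCardEq hcard
  let e := e₀.trans (Equiv.swap (e₀ i₀) 0)
  have he : e i₀ = 0 := by simp [e]
  let B' := B.reindex e
  refine ⟨B'.equivFun, ?_⟩
  have hv' : v = B' 0 := by
    rw [Module.Basis.reindex_apply, ← he, Equiv.symm_apply_apply, hB]
  rw [hv']
  ext j
  rw [Module.Basis.equivFun_self]
  simp [Pi.single_apply, eq_comm]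

/-- The matrix whose rows are the images of the standard basis vectors. -/
def rowMat {k : ℕ} (f : (Fin k → ZMod 2) → (Fin k → ZMod 2)) : Matrix (Fin k) (Fin k) (ZMod 2) :=
  fun i => f (Pi.single i 1)

theorem vecMul_rowMat {k : ℕ} (f : (Fin k → ZMod 2) → (Fin k → ZMod 2))
    (hf : ∀ x y, f (x + y) = f x + f y) (x : Fin k → ZMod 2) : x ᵥ* rowMat f = f x := by
  let F : (Fin k → ZMod 2) →+ (Fin k → ZMod 2) := AddMonoidHom.mk' f hf
  have hF : ∀ y, F y = f y := fun _ => rfl
  rw [Matrix.vecMul_eq_sum]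
  conv_rhs => rw [pi_eq_sum_univ' x, ← hF, map_sum]
  apply Finset.sum_congr rfl
  intro i _
  rw [ZMod.map_smul, hF]
  rfl

theorem rowMat_eq_of_vecMul {k : ℕ} (f : (Fin k → ZMod 2) → (Fin k → ZMod 2))
    (B : Matrix (Fin k) (Fin k) (ZMod 2)) (h : ∀ x, f x = x ᵥ* B) : rowMat f = B := by
  ext i j
  show f (Pi.single i 1) j = B i j
  rw [h, Matrix.single_one_vecMul]
  rfl

end Cfsg.Agent.Lib.Helper27.TvCent
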