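import Mathlib
import Cfsg.Agent.Lib.Helper27.TvCentI

/-! # Embedding a holomorph-like split extension `U ⋊ M` into `SL_{n+2}(2)` -/

set_option autoImplicit false
set_option linter.style.haveILetI false
set_option linter.unusedSectionVars false

namespace Cfsg.Agent.Lib.Helper27.TvCent

open Matrix

section Abstract

variable {G : Type*} [Group G] {n : ℕ} (U : Subgroup G) [hUn : U.Normal]
  (b : ↥U → (Fin (n + 1) → ZMod 2)) (hbij : Function.Bijective b)
  (hadd : ∀ u v, b (u * v) = b u + b v)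

/-- conjugation on the normal subgroup -/
def cj (g : G) (u : ↥U) : ↥U := ⟨g * u * g⁻¹, hUn.conj_mem u u.2 g⟩

theorem cj_mul (g h : G) (u : ↥U) : cj U (g * h) u = cj U g (cj U h u) := by
  apply Subtype.ext
  simp [cj, mul_assoc]

theorem cj_one (u : ↥U) : cj U 1 u = u := by
  apply Subtype.ext
  simp [cj]

theorem cj_map_mul (g : G) (u v : ↥U) : cj U g (u * v) = cj U g u * cj U g v := by
  apply Subtype.ext
  simp [cj, mul_assoc]

/-- inverse coordinates -/
noncomputable def kap (r : Fin (n + 1) → ZMod 2) : ↥U := (Equiv.ofBijective b hbij).symm r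

theorem b_kap (r : Fin (n + 1) → ZMod 2) : b (kap U b hbij r) = r :=
  (Equiv.ofBijective b hbij).apply_symm_apply r

theorem kap_b (u : ↥U) : kap U b hbij (b u) = u :=
  (Equiv.ofBijective b hbij).symm_apply_apply u

include hadd in
theorem kap_add (r r' : Fin (n + 1) → ZMod 2) :
    kap U b hbij (r + r') = kap U b hbij r * kap U b hbij r' := by
  apply hbij.1
  rw [hadd, b_kap U b hbij, b_kap U b hbij, b_kap U b hbij]

include hadd in
theorem b_one : b 1 = 0 := by
  have := hadd 1 1
  rw [mul_one] at this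
  exact left_eq_add.mp this

/-- the linear action of `G` on coordinates -/
noncomputable def LL' (g : G) (r : Fin (n + 1) → ZMod 2) : Fin (n + 1) → ZMod 2 :=
  b (cj U g (kap U b hbij r))

include hadd in
theorem LL'_add (g : G) (r r' : Fin (n + 1) → ZMod 2) :
    LL' U b hbij g (r + r') = LL' U b hbij g r + LL' U b hbij g r' := by
  unfold LL'
  rw [kap_add U b hbij hadd, cj_map_mul, hadd]

theorem LL'_b (g : G) (u : ↥U) : LL' U b hbij g (b u) = b (cj U g u) := by
  unfold LL'
  rw [kap_b U b hbij]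

theorem LL'_mul (g h : G) (r : Fin (n + 1) → ZMod 2) :
    LL' U b hbij (g * h) r = LL' U b hbij g (LL' U b hbij h r) := by
  unfold LL'
  rw [kap_b U b hbij, cj_mul]

theorem LL'_one (r : Fin (n + 1) → ZMod 2) : LL' U b hbij 1 r = r := by
  unfold LL'
  rw [cj_one, b_kap U b hbij]

/-- the matrix of `g⁻¹` acting on row vectors -/
noncomputable def Bm (g : G) : Matrix (Fin (n + 1)) (Fin (n + 1)) (ZMod 2) :=
  rowMat (LL' U b hbij g⁻¹)

include hadd in
theorem vecMul_Bm (g : G) (x : Fin (n + 1) → ZMod 2) :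
    x ᵥ* Bm U b hbij g = LL' U b hbij g⁻¹ x :=
  vecMul_rowMat _ (LL'_add U b hbij hadd g⁻¹) x

include hadd in
theorem Bm_mul (g h : G) : Bm U b hbij (g * h) = Bm U b hbij g * Bm U b hbij h := by
  apply rowMat_eq_of_vecMul
  intro x
  rw [← Matrix.vecMul_vecMul, vecMul_Bm U b hbij hadd, vecMul_Bm U b hbij hadd, _root_.mul_inv_rev,
    LL'_mul]

theorem Bm_one : Bm U b hbij (1 : G) = 1 := by
  apply rowMat_eq_of_vecMul
  intro x
  rw [inv_one, LL'_one, Matrix.vecMul_one]

include hadd in
theorem det_Bm (g : G) : (Bm U b hbij g).det = 1 := by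
  have h1 : Bm U b hbij g * Bm U b hbij g⁻¹ = 1 := by
    rw [← Bm_mul U b hbij hadd, mul_inv_cancel, Bm_one]
  have h2 := congrArg Matrix.det h1
  rw [Matrix.det_mul, Matrix.det_one] at h2
  apply zmod2_eq_one_of_ne_zero
  intro h0
  rw [h0, zero_mul] at h2
  exact zero_ne_one h2

/-- the Levi part of the embedding -/
noncomputable def fMhom : G →* GG n where
  toFun g := ⟨mkP 0 (Bm U b hbij g), by rw [det_mkP]; exact det_Bm U b hbij hadd g⟩
  map_one' := by
    apply Subtype.ext
    show mkP 0 (Bm U b hbij (1 : G)) = 1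
    rw [Bm_one, mkP_one]
  map_mul' g h := by
    apply Subtype.ext
    show mkP 0 (Bm U b hbij (g * h)) = mkP 0 (Bm U b hbij g) * mkP 0 (Bm U b hbij h)
    rw [mkP_mul, Bm_mul U b hbij hadd]
    simp

/-- the unipotent part of the embedding -/
noncomputable def fUhom : ↥U →* GG n where
  toFun u := ⟨mkP (b u) 1, by rw [det_mkP, Matrix.det_one]⟩
  map_one' := by
    apply Subtype.ext
    show mkP (b 1) 1 = 1
    rw [b_one U b hadd, mkP_one]
  map_mul' u v := by
    apply Subtype.ext
    show mkP (b (u * v)) 1 = mkP (b u) 1 * mkP (b v) 1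
    rw [mkP_mul, hadd]
    simp [add_comm]

theorem coe_fMhom (g : G) : (fMhom U b hbij hadd g).1 = mkP 0 (Bm U b hbij g) := rfl
theorem coe_fUhom (u : ↥U) : (fUhom (n := n) U b hadd u).1 = mkP (b u) 1 := rfl

theorem compat (g : G) (u : ↥U) :
    fUhom U b hadd (cj U g u) * fMhom U b hbij hadd g =
      fMhom U b hbij hadd g * fUhom U b hadd u := by
  apply Subtype.ext
  show mkP (b (cj U g u)) 1 * mkP 0 (Bm U b hbij g) = mkP 0 (Bm U b hbij g) * mkP (b u) 1
  rw [mkP_mul, mkP_mul, vecMul_Bm U b hbij hadd, LL'_b, ← cj_mul, inv_mul_cancel, cj_one]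
  simp

variable (M : Subgroup G) (hcompl : U.IsComplement' M)

/-- The embedding of `G = U ⋊ M` into `SL_{n+2}(2)`. -/
noncomputable def PhiHom : G →* GG n :=
  (SemidirectProduct.lift (fUhom U b hadd) ((fMhom U b hbij hadd).comp M.subtype) (by
    intro m
    ext1 u
    have h1 := compat U b hbij hadd (m : G) u
    have h2 : fUhom U b hadd (cj U (m : G) u) =
        fMhom U b hbij hadd m * fUhom U b hadd u * (fMhom U b hbij hadd m)⁻¹ :=
      eq_mul_inv_of_mul_eq h1
    exact h2)).comp (SemidirectProduct.mulEquivSubgroup hcompl).symm.toMonoidHom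

theorem PhiHom_mul (u : ↥U) (m : ↥M) :
    PhiHom U b hbij hadd M hcompl ((u : G) * (m : G)) =
      fUhom U b hadd u * fMhom U b hbij hadd m := by
  have h1 : (SemidirectProduct.mulEquivSubgroup hcompl).symm ((u : G) * (m : G)) = ⟨u, m⟩ := by
    rw [MulEquiv.symm_apply_eq]
    rfl
  unfold PhiHom
  rw [MonoidHom.comp_apply]
  show SemidirectProduct.lift _ _ _ ((SemidirectProduct.mulEquivSubgroup hcompl).symm _) = _
  rw [h1]
  rfl

include hcompl in
theorem exists_decomp (g : G) : ∃ (u : ↥U) (m : ↥M), g = (u : G) * (m : G) := by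
  obtain ⟨x, rfl⟩ := (SemidirectProduct.mulEquivSubgroup hcompl).surjective g
  exact ⟨x.left, x.right, rfl⟩

end Abstract

end Cfsg.Agent.Lib.Helper27.TvCent
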