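import Mathlib
import Cfsg.Agent.Lib.Helper27.TvCentJ

/-! # Embedding a holomorph-like split extension `U ⋊ M` into `SL_{n+2}(2)`: properties -/

set_option autoImplicit false
set_option linter.style.haveILetI false
set_option linter.unusedSectionVars false

namespace Cfsg.Agent.Lib.Helper27.TvCent

open Matrix

section Abstract

variable {G : Type*} [Group G] {n : ℕ} (U : Subgroup G) [hUn : U.Normal]
  (b : ↥U → (Fin (n + 1) → ZMod 2)) (hbij : Function.Bijective b)
  (hadd : ∀ u v, b (u * v) = b u + b v)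
  (M : Subgroup G) (hcompl : U.IsComplement' M)

theorem PhiHom_injective (hfaith : ∀ m ∈ M, (∀ u ∈ U, m * u * m⁻¹ = u) → m = 1) :
    Function.Injective (PhiHom U b hbij hadd M hcompl) := by
  rw [injective_iff_map_eq_one]
  intro g hg
  obtain ⟨u, m, rfl⟩ := exists_decomp U M hcompl g
  rw [PhiHom_mul] at hg
  have h1 : mkP (b u) 1 * mkP 0 (Bm U b hbij (m : G)) = mkP 0 1 := by
    rw [mkP_one]
    exact congrArg Subtype.val hg
  rw [mkP_mul] at h1
  obtain ⟨h2, h3⟩ := mkP_inj h1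
  rw [one_mul] at h3
  rw [h3, Matrix.vecMul_one, zero_add] at h2
  have hu : u = 1 := by
    apply hbij.1
    rw [h2, b_one U b hadd]
  have hm : (m : G)⁻¹ = 1 := by
    apply hfaith _ (M.inv_mem m.2)
    intro v hv
    have h4 := vecMul_Bm U b hbij hadd (m : G) (b ⟨v, hv⟩)
    rw [h3, Matrix.vecMul_one, LL'_b] at h4
    have h5 := hbij.1 h4
    exact (congrArg Subtype.val h5).symm
  rw [hu, inv_eq_one.1 hm]
  simp

theorem PhiHom_of_mem (u : ↥U) :
    PhiHom U b hbij hadd M hcompl (u : G) = fUhom U b hadd u := by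
  have := PhiHom_mul U b hbij hadd M hcompl u 1
  simpa using this

theorem PhiHom_z (z : ↥U) (hz : b z = Pi.single 0 1) :
    PhiHom U b hbij hadd M hcompl (z : G) = zz n := by
  rw [PhiHom_of_mem]
  apply Subtype.ext
  show mkP (b z) 1 = mk (1 : LL n).1 0 0 1
  rw [hz, mkP_single_one]
  rfl

theorem PhiHom_map_le : U.map (PhiHom U b hbij hadd M hcompl) ≤ QQ n := by
  rintro _ ⟨u, hu, rfl⟩
  have h1 := PhiHom_of_mem U b hbij hadd M hcompl ⟨u, hu⟩
  change PhiHom U b hbij hadd M hcompl u = _ at h1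
  rw [h1]
  have h2 : fUhom (n := n) U b hadd ⟨u, hu⟩ =
      mkSL 1 (fun j => b ⟨u, hu⟩ j.succ) 0 (b ⟨u, hu⟩ 0) := by
    apply Subtype.ext
    show mkP (b ⟨u, hu⟩) 1 = mk (1 : LL n).1 _ _ _
    rw [mkP_eq_mk_one]
    rfl
  rw [h2]
  exact mkSL_one_mem_QQ _ _ _

theorem CC_le_range (hfull : ∀ φ : ↥U ≃* ↥U, ∃ m ∈ M, ∀ u : ↥U, ((φ u : ↥U) : G) = m * u * m⁻¹) :
    CC n ≤ (PhiHom U b hbij hadd M hcompl).range := by
  intro g hg
  set r : Fin (n + 1) → ZMod 2 := fun j => g.1 0 j.succ with hr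
  set A : Matrix (Fin (n + 1)) (Fin (n + 1)) (ZMod 2) := fun i j => g.1 i.succ j.succ with hA
  have hgm : g.1 = mkP r A := eq_mkP_of_mem hg
  have hdet : A.det = 1 := by
    have := g.2
    rw [hgm, det_mkP] at this
    exact this
  have hunit : IsUnit A.det := by rw [hdet]; exact isUnit_one
  have hAA' : A * A⁻¹ = 1 := Matrix.mul_nonsing_inv A hunit
  have hA'A : A⁻¹ * A = 1 := Matrix.nonsing_inv_mul A hunit
  let φ : ↥U ≃* ↥U :=
    { toFun := fun u => kap U b hbij (b u ᵥ* A⁻¹)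
      invFun := fun u => kap U b hbij (b u ᵥ* A)
      left_inv := by
        intro u
        show kap U b hbij (b (kap U b hbij (b u ᵥ* A⁻¹)) ᵥ* A) = u
        rw [b_kap U b hbij, Matrix.vecMul_vecMul, hA'A, Matrix.vecMul_one, kap_b U b hbij]
      right_inv := by
        intro u
        show kap U b hbij (b (kap U b hbij (b u ᵥ* A)) ᵥ* A⁻¹) = u
        rw [b_kap U b hbij, Matrix.vecMul_vecMul, hAA', Matrix.vecMul_one, kap_b U b hbij]
      map_mul' := by
        intro u v
        show kap U b hbij (b (u * v) ᵥ* A⁻¹) = kap U b hbij (b u ᵥ* A⁻¹) * kap U b hbij (b v ᵥ* A⁻¹)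
        rw [hadd, Matrix.add_vecMul, kap_add U b hbij hadd] }
  obtain ⟨m, hmM, hm⟩ := hfull φ
  have hcj : ∀ u : ↥U, cj U m u = φ u := fun u => Subtype.ext (hm u).symm
  have hL : ∀ x, LL' U b hbij m x = x ᵥ* A⁻¹ := by
    intro x
    unfold LL'
    rw [hcj]
    show b (kap U b hbij (b (kap U b hbij x) ᵥ* A⁻¹)) = _
    rw [b_kap U b hbij, b_kap U b hbij]
  have hLinv : ∀ x, LL' U b hbij m⁻¹ x = x ᵥ* A := by
    intro x
    have h1 : x = LL' U b hbij m (x ᵥ* A) := by
      rw [hL, Matrix.vecMul_vecMul, hAA', Matrix.vecMul_one]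
    conv_lhs => rw [h1]
    rw [← LL'_mul, inv_mul_cancel, LL'_one]
  have hBm : Bm U b hbij m = A := rowMat_eq_of_vecMul _ _ hLinv
  refine ⟨(kap U b hbij (r ᵥ* A⁻¹) : G) * m, ?_⟩
  have h2 := PhiHom_mul U b hbij hadd M hcompl (kap U b hbij (r ᵥ* A⁻¹)) ⟨m, hmM⟩
  change PhiHom U b hbij hadd M hcompl ((kap U b hbij (r ᵥ* A⁻¹) : G) * m) = _ at h2
  rw [h2]
  apply Subtype.ext
  show mkP (b (kap U b hbij (r ᵥ* A⁻¹))) 1 * mkP 0 (Bm U b hbij m) = g.1
  rw [mkP_mul, hBm, b_kap U b hbij, Matrix.vecMul_vecMul, hA'A, Matrix.vecMul_one, hgm, one_mul,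
    zero_add]

end Abstract

/-- Coordinates on an elementary abelian `2`-group with a prescribed first basis vector. -/
theorem exists_coords {G : Type*} [Group G] (U : Subgroup G) (n : ℕ)
    (hU : Cfsg.IsElementaryAbelian 2 U) (hUcard : Nat.card ↥U = 2 ^ (n + 1)) (z : ↥U) (hz : z ≠ 1) :
    ∃ b : ↥U → (Fin (n + 1) → ZMod 2), Function.Bijective b ∧
      (∀ u v, b (u * v) = b u + b v) ∧ b z = Pi.single 0 1 := by
  classical
  obtain ⟨hcomm, hexp⟩ := hU
  letI : CommGroup ↥U := { (inferInstance : Group ↥U) with mul_comm := fun a b => mul_comm' a b }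
  have h2 : ∀ x : Additive ↥U, 2 • x = 0 := by
    intro x
    have hx : (Additive.toMul x) ^ 2 = 1 := by
      apply Subtype.ext
      rw [Subgroup.coe_pow]
      exact hexp _ (Additive.toMul x).2
    show Additive.ofMul ((Additive.toMul x) ^ 2) = 0
    rw [hx]; rfl
  letI : Module (ZMod 2) (Additive ↥U) := AddCommGroup.zmodModule h2
  haveI : Finite ↥U := Nat.finite_of_card_ne_zero (by rw [hUcard]; positivity)
  haveI : Finite (Additive ↥U) := inferInstanceAs (Finite ↥U)
  haveI : Module.Finite (ZMod 2) (Additive ↥U) := Module.Finite.of_finite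
  have hfr : Module.finrank (ZMod 2) (Additive ↥U) = n + 1 := by
    have h3 := Module.natCard_eq_pow_finrank (K := ZMod 2) (V := Additive ↥U)
    rw [Nat.card_zmod] at h3
    have h4 : Nat.card (Additive ↥U) = Nat.card ↥U := rfl
    rw [h4, hUcard] at h3
    exact (Nat.pow_right_injective (le_refl 2) h3).symm
  obtain ⟨f, hf⟩ := exists_linearEquiv_single hfr (Additive.ofMul z) (by
    intro h
    apply hz
    exact Additive.ofMul.injective h)
  refine ⟨fun u => f (Additive.ofMul u), ?_, ?_, hf⟩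
  · exact f.bijective.comp Additive.ofMul.bijective
  · intro u v
    show f (Additive.ofMul (u * v)) = _
    rw [ofMul_mul, map_add]

end Cfsg.Agent.Lib.Helper27.TvCent
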