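import Mathlib
import Cfsg.Agent.Lib.Helper27.TvCentK
import Cfsg.Agent.S5422

/-! # Transfer of the large-extraspecial structure up along an embedding containing the
centralizer -/

set_option autoImplicit false
set_option linter.style.haveILetI false

namespace Cfsg.Agent.Lib.Helper27.TvCent

open Matrix
open scoped commutatorElement

/-- The image of the centre of a subgroup. -/
theorem mem_map_center_iff {G : Type*} [Group G] (Q : Subgroup G) (x : G) :
    x ∈ (Subgroup.center ↥Q).map Q.subtype ↔ x ∈ Q ∧ x ∈ Subgroup.centralizer (Q : Set G) := by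
  constructor
  · rintro ⟨y, hy, rfl⟩
    refine ⟨y.2, ?_⟩
    rw [Subgroup.mem_centralizer_iff]
    intro q hq
    have hy' : y ∈ Subgroup.center ↥Q := hy
    rw [Subgroup.mem_center_iff] at hy'
    exact congrArg Subtype.val (hy' ⟨q, hq⟩)
  · rintro ⟨hxQ, hx⟩
    refine ⟨⟨x, hxQ⟩, ?_, rfl⟩
    show (⟨x, hxQ⟩ : ↥Q) ∈ Subgroup.center ↥Q
    rw [Subgroup.mem_center_iff]
    intro q
    apply Subtype.ext
    rw [Subgroup.mem_centralizer_iff] at hx
    exact hx q.1 q.2

/-- The image of a normal subgroup of `C` is normalized by `C`. -/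
theorem le_normalizer_map_subtype {G : Type*} [Group G] (C : Subgroup G) (N : Subgroup ↥C)
    [hN : N.Normal] : C ≤ Subgroup.normalizer ((N.map C.subtype : Subgroup G) : Set G) := by
  have key : ∀ g ∈ C, ∀ h ∈ N.map C.subtype, g * h * g⁻¹ ∈ N.map C.subtype := by
    rintro g hg _ ⟨h', hh', rfl⟩
    exact ⟨(⟨g, hg⟩ : ↥C) * h' * (⟨g, hg⟩ : ↥C)⁻¹, hN.conj_mem h' hh' _, rfl⟩
  intro g hg
  rw [Subgroup.mem_normalizer_iff]
  intro h
  constructor
  · exact key g hg h
  · intro hh
    have := key g⁻¹ (C.inv_mem hg) _ hh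
    have h2 : g⁻¹ * (g * h * g⁻¹) * g⁻¹⁻¹ = h := by group
    rwa [h2] at this

/-- A normal `2`-subgroup of `G` inside `C` lies in the radical of `C`. -/
theorem le_radical_of_normal {G : Type*} [Group G] (C N : Subgroup G) [hN : N.Normal]
    (hNC : N ≤ C) (hp : IsPGroup 2 N) :
    N ≤ (Cfsg.pCore 2 ↥C).map C.subtype := by
  have h1 : (N.subgroupOf C).Normal := inferInstance
  have h2 : IsPGroup 2 ↥(N.subgroupOf C) :=
    hp.of_injective (N.subgroupOfEquivOfLe hNC).toMonoidHom (N.subgroupOfEquivOfLe hNC).injective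
  have h3 := Cfsg.Agent.Lib.Helper16.le_pCore h1 h2
  intro x hx
  exact ⟨⟨x, hNC hx⟩, h3 (Subgroup.mem_subgroupOf.2 hx), rfl⟩

/-- A central involution of `C` lies in the radical of `C`. -/
theorem mem_radical_of_central {G : Type*} [Group G] (z : G) (hz : z * z = 1) :
    z ∈ (Cfsg.pCore 2 ↥(Subgroup.centralizer ({z} : Set G))).map
      (Subgroup.centralizer ({z} : Set G)).subtype := by
  set C := Subgroup.centralizer ({z} : Set G) with hC
  have hzC : z ∈ C := by
    rw [hC, Subgroup.mem_centralizer_iff]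
    intro x hx
    rw [Set.mem_singleton_iff] at hx
    rw [hx]
  set z' : ↥C := ⟨z, hzC⟩ with hz'
  have hz'2 : z' * z' = 1 := Subtype.ext hz
  have hcen : z' ∈ Subgroup.center ↥C := by
    rw [Subgroup.mem_center_iff]
    intro g
    apply Subtype.ext
    have hg : (g : G) ∈ Subgroup.centralizer ({z} : Set G) := g.2
    rw [Subgroup.mem_centralizer_iff] at hg
    exact (hg z rfl).symm
  have hle : Subgroup.zpowers z' ≤ Subgroup.center ↥C := by
    rw [Subgroup.zpowers_le]; exact hcen
  haveI hnorm : (Subgroup.zpowers z').Normal := by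
    constructor
    intro n hn g
    have h1 := (Subgroup.mem_center_iff.1 (hle hn)) g
    have h2 : g * n * g⁻¹ = n := by rw [h1, mul_inv_cancel_right]
    rw [h2]; exact hn
  have hp : IsPGroup 2 ↥(Subgroup.zpowers z') := by
    intro x
    refine ⟨1, ?_⟩
    obtain ⟨x, hx⟩ := x
    obtain ⟨k, rfl⟩ := Subgroup.mem_zpowers_iff.1 hx
    apply Subtype.ext
    show (z' ^ k) ^ 2 ^ 1 = 1
    rw [pow_one, ← zpow_natCast, ← _root_.zpow_mul, mul_comm, _root_.zpow_mul, zpow_natCast, pow_two, hz'2,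
      _root_.one_zpow]
  have h3 := Cfsg.Agent.Lib.Helper16.le_pCore hnorm hp
  exact ⟨z', h3 (Subgroup.mem_zpowers z'), rfl⟩

end Cfsg.Agent.Lib.Helper27.TvCent
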