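import Mathlib
import Cfsg.Agent.Lib.Helper27.TvCentL

/-! # Transfer of the large-extraspecial structure up along an embedding containing the
centralizer: main theorem -/

set_option autoImplicit false
set_option linter.style.haveILetI false

namespace Cfsg.Agent.Lib.Helper27.TvCent

open Matrix
open scoped commutatorElement

theorem transfer_up {G₁ G : Type*} [Group G₁] [Group G] [Finite G₁] [Finite G] (n : ℕ)
    (hn : 2 ≤ n) (Φ : G₁ →* G) (hΦ : Function.Injective Φ)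
    (Z₁ : Subgroup G₁) (z₁ : G₁) (hZ₁ : ∀ x, x ∈ Z₁ ↔ x = 1 ∨ x = z₁) (hz1 : z₁ ≠ 1)
    (hz2 : z₁ * z₁ = 1)
    (hrange : Subgroup.centralizer ({Φ z₁} : Set G) ≤ Φ.range)
    (Q₁ : Subgroup G₁)
    (hQ₁ : Q₁ = (Cfsg.pCore 2 ↥(Subgroup.centralizer (Z₁ : Set G₁))).map
      (Subgroup.centralizer (Z₁ : Set G₁)).subtype)
    (h1 : Cfsg.IsExtraspecial 2 ↥Q₁) (h2 : Nat.card ↥Q₁ = 2 ^ (2 * n + 1))
    (h3 : ∃ E : Subgroup G₁, E ≤ Q₁ ∧ Cfsg.IsElementaryAbelian 2 E ∧ Nat.card ↥E = 2 ^ (n + 1))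
    (h4 : Cfsg.IsLargeExtraspecial Q₁)
    (h5 : ∃ K : Subgroup G₁, K ≤ Subgroup.centralizer (Z₁ : Set G₁) ∧ Q₁ ⊓ K = ⊥ ∧
      Q₁ ⊔ K = Subgroup.centralizer (Z₁ : Set G₁) ∧
      Nonempty (↥K ≃* Matrix.GeneralLinearGroup (Fin n) (ZMod 2)))
    (g : G) (hg1 : g * Φ z₁ * g⁻¹ ≠ Φ z₁)
    (Q : Subgroup G)
    (hQ : Q = (Cfsg.pCore 2 ↥(Subgroup.centralizer ({Φ z₁} : Set G))).map
      (Subgroup.centralizer ({Φ z₁} : Set G)).subtype)
    (hg2' : ∃ q₁ ∈ Q₁, Φ q₁ = g * Φ z₁ * g⁻¹) :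
    Cfsg.IsExtraspecial 2 ↥Q ∧ Nat.card ↥Q = 2 ^ (2 * n + 1) ∧
    (∃ E : Subgroup G, E ≤ Q ∧ Cfsg.IsElementaryAbelian 2 E ∧ Nat.card ↥E = 2 ^ (n + 1)) ∧
    Cfsg.IsLargeExtraspecial Q ∧
    ∃ K : Subgroup G, K ≤ Subgroup.centralizer ({Φ z₁} : Set G) ∧ Q ⊓ K = ⊥ ∧
      Q ⊔ K = Subgroup.centralizer ({Φ z₁} : Set G) ∧
      Nonempty (↥K ≃* Matrix.SpecialLinearGroup (Fin n) (ZMod 2)) := by
  classical
  set z : G := Φ z₁ with hz
  have hzz : z * z = 1 := by rw [hz, ← map_mul, hz2, map_one]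
  have hzne : z ≠ 1 := by
    intro h
    apply hz1
    apply hΦ
    rw [← hz, h, map_one]
  -- centralizers correspond
  have hC : (Subgroup.centralizer (Z₁ : Set G₁)).map Φ = Subgroup.centralizer ({z} : Set G) := by
    ext x
    constructor
    · rintro ⟨x₁, hx₁, rfl⟩
      rw [Subgroup.mem_centralizer_iff]
      intro y hy
      rw [Set.mem_singleton_iff] at hy
      have hx₁' : x₁ ∈ Subgroup.centralizer (Z₁ : Set G₁) := hx₁
      rw [Subgroup.mem_centralizer_iff] at hx₁'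
      rw [hy, hz, ← map_mul, ← map_mul, hx₁' z₁ ((hZ₁ z₁).2 (Or.inr rfl))]
    · intro hx
      obtain ⟨x₁, rfl⟩ := hrange hx
      refine ⟨x₁, ?_, rfl⟩
      show x₁ ∈ Subgroup.centralizer (Z₁ : Set G₁)
      rw [Subgroup.mem_centralizer_iff] at hx ⊢
      intro y hy
      rcases (hZ₁ y).1 hy with rfl | rfl
      · simp
      · apply hΦ
        rw [map_mul, map_mul]
        exact hx _ rfl
  have hQmap : Q₁.map Φ = Q := by
    rw [hQ₁, hQ, map_radical_of_injective Φ hΦ]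
    have : ∀ X : Subgroup G, X = Subgroup.centralizer ({z} : Set G) →
        (Cfsg.pCore 2 ↥X).map X.subtype =
          (Cfsg.pCore 2 ↥(Subgroup.centralizer ({z} : Set G))).map
            (Subgroup.centralizer ({z} : Set G)).subtype := by
      rintro X rfl; rfl
    exact this _ hC
  have hg2 : g * z * g⁻¹ ∈ Q := by
    obtain ⟨q₁, hq₁, hq⟩ := hg2'
    rw [← hQmap, ← hq]
    exact Subgroup.mem_map_of_mem _ hq₁
  -- extraspeciality and order
  let e : ↥Q₁ ≃* ↥Q := (Q₁.equivMapOfInjective Φ hΦ).trans (MulEquiv.subgroupCongr hQmap)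
  have hES : Cfsg.IsExtraspecial 2 ↥Q := isExtraspecial_of_mulEquiv_gen e h1
  have hcardQ : Nat.card ↥Q = 2 ^ (2 * n + 1) := by
    rw [← Nat.card_congr e.toEquiv, h2]
  -- the radical is normalized by the centralizer
  have hCN : Subgroup.centralizer ({z} : Set G) ≤ Subgroup.normalizer (Q : Set G) := by
    rw [hQ]
    haveI := Cfsg.Agent.Lib.Helper16.pCore_normal 2 ↥(Subgroup.centralizer ({z} : Set G))
    exact le_normalizer_map_subtype _ _
  have hQC : Q ≤ Subgroup.centralizer ({z} : Set G) := by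
    rw [hQ]
    rintro _ ⟨x, _, rfl⟩
    exact x.2
  have hzQ : z ∈ Q := by rw [hQ]; exact mem_radical_of_central z hzz
  have hzcent : z ∈ Subgroup.centralizer (Q : Set G) := by
    rw [Subgroup.mem_centralizer_iff]
    intro q hq
    have := hQC hq
    rw [Subgroup.mem_centralizer_iff] at this
    exact (this z rfl).symm
  have hzcenter : z ∈ (Subgroup.center ↥Q).map Q.subtype :=
    (mem_map_center_iff Q z).2 ⟨hzQ, hzcent⟩
  -- the centre is {1, z}
  have hcenter_elts : ∀ x, x ∈ (Subgroup.center ↥Q).map Q.subtype → x = 1 ∨ x = z := by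
    rintro _ ⟨x, hx, rfl⟩
    obtain ⟨y, hy1, hyu⟩ := (Nat.card_eq_two_iff' (1 : ↥(Subgroup.center ↥Q))).1 hES.2
    obtain ⟨z', hz'c, hz'⟩ := hzcenter
    by_cases hx1 : x = 1
    · left; rw [hx1]; rfl
    · right
      have e1 : (⟨x, hx⟩ : ↥(Subgroup.center ↥Q)) = y :=
        hyu _ (fun h => hx1 (congrArg Subtype.val h))
      have e2 : (⟨z', hz'c⟩ : ↥(Subgroup.center ↥Q)) = y := by
        apply hyu
        intro h
        apply hzne
        rw [← hz']
        have : z' = 1 := congrArg Subtype.val h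
        rw [this]; rfl
      have e3 : x = z' := congrArg Subtype.val (e1.trans e2.symm)
      rw [e3]; exact hz'
  -- centralizer of Q₁
  have hcent₁ : Subgroup.centralizer (Q₁ : Set G₁) ≤ Q₁ := by
    rw [h4.2.1]
    rintro _ ⟨x, _, rfl⟩
    exact x.2
  have hL2 : Subgroup.centralizer (Q : Set G) = (Subgroup.center ↥Q).map Q.subtype := by
    ext x
    rw [mem_map_center_iff]
    constructor
    · intro hx
      refine ⟨?_, hx⟩
      have hxz : x ∈ Subgroup.centralizer ({z} : Set G) := by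
        rw [Subgroup.mem_centralizer_iff] at hx ⊢
        intro y hy
        rw [Set.mem_singleton_iff] at hy
        rw [hy]; exact hx z hzQ
      obtain ⟨x₁, rfl⟩ := hrange hxz
      rw [← hQmap]
      apply Subgroup.mem_map_of_mem
      apply hcent₁
      rw [Subgroup.mem_centralizer_iff] at hx ⊢
      intro q hq
      apply hΦ
      rw [map_mul, map_mul]
      apply hx
      rw [← hQmap]
      exact Subgroup.mem_map_of_mem _ hq
    · intro hx; exact hx.2
  have hL3 : Subgroup.centralizer (((Subgroup.center ↥Q).map Q.subtype : Subgroup G) : Set G) ≤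
      Subgroup.normalizer (Q : Set G) := by
    intro x hx
    apply hCN
    rw [Subgroup.mem_centralizer_iff] at hx ⊢
    intro y hy
    rw [Set.mem_singleton_iff] at hy
    rw [hy]; exact hx z hzcenter
  have hLarge : Cfsg.IsLargeExtraspecial Q := by
    refine (Cfsg.Agent.S5422.result Q hES hL2 hL3 n hn hcardQ g ?_ ?_).2.2
    · intro hgN
      rw [Subgroup.mem_normalizer_iff] at hgN
      have := (hgN z).1 hzcenter
      rcases hcenter_elts _ this with h | h
      · apply hzne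
        have : z = g⁻¹ * (g * z * g⁻¹) * g := by group
        rw [this, h]; group
      · exact hg1 h
    · rintro _ ⟨x, hx, rfl⟩
      rcases hcenter_elts x hx with rfl | rfl
      · simp
      · exact hg2
  refine ⟨hES, hcardQ, ?_, hLarge, ?_⟩
  · obtain ⟨E, hEQ, ⟨hEc, hEe⟩, hEcard⟩ := h3
    refine ⟨E.map Φ, ?_, ⟨?_, ?_⟩, ?_⟩
    · rw [← hQmap]; exact Subgroup.map_mono hEQ
    · haveI := hEc
      exact inferInstance
    · rintro _ ⟨a, ha, rfl⟩
      rw [← map_pow, hEe a ha, map_one]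
    · rw [Subgroup.card_map_of_injective hΦ, hEcard]
  · obtain ⟨K, hKC, hinf, hsup, ⟨eK⟩⟩ := h5
    refine ⟨K.map Φ, ?_, ?_, ?_, ?_⟩
    · rw [← hC]; exact Subgroup.map_mono hKC
    · rw [← hQmap, ← Subgroup.map_inf _ _ Φ hΦ, hinf, Subgroup.map_bot]
    · rw [← hQmap, ← Subgroup.map_sup, hsup, hC]
    · exact ⟨((K.equivMapOfInjective Φ hΦ).symm.trans eK).trans (slEquivGL n).symm⟩

end Cfsg.Agent.Lib.Helper27.TvCent
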