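import Mathlib
import Cfsg.Agent.Lib.Helper27.TvCentM

/-! # Automorphisms of an elementary abelian `2`-group in coordinates; centralizer isomorphisms -/

set_option autoImplicit false
set_option linter.style.haveILetI false
set_option linter.unusedSectionVars false

namespace Cfsg.Agent.Lib.Helper27.TvCent

open Matrix

theorem rowMat_mul {k : ℕ} (f f' : (Fin k → ZMod 2) → (Fin k → ZMod 2))
    (hf : ∀ x y, f (x + y) = f x + f y) (hf' : ∀ x y, f' (x + y) = f' x + f' y) :
    rowMat f * rowMat f' = rowMat (fun x => f' (f x)) := by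
  symm
  apply rowMat_eq_of_vecMul
  intro x
  rw [← Matrix.vecMul_vecMul, vecMul_rowMat f hf, vecMul_rowMat f' hf']

theorem rowMat_id {k : ℕ} : rowMat (fun x : Fin k → ZMod 2 => x) = 1 := by
  apply rowMat_eq_of_vecMul
  intro x
  rw [Matrix.vecMul_one]

section Coords

variable {G : Type*} [Group G] {k : ℕ} (U : Subgroup G)
  (b : ↥U → (Fin k → ZMod 2)) (hbij : Function.Bijective b)
  (hadd : ∀ u v, b (u * v) = b u + b v)

/-- inverse coordinates (general dimension) -/
noncomputable def kapg (r : Fin k → ZMod 2) : ↥U := (Equiv.ofBijective b hbij).symm r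

theorem b_kapg (r : Fin k → ZMod 2) : b (kapg U b hbij r) = r :=
  (Equiv.ofBijective b hbij).apply_symm_apply r

theorem kapg_b (u : ↥U) : kapg U b hbij (b u) = u :=
  (Equiv.ofBijective b hbij).symm_apply_apply u

include hadd in
theorem kapg_add (r r' : Fin k → ZMod 2) :
    kapg U b hbij (r + r') = kapg U b hbij r * kapg U b hbij r' := by
  apply hbij.1
  rw [hadd, b_kapg U b hbij, b_kapg U b hbij, b_kapg U b hbij]

include hbij hadd in
/-- Every invertible matrix gives an automorphism. -/
theorem exists_aut_of_matrix (A : Matrix (Fin k) (Fin k) (ZMod 2)) (hA : IsUnit A.det) :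
    ∃ φ : ↥U ≃* ↥U, ∀ u, b (φ u) = b u ᵥ* A := by
  have hAA' : A * A⁻¹ = 1 := Matrix.mul_nonsing_inv A hA
  have hA'A : A⁻¹ * A = 1 := Matrix.nonsing_inv_mul A hA
  refine ⟨{ toFun := fun u => kapg U b hbij (b u ᵥ* A)
            invFun := fun u => kapg U b hbij (b u ᵥ* A⁻¹)
            left_inv := ?_
            right_inv := ?_
            map_mul' := ?_ }, ?_⟩
  · intro u
    show kapg U b hbij (b (kapg U b hbij (b u ᵥ* A)) ᵥ* A⁻¹) = u
    rw [b_kapg U b hbij, Matrix.vecMul_vecMul, hAA', Matrix.vecMul_one, kapg_b U b hbij]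
  · intro u
    show kapg U b hbij (b (kapg U b hbij (b u ᵥ* A⁻¹)) ᵥ* A) = u
    rw [b_kapg U b hbij, Matrix.vecMul_vecMul, hA'A, Matrix.vecMul_one, kapg_b U b hbij]
  · intro u v
    show kapg U b hbij (b (u * v) ᵥ* A) = kapg U b hbij (b u ᵥ* A) * kapg U b hbij (b v ᵥ* A)
    rw [hadd, Matrix.add_vecMul, kapg_add U b hbij hadd]
  · intro u
    show b (kapg U b hbij (b u ᵥ* A)) = _
    rw [b_kapg U b hbij]

/-- The coordinate function of an automorphism. -/
noncomputable def autFun (φ : ↥U ≃* ↥U) (r : Fin k → ZMod 2) : Fin k → ZMod 2 :=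
  b (φ (kapg U b hbij r))

include hadd in
theorem autFun_add (φ : ↥U ≃* ↥U) (x y : Fin k → ZMod 2) :
    autFun U b hbij φ (x + y) = autFun U b hbij φ x + autFun U b hbij φ y := by
  unfold autFun
  rw [kapg_add U b hbij hadd, map_mul, hadd]

/-- The matrix of an automorphism, as an element of the general linear group. -/
noncomputable def autGL (φ : ↥U ≃* ↥U) : Matrix.GeneralLinearGroup (Fin k) (ZMod 2) where
  val := rowMat (autFun U b hbij φ)
  inv := rowMat (autFun U b hbij φ.symm)
  val_inv := by
    rw [rowMat_mul _ _ (autFun_add U b hbij hadd φ) (autFun_add U b hbij hadd φ.symm)]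
    convert rowMat_id using 2
    funext x
    unfold autFun
    rw [kapg_b U b hbij, MulEquiv.symm_apply_apply, b_kapg U b hbij]
  inv_val := by
    rw [rowMat_mul _ _ (autFun_add U b hbij hadd φ.symm) (autFun_add U b hbij hadd φ)]
    convert rowMat_id using 2
    funext x
    unfold autFun
    rw [kapg_b U b hbij, MulEquiv.apply_symm_apply, b_kapg U b hbij]

include hadd in
theorem autGL_injective : Function.Injective (autGL U b hbij hadd) := by
  intro φ ψ h
  have h1 : rowMat (autFun U b hbij φ) = rowMat (autFun U b hbij ψ) := congrArg Units.val h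
  ext u
  apply congrArg Subtype.val
  apply hbij.1
  have h2 := vecMul_rowMat _ (autFun_add U b hbij hadd φ) (b u)
  have h3 := vecMul_rowMat _ (autFun_add U b hbij hadd ψ) (b u)
  rw [h1, h3] at h2
  unfold autFun at h2
  rw [kapg_b U b hbij] at h2
  exact h2.symm

end Coords

theorem card_GL_four_two : Nat.card (Matrix.GeneralLinearGroup (Fin 4) (ZMod 2)) = 20160 := by
  rw [Matrix.card_GL_field, ZMod.card, Fin.prod_univ_four]
  norm_num

/-- An elementary abelian group of order `16` has at most `20160` automorphisms. -/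
theorem card_mulAut_le {G : Type*} [Group G] (U : Subgroup G)
    (hU : Cfsg.IsElementaryAbelian 2 U) (hUcard : Nat.card ↥U = 2 ^ (3 + 1)) :
    Nat.card (↥U ≃* ↥U) ≤ 20160 := by
  haveI : Finite ↥U := Nat.finite_of_card_ne_zero (by rw [hUcard]; positivity)
  by_cases h1 : ∃ z : ↥U, z ≠ 1
  · obtain ⟨z, hz⟩ := h1
    obtain ⟨b, hbij, hadd, _⟩ := exists_coords U 3 hU hUcard z hz
    rw [← card_GL_four_two]
    exact Nat.card_le_card_of_injective _ (autGL_injective U b hbij hadd)
  · push Not at h1
    haveI : Subsingleton ↥U := ⟨fun a b => (h1 a).trans (h1 b).symm⟩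
    have : Nat.card ↥U = 1 := Nat.card_unique
    rw [hUcard] at this
    norm_num at this

end Cfsg.Agent.Lib.Helper27.TvCent
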