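import Mathlib
import Cfsg.Agent.Lib.Helper27.TvCentN

/-! # Centralizer isomorphisms -/

set_option autoImplicit false
set_option linter.style.haveILetI false

namespace Cfsg.Agent.Lib.Helper27.TvCent

open Matrix

theorem centralizer_equiv_of_embedding {G : Type*} [Group G] {n : ℕ} (Φ : G →* GG n)
    (hΦ : Function.Injective Φ) (Z : Subgroup G) (z : G) (hZ : ∀ x, x ∈ Z ↔ x = 1 ∨ x = z)
    (hz : Φ z = zz n) (hrange : CC n ≤ Φ.range) :
    Nonempty (↥(Subgroup.centralizer (Z : Set G)) ≃* ↥(CC n)) := by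
  have hC : Subgroup.centralizer (Z : Set G) = (CC n).comap Φ := by
    ext g
    rw [Subgroup.mem_comap, Subgroup.mem_centralizer_iff, Subgroup.mem_centralizer_iff]
    constructor
    · intro h x hx
      rw [Set.mem_singleton_iff] at hx
      rw [hx, ← hz, ← map_mul, ← map_mul, h z ((hZ z).2 (Or.inr rfl))]
    · intro h x hx
      rcases (hZ x).1 hx with rfl | rfl
      · simp
      · apply hΦ
        rw [map_mul, map_mul, hz]
        exact h _ rfl
  have hCmap : (Subgroup.centralizer (Z : Set G)).map Φ = CC n := by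
    rw [hC]; exact Subgroup.map_comap_eq_self hrange
  exact ⟨((Subgroup.centralizer (Z : Set G)).equivMapOfInjective Φ hΦ).trans
    (MulEquiv.subgroupCongr hCmap)⟩

theorem holomorph_centralizer_equiv {G : Type*} [Group G] [Finite G] (n : ℕ)
    (U M : Subgroup G) [U.Normal] (hU : Cfsg.IsElementaryAbelian 2 U)
    (hUcard : Nat.card ↥U = 2 ^ (n + 1)) (hUM : U ⊓ M = ⊥) (hUM' : U ⊔ M = ⊤)
    (hfaith : ∀ m ∈ M, (∀ u ∈ U, m * u * m⁻¹ = u) → m = 1)
    (hfull : ∀ φ : ↥U ≃* ↥U, ∃ m ∈ M, ∀ u : ↥U, ((φ u : ↥U) : G) = m * u * m⁻¹)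
    (Z : Subgroup G) (hZU : Z ≤ U) (hZ : Nat.card ↥Z = 2) :
    Nonempty (↥(Subgroup.centralizer (Z : Set G)) ≃* ↥(CC n)) := by
  classical
  obtain ⟨z, hz1, hzuniq⟩ := (Nat.card_eq_two_iff' (1 : ↥Z)).1 hZ
  have hZmem : ∀ x, x ∈ Z ↔ x = 1 ∨ x = (z : G) := by
    intro x
    constructor
    · intro hx
      by_cases h1 : x = 1
      · exact Or.inl h1
      · right
        have : (⟨x, hx⟩ : ↥Z) = z := hzuniq ⟨x, hx⟩ (fun h => h1 (congrArg Subtype.val h))
        exact congrArg Subtype.val this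
    · rintro (rfl | rfl)
      · exact Z.one_mem
      · exact z.2
  have hzU : (z : G) ∈ U := hZU z.2
  have hzne : (⟨(z : G), hzU⟩ : ↥U) ≠ 1 := by
    intro h
    apply hz1
    apply Subtype.ext
    have h' : ((⟨(z : G), hzU⟩ : ↥U) : G) = ((1 : ↥U) : G) := congrArg Subtype.val h
    exact h'
  obtain ⟨b, hbij, hadd, hbz⟩ := exists_coords U n hU hUcard ⟨(z : G), hzU⟩ hzne
  have hcompl : U.IsComplement' M := by
    apply Subgroup.isComplement'_of_disjoint_and_mul_eq_univ (disjoint_iff.2 hUM)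
    rw [← Subgroup.normal_mul, hUM']
    rfl
  exact centralizer_equiv_of_embedding (PhiHom U b hbij hadd M hcompl)
    (PhiHom_injective U b hbij hadd M hcompl hfaith) Z (z : G) hZmem
    (PhiHom_z U b hbij hadd M hcompl ⟨(z : G), hzU⟩ hbz)
    (CC_le_range U b hbij hadd M hcompl hfull)

theorem centralizer_equiv_up {G₁ G : Type*} [Group G₁] [Group G] (Φ : G₁ →* G)
    (hΦ : Function.Injective Φ) (Z₁ : Subgroup G₁) (z₁ : G₁)
    (hZ₁ : ∀ x, x ∈ Z₁ ↔ x = 1 ∨ x = z₁)
    (hrange : Subgroup.centralizer ({Φ z₁} : Set G) ≤ Φ.range) :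
    Nonempty (↥(Subgroup.centralizer (Z₁ : Set G₁)) ≃*
      ↥(Subgroup.centralizer ({Φ z₁} : Set G))) := by
  have hC : (Subgroup.centralizer (Z₁ : Set G₁)).map Φ =
      Subgroup.centralizer ({Φ z₁} : Set G) := by
    ext x
    constructor
    · rintro ⟨x₁, hx₁, rfl⟩
      rw [Subgroup.mem_centralizer_iff]
      intro y hy
      rw [Set.mem_singleton_iff] at hy
      have hx₁' : x₁ ∈ Subgroup.centralizer (Z₁ : Set G₁) := hx₁
      rw [Subgroup.mem_centralizer_iff] at hx₁'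
      rw [hy, ← map_mul, ← map_mul, hx₁' z₁ ((hZ₁ z₁).2 (Or.inr rfl))]
    · intro hx
      obtain ⟨x₁, rfl⟩ := hrange hx
      refine ⟨x₁, ?_, rfl⟩
      show x₁ ∈ Subgroup.centralizer (Z₁ : Set G₁)
      rw [Subgroup.mem_centralizer_iff] at hx ⊢
      intro y hy
      rcases (hZ₁ y).1 hy with rfl | rfl
      · simp
      · apply hΦ
        rw [map_mul, map_mul]
        exact hx _ rfl
  exact ⟨((Subgroup.centralizer (Z₁ : Set G₁)).equivMapOfInjective Φ hΦ).trans
    (MulEquiv.subgroupCongr hC)⟩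

end Cfsg.Agent.Lib.Helper27.TvCent
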