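import Mathlib
import Cfsg.Agent.Lib.Helper27.M24OctA
import Cfsg.Agent.Lib.Helper27.TvCentO

/-! # The octad stabilizer `2^4 : A_8` in `M24` as a holomorph -/

set_option autoImplicit false
set_option linter.style.haveILetI false
set_option linter.unusedSectionVars false

namespace Cfsg.Agent.Lib.Helper27.M24Oct

open Cfsg Cfsg.Agent.Lib.Helper21
open scoped Pointwise

theorem mem_zpowers_of_sq {G : Type*} [Group G] (z : G) (hz : z * z = 1) (x : G) :
    x ∈ Subgroup.zpowers z ↔ x = 1 ∨ x = z := by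
  constructor
  · intro hx
    obtain ⟨k, rfl⟩ := Subgroup.mem_zpowers_iff.1 hx
    have h2 : z ^ (2 : ℤ) = 1 := by
      rw [show (2 : ℤ) = ((2 : ℕ) : ℤ) from rfl, zpow_natCast, pow_two, hz]
    rcases Int.even_or_odd' k with ⟨j, hj | hj⟩
    · left
      rw [hj, _root_.zpow_mul, h2, _root_.one_zpow]
    · right
      rw [hj, zpow_add, _root_.zpow_mul, h2, _root_.one_zpow, one_mul, zpow_one]
  · rintro (rfl | rfl)
    · exact Subgroup.one_mem _
    · exact Subgroup.mem_zpowers _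

theorem mul_comm_of_sq {G : Type*} [Group G] (h : ∀ x : G, x * x = 1) (a b : G) :
    a * b = b * a := by
  have hab := h (a * b)
  calc a * b = a * ((b * a) * (b * a)) * b := by rw [h (b * a), mul_one]
    _ = (a * b) * (a * b) * (a * b) := by group
    _ = a * b := by rw [hab, one_mul]
  have h1 : b * a = (a * a) * (b * a) * (b * b) := by rw [h a, h b, one_mul, mul_one]
  rw [h1]
  have h2 : (a * a) * (b * a) * (b * b) = a * ((a * b) * (a * b)) * b := by group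
  rw [h2, hab, mul_one]

section Setup

variable (o : Finset GolayPt) (p : GolayPt)

/-- the octad stabilizer -/
abbrev H0 : Subgroup (Equiv.Perm GolayPt) :=
  M24 ⊓ MulAction.stabilizer (Equiv.Perm GolayPt) o
/-- the translation subgroup -/
abbrev U0 : Subgroup (Equiv.Perm GolayPt) :=
  M24 ⊓ fixingSubgroup (Equiv.Perm GolayPt) (o : Set GolayPt)
/-- the complement -/
abbrev M0 : Subgroup (Equiv.Perm GolayPt) :=
  M24 ⊓ MulAction.stabilizer (Equiv.Perm GolayPt) o ⊓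
    MulAction.stabilizer (Equiv.Perm GolayPt) p

theorem U0_le_H0 : U0 o ≤ H0 o := by
  intro u hu
  exact Subgroup.mem_inf.2 ⟨(Subgroup.mem_inf.1 hu).1, MulAction.mem_stabilizer_iff.2
    (smul_eq_of_fixing ((mem_fixing_iff u o).1 (Subgroup.mem_inf.1 hu).2))⟩

theorem M0_le_H0 : M0 o p ≤ H0 o := inf_le_left

/-- the translation subgroup inside the octad stabilizer -/
abbrev U1 : Subgroup ↥(H0 o) := (U0 o).subgroupOf (H0 o)
/-- the complement inside the octad stabilizer -/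
abbrev M1 : Subgroup ↥(H0 o) := (M0 o p).subgroupOf (H0 o)

theorem mem_U1_iff (u : ↥(H0 o)) : u ∈ U1 o ↔ ∀ x ∈ o, (u : Equiv.Perm GolayPt) x = x := by
  rw [Subgroup.mem_subgroupOf, Subgroup.mem_inf, mem_fixing_iff]
  constructor
  · intro h; exact h.2
  · intro h; exact ⟨(Subgroup.mem_inf.1 u.2).1, h⟩

theorem H0_apply_mem_iff (h : ↥(H0 o)) (x : GolayPt) :
    (h : Equiv.Perm GolayPt) x ∈ o ↔ x ∈ o :=
  apply_mem_iff_of_smul_eq (MulAction.mem_stabilizer_iff.1 (Subgroup.mem_inf.1 h.2).2) x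

instance U1_normal : (U1 o).Normal := by
  constructor
  intro u hu h
  rw [mem_U1_iff] at hu ⊢
  intro x hx
  show (h : Equiv.Perm GolayPt) ((u : Equiv.Perm GolayPt)
    (((h⁻¹ : ↥(H0 o)) : Equiv.Perm GolayPt) x)) = x
  have hx' : ((h⁻¹ : ↥(H0 o)) : Equiv.Perm GolayPt) x ∈ o := (H0_apply_mem_iff o h⁻¹ x).2 hx
  rw [hu _ hx']
  show ((h * h⁻¹ : ↥(H0 o)) : Equiv.Perm GolayPt) x = x
  rw [mul_inv_cancel]
  rfl

variable (ho : o ∈ octads) (hp : p ∉ o)

include ho in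
theorem U1_sq (u : ↥(H0 o)) (hu : u ∈ U1 o) : u * u = 1 := by
  apply Subtype.ext
  exact (octad_fixing o ho).2 _ (Subgroup.mem_subgroupOf.1 hu)

include ho in
theorem U1_elementary : Cfsg.IsElementaryAbelian 2 (U1 o) := by
  refine ⟨⟨⟨fun a b => ?_⟩⟩, ?_⟩
  · exact mul_comm_of_sq (fun x : ↥(U1 o) => Subtype.ext (U1_sq o ho x.1 x.2)) a b
  · intro a ha
    rw [pow_two]
    exact U1_sq o ho a ha

include ho in
theorem U1_card : Nat.card ↥(U1 o) = 2 ^ (3 + 1) := by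
  rw [Nat.card_congr ((U0 o).subgroupOfEquivOfLe (U0_le_H0 o)).toEquiv, (octad_fixing o ho).1]
  norm_num

include ho hp in
theorem U1_inf_M1 : U1 o ⊓ M1 o p = ⊥ := by
  show (U0 o).comap (H0 o).subtype ⊓ (M0 o p).comap (H0 o).subtype = ⊥
  rw [← Subgroup.comap_inf, (octad_split o ho p hp).1]
  ext x
  rw [Subgroup.mem_comap, Subgroup.mem_bot, Subgroup.mem_bot]
  exact ⟨fun h => Subtype.ext h, fun h => congrArg Subtype.val h⟩

include ho hp in
theorem U1_sup_M1 : U1 o ⊔ M1 o p = ⊤ := by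
  rw [← Subgroup.subgroupOf_sup (U0_le_H0 o) (M0_le_H0 o p), (octad_split o ho p hp).2.1]
  exact Subgroup.subgroupOf_eq_top.2 le_rfl

include ho hp in
theorem M1_faithful : ∀ m ∈ M1 o p, (∀ u ∈ U1 o, m * u * m⁻¹ = u) → m = 1 := by
  intro m hm hcomm
  apply Subtype.ext
  have hm' : (m : Equiv.Perm GolayPt) ∈ M0 o p := Subgroup.mem_subgroupOf.1 hm
  have hmp : (m : Equiv.Perm GolayPt) p = p :=
    MulAction.mem_stabilizer_iff.1 (Subgroup.mem_inf.1 hm').2
  apply faithful o ho p hp m (Subgroup.mem_inf.1 m.2).1 hmp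
  intro u hu hfix
  have huH : u ∈ H0 o := U0_le_H0 o (Subgroup.mem_inf.2 ⟨hu, (mem_fixing_iff u o).2 hfix⟩)
  have h1 := hcomm ⟨u, huH⟩ ((mem_U1_iff o _).2 hfix)
  have h2 : m * ⟨u, huH⟩ = ⟨u, huH⟩ * m := by
    calc m * ⟨u, huH⟩ = (m * ⟨u, huH⟩ * m⁻¹) * m := by group
      _ = ⟨u, huH⟩ * m := by rw [h1]
  exact congrArg Subtype.val h2

include ho hp in
theorem M1_card : Nat.card ↥(M1 o p) = 20160 := by
  obtain ⟨e⟩ := (octad_split o ho p hp).2.2
  rw [Nat.card_congr ((M0 o p).subgroupOfEquivOfLe (M0_le_H0 o p)).toEquiv,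
    Nat.card_congr e.toEquiv, nat_card_alternatingGroup, Nat.card_fin]
  rfl

include ho hp in
theorem M1_full : ∀ φ : ↥(U1 o) ≃* ↥(U1 o), ∃ m ∈ M1 o p, ∀ u : ↥(U1 o),
    ((φ u : ↥(U1 o)) : ↥(H0 o)) = m * u * m⁻¹ := by
  have hinj : Function.Injective (fun m : ↥(M1 o p) =>
      (MulAut.conjNormal (m : ↥(H0 o)) : ↥(U1 o) ≃* ↥(U1 o))) := by
    intro m m' h
    have h1 : ∀ u ∈ U1 o, ((m' : ↥(H0 o))⁻¹ * m) * u * ((m' : ↥(H0 o))⁻¹ * m)⁻¹ = u := by
      intro u hu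
      have h2 := congrArg (fun f : ↥(U1 o) ≃* ↥(U1 o) => ((f ⟨u, hu⟩ : ↥(U1 o)) : ↥(H0 o))) h
      simp only [MulAut.conjNormal_apply] at h2
      calc ((m' : ↥(H0 o))⁻¹ * m) * u * ((m' : ↥(H0 o))⁻¹ * m)⁻¹
          = (m' : ↥(H0 o))⁻¹ * ((m : ↥(H0 o)) * u * (m : ↥(H0 o))⁻¹) * m' := by group
        _ = (m' : ↥(H0 o))⁻¹ * ((m' : ↥(H0 o)) * u * (m' : ↥(H0 o))⁻¹) * m' := by rw [h2]
        _ = u := by group
    have h3 := M1_faithful o p ho hp _ ((M1 o p).mul_mem ((M1 o p).inv_mem m'.2) m.2) h1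
    apply Subtype.ext
    exact (inv_mul_eq_one.1 h3).symm
  haveI : Finite ↥(U1 o) := Nat.finite_of_card_ne_zero (by rw [U1_card o ho]; norm_num)
  have hbij := hinj.bijective_of_nat_card_le (by
    rw [M1_card o p ho hp]
    exact TvCent.card_mulAut_le (U1 o) (U1_elementary o ho) (U1_card o ho))
  intro φ
  obtain ⟨m, hm⟩ := hbij.2 φ
  refine ⟨m, m.2, ?_⟩
  intro u
  rw [← hm]
  exact MulAut.conjNormal_apply _ _

end Setup

end Cfsg.Agent.Lib.Helper27.M24Oct
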