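import Mathlib
import Cfsg.Agent.Lib.Helper27.M24OctB
import Cfsg.Agent.S5423

/-! # Involutions of `M24` fixing an octad: centralizer structure -/

set_option autoImplicit false
set_option linter.style.haveILetI false
set_option linter.unusedSectionVars false

namespace Cfsg.Agent.Lib.Helper27.M24Oct

open Cfsg Cfsg.Agent.Lib.Helper21
open scoped Pointwise

section Main

variable (z : ↥Cfsg.M24) (hz : orderOf z = 2)
  (hfix : (Finset.univ.filter fun p : Cfsg.GolayPt => (z : Equiv.Perm Cfsg.GolayPt) p = p) ∈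
    Cfsg.octads)

/-- the fixed octad -/
abbrev oz : Finset GolayPt :=
  Finset.univ.filter fun p : Cfsg.GolayPt => (z : Equiv.Perm Cfsg.GolayPt) p = p

theorem mem_oz (q : GolayPt) : q ∈ oz z ↔ (z : Equiv.Perm GolayPt) q = q := by
  simp [oz]

theorem z_mem_H0 : (z : Equiv.Perm GolayPt) ∈ H0 (oz z) :=
  U0_le_H0 _ (Subgroup.mem_inf.2 ⟨z.2, (mem_fixing_iff _ _).2 (fun x hx => (mem_oz z x).1 hx)⟩)

/-- the involution inside the octad stabilizer -/
def z1 : ↥(H0 (oz z)) := ⟨(z : Equiv.Perm GolayPt), z_mem_H0 z⟩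

/-- the inclusion of the octad stabilizer -/
def incl : ↥(H0 (oz z)) →* ↥Cfsg.M24 := Subgroup.inclusion inf_le_left

theorem incl_injective : Function.Injective (incl z) := Subgroup.inclusion_injective _

theorem incl_z1 : incl z (z1 z) = z := Subtype.ext rfl

include hz in
theorem z_sq : z * z = 1 := by
  rw [← pow_two, ← hz]; exact pow_orderOf_eq_one z

include hz in
theorem z_ne_one : z ≠ 1 := by
  intro h
  rw [h, orderOf_one] at hz
  norm_num at hz

include hz in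
theorem z1_sq : z1 z * z1 z = 1 := by
  apply incl_injective z
  rw [map_mul, incl_z1, z_sq z hz, map_one]

include hz in
theorem z1_ne_one : z1 z ≠ 1 := by
  intro h
  apply z_ne_one z hz
  rw [← incl_z1 z, h, map_one]

theorem z1_mem_U1 : z1 z ∈ U1 (oz z) :=
  (mem_U1_iff _ _).2 (fun x hx => (mem_oz z x).1 hx)

theorem centralizer_le_range :
    Subgroup.centralizer ({incl z (z1 z)} : Set ↥Cfsg.M24) ≤ (incl z).range := by
  rw [incl_z1]
  intro x hx
  rw [Subgroup.mem_centralizer_iff] at hx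
  have hcomm : (z : Equiv.Perm GolayPt) * x = x * z := congrArg Subtype.val (hx z rfl)
  have hstab : (x : Equiv.Perm GolayPt) • oz z = oz z := by
    apply smul_eq_of_apply_mem_iff
    intro q
    rw [mem_oz, mem_oz]
    have h1 := congrArg (fun f : Equiv.Perm GolayPt => f q) hcomm
    simp only [Equiv.Perm.mul_apply] at h1
    rw [h1]
    exact (x : Equiv.Perm GolayPt).injective.eq_iff
  exact ⟨⟨x, Subgroup.mem_inf.2 ⟨x.2, MulAction.mem_stabilizer_iff.2 hstab⟩⟩, Subtype.ext rfl⟩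

include hz hfix in
theorem exists_outside : ∃ p : GolayPt, p ∉ oz z := by
  by_contra hcon
  push Not at hcon
  apply z_ne_one z hz
  apply Subtype.ext
  rw [Subgroup.coe_one]
  exact Equiv.ext fun q => (mem_oz z q).1 (hcon q)

include hz hfix in
theorem main :
    ∀ Q : Subgroup ↥Cfsg.M24,
      Q = (Cfsg.pCore 2 ↥(Subgroup.centralizer ({z} : Set ↥Cfsg.M24))).map
        (Subgroup.centralizer ({z} : Set ↥Cfsg.M24)).subtype →
    (Cfsg.IsExtraspecial 2 ↥Q ∧ Nat.card ↥Q = 2 ^ 7 ∧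
    (∃ E : Subgroup ↥Cfsg.M24, E ≤ Q ∧ Cfsg.IsElementaryAbelian 2 E ∧ Nat.card ↥E = 2 ^ 4) ∧
    Cfsg.IsLargeExtraspecial Q ∧
    ∃ K : Subgroup ↥Cfsg.M24, K ≤ Subgroup.centralizer ({z} : Set ↥Cfsg.M24) ∧ Q ⊓ K = ⊥ ∧
      Q ⊔ K = Subgroup.centralizer ({z} : Set ↥Cfsg.M24) ∧
      Nonempty (↥K ≃* Matrix.SpecialLinearGroup (Fin 3) (ZMod 2))) ∧
    Nonempty (↥(Subgroup.centralizer ({z} : Set ↥Cfsg.M24)) ≃* ↥(TvCent.CC 3)) := by
  classical
  intro Q hQ
  obtain ⟨p, hp⟩ := exists_outside z hz hfix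
  have ho : oz z ∈ octads := hfix
  haveI : Finite ↥(H0 (oz z)) := inferInstance
  have hU := U1_elementary (oz z) ho
  have hUcard := U1_card (oz z) ho
  have hUM := U1_inf_M1 (oz z) p ho hp
  have hUM' := U1_sup_M1 (oz z) p ho hp
  have hfaith := M1_faithful (oz z) p ho hp
  have hfull := M1_full (oz z) p ho hp
  -- the subgroup of order two
  set Z1 : Subgroup ↥(H0 (oz z)) := Subgroup.zpowers (z1 z) with hZ1
  have hZ1mem : ∀ x, x ∈ Z1 ↔ x = 1 ∨ x = z1 z := mem_zpowers_of_sq (z1 z) (z1_sq z hz)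
  have hZU : Z1 ≤ U1 (oz z) := by
    rw [hZ1, Subgroup.zpowers_le]; exact z1_mem_U1 z
  have hZcard : Nat.card ↥Z1 = 2 := by
    rw [hZ1, Nat.card_zpowers]
    exact orderOf_eq_prime (by rw [pow_two]; exact z1_sq z hz) (z1_ne_one z hz)
  -- S5423 for the octad stabilizer
  obtain ⟨r1, r2, r3, r4, r5⟩ := Cfsg.Agent.S5423.result (G := ↥(H0 (oz z))) 3 (by norm_num)
    (U1 (oz z)) (M1 (oz z) p) hU hUcard hUM hUM' hfaith hfull Z1 hZU hZcard _ rfl
  -- an element moving z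
  obtain ⟨b, hbij, hadd, hbz⟩ :=
    TvCent.exists_coords (U1 (oz z)) 3 hU hUcard ⟨z1 z, z1_mem_U1 z⟩ (by
      intro h
      exact z1_ne_one z hz (congrArg Subtype.val h))
  obtain ⟨φ, hφ⟩ := TvCent.exists_aut_of_matrix (U1 (oz z)) b hbij hadd
    (Matrix.transvection (0 : Fin 4) 1 (1 : ZMod 2))
    (by rw [Matrix.det_transvection_of_ne _ _ (by decide)]; exact isUnit_one)
  obtain ⟨m, hmM, hm⟩ := hfull φ
  have hmz : m * z1 z * m⁻¹ ≠ z1 z := by
    intro h
    have h1 := hm ⟨z1 z, z1_mem_U1 z⟩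
    rw [h] at h1
    have h2 : φ ⟨z1 z, z1_mem_U1 z⟩ = ⟨z1 z, z1_mem_U1 z⟩ := Subtype.ext h1
    have h3 := hφ ⟨z1 z, z1_mem_U1 z⟩
    rw [h2, hbz] at h3
    have h4 := congrFun h3 1
    rw [Matrix.transvection, Matrix.vecMul_add, Matrix.vecMul_one] at h4
    simp [Matrix.vecMul, dotProduct, Matrix.single_apply, Pi.single_apply,
      Fin.sum_univ_four] at h4
  -- U1 lies in the radical
  have hUQ : U1 (oz z) ≤ (Cfsg.pCore 2 ↥(Subgroup.centralizer (Z1 : Set ↥(H0 (oz z))))).map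
      (Subgroup.centralizer (Z1 : Set ↥(H0 (oz z)))).subtype := by
    apply TvCent.le_radical_of_normal
    · intro u hu
      rw [Subgroup.mem_centralizer_iff]
      intro x hx
      have hxU := hZU hx
      haveI := hU.1
      exact congrArg Subtype.val (mul_comm' (⟨x, hxU⟩ : ↥(U1 (oz z))) ⟨u, hu⟩)
    · exact IsPGroup.of_card hUcard
  have hconjU : m * z1 z * m⁻¹ ∈ U1 (oz z) :=
    (U1_normal (oz z)).conj_mem _ (z1_mem_U1 z) m
  have hQ' : Q = (Cfsg.pCore 2 ↥(Subgroup.centralizer ({incl z (z1 z)} : Set ↥Cfsg.M24))).map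
      (Subgroup.centralizer ({incl z (z1 z)} : Set ↥Cfsg.M24)).subtype := by
    rw [incl_z1]; exact hQ
  have hup := TvCent.transfer_up 3 (by norm_num) (incl z) (incl_injective z) Z1 (z1 z) hZ1mem
    (z1_ne_one z hz) (z1_sq z hz) (centralizer_le_range z) _ rfl r1 r2 r3 r4 r5
    (incl z m) (by
      rw [← map_inv, ← map_mul, ← map_mul]
      exact fun h => hmz (incl_injective z h))
    Q hQ' ⟨m * z1 z * m⁻¹, hUQ hconjU, by rw [map_mul, map_mul, map_inv]⟩
  rw [incl_z1] at hup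
  refine ⟨hup, ?_⟩
  obtain ⟨e1⟩ := TvCent.centralizer_equiv_up (incl z) (incl_injective z) Z1 (z1 z) hZ1mem
    (centralizer_le_range z)
  obtain ⟨e2⟩ := TvCent.holomorph_centralizer_equiv 3 (U1 (oz z)) (M1 (oz z) p) hU hUcard hUM hUM'
    hfaith hfull Z1 hZU hZcard
  rw [incl_z1] at e1
  exact ⟨e1.symm.trans e2⟩

end Main

end Cfsg.Agent.Lib.Helper27.M24Oct
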