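import Cfsg.Prelude.Def_AxialAlgebras
import Mathlib

set_option autoImplicit false

namespace Cfsg.Agent.Lib.Helper27.Majorana

open Cfsg Cfsg.Axial

variable {V : Type*} [AddCommGroup V] [Module ℝ V]

/-- An eigenspace is disjoint from the sum of the eigenspaces for eigenvalues in a set not
containing its eigenvalue. -/
theorem eigen_disjoint (mul : V →ₗ[ℝ] V →ₗ[ℝ] V) (a : V) (c : ℝ) (S : Set ℝ) (hc : c ∉ S) :
    Disjoint (eigen mul a c) (eigenSum mul a S) := by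
  have h := (Module.End.eigenspaces_iSupIndep (mul a)) c
  refine h.mono_right ?_
  unfold eigenSum eigen
  exact biSup_mono (fun d hd => fun h => hc (h ▸ hd))

theorem eigen_inter_eq_zero (mul : V →ₗ[ℝ] V →ₗ[ℝ] V) (a : V) (c : ℝ) (S : Set ℝ) (hc : c ∉ S)
    {w : V} (h1 : w ∈ eigen mul a c) (h2 : w ∈ eigenSum mul a S) : w = 0 := by
  have h := eigen_disjoint mul a c S hc
  rw [Submodule.disjoint_def] at h
  exact h w h1 h2

theorem eigen_eq_bot_of_top (mul : V →ₗ[ℝ] V →ₗ[ℝ] V) (a : V) (c : ℝ) (S : Set ℝ) (hc : c ∉ S)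
    (htop : eigenSum mul a S = ⊤) : eigen mul a c = ⊥ := by
  have h := eigen_disjoint mul a c S hc
  rw [htop] at h
  exact disjoint_top.mp h

theorem mem_eigen_iff (mul : V →ₗ[ℝ] V →ₗ[ℝ] V) (a : V) (c : ℝ) (v : V) :
    v ∈ eigen mul a c ↔ mul a v = c • v := by
  unfold eigen
  exact Module.End.mem_eigenspace_iff

theorem eigen_le_eigenSum (mul : V →ₗ[ℝ] V →ₗ[ℝ] V) (a : V) (c : ℝ) (S : Set ℝ) (hc : c ∈ S) :
    eigen mul a c ≤ eigenSum mul a S := by
  unfold eigenSum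
  exact le_biSup (fun d => eigen mul a d) hc

theorem eigenSum_mono (mul : V →ₗ[ℝ] V →ₗ[ℝ] V) (a : V) {S T : Set ℝ} (h : S ⊆ T) :
    eigenSum mul a S ≤ eigenSum mul a T := by
  unfold eigenSum
  exact biSup_mono (fun d hd => h hd)

theorem monsterLaw_quarter_quarter :
    monsterLaw (1 / 4 : ℝ) (1 / 32) (1 / 4) (1 / 4) = {1, 0} := by
  unfold monsterLaw
  have h1 : ¬ ((1 / 4 : ℝ) = 1 / 32) := by norm_num
  simp [h1]

theorem monsterLaw_zero_quarter :
    monsterLaw (1 / 4 : ℝ) (1 / 32) 0 (1 / 4) = {1 / 4} := by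
  unfold monsterLaw
  simp

theorem monsterLaw_zero_zero :
    monsterLaw (1 / 4 : ℝ) (1 / 32) 0 0 = {0} := by
  unfold monsterLaw
  simp

theorem quarter_mem_spectrum : (1 / 4 : ℝ) ∈ majoranaSpectrum := by
  unfold majoranaSpectrum; simp

theorem zero_mem_spectrum : (0 : ℝ) ∈ majoranaSpectrum := by
  unfold majoranaSpectrum; simp

theorem one_mem_spectrum : (1 : ℝ) ∈ majoranaSpectrum := by
  unfold majoranaSpectrum; simp

theorem eighth_not_mem_spectrum : (1 / 8 : ℝ) ∉ majoranaSpectrum := by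
  unfold majoranaSpectrum
  simp only [Set.mem_insert_iff, Set.mem_singleton_iff, not_or]
  refine ⟨?_, ?_, ?_, ?_⟩ <;> norm_num

theorem quarter_not_mem_one_zero : (1 / 4 : ℝ) ∉ ({1, 0} : Set ℝ) := by
  simp only [Set.mem_insert_iff, Set.mem_singleton_iff, not_or]
  refine ⟨?_, ?_⟩ <;> norm_num

end Cfsg.Agent.Lib.Helper27.Majorana
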