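import Cfsg.Agent.Lib.Helper27.Majorana

set_option autoImplicit false

namespace Cfsg.Agent.Lib.Helper27.Majorana

open Cfsg Cfsg.Axial

variable {V : Type*} [AddCommGroup V] [Module ℝ V]

theorem eigen_map (mul : V →ₗ[ℝ] V →ₗ[ℝ] V) (ν : V ≃ₗ[ℝ] V)
    (hν : ∀ u v, ν (mul u v) = mul (ν u) (ν v)) (a : V) (c : ℝ) :
    eigen mul (ν a) c = (eigen mul a c).map (ν : V →ₗ[ℝ] V) := by
  ext v
  rw [mem_eigen_iff, Submodule.mem_map]
  constructor
  · intro h
    refine ⟨ν.symm v, ?_, by simp⟩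
    rw [mem_eigen_iff]
    apply ν.injective
    rw [hν, LinearEquiv.apply_symm_apply, map_smul, LinearEquiv.apply_symm_apply]
    exact h
  · rintro ⟨w, hw, rfl⟩
    rw [mem_eigen_iff] at hw
    show mul (ν a) (ν w) = c • ν w
    rw [← hν, hw, map_smul]

theorem eigenSum_map (mul : V →ₗ[ℝ] V →ₗ[ℝ] V) (ν : V ≃ₗ[ℝ] V)
    (hν : ∀ u v, ν (mul u v) = mul (ν u) (ν v)) (a : V) (S : Set ℝ) :
    eigenSum mul (ν a) S = (eigenSum mul a S).map (ν : V →ₗ[ℝ] V) := by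
  unfold eigenSum
  simp_rw [Submodule.map_iSup, eigen_map mul ν hν]

/-- Transport of a Majorana pair along an algebra automorphism commuting with the involution. -/
theorem majoranaPair_transport (mul : V →ₗ[ℝ] V →ₗ[ℝ] V) (B : LinearMap.BilinForm ℝ V)
    (μ ν : V ≃ₗ[ℝ] V) (a : V)
    (h : IsMajoranaPair mul B μ a) (hν : ∀ u v, ν (mul u v) = mul (ν u) (ν v))
    (hc : ∀ v, μ (ν v) = ν (μ v)) : IsMajoranaPair mul B μ (ν a) := by
  obtain ⟨hm, hB, ⟨⟨hne, hid, htop, hfus⟩, hprim⟩, hmiy1, hmiy2⟩ := h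
  refine ⟨hm, hB, ⟨⟨?_, ?_, ?_, ?_⟩, ?_⟩, ?_, ?_⟩
  · intro h0
    apply hne
    exact (LinearEquiv.map_eq_zero_iff ν).mp h0
  · rw [← hν, hid]
  · rw [eigenSum_map mul ν hν, htop, Submodule.map_top]
    exact LinearEquiv.range ν
  · intro c hc' d hd u hu v hv
    rw [eigen_map mul ν hν] at hu hv
    obtain ⟨u', hu', rfl⟩ := hu
    obtain ⟨v', hv', rfl⟩ := hv
    rw [eigenSum_map mul ν hν]
    refine ⟨mul u' v', hfus c hc' d hd u' hu' v' hv', ?_⟩
    simp [hν]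
  · rw [eigen_map mul ν hν, hprim, Submodule.map_span, Set.image_singleton]
    rfl
  · intro v hv
    rw [eigenSum_map mul ν hν] at hv
    obtain ⟨v', hv', rfl⟩ := hv
    have := hmiy1 v' hv'
    simp only [LinearEquiv.coe_coe] at this ⊢
    rw [hc, this]
  · intro v hv
    rw [eigen_map mul ν hν] at hv
    obtain ⟨v', hv', rfl⟩ := hv
    have := hmiy2 v' hv'
    simp only [LinearEquiv.coe_coe] at this ⊢
    rw [hc, this, map_neg]

/-- A vector fixed by a Majorana involution has no `1/32`-component. -/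
theorem decomp_of_fixed (mul : V →ₗ[ℝ] V →ₗ[ℝ] V) (B : LinearMap.BilinForm ℝ V)
    (μ : V ≃ₗ[ℝ] V) (b : V) (h : IsMajoranaPair mul B μ b) (a : V) (hfix : μ a = a) :
    ∃ c : ℝ, ∃ x0 ∈ eigen mul b 0, ∃ xq ∈ eigen mul b (1 / 4), a = c • b + x0 + xq := by
  obtain ⟨hm, hB, ⟨⟨hne, hid, htop, hfus⟩, hprim⟩, hmiy1, hmiy2⟩ := h
  have ha : a ∈ eigenSum mul b majoranaSpectrum := by rw [htop]; trivial
  unfold eigenSum majoranaSpectrum at ha
  rw [iSup_insert, iSup_insert, iSup_insert, iSup_singleton] at ha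
  obtain ⟨x1, hx1, r1, hr1, rfl⟩ := Submodule.mem_sup.mp ha
  obtain ⟨x0, hx0, r2, hr2, rfl⟩ := Submodule.mem_sup.mp hr1
  obtain ⟨xq, hxq, x32, hx32, rfl⟩ := Submodule.mem_sup.mp hr2
  have f1 : μ x1 = x1 := hmiy1 x1 (eigen_le_eigenSum _ _ _ _ (by simp) hx1)
  have f0 : μ x0 = x0 := hmiy1 x0 (eigen_le_eigenSum _ _ _ _ (by simp) hx0)
  have fq : μ xq = xq := hmiy1 xq (eigen_le_eigenSum _ _ _ _ (by simp) hxq)
  have f32 : μ x32 = -x32 := hmiy2 x32 hx32
  have hz : x32 = 0 := by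
    have h2 := hfix
    rw [map_add, map_add, map_add, f1, f0, fq, f32] at h2
    have h3 : -x32 = x32 := add_left_cancel (add_left_cancel (add_left_cancel h2))
    have h4 : (2 : ℝ) • x32 = 0 := by
      rw [two_smul]
      nth_rewrite 1 [← h3]
      exact neg_add_cancel x32
    rcases smul_eq_zero.mp h4 with h5 | h5
    · norm_num at h5
    · exact h5
  rw [hprim] at hx1
  obtain ⟨c, rfl⟩ := Submodule.mem_span_singleton.mp hx1
  exact ⟨c, x0, hx0, xq, hxq, by rw [hz]; abel⟩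

end Cfsg.Agent.Lib.Helper27.Majorana
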