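import Mathlib
import Cfsg.Prelude.Def_GeometricClasses
import Cfsg.Agent.Lib.Helper19.OrthSiegel
import Cfsg.Agent.Lib.Helper27.OrthPlane

set_option autoImplicit false

/-!
Orthogonal decompositions over the field with three elements: the stabiliser in `Ω` of the
decomposition lies in the stabiliser of the set of vectors of a fixed norm in the blocks, and the
latter is a proper subgroup of `Ω`.
-/

namespace Cfsg.Agent.Lib.Helper27.OrthDecomp

open Cfsg Matrix QuadraticMap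
open Cfsg.Agent.Lib.Helper19.OrthRefl Cfsg.Agent.Lib.Helper27.OrthPlane

variable {F : Type*} [Field F] [Fintype F] {ι : Type} [Fintype ι] [DecidableEq ι]

/-- The vectors of norm `δ` lying in some block. -/
def normSet (Q : (ι → F) → F) {t : ℕ} (D : Fin t → Submodule F (ι → F)) (δ : F) : Set (ι → F) :=
  {v | ∃ i, v ∈ D i ∧ Q v = δ}

/-- The stabiliser of `normSet` inside `Ω`. -/
def normStab (Q : (ι → F) → F) {t : ℕ} (D : Fin t → Submodule F (ι → F)) (δ : F) :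
    Subgroup (GL ι F) where
  carrier := {g | g ∈ Cfsg.Geo.omegaGL Q ∧
    ∀ s ∈ normSet Q D δ, (g : Matrix _ _ F) *ᵥ s ∈ normSet Q D δ ∧
      ((g⁻¹ : GL ι F) : Matrix _ _ F) *ᵥ s ∈ normSet Q D δ}
  one_mem' := by
    refine ⟨one_mem _, fun s hs => ?_⟩
    rw [inv_one, Units.val_one, Matrix.one_mulVec]
    exact ⟨hs, hs⟩
  mul_mem' := by
    rintro g h ⟨hg, hg2⟩ ⟨hh, hh2⟩
    refine ⟨mul_mem hg hh, fun s hs => ?_⟩
    rw [_root_.mul_inv_rev, Units.val_mul, Units.val_mul, ← Matrix.mulVec_mulVec,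
      ← Matrix.mulVec_mulVec]
    exact ⟨(hg2 _ (hh2 s hs).1).1, (hh2 _ (hg2 s hs).2).2⟩
  inv_mem' := by
    rintro g ⟨hg, hg2⟩
    refine ⟨inv_mem hg, fun s hs => ?_⟩
    rw [inv_inv]
    exact ⟨(hg2 s hs).2, (hg2 s hs).1⟩

theorem stab_le_normStab (Q : (ι → F) → F) {t : ℕ} (D : Fin t → Submodule F (ι → F)) (δ : F) :
    Cfsg.Geo.decompositionStabilizer D ⊓ Cfsg.Geo.omegaGL Q ≤ normStab Q D δ := by
  have hpres : ∀ g ∈ Cfsg.Geo.decompositionStabilizer D ⊓ Cfsg.Geo.omegaGL Q,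
      ∀ s ∈ normSet Q D δ, (g : Matrix _ _ F) *ᵥ s ∈ normSet Q D δ := by
    rintro g ⟨⟨σ, hσ⟩, hg2⟩ s ⟨i, hsi, hQs⟩
    obtain ⟨h, _, rfl⟩ := Subgroup.mem_map.mp hg2
    refine ⟨σ i, ?_, ?_⟩
    · rw [← hσ i]
      exact Submodule.mem_map.mpr ⟨s, hsi, Matrix.toLin'_apply _ _⟩
    · have := Q_act h s
      rw [act_def] at this
      rw [← hQs]
      exact this
  intro g hg
  exact ⟨hg.2, fun s hs => ⟨hpres g hg s hs, hpres g⁻¹ (inv_mem hg) s hs⟩⟩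

theorem neg_mem_normSet (Q : QuadraticForm F (ι → F)) {t : ℕ} (D : Fin t → Submodule F (ι → F))
    (δ : F) {v : ι → F} (hv : v ∈ normSet (⇑Q) D δ) : -v ∈ normSet (⇑Q) D δ := by
  obtain ⟨i, hvi, hQv⟩ := hv
  exact ⟨i, (D i).neg_mem hvi, by rw [QuadraticMap.map_neg, hQv]⟩

/-- The reflection swapping two orthogonal vectors of the same norm preserves the set of
vectors of norm `δ` in the blocks, when that set meets the lines of the two vectors only in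
these vectors and is otherwise orthogonal to them. -/
theorem refl_swap_maps (Q : QuadraticForm F (ι → F)) {t : ℕ} (D : Fin t → Submodule F (ι → F))
    (δ : F) (a b : ι → F) (hab : Q a = Q b) (i j : Fin t) (ha : a ∈ D i) (hb : b ∈ D j)
    (h1 : Q (a - b) ≠ 0)
    (hcompat : ∀ v ∈ normSet (⇑Q) D δ,
      (polar (⇑Q) a v = 0 ∨ v = a ∨ v = -a) ∧ (polar (⇑Q) b v = 0 ∨ v = b ∨ v = -b))
    (v : ι → F) (hv : v ∈ normSet (⇑Q) D δ) :
    act (refl Q (a - b) h1) v ∈ normSet (⇑Q) D δ := by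
  have hra : act (refl Q (a - b) h1) a = b := act_refl_sub Q a b hab h1
  have hrb : act (refl Q (a - b) h1) b = a := by
    have h := congrArg (act (refl Q (a - b) h1)) hra
    rw [← act_mul, refl_mul_self, act_one] at h
    exact h.symm
  have hQv : Q v = δ := by
    obtain ⟨_, _, h⟩ := hv
    exact h
  obtain ⟨hva, hvb⟩ := hcompat v hv
  rcases hva with hva | hva | hva
  · rcases hvb with hvb | hvb | hvb
    · have : polar (⇑Q) (a - b) v = 0 := by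
        rw [QuadraticMap.polar_sub_left, hva, hvb, sub_zero]
      rw [act_refl_of_polar_eq_zero Q _ h1 v this]
      exact hv
    · rw [hvb, hrb]
      refine ⟨i, ha, ?_⟩
      rw [hab, ← hQv, hvb]
    · rw [hvb, act_neg, hrb]
      refine ⟨i, (D i).neg_mem ha, ?_⟩
      rw [QuadraticMap.map_neg, hab, ← hQv, hvb, QuadraticMap.map_neg]
  · rw [hva, hra]
    refine ⟨j, hb, ?_⟩
    rw [← hab, ← hQv, hva]
  · rw [hva, act_neg, hra]
    refine ⟨j, (D j).neg_mem hb, ?_⟩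
    rw [QuadraticMap.map_neg, ← hab, ← hQv, hva, QuadraticMap.map_neg]

/-- The abstract non-maximality statement for orthogonal decompositions over the field with three
elements. -/
theorem decomp_not_max (Q : QuadraticForm F (ι → F)) (hQ : (polarBilin Q).Nondegenerate)
    (hn : 5 ≤ Fintype.card ι) (h3 : (3 : F) = 0) {t : ℕ} (D : Fin t → Submodule F (ι → F))
    (horth : ∀ i j, i ≠ j → ∀ u ∈ D i, ∀ v ∈ D j, polar (⇑Q) u v = 0)
    (hind : ∀ i j, ∀ v, v ∈ D i → v ∈ D j → v ≠ 0 → i = j)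
    (δ : F) (hδ : δ ≠ 0) (E : Fin t → (ι → F)) (hE : ∀ i, E i ∈ D i) (hEQ : ∀ i, Q (E i) = δ)
    (J : Fin 5 → Fin t) (hJ : Function.Injective J)
    (a b a' b' x : ι → F) (c : F) (hc : c ≠ 0) (ha : Q a = c) (hb : Q b = c) (ha' : Q a' = c)
    (hb' : Q b' = c) (haD : a ∈ D (J 0)) (hbD : b ∈ D (J 1)) (ha'D : a' ∈ D (J 2))
    (hb'D : b' ∈ D (J 3)) (hxD : x ∈ D (J 0)) (hx0 : x ≠ 0) (hax : polar (⇑Q) a x = 0)
    (hcompat : ∀ v ∈ normSet (⇑Q) D δ, ∀ y, (y = a ∨ y = b ∨ y = a' ∨ y = b') →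
      (polar (⇑Q) y v = 0 ∨ v = y ∨ v = -y)) :
    ∃ K : Subgroup (GL ι F),
      Cfsg.Geo.decompositionStabilizer D ⊓ Cfsg.Geo.omegaGL ⇑Q < K ∧
        K < Cfsg.Geo.omegaGL ⇑Q := by
  classical
  have h20 : (2 : F) ≠ 0 := by
    intro h2
    have h1 : (1 : F) = 0 := by linear_combination h3 - h2
    exact one_ne_zero h1
  have hJne : ∀ p q : Fin 5, p ≠ q → J p ≠ J q := fun p q hpq h => hpq (hJ h)
  have h01 : J 0 ≠ J 1 := hJne 0 1 (by decide)
  have h02 : J 0 ≠ J 2 := hJne 0 2 (by decide)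
  have h03 : J 0 ≠ J 3 := hJne 0 3 (by decide)
  have h04 : J 0 ≠ J 4 := hJne 0 4 (by decide)
  have h12 : J 1 ≠ J 2 := hJne 1 2 (by decide)
  have h13 : J 1 ≠ J 3 := hJne 1 3 (by decide)
  have h14 : J 1 ≠ J 4 := hJne 1 4 (by decide)
  have h23 : J 2 ≠ J 3 := hJne 2 3 (by decide)
  have h24 : J 2 ≠ J 4 := hJne 2 4 (by decide)
  have h34 : J 3 ≠ J 4 := hJne 3 4 (by decide)
  -- the swapping element
  have pab : polar (⇑Q) a b = 0 := horth _ _ h01 a haD b hbD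
  have paa' : polar (⇑Q) a a' = 0 := horth _ _ h02 a haD a' ha'D
  have pab' : polar (⇑Q) a b' = 0 := horth _ _ h03 a haD b' hb'D
  have pba' : polar (⇑Q) b a' = 0 := horth _ _ h12 b hbD a' ha'D
  have pbb' : polar (⇑Q) b b' = 0 := horth _ _ h13 b hbD b' hb'D
  have pa'b' : polar (⇑Q) a' b' = 0 := horth _ _ h23 a' ha'D b' hb'D
  have pxb : polar (⇑Q) x b = 0 := horth _ _ h01 x hxD b hbD
  have pxa' : polar (⇑Q) x a' = 0 := horth _ _ h02 x hxD a' ha'D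
  have pxb' : polar (⇑Q) x b' = 0 := horth _ _ h03 x hxD b' hb'D
  have hQab : Q (a - b) = 2 * c := by rw [Q_sub', ha, hb, pab]; ring
  have hQa'b' : Q (a' - b') = 2 * c := by rw [Q_sub', ha', hb', pa'b']; ring
  have hne1 : Q (a - b) ≠ 0 := by rw [hQab]; exact mul_ne_zero h20 hc
  have hne2 : Q (a' - b') ≠ 0 := by rw [hQa'b']; exact mul_ne_zero h20 hc
  have hr1 : ∀ v ∈ normSet (⇑Q) D δ, act (refl Q (a - b) hne1) v ∈ normSet (⇑Q) D δ :=
    refl_swap_maps Q D δ a b (ha.trans hb.symm) (J 0) (J 1) haD hbD hne1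
      (fun v hv => ⟨hcompat v hv a (Or.inl rfl), hcompat v hv b (Or.inr (Or.inl rfl))⟩)
  have hr2 : ∀ v ∈ normSet (⇑Q) D δ, act (refl Q (a' - b') hne2) v ∈ normSet (⇑Q) D δ :=
    refl_swap_maps Q D δ a' b' (ha'.trans hb'.symm) (J 2) (J 3) ha'D hb'D hne2
      (fun v hv => ⟨hcompat v hv a' (Or.inr (Or.inr (Or.inl rfl))),
        hcompat v hv b' (Or.inr (Or.inr (Or.inr rfl)))⟩)
  obtain ⟨g₀, hg₀⟩ : ∃ g : ↥(Cfsg.isometryGroup F ⇑Q),
      g = refl Q (a - b) hne1 * refl Q (a' - b') hne2 := ⟨_, rfl⟩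
  have hg₀Ω : g₀ ∈ Cfsg.Omega F ⇑Q := by
    rw [hg₀]
    exact refl_mul_refl_mem_Omega' Q hQ hn _ _ hne1 hne2 (hQab.trans hQa'b'.symm)
  have hg₀inv : g₀⁻¹ = refl Q (a' - b') hne2 * refl Q (a - b) hne1 := by
    rw [hg₀, _root_.mul_inv_rev, refl_inv, refl_inv]
  have hg₀K : (g₀ : GL ι F) ∈ normStab (⇑Q) D δ := by
    refine ⟨mem_omegaGL_of_mem_Omega g₀ hg₀Ω, fun s hs => ⟨?_, ?_⟩⟩
    · have : ((g₀ : GL ι F) : Matrix ι ι F) *ᵥ s = act g₀ s := rfl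
      rw [this, hg₀, act_mul]
      exact hr1 _ (hr2 s hs)
    · have : (((g₀ : GL ι F)⁻¹ : GL ι F) : Matrix ι ι F) *ᵥ s = act g₀⁻¹ s := rfl
      rw [this, hg₀inv, act_mul]
      exact hr2 _ (hr1 s hs)
  have hg₀a : act g₀ a = b := by
    have e1 : polar (⇑Q) (a' - b') a = 0 := by
      rw [QuadraticMap.polar_sub_left, QuadraticMap.polar_comm (⇑Q) a' a,
        QuadraticMap.polar_comm (⇑Q) b' a, paa', pab', sub_zero]
    rw [hg₀, act_mul, act_refl_of_polar_eq_zero Q _ hne2 a e1]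
    exact act_refl_sub Q a b (ha.trans hb.symm) hne1
  have hg₀x : act g₀ x = x := by
    have e1 : polar (⇑Q) (a' - b') x = 0 := by
      rw [QuadraticMap.polar_sub_left, QuadraticMap.polar_comm (⇑Q) a' x,
        QuadraticMap.polar_comm (⇑Q) b' x, pxa', pxb', sub_zero]
    have e2 : polar (⇑Q) (a - b) x = 0 := by
      rw [QuadraticMap.polar_sub_left, QuadraticMap.polar_comm (⇑Q) b x, hax, pxb, sub_zero]
    rw [hg₀, act_mul, act_refl_of_polar_eq_zero Q _ hne2 x e1,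
      act_refl_of_polar_eq_zero Q _ hne1 x e2]
  have hb0 : b ≠ 0 := by
    rintro rfl
    rw [QuadraticMap.map_zero] at hb
    exact hc hb.symm
  have hg₀D : (g₀ : GL ι F) ∉ Cfsg.Geo.decompositionStabilizer D := by
    rintro ⟨σ, hσ⟩
    have hmap : ∀ v ∈ D (J 0), act g₀ v ∈ D (σ (J 0)) := by
      intro v hv
      rw [← hσ (J 0)]
      exact Submodule.mem_map.mpr ⟨v, hv, Matrix.toLin'_apply _ _⟩
    have e1 : σ (J 0) = J 1 := by
      have := hmap a haD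
      rw [hg₀a] at this
      exact hind _ _ b this hbD hb0
    have e2 : σ (J 0) = J 0 := by
      have := hmap x hxD
      rw [hg₀x] at this
      exact hind _ _ x this hxD hx0
    exact h01 (e2.symm.trans e1)
  -- the element outside the larger group
  obtain ⟨e₀, he₀⟩ : ∃ e, e = E (J 0) := ⟨_, rfl⟩
  obtain ⟨e₁, he₁⟩ : ∃ e, e = E (J 1) := ⟨_, rfl⟩
  obtain ⟨e₂, he₂⟩ : ∃ e, e = E (J 2) := ⟨_, rfl⟩
  obtain ⟨e₃, he₃⟩ : ∃ e, e = E (J 3) := ⟨_, rfl⟩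
  obtain ⟨e₄, he₄⟩ : ∃ e, e = E (J 4) := ⟨_, rfl⟩
  have hD0 : e₀ ∈ D (J 0) := by rw [he₀]; exact hE _
  have hD1 : e₁ ∈ D (J 1) := by rw [he₁]; exact hE _
  have hD2 : e₂ ∈ D (J 2) := by rw [he₂]; exact hE _
  have hD3 : e₃ ∈ D (J 3) := by rw [he₃]; exact hE _
  have hD4 : e₄ ∈ D (J 4) := by rw [he₄]; exact hE _
  have hQ0 : Q e₀ = δ := by rw [he₀]; exact hEQ _
  have hQ1 : Q e₁ = δ := by rw [he₁]; exact hEQ _
  have hQ2 : Q e₂ = δ := by rw [he₂]; exact hEQ _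
  have hQ3 : Q e₃ = δ := by rw [he₃]; exact hEQ _
  have hQ4 : Q e₄ = δ := by rw [he₄]; exact hEQ _
  have q01 : polar (⇑Q) e₀ e₁ = 0 := horth _ _ h01 _ hD0 _ hD1
  have q02 : polar (⇑Q) e₀ e₂ = 0 := horth _ _ h02 _ hD0 _ hD2
  have q03 : polar (⇑Q) e₀ e₃ = 0 := horth _ _ h03 _ hD0 _ hD3
  have q04 : polar (⇑Q) e₀ e₄ = 0 := horth _ _ h04 _ hD0 _ hD4
  have q12 : polar (⇑Q) e₁ e₂ = 0 := horth _ _ h12 _ hD1 _ hD2
  have q13 : polar (⇑Q) e₁ e₃ = 0 := horth _ _ h13 _ hD1 _ hD3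
  have q14 : polar (⇑Q) e₁ e₄ = 0 := horth _ _ h14 _ hD1 _ hD4
  have q23 : polar (⇑Q) e₂ e₃ = 0 := horth _ _ h23 _ hD2 _ hD3
  have q24 : polar (⇑Q) e₂ e₄ = 0 := horth _ _ h24 _ hD2 _ hD4
  have q34 : polar (⇑Q) e₃ e₄ = 0 := horth _ _ h34 _ hD3 _ hD4
  have q10 : polar (⇑Q) e₁ e₀ = 0 := by rw [QuadraticMap.polar_comm]; exact q01
  have q20 : polar (⇑Q) e₂ e₀ = 0 := by rw [QuadraticMap.polar_comm]; exact q02
  have q30 : polar (⇑Q) e₃ e₀ = 0 := by rw [QuadraticMap.polar_comm]; exact q03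
  have q21 : polar (⇑Q) e₂ e₁ = 0 := by rw [QuadraticMap.polar_comm]; exact q12
  have q31 : polar (⇑Q) e₃ e₁ = 0 := by rw [QuadraticMap.polar_comm]; exact q13
  have q32 : polar (⇑Q) e₃ e₂ = 0 := by rw [QuadraticMap.polar_comm]; exact q23
  obtain ⟨u, hu⟩ : ∃ u, u = e₀ + e₁ + e₂ + e₃ := ⟨_, rfl⟩
  have hQu : Q u = δ := by
    rw [hu, QuadraticMap.map_add (⇑Q) (e₀ + e₁ + e₂) e₃, QuadraticMap.map_add (⇑Q) (e₀ + e₁) e₂,
      QuadraticMap.map_add (⇑Q) e₀ e₁, QuadraticMap.polar_add_left, QuadraticMap.polar_add_left,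
      QuadraticMap.polar_add_left, hQ0, hQ1, hQ2, hQ3, q01, q02, q12, q03, q13, q23]
    linear_combination δ * h3
  have hpu : ∀ z, polar (⇑Q) u z = polar (⇑Q) e₀ z + polar (⇑Q) e₁ z + polar (⇑Q) e₂ z +
      polar (⇑Q) e₃ z := by
    intro z
    rw [hu, QuadraticMap.polar_add_left, QuadraticMap.polar_add_left,
      QuadraticMap.polar_add_left]
  have hune : Q u ≠ 0 := by rw [hQu]; exact hδ
  have h4ne : Q e₄ ≠ 0 := by rw [hQ4]; exact hδ
  obtain ⟨g₁, hg₁⟩ : ∃ g : ↥(Cfsg.isometryGroup F ⇑Q),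
      g = refl Q u hune * refl Q e₄ h4ne := ⟨_, rfl⟩
  have hg₁Ω : g₁ ∈ Cfsg.Omega F ⇑Q := by
    rw [hg₁]
    exact refl_mul_refl_mem_Omega' Q hQ hn _ _ hune h4ne (hQu.trans hQ4.symm)
  have hg₁e : act g₁ e₀ = e₀ - (2 : F) • u := by
    have e1 : polar (⇑Q) e₄ e₀ = 0 := by rw [QuadraticMap.polar_comm]; exact q04
    rw [hg₁, act_mul, act_refl_of_polar_eq_zero Q _ h4ne e₀ e1, act_refl, hpu, q10, q20, q30,
      polar_self', hQ0, hQu]
    congr 2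
    field_simp
    ring
  have hg₁K : (g₁ : GL ι F) ∉ normStab (⇑Q) D δ := by
    rintro ⟨_, hpres⟩
    have h0S : e₀ ∈ normSet (⇑Q) D δ := ⟨J 0, hD0, hQ0⟩
    have h1 := (hpres e₀ h0S).1
    have : ((g₁ : GL ι F) : Matrix ι ι F) *ᵥ e₀ = act g₁ e₀ := rfl
    rw [this, hg₁e] at h1
    obtain ⟨k, hk, _⟩ := h1
    have p1 : polar (⇑Q) (e₀ - (2 : F) • u) e₁ = -(4 * δ) := by
      rw [QuadraticMap.polar_sub_left, QuadraticMap.polar_smul_left, hpu, q01, q21, q31,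
        polar_self', hQ1, smul_eq_mul]
      ring
    have p2 : polar (⇑Q) (e₀ - (2 : F) • u) e₂ = -(4 * δ) := by
      rw [QuadraticMap.polar_sub_left, QuadraticMap.polar_smul_left, hpu, q02, q12, q32,
        polar_self', hQ2, smul_eq_mul]
      ring
    have h4δ : -(4 * δ) ≠ 0 := by
      have : -(4 * δ) = -δ := by linear_combination -δ * h3
      rw [this]
      exact neg_ne_zero.mpr hδ
    have k1 : k = J 1 := by
      by_contra hne
      exact h4δ (p1 ▸ horth k (J 1) hne _ hk _ hD1)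
    have k2 : k = J 2 := by
      by_contra hne
      exact h4δ (p2 ▸ horth k (J 2) hne _ hk _ hD2)
    exact h12 (k1.symm.trans k2)
  refine ⟨normStab (⇑Q) D δ, ?_, ?_⟩
  · refine lt_of_le_of_ne (stab_le_normStab (⇑Q) D δ) ?_
    intro h
    rw [← h] at hg₀K
    exact hg₀D hg₀K.1
  · refine lt_of_le_of_ne (fun g hg => hg.1) ?_
    intro h
    apply hg₁K
    rw [h]
    exact mem_omegaGL_of_mem_Omega g₁ hg₁Ω

end Cfsg.Agent.Lib.Helper27.OrthDecomp
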