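import Mathlib
import Cfsg.Prelude.Def_GeometricClasses

set_option autoImplicit false

/-!
Generic tools for tensor-decomposition stabilisers relative to a form:
pure tensors, the identification `theta` of `F^(n₁ × n₂)` with `F^ι`, the action of the
tensor subgroup on pure tensors, and the value of a tensor form on pure tensors.
-/

namespace Cfsg.Agent.Lib.Helper27.TensorForm

open Cfsg Matrix
open scoped Kronecker

variable {F : Type*} [Field F] {ι : Type} [Fintype ι] [DecidableEq ι] {n₁ n₂ : ℕ}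

/-- The pure tensor `v ⊗ w` as a coordinate vector. -/
def tens (v : Fin n₁ → F) (w : Fin n₂ → F) : Fin n₁ × Fin n₂ → F := fun p => v p.1 * w p.2

theorem tens_apply (v : Fin n₁ → F) (w : Fin n₂ → F) (i : Fin n₁) (j : Fin n₂) :
    tens v w (i, j) = v i * w j := rfl

theorem tens_add_left (v v' : Fin n₁ → F) (w : Fin n₂ → F) :
    tens (v + v') w = tens v w + tens v' w := by
  funext p; simp [tens, add_mul]

theorem tens_add_right (v : Fin n₁ → F) (w w' : Fin n₂ → F) :
    tens v (w + w') = tens v w + tens v w' := by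
  funext p; simp [tens, mul_add]

theorem tens_smul_left (a : F) (v : Fin n₁ → F) (w : Fin n₂ → F) :
    tens (a • v) w = a • tens v w := by
  funext p; simp [tens, mul_assoc]

theorem tens_smul_right (a : F) (v : Fin n₁ → F) (w : Fin n₂ → F) :
    tens v (a • w) = a • tens v w := by
  funext p; simp [tens, mul_left_comm]

theorem tens_zero_left (w : Fin n₂ → F) : tens (0 : Fin n₁ → F) w = 0 := by
  funext p; simp [tens]

theorem tens_zero_right (v : Fin n₁ → F) : tens v (0 : Fin n₂ → F) = 0 := by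
  funext p; simp [tens]

/-- The identification of `F^(n₁ × n₂)` with `F^ι` through `e` and `P`. -/
def theta (e : ι ≃ Fin n₁ × Fin n₂) (P : GL ι F) (x : Fin n₁ × Fin n₂ → F) : ι → F :=
  (P : Matrix ι ι F) *ᵥ (x ∘ e)

theorem theta_add (e : ι ≃ Fin n₁ × Fin n₂) (P : GL ι F) (x y : Fin n₁ × Fin n₂ → F) :
    theta e P (x + y) = theta e P x + theta e P y := by
  unfold theta
  rw [← Matrix.mulVec_add]
  rfl

theorem theta_smul (e : ι ≃ Fin n₁ × Fin n₂) (P : GL ι F) (a : F) (x : Fin n₁ × Fin n₂ → F) :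
    theta e P (a • x) = a • theta e P x := by
  unfold theta
  rw [← Matrix.mulVec_smul]
  rfl

theorem theta_zero (e : ι ≃ Fin n₁ × Fin n₂) (P : GL ι F) :
    theta e P (0 : Fin n₁ × Fin n₂ → F) = 0 := by
  unfold theta
  have : ((0 : Fin n₁ × Fin n₂ → F) ∘ e) = 0 := rfl
  rw [this, Matrix.mulVec_zero]

theorem theta_injective (e : ι ≃ Fin n₁ × Fin n₂) (P : GL ι F) :
    Function.Injective (theta (F := F) e P) := by
  intro x y h
  unfold theta at h
  have h2 : ((P⁻¹ : GL ι F) : Matrix ι ι F) *ᵥ ((P : Matrix ι ι F) *ᵥ (x ∘ e)) =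
      ((P⁻¹ : GL ι F) : Matrix ι ι F) *ᵥ ((P : Matrix ι ι F) *ᵥ (y ∘ e)) := by rw [h]
  rw [Matrix.mulVec_mulVec, Matrix.mulVec_mulVec, ← Units.val_mul, inv_mul_cancel, Units.val_one,
    Matrix.one_mulVec, Matrix.one_mulVec] at h2
  funext p
  have := congrFun h2 (e.symm p)
  simpa using this

theorem theta_surjective (e : ι ≃ Fin n₁ × Fin n₂) (P : GL ι F) :
    Function.Surjective (theta (F := F) e P) := by
  intro u
  refine ⟨(((P⁻¹ : GL ι F) : Matrix ι ι F) *ᵥ u) ∘ e.symm, ?_⟩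
  unfold theta
  have : ((((P⁻¹ : GL ι F) : Matrix ι ι F) *ᵥ u) ∘ e.symm) ∘ e =
      ((P⁻¹ : GL ι F) : Matrix ι ι F) *ᵥ u := by
    funext i; simp
  rw [this, Matrix.mulVec_mulVec, ← Units.val_mul, mul_inv_cancel, Units.val_one,
    Matrix.one_mulVec]

theorem theta_eq_zero (e : ι ≃ Fin n₁ × Fin n₂) (P : GL ι F) {x : Fin n₁ × Fin n₂ → F} :
    theta e P x = 0 ↔ x = 0 := by
  constructor
  · intro h
    apply theta_injective e P
    rw [h, theta_zero]
  · rintro rfl
    exact theta_zero e P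

/-- Kronecker products act factorwise on pure tensors. -/
theorem kron_mulVec_tens (A : Matrix (Fin n₁) (Fin n₁) F) (B : Matrix (Fin n₂) (Fin n₂) F)
    (v : Fin n₁ → F) (w : Fin n₂ → F) :
    (A ⊗ₖ B) *ᵥ tens v w = tens (A *ᵥ v) (B *ᵥ w) := by
  funext p
  obtain ⟨i, j⟩ := p
  simp only [Matrix.mulVec, dotProduct, tens, Matrix.kroneckerMap_apply]
  rw [Fintype.sum_prod_type, Finset.sum_mul_sum]
  refine Finset.sum_congr rfl fun k _ => Finset.sum_congr rfl fun l _ => ?_
  ring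

/-- Elements of the tensor subgroup act on `theta`-images through a Kronecker product. -/
theorem mem_tensor_imp {e : ι ≃ Fin n₁ × Fin n₂} {P : GL ι F} {g : GL ι F}
    (hg : g ∈ Cfsg.Geo.tensorProductSubgroup n₁ n₂ e P) :
    ∃ (a : GL (Fin n₁) F) (b : GL (Fin n₂) F), ∀ x : Fin n₁ × Fin n₂ → F,
      (g : Matrix ι ι F) *ᵥ theta e P x =
        theta e P (((a : Matrix (Fin n₁) (Fin n₁) F) ⊗ₖ (b : Matrix (Fin n₂) (Fin n₂) F)) *ᵥ x) := by
  unfold Cfsg.Geo.tensorProductSubgroup at hg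
  rw [Subgroup.mem_map] at hg
  obtain ⟨g₁, hg₁, rfl⟩ := hg
  rw [Subgroup.mem_map] at hg₁
  obtain ⟨g₂, hg₂, rfl⟩ := hg₁
  obtain ⟨a, b, hab⟩ := hg₂
  refine ⟨a, b, fun x => ?_⟩
  unfold theta
  have h1 : (((MulAut.conj P).toMonoidHom ((Cfsg.Geo.glReindex (F := F) e.symm).toMonoidHom g₂) :
      GL ι F) : Matrix ι ι F) =
      (P : Matrix ι ι F) * ((g₂ : Matrix _ _ F).submatrix e e) *
        ((P⁻¹ : GL ι F) : Matrix ι ι F) := by
    show ((P * (Cfsg.Geo.glReindex (F := F) e.symm g₂) * P⁻¹ : GL ι F) : Matrix ι ι F) = _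
    rw [Units.val_mul, Units.val_mul]
    rfl
  rw [h1, Matrix.mulVec_mulVec, Matrix.mul_assoc, Matrix.mul_assoc, ← Units.val_mul,
    inv_mul_cancel, Units.val_one, Matrix.mul_one, ← Matrix.mulVec_mulVec]
  congr 1
  rw [hab]
  funext i
  simp only [Matrix.mulVec, dotProduct, Matrix.submatrix_apply, Function.comp_apply]
  exact Fintype.sum_equiv e _ _ (fun _ => rfl)

/-- Sesquilinearity (with respect to a map `σ`) of a two-argument form. -/
structure IsSesq (σ : F → F) {κ : Type} (f : (κ → F) → (κ → F) → F) : Prop where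
  add_left : ∀ x y v, f (x + y) v = f x v + f y v
  smul_left : ∀ (c : F) (x v : κ → F), f (c • x) v = c * f x v
  add_right : ∀ v x y, f v (x + y) = f v x + f v y
  smul_right : ∀ (c : F) (v x : κ → F), f v (c • x) = σ c * f v x

section sesq

variable {σ : F → F} {κ : Type} {f : (κ → F) → (κ → F) → F}

theorem IsSesq.zero_left (h : IsSesq σ f) (v : κ → F) : f 0 v = 0 := by
  have := h.smul_left 0 0 v
  rwa [zero_smul, zero_mul] at this

theorem IsSesq.zero_right (h : IsSesq σ f) (v : κ → F) : f v 0 = 0 := by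
  have := h.add_right v 0 0
  rw [add_zero] at this
  exact left_eq_add.mp this

theorem IsSesq.sum_left (h : IsSesq σ f) {α : Type*} (s : Finset α) (x : α → κ → F) (v : κ → F) :
    f (∑ a ∈ s, x a) v = ∑ a ∈ s, f (x a) v := by
  classical
  induction s using Finset.induction_on with
  | empty => simp [h.zero_left]
  | insert a s ha ih => rw [Finset.sum_insert ha, Finset.sum_insert ha, h.add_left, ih]

theorem IsSesq.sum_right (h : IsSesq σ f) {α : Type*} (s : Finset α) (x : α → κ → F) (v : κ → F) :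
    f v (∑ a ∈ s, x a) = ∑ a ∈ s, f v (x a) := by
  classical
  induction s using Finset.induction_on with
  | empty => simp [h.zero_right]
  | insert a s ha ih => rw [Finset.sum_insert ha, Finset.sum_insert ha, h.add_right, ih]

theorem IsSesq.neg_left (h : IsSesq σ f) (x v : κ → F) : f (-x) v = - f x v := by
  have := h.smul_left (-1) x v
  rwa [neg_one_smul, neg_one_mul] at this

theorem IsSesq.sub_left (h : IsSesq σ f) (x y v : κ → F) : f (x - y) v = f x v - f y v := by
  rw [sub_eq_add_neg, h.add_left, h.neg_left, ← sub_eq_add_neg]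

/-- A sesquilinear form is the form of its Gram matrix. -/
theorem IsSesq.eq_formOfGram [Fintype κ] [DecidableEq κ] (h : IsSesq σ f) (x y : κ → F) :
    f x y = Cfsg.Geo.formOfGram σ (Cfsg.Geo.gramMatrix f) x y := by
  have hx : x = ∑ a, x a • (Pi.single a (1 : F) : κ → F) := by
    funext k
    simp [Finset.sum_apply, Pi.single_apply]
  have hy : y = ∑ b, y b • (Pi.single b (1 : F) : κ → F) := by
    funext k
    simp [Finset.sum_apply, Pi.single_apply]
  conv_lhs => rw [hx, hy]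
  rw [h.sum_left]
  unfold Cfsg.Geo.formOfGram Cfsg.Geo.gramMatrix
  refine Finset.sum_congr rfl fun a _ => ?_
  rw [h.sum_right]
  refine Finset.sum_congr rfl fun b _ => ?_
  rw [h.smul_left, h.smul_right]
  ring

end sesq

/-- The tensor form on pure tensors is the product of the two forms. -/
theorem formOfGram_tens (σ : F → F) (hσ : ∀ a b, σ (a * b) = σ a * σ b)
    (G₁ : Matrix (Fin n₁) (Fin n₁) F) (G₂ : Matrix (Fin n₂) (Fin n₂) F)
    (v v' : Fin n₁ → F) (w w' : Fin n₂ → F) :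
    Cfsg.Geo.formOfGram σ (G₁ ⊗ₖ G₂) (tens v w) (tens v' w') =
      Cfsg.Geo.formOfGram σ G₁ v v' * Cfsg.Geo.formOfGram σ G₂ w w' := by
  unfold Cfsg.Geo.formOfGram
  rw [Fintype.sum_prod_type, Finset.sum_mul_sum]
  refine Finset.sum_congr rfl fun i _ => ?_
  refine Finset.sum_congr rfl fun j _ => ?_
  rw [Fintype.sum_prod_type, Finset.sum_mul_sum]
  refine Finset.sum_congr rfl fun k _ => ?_
  refine Finset.sum_congr rfl fun l _ => ?_
  simp only [tens, Matrix.kroneckerMap_apply, hσ]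
  ring

/-- The ambient form on `theta`-images of pure tensors. -/
theorem form_theta_tens {σ : F → F} (hσ : ∀ a b, σ (a * b) = σ a * σ b)
    {f : (ι → F) → (ι → F) → F}
    {f₁ : (Fin n₁ → F) → (Fin n₁ → F) → F} {f₂ : (Fin n₂ → F) → (Fin n₂ → F) → F}
    (h₁ : IsSesq σ f₁) (h₂ : IsSesq σ f₂)
    {e : ι ≃ Fin n₁ × Fin n₂} {P : GL ι F} {c : F}
    (hc : ∀ x y : Fin n₁ × Fin n₂ → F,
      f ((P : Matrix ι ι F) *ᵥ (x ∘ e)) ((P : Matrix ι ι F) *ᵥ (y ∘ e)) =
        c * Cfsg.Geo.formOfGram σ (Cfsg.Geo.gramMatrix f₁ ⊗ₖ Cfsg.Geo.gramMatrix f₂) x y)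
    (v v' : Fin n₁ → F) (w w' : Fin n₂ → F) :
    f (theta e P (tens v w)) (theta e P (tens v' w')) = c * (f₁ v v' * f₂ w w') := by
  unfold theta
  rw [hc, formOfGram_tens σ hσ, ← h₁.eq_formOfGram, ← h₂.eq_formOfGram]

/-- Contraction of the first tensor factor against `z` through the form `f₁`. -/
def contr₁ (f₁ : (Fin n₁ → F) → (Fin n₁ → F) → F) (z : Fin n₁ → F)
    (x : Fin n₁ × Fin n₂ → F) : Fin n₂ → F :=
  fun j => f₁ (fun i => x (i, j)) z

theorem contr₁_add {f₁ : (Fin n₁ → F) → (Fin n₁ → F) → F}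
    (hadd : ∀ x y v, f₁ (x + y) v = f₁ x v + f₁ y v) (z : Fin n₁ → F)
    (x y : Fin n₁ × Fin n₂ → F) :
    contr₁ f₁ z (x + y) = contr₁ f₁ z x + contr₁ f₁ z y := by
  funext j
  show f₁ (fun i => (x + y) (i, j)) z = f₁ (fun i => x (i, j)) z + f₁ (fun i => y (i, j)) z
  rw [← hadd]
  rfl

theorem contr₁_tens {f₁ : (Fin n₁ → F) → (Fin n₁ → F) → F}
    (hsmul : ∀ (c : F) (x v : Fin n₁ → F), f₁ (c • x) v = c * f₁ x v) (z : Fin n₁ → F)
    (v : Fin n₁ → F) (w : Fin n₂ → F) :
    contr₁ f₁ z (tens v w) = f₁ v z • w := by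
  funext j
  show f₁ (fun i => tens v w (i, j)) z = f₁ v z * w j
  have : (fun i => tens v w (i, j)) = w j • v := by
    funext i; simp [tens, mul_comm]
  rw [this, hsmul, mul_comm]

/-- Contraction of the second tensor factor against `z` through the form `f₂`. -/
def contr₂ (f₂ : (Fin n₂ → F) → (Fin n₂ → F) → F) (z : Fin n₂ → F)
    (x : Fin n₁ × Fin n₂ → F) : Fin n₁ → F :=
  fun i => f₂ (fun j => x (i, j)) z

theorem contr₂_add {f₂ : (Fin n₂ → F) → (Fin n₂ → F) → F}
    (hadd : ∀ x y v, f₂ (x + y) v = f₂ x v + f₂ y v) (z : Fin n₂ → F)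
    (x y : Fin n₁ × Fin n₂ → F) :
    contr₂ f₂ z (x + y) = contr₂ f₂ z x + contr₂ f₂ z y := by
  funext i
  show f₂ (fun j => (x + y) (i, j)) z = f₂ (fun j => x (i, j)) z + f₂ (fun j => y (i, j)) z
  rw [← hadd]
  rfl

theorem contr₂_tens {f₂ : (Fin n₂ → F) → (Fin n₂ → F) → F}
    (hsmul : ∀ (c : F) (x v : Fin n₂ → F), f₂ (c • x) v = c * f₂ x v) (z : Fin n₂ → F)
    (v : Fin n₁ → F) (w : Fin n₂ → F) :
    contr₂ f₂ z (tens v w) = f₂ w z • v := by
  funext i
  show f₂ (fun j => tens v w (i, j)) z = f₂ w z * v i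
  have : (fun j => tens v w (i, j)) = v i • w := by
    funext j; simp [tens]
  rw [this, hsmul, mul_comm]

end Cfsg.Agent.Lib.Helper27.TensorForm
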