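import Mathlib
import Cfsg.Prelude.Def_GeometricClasses
import Cfsg.Agent.Lib.Helper27.TensorForm

set_option autoImplicit false

/-!
Symmetric bilinear forms in dimension three over the field with three elements: the
orthogonal frame of vectors of a fixed norm, and the triviality of similitude multipliers.
-/

namespace Cfsg.Agent.Lib.Helper27.SpTensor

open Cfsg Matrix Cfsg.Agent.Lib.Helper27.TensorForm
open scoped Kronecker

variable {F : Type*} [Field F] [Fintype F]

theorem three_eq_zero (hF : Fintype.card F = 3) : (3 : F) = 0 := by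
  have h := FiniteField.cast_card_eq_zero F
  rw [hF] at h
  exact_mod_cast h

theorem cases3 (hF : Fintype.card F = 3) (x : F) : x = 0 ∨ x = 1 ∨ x = -1 := by
  have h := FiniteField.pow_card x
  rw [hF] at h
  have h2 : x * ((x - 1) * (x + 1)) = 0 := by linear_combination h
  rcases mul_eq_zero.mp h2 with h3 | h3
  · exact Or.inl h3
  rcases mul_eq_zero.mp h3 with h4 | h4
  · exact Or.inr (Or.inl (sub_eq_zero.mp h4))
  · exact Or.inr (Or.inr (eq_neg_of_add_eq_zero_left h4))

theorem sq_eq_one (hF : Fintype.card F = 3) {x : F} (hx : x ≠ 0) : x ^ 2 = 1 := by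
  rcases cases3 hF x with h | h | h
  · exact absurd h hx
  · rw [h]; ring
  · rw [h]; ring

theorem neg_one_ne_one (hF : Fintype.card F = 3) : (-1 : F) ≠ 1 := by
  intro h
  have h3 := three_eq_zero hF
  have h2 : (2 : F) = 0 := by linear_combination -h
  have h1 : (1 : F) = 0 := by linear_combination h3 - h2
  exact one_ne_zero h1

/-- A bilinear form is sesquilinear for the identity. -/
theorem sesq_of_bilinear {κ : Type} {f : (κ → F) → (κ → F) → F}
    (h : Cfsg.Geo.IsBilinearForm f) : IsSesq (id : F → F) f where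
  add_left := h.add_left
  smul_left := h.smul_left
  add_right := h.add_right
  smul_right := h.smul_right

section frame

variable {f : (Fin 3 → F) → (Fin 3 → F) → F}

/-- From an orthogonal basis two of whose members have the same norm to a frame. -/
theorem frame_core (hF : Fintype.card F = 3) (hS : IsSesq (id : F → F) f)
    (hsymm : ∀ u v, f u v = f v u)
    (u₁ u₂ u₃ : Fin 3 → F) (d e : F) (hd : d ≠ 0) (he : e ≠ 0)
    (h11 : f u₁ u₁ = d) (h22 : f u₂ u₂ = d) (h33 : f u₃ u₃ = e)
    (h12 : f u₁ u₂ = 0) (h13 : f u₁ u₃ = 0) (h23 : f u₂ u₃ = 0)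
    (hspan : ∀ x : Fin 3 → F, ∃ a b c : F, x = a • u₁ + b • u₂ + c • u₃) :
    ∃ (δ : F) (w₁ w₂ w₃ : Fin 3 → F), δ ≠ 0 ∧ f w₁ w₁ = δ ∧ f w₂ w₂ = δ ∧ f w₃ w₃ = δ ∧
      f w₁ w₂ = 0 ∧ f w₁ w₃ = 0 ∧ f w₂ w₃ = 0 ∧
      ∀ x : Fin 3 → F, ∃ a b c : F, x = a • w₁ + b • w₂ + c • w₃ := by
  have h3 := three_eq_zero hF
  by_cases hde : e = d
  · subst hde
    exact ⟨e, u₁, u₂, u₃, he, h11, h22, h33, h12, h13, h23, hspan⟩
  · have hed : e = -d := by
      rcases cases3 hF d with h | h | h
      · exact absurd h hd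
      · rcases cases3 hF e with h' | h' | h'
        · exact absurd h' he
        · exact absurd (h'.trans h.symm) hde
        · rw [h', h]
      · rcases cases3 hF e with h' | h' | h'
        · exact absurd h' he
        · rw [h', h]; ring
        · exact absurd (h'.trans h.symm) hde
    have h21 : f u₂ u₁ = 0 := by rw [hsymm, h12]
    refine ⟨e, u₁ + u₂, u₁ - u₂, u₃, he, ?_, ?_, h33, ?_, ?_, ?_, ?_⟩
    · rw [hS.add_left, hS.add_right, hS.add_right, h11, h12, h21, h22, hed]
      linear_combination d * h3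
    · rw [hS.sub_left, sub_eq_add_neg u₁ u₂, hS.add_right, hS.add_right, hsymm u₁ (-u₂),
        hsymm u₂ (-u₂), hS.neg_left, hS.neg_left, h11, h21, h22, hed]
      linear_combination d * h3
    · rw [hS.add_left, sub_eq_add_neg u₁ u₂, hS.add_right, hS.add_right, hsymm u₁ (-u₂),
        hsymm u₂ (-u₂), hS.neg_left, hS.neg_left, h11, h21, h22]
      ring
    · rw [hS.add_left, h13, h23, add_zero]
    · rw [hS.sub_left, h13, h23, sub_zero]
    · intro x
      obtain ⟨a, b, c, rfl⟩ := hspan x
      refine ⟨-(a + b), b - a, c, ?_⟩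
      have e1 : a • u₁ = (-(a + b)) • u₁ + (b - a) • u₁ := by
        rw [← add_smul]
        congr 1
        linear_combination a * h3
      have e2 : b • u₂ = (-(a + b)) • u₂ - (b - a) • u₂ := by
        rw [← sub_smul]
        congr 1
        linear_combination b * h3
      rw [smul_add, smul_sub, e1, e2]
      abel

/-- The frame of a non-degenerate symmetric bilinear form on the three-dimensional space over
the field with three elements. -/
theorem frame3 (hF : Fintype.card F = 3) (h : Cfsg.Geo.IsSymmetricForm f) :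
    ∃ (δ : F) (W : Fin 3 → (Fin 3 → F)), δ ≠ 0 ∧
      (∀ i j, f (W i) (W j) = if i = j then δ else 0) ∧
      (∀ x : Fin 3 → F, f x x = δ → ∃ (i : Fin 3) (ε : F), x = ε • W i) := by
  classical
  have hS := sesq_of_bilinear h.bilinear
  have h3 := three_eq_zero hF
  have : Invertible (2 : F) := by
    refine invertibleOfNonzero ?_
    intro h2
    have h1 : (1 : F) = 0 := by linear_combination h3 - h2
    exact one_ne_zero h1
  let B : LinearMap.BilinForm F (Fin 3 → F) :=
    LinearMap.mk₂ F f h.bilinear.add_left h.bilinear.smul_left h.bilinear.add_right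
      h.bilinear.smul_right
  have hB : ∀ x y, B x y = f x y := fun x y => rfl
  have hBsymm : LinearMap.IsSymm B := ⟨fun x y => h.symm x y⟩
  have hBsep : B.SeparatingLeft := by
    intro x hx
    by_contra hx0
    obtain ⟨_, ⟨y, hy⟩⟩ := h.nondegenerate x hx0
    exact hy (hx y)
  obtain ⟨v, hv⟩ := LinearMap.BilinForm.exists_orthogonal_basis hBsymm
  have hfr : Module.finrank F (Fin 3 → F) = 3 := Module.finrank_fin_fun F
  have hnz : ∀ i, f (v i) (v i) ≠ 0 := fun i =>
    hv.not_isOrtho_basis_self_of_separatingLeft hBsep i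
  have horth : ∀ i j, i ≠ j → f (v i) (v j) = 0 := fun i j hij => hv hij
  -- three basis vectors
  let E : Fin 3 ≃ Fin (Module.finrank F (Fin 3 → F)) := finCongr hfr.symm
  have hspan0 : ∀ x : Fin 3 → F, ∃ a b c : F, x = a • v (E 0) + b • v (E 1) + c • v (E 2) := by
    intro x
    refine ⟨v.repr x (E 0), v.repr x (E 1), v.repr x (E 2), ?_⟩
    have h1 := v.sum_repr x
    rw [← Equiv.sum_comp E, Fin.sum_univ_three] at h1
    exact h1.symm
  have hE01 : E 0 ≠ E 1 := fun h => by simpa using E.injective h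
  have hE02 : E 0 ≠ E 2 := fun h => by simpa using E.injective h
  have hE12 : E 1 ≠ E 2 := fun h => by simpa using E.injective h
  -- a frame exists
  have hframe : ∃ (δ : F) (w₁ w₂ w₃ : Fin 3 → F), δ ≠ 0 ∧ f w₁ w₁ = δ ∧ f w₂ w₂ = δ ∧
      f w₃ w₃ = δ ∧ f w₁ w₂ = 0 ∧ f w₁ w₃ = 0 ∧ f w₂ w₃ = 0 ∧
      ∀ x : Fin 3 → F, ∃ a b c : F, x = a • w₁ + b • w₂ + c • w₃ := by
    have hval : ∀ i, f (v i) (v i) = 1 ∨ f (v i) (v i) = -1 := by
      intro i
      rcases cases3 hF (f (v i) (v i)) with h' | h' | h'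
      · exact absurd h' (hnz i)
      · exact Or.inl h'
      · exact Or.inr h'
    by_cases h01 : f (v (E 0)) (v (E 0)) = f (v (E 1)) (v (E 1))
    · exact frame_core hF hS h.symm (v (E 0)) (v (E 1)) (v (E 2)) _ _ (hnz (E 1)) (hnz (E 2))
        h01 rfl rfl (horth _ _ hE01) (horth _ _ hE02) (horth _ _ hE12) hspan0
    by_cases h02 : f (v (E 0)) (v (E 0)) = f (v (E 2)) (v (E 2))
    · refine frame_core hF hS h.symm (v (E 0)) (v (E 2)) (v (E 1)) _ _ (hnz (E 2)) (hnz (E 1))
        h02 rfl rfl (horth _ _ hE02) (horth _ _ hE01) (horth _ _ hE12.symm) ?_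
      intro x
      obtain ⟨a, b, c, rfl⟩ := hspan0 x
      exact ⟨a, c, b, by abel⟩
    · have h12 : f (v (E 1)) (v (E 1)) = f (v (E 2)) (v (E 2)) := by
        rcases hval (E 0) with h0 | h0 <;> rcases hval (E 1) with h1 | h1 <;>
          rcases hval (E 2) with h2 | h2
        all_goals first
          | (rw [h1, h2]; done)
          | (exfalso; apply h01; rw [h0, h1]; done)
          | (exfalso; apply h02; rw [h0, h2]; done)
      refine frame_core hF hS h.symm (v (E 1)) (v (E 2)) (v (E 0)) _ _ (hnz (E 2)) (hnz (E 0))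
        h12 rfl rfl (horth _ _ hE12) (horth _ _ hE01.symm) (horth _ _ hE02.symm) ?_
      intro x
      obtain ⟨a, b, c, rfl⟩ := hspan0 x
      exact ⟨b, c, a, by abel⟩
  obtain ⟨δ, w₁, w₂, w₃, hδ, h11, h22, h33, h12, h13, h23, hspan⟩ := hframe
  have h21 : f w₂ w₁ = 0 := by rw [h.symm, h12]
  have h31 : f w₃ w₁ = 0 := by rw [h.symm, h13]
  have h32 : f w₃ w₂ = 0 := by rw [h.symm, h23]
  refine ⟨δ, ![w₁, w₂, w₃], hδ, ?_, ?_⟩
  · intro i j
    fin_cases i <;> fin_cases j <;> simp [h11, h22, h33, h12, h13, h23, h21, h31, h32]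
  · intro x hx
    obtain ⟨a, b, c, rfl⟩ := hspan x
    have hval : f (a • w₁ + b • w₂ + c • w₃) (a • w₁ + b • w₂ + c • w₃) =
        δ * (a ^ 2 + b ^ 2 + c ^ 2) := by
      simp only [hS.add_left, hS.add_right, hS.smul_left, hS.smul_right, h11, h22, h33, h12, h13,
        h23, h21, h31, h32, id]
      ring
    rw [hval] at hx
    have hsum : a ^ 2 + b ^ 2 + c ^ 2 = 1 := by
      have h1 : δ * (a ^ 2 + b ^ 2 + c ^ 2 - 1) = 0 := by linear_combination hx
      rcases mul_eq_zero.mp h1 with h2 | h2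
      · exact absurd h2 hδ
      · linear_combination h2
    have h10 : (1 : F) ≠ 0 := one_ne_zero
    have h20 : (2 : F) ≠ 0 := by
      intro h2
      exact h10 (by linear_combination h3 - h2)
    by_cases ha : a = 0 <;> by_cases hb : b = 0 <;> by_cases hc : c = 0
    · exfalso; rw [ha, hb, hc] at hsum; apply h10; linear_combination -hsum
    · exact ⟨2, c, by simp [ha, hb]⟩
    · exact ⟨1, b, by simp [ha, hc]⟩
    · exfalso
      have := sq_eq_one hF hb
      have := sq_eq_one hF hc
      rw [ha] at hsum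
      apply h10
      linear_combination hsum - ‹b ^ 2 = 1› - ‹c ^ 2 = 1›
    · exact ⟨0, a, by simp [hb, hc]⟩
    · exfalso
      have := sq_eq_one hF ha
      have := sq_eq_one hF hc
      rw [hb] at hsum
      apply h10
      linear_combination hsum - ‹a ^ 2 = 1› - ‹c ^ 2 = 1›
    · exfalso
      have := sq_eq_one hF ha
      have := sq_eq_one hF hb
      rw [hc] at hsum
      apply h10
      linear_combination hsum - ‹a ^ 2 = 1› - ‹b ^ 2 = 1›
    · exfalso
      have := sq_eq_one hF ha
      have := sq_eq_one hF hb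
      have := sq_eq_one hF hc
      apply h10
      linear_combination ‹a ^ 2 = 1› + ‹b ^ 2 = 1› + ‹c ^ 2 = 1› - hsum + h3

end frame

end Cfsg.Agent.Lib.Helper27.SpTensor
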