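import Mathlib
import Cfsg.Prelude.Def_GeometricClasses
import Cfsg.Agent.Lib.Helper27.OrthDecomp
import Cfsg.Agent.Lib.Helper27.SpTensor

set_option autoImplicit false

/-!
Frames of non-degenerate three-dimensional subspaces over the field with three elements, and the
non-maximality of the stabiliser of an orthogonal decomposition into such subspaces.
-/

namespace Cfsg.Agent.Lib.Helper27.OrthDecomp

open Cfsg Matrix QuadraticMap
open Cfsg.Agent.Lib.Helper19.OrthRefl Cfsg.Agent.Lib.Helper27.OrthPlane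
open Cfsg.Agent.Lib.Helper27.SpTensor

variable {F : Type*} [Field F] [Fintype F] {ι : Type} [Fintype ι] [DecidableEq ι]

/-- A frame of the subspace `W`: mutually orthogonal vectors of norm `δ` of `W` such that every
vector of norm `δ` of `W` is proportional to one of them. -/
def IsFrame (Q : (ι → F) → F) (W : Submodule F (ι → F)) (δ : F) {k : ℕ} (e : Fin k → (ι → F)) :
    Prop :=
  (∀ j, e j ∈ W) ∧ (∀ j, Q (e j) = δ) ∧ (∀ j j', j ≠ j' → polar Q (e j) (e j') = 0) ∧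
    ∀ v ∈ W, Q v = δ → ∃ (j : Fin k) (ε : F), v = ε • e j

theorem IsFrame.transport {Q : QuadraticForm F (ι → F)} {W W' : Submodule F (ι → F)} {δ : F}
    {k : ℕ} {e : Fin k → (ι → F)} (h : IsFrame (⇑Q) W δ e)
    (hiso : Cfsg.Geo.AreIsometricFor (⇑Q) W W') :
    ∃ e' : Fin k → (ι → F), IsFrame (⇑Q) W' δ e' := by
  obtain ⟨ψ, hψ⟩ := hiso
  obtain ⟨h1, h2, h3, h4⟩ := h
  refine ⟨fun j => ((ψ ⟨e j, h1 j⟩ : W') : ι → F), fun j => (ψ ⟨e j, h1 j⟩).2, ?_, ?_, ?_⟩
  · intro j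
    rw [hψ]
    exact h2 j
  · intro j j' hjj'
    have e1 : ((ψ ⟨e j, h1 j⟩ : W') : ι → F) + ((ψ ⟨e j', h1 j'⟩ : W') : ι → F) =
        ((ψ (⟨e j, h1 j⟩ + ⟨e j', h1 j'⟩) : W') : ι → F) := by
      rw [map_add]
      rfl
    unfold QuadraticMap.polar
    rw [e1, hψ, hψ, hψ]
    exact h3 j j' hjj'
  · intro v hv hQv
    obtain ⟨w, hw⟩ : ∃ w : W, ψ w = ⟨v, hv⟩ := ψ.surjective _
    have hQw : Q (w : ι → F) = δ := by
      rw [← hψ w, hw]
      exact hQv
    obtain ⟨j, ε, hj⟩ := h4 w w.2 hQw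
    refine ⟨j, ε, ?_⟩
    have e1 : w = ε • (⟨e j, h1 j⟩ : W) := Subtype.ext hj
    have e2 : (⟨v, hv⟩ : W') = ε • ψ ⟨e j, h1 j⟩ := by rw [← hw, e1, map_smul]
    exact congrArg Subtype.val e2

/-- A non-degenerate three-dimensional subspace over the field with three elements has a frame. -/
theorem exists_frame3 (hq : Fintype.card F = 3) (Q : QuadraticForm F (ι → F))
    (W : Submodule F (ι → F)) (hdim : Module.finrank F W = 3)
    (hW : Cfsg.Geo.IsNondegenerateOn (QuadraticMap.polar ⇑Q) W) :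
    ∃ (δ : F) (e : Fin 3 → (ι → F)), δ ≠ 0 ∧ IsFrame (⇑Q) W δ e := by
  classical
  have h3 := three_eq_zero hq
  have h20 : (2 : F) ≠ 0 := by
    intro h2
    have h1 : (1 : F) = 0 := by linear_combination h3 - h2
    exact one_ne_zero h1
  obtain ⟨b⟩ : Nonempty (Module.Basis (Fin 3) F W) := ⟨Module.finBasisOfFinrankEq F W hdim⟩
  obtain ⟨φ, hφ⟩ : ∃ φ : (Fin 3 → F) →ₗ[F] (ι → F), φ = W.subtype ∘ₗ b.equivFun.symm.toLinearMap :=
    ⟨_, rfl⟩
  have hφW : ∀ x, φ x ∈ W := by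
    intro x
    rw [hφ]
    exact (b.equivFun.symm x).2
  have hφsurj : ∀ v ∈ W, ∃ x, φ x = v := by
    intro v hv
    refine ⟨b.equivFun ⟨v, hv⟩, ?_⟩
    rw [hφ]
    simp
  have hφinj : ∀ x, φ x = 0 → x = 0 := by
    intro x hx
    rw [hφ] at hx
    have : (b.equivFun.symm x : W) = 0 := Subtype.ext hx
    exact (LinearEquiv.map_eq_zero_iff _).mp this
  obtain ⟨f, hf⟩ : ∃ f : (Fin 3 → F) → (Fin 3 → F) → F,
      f = fun x y => polar (⇑Q) (φ x) (φ y) := ⟨_, rfl⟩
  have hfS : Cfsg.Geo.IsSymmetricForm f := by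
    refine ⟨⟨?_, ?_, ?_, ?_⟩, ?_, ?_⟩
    · intro x y v
      rw [hf]
      simp only [map_add, QuadraticMap.polar_add_left]
    · intro c x v
      rw [hf]
      simp only [map_smul, QuadraticMap.polar_smul_left, smul_eq_mul]
    · intro v x y
      rw [hf]
      simp only [map_add, QuadraticMap.polar_add_right]
    · intro c v x
      rw [hf]
      simp only [map_smul, QuadraticMap.polar_smul_right, smul_eq_mul]
    · intro u v
      rw [hf]
      exact QuadraticMap.polar_comm _ _ _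
    · intro v hv
      have hv0 : φ v ≠ 0 := fun h => hv (hφinj v h)
      obtain ⟨⟨x, hxW, hx⟩, ⟨y, hyW, hy⟩⟩ := hW (φ v) (hφW v) hv0
      obtain ⟨x', rfl⟩ := hφsurj x hxW
      obtain ⟨y', rfl⟩ := hφsurj y hyW
      rw [hf]
      exact ⟨⟨x', hx⟩, ⟨y', hy⟩⟩
  obtain ⟨δ', Wf, hδ', hWf, hcl⟩ := frame3 hq hfS
  have hfa : ∀ x y, f x y = polar (⇑Q) (φ x) (φ y) := by
    intro x y
    rw [hf]
  refine ⟨-δ', fun j => φ (Wf j), neg_ne_zero.mpr hδ', fun j => hφW _, ?_, ?_, ?_⟩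
  · intro j
    have h1 := hWf j j
    rw [if_pos rfl, hfa, polar_self'] at h1
    have : (2 : F) * (Q (φ (Wf j)) + δ') = 0 := by linear_combination h1 + δ' * h3
    rcases mul_eq_zero.mp this with h | h
    · exact absurd h h20
    · exact eq_neg_of_add_eq_zero_left h
  · intro j j' hjj'
    have h1 := hWf j j'
    rw [if_neg hjj', hfa] at h1
    exact h1
  · intro v hv hQv
    obtain ⟨x, rfl⟩ := hφsurj v hv
    have h1 : f x x = δ' := by
      rw [hfa, polar_self', hQv]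
      linear_combination -δ' * h3
    obtain ⟨i, ε, hx⟩ := hcl x h1
    exact ⟨i, ε, by rw [hx, map_smul]⟩

end Cfsg.Agent.Lib.Helper27.OrthDecomp
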