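import Mathlib
import Cfsg.Prelude.Def_GeometricClasses
import Cfsg.Agent.Lib.Helper27.OrthDecomp2

set_option autoImplicit false

/-!
Orthogonal decompositions into three-dimensional subspaces over the field with three elements:
the stabiliser in `Ω` is not maximal.
-/

namespace Cfsg.Agent.Lib.Helper27.OrthDecomp

open Cfsg Matrix QuadraticMap
open Cfsg.Agent.Lib.Helper19.OrthRefl Cfsg.Agent.Lib.Helper27.OrthPlane
open Cfsg.Agent.Lib.Helper27.SpTensor

variable {F : Type*} [Field F] [Fintype F] {ι : Type} [Fintype ι] [DecidableEq ι]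

theorem finrank_le_card_mul {t m : ℕ} {D : Fin t → Submodule F (ι → F)}
    (hD : Cfsg.Geo.IsMDecomposition m D) (S : Finset (Fin t)) :
    Module.finrank F ↥(⨆ i ∈ S, D i) ≤ m * S.card := by
  classical
  induction S using Finset.induction_on with
  | empty =>
    have h0 : (⨆ i ∈ (∅ : Finset (Fin t)), D i) = ⊥ := by simp
    rw [h0, finrank_bot]
    exact Nat.zero_le _
  | insert j S hj ih =>
    rw [Finset.iSup_insert, Finset.card_insert_of_notMem hj]
    have := Submodule.finrank_add_le_finrank_add_finrank (D j) (⨆ i ∈ S, D i)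
    rw [hD.finrank_eq j] at this
    rw [Nat.mul_succ]
    omega

theorem card_le_mul {t m : ℕ} {D : Fin t → Submodule F (ι → F)}
    (hD : Cfsg.Geo.IsMDecomposition m D) : Fintype.card ι ≤ m * t := by
  have h1 := finrank_le_card_mul hD (Finset.univ : Finset (Fin t))
  have htop : (⨆ i ∈ (Finset.univ : Finset (Fin t)), D i) = ⊤ := by
    simp only [Finset.mem_univ, iSup_pos]
    exact hD.iSup_eq_top
  rw [htop, finrank_top, Module.finrank_fintype_fun_eq_card, Finset.card_univ,
    Fintype.card_fin] at h1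
  exact h1

theorem indep_of_decomp {t m : ℕ} {D : Fin t → Submodule F (ι → F)}
    (hD : Cfsg.Geo.IsMDecomposition m D) (i j : Fin t) (v : ι → F) (hi : v ∈ D i) (hj : v ∈ D j)
    (hv : v ≠ 0) : i = j := by
  by_contra hij
  have := hD.indep.pairwiseDisjoint hij
  exact hv (Submodule.disjoint_def.mp this v hi hj)

/-- Vectors of norm `δ` in the blocks are orthogonal or proportional to the frame vectors. -/
theorem frame_compat (hq : Fintype.card F = 3) (Q : QuadraticForm F (ι → F)) {t k : ℕ}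
    (D : Fin t → Submodule F (ι → F))
    (horth : ∀ i j, i ≠ j → ∀ u ∈ D i, ∀ v ∈ D j, polar (⇑Q) u v = 0)
    (δ : F) (hδ : δ ≠ 0) (E : Fin t → Fin k → (ι → F)) (hE : ∀ i, IsFrame (⇑Q) (D i) δ (E i))
    (v : ι → F) (hv : v ∈ normSet (⇑Q) D δ) (i' : Fin t) (j' : Fin k) :
    polar (⇑Q) (E i' j') v = 0 ∨ v = E i' j' ∨ v = -E i' j' := by
  obtain ⟨i, hvi, hQv⟩ := hv
  obtain ⟨j, ε, hvε⟩ := (hE i).2.2.2 v hvi hQv
  by_cases hi : i' = i
  · subst hi
    by_cases hj : j' = j
    · subst hj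
      right
      have h1 : ε ^ 2 = 1 := by
        have : Q v = ε * ε * δ := by
          rw [hvε, QuadraticMap.map_smul, (hE i').2.1 j', smul_eq_mul]
        rw [hQv] at this
        have h2 : δ * (ε ^ 2 - 1) = 0 := by linear_combination -this
        rcases mul_eq_zero.mp h2 with h | h
        · exact absurd h hδ
        · linear_combination h
      have h2 : (ε - 1) * (ε + 1) = 0 := by linear_combination h1
      rcases mul_eq_zero.mp h2 with h | h
      · left
        rw [hvε, sub_eq_zero.mp h, one_smul]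
      · right
        rw [hvε, eq_neg_of_add_eq_zero_left h, neg_smul, one_smul]
    · left
      rw [hvε, QuadraticMap.polar_smul_right, (hE i').2.2.1 j' j hj, smul_zero]
  · left
    exact horth i' i hi _ ((hE i').1 j') _ hvi

theorem decomp3_not_max (hq : Fintype.card F = 3) (Q : QuadraticForm F (ι → F))
    (hQ : (polarBilin Q).Nondegenerate) (hn : 13 ≤ Fintype.card ι) {t : ℕ}
    (D : Fin t → Submodule F (ι → F)) (hD : Cfsg.Geo.IsOrthogonalMDecomposition (⇑Q) 3 D) :
    ∃ K : Subgroup (GL ι F),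
      Cfsg.Geo.decompositionStabilizer D ⊓ Cfsg.Geo.omegaGL ⇑Q < K ∧
        K < Cfsg.Geo.omegaGL ⇑Q := by
  classical
  have h3 := three_eq_zero hq
  have ht : 5 ≤ t := by
    have := card_le_mul hD.decomp.decomp
    omega
  have horth : ∀ i j, i ≠ j → ∀ u ∈ D i, ∀ v ∈ D j, polar (⇑Q) u v = 0 :=
    fun i j hij u hu v hv => hD.decomp.orthogonal i j hij u hu v hv
  have hind := indep_of_decomp hD.decomp.decomp
  obtain ⟨δ, e0, hδ, he0⟩ := exists_frame3 hq Q (D ⟨0, by omega⟩)
    (hD.decomp.decomp.finrank_eq _) (hD.decomp.nondegenerate _)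
  have hex : ∀ i, ∃ e' : Fin 3 → (ι → F), IsFrame (⇑Q) (D i) δ e' :=
    fun i => he0.transport (hD.isometric _ i)
  choose E hE using hex
  obtain ⟨J, hJdef⟩ : ∃ J : Fin 5 → Fin t, J = fun p => ⟨p.1, by omega⟩ := ⟨_, rfl⟩
  have hJ : Function.Injective J := by
    intro p q hpq
    rw [hJdef] at hpq
    exact Fin.ext (Fin.mk.inj_iff.mp hpq)
  have hx0 : E (J 0) 1 ≠ 0 := by
    intro h
    have := (hE (J 0)).2.1 1
    rw [h, QuadraticMap.map_zero] at this
    exact hδ this.symm
  refine decomp_not_max Q hQ (by omega) h3 D horth hind δ hδ (fun i => E i 0)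
    (fun i => (hE i).1 0) (fun i => (hE i).2.1 0) J hJ (E (J 0) 0) (E (J 1) 0) (E (J 2) 0)
    (E (J 3) 0) (E (J 0) 1) δ hδ ((hE _).2.1 0) ((hE _).2.1 0) ((hE _).2.1 0) ((hE _).2.1 0)
    ((hE _).1 0) ((hE _).1 0) ((hE _).1 0) ((hE _).1 0) ((hE _).1 1) hx0
    ((hE (J 0)).2.2.1 0 1 (by decide)) ?_
  rintro v hv y (rfl | rfl | rfl | rfl)
  all_goals exact frame_compat hq Q D horth δ hδ E hE v hv _ _

end Cfsg.Agent.Lib.Helper27.OrthDecomp
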