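import Mathlib
import Cfsg.Prelude.Def_GeometricClasses
import Cfsg.Agent.Lib.Helper27.OrthDecomp3

set_option autoImplicit false

/-!
Frames of anisotropic planes over the field with three elements, and the non-maximality of the
stabiliser of an orthogonal decomposition into such planes.
-/

namespace Cfsg.Agent.Lib.Helper27.OrthDecomp

open Cfsg Matrix QuadraticMap
open Cfsg.Agent.Lib.Helper19.OrthRefl Cfsg.Agent.Lib.Helper27.OrthPlane
open Cfsg.Agent.Lib.Helper27.SpTensor

variable {F : Type*} [Field F] [Fintype F] {ι : Type} [Fintype ι] [DecidableEq ι]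

/-- A plane that is not of plus type has no non-zero singular vector. -/
theorem aniso_of_not_plus (Q : QuadraticForm F (ι → F)) (W : Submodule F (ι → F))
    (hdim : Module.finrank F W = 2) (hnp : ¬ Cfsg.Geo.IsPlusTypeOn (⇑Q) W) (v : ι → F) (hv : v ∈ W)
    (hQv : Q v = 0) : v = 0 := by
  by_contra hv0
  apply hnp
  refine ⟨Submodule.span F {v}, ?_, ?_, ?_⟩
  · rw [Submodule.span_singleton_le_iff_mem]
    exact hv
  · intro w hw
    obtain ⟨c, rfl⟩ := Submodule.mem_span_singleton.mp hw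
    rw [QuadraticMap.map_smul, hQv, smul_zero]
  · rw [finrank_span_singleton hv0, hdim]

/-- An anisotropic plane over the field with three elements has a frame. -/
theorem exists_frame2_aniso (hq : Fintype.card F = 3) (Q : QuadraticForm F (ι → F))
    (W : Submodule F (ι → F)) (hdim : Module.finrank F W = 2)
    (haniso : ∀ v ∈ W, Q v = 0 → v = 0) :
    ∃ (δ : F) (e : Fin 2 → (ι → F)), δ ≠ 0 ∧ IsFrame (⇑Q) W δ e := by
  classical
  have h3 := three_eq_zero hq
  have h20 : (2 : F) ≠ 0 := by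
    intro h2
    have h1 : (1 : F) = 0 := by linear_combination h3 - h2
    exact one_ne_zero h1
  obtain ⟨b⟩ : Nonempty (Module.Basis (Fin 2) F W) := ⟨Module.finBasisOfFinrankEq F W hdim⟩
  obtain ⟨b0, hb0⟩ : ∃ x : ι → F, x = ((b 0 : W) : ι → F) := ⟨_, rfl⟩
  obtain ⟨b1, hb1⟩ : ∃ x : ι → F, x = ((b 1 : W) : ι → F) := ⟨_, rfl⟩
  have hb0W : b0 ∈ W := by rw [hb0]; exact (b 0).2
  have hb1W : b1 ∈ W := by rw [hb1]; exact (b 1).2
  have hb0ne : b0 ≠ 0 := by
    rw [hb0]
    intro h
    exact b.ne_zero 0 (Subtype.ext h)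
  have hspan : ∀ v ∈ W, ∃ α β : F, v = α • b0 + β • b1 := by
    intro v hv
    refine ⟨b.repr ⟨v, hv⟩ 0, b.repr ⟨v, hv⟩ 1, ?_⟩
    have h1 := b.sum_repr ⟨v, hv⟩
    rw [Fin.sum_univ_two] at h1
    have h2 := congrArg Subtype.val h1
    rw [hb0, hb1]
    exact h2.symm
  obtain ⟨δ, hδdef⟩ : ∃ δ : F, δ = Q b0 := ⟨_, rfl⟩
  have hδ : δ ≠ 0 := by
    rw [hδdef]
    intro h
    exact hb0ne (haniso b0 hb0W h)
  obtain ⟨c, hc⟩ : ∃ c : F, c = polar (⇑Q) b0 b1 * (2 * δ)⁻¹ := ⟨_, rfl⟩
  obtain ⟨w1, hw1⟩ : ∃ w : ι → F, w = b1 - c • b0 := ⟨_, rfl⟩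
  have hw1W : w1 ∈ W := by
    rw [hw1]
    exact W.sub_mem hb1W (W.smul_mem c hb0W)
  have hp01 : polar (⇑Q) b0 w1 = 0 := by
    rw [hw1, QuadraticMap.polar_sub_right, QuadraticMap.polar_smul_right, polar_self', ← hδdef,
      hc, smul_eq_mul]
    field_simp
    ring
  have hw1ne : w1 ≠ 0 := by
    intro h
    rw [hw1, sub_eq_zero] at h
    have h1 : (b 1 : W) = c • (b 0 : W) := by
      apply Subtype.ext
      rw [← hb1, h, hb0]
      rfl
    have h2 := congrArg (fun z => b.repr z 1) h1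
    simp only [map_smul, Module.Basis.repr_self, Finsupp.smul_apply, Finsupp.single_eq_same,
      smul_eq_mul] at h2
    rw [Finsupp.single_eq_of_ne (by decide), mul_zero] at h2
    exact one_ne_zero h2
  have hQw1ne : Q w1 ≠ 0 := fun h => hw1ne (haniso w1 hw1W h)
  have hQw1 : Q w1 = δ := by
    have hcase : Q w1 = δ ∨ Q w1 = -δ := by
      rcases cases3 hq (Q w1) with h | h | h
      · exact absurd h hQw1ne
      · rcases cases3 hq δ with h' | h' | h'
        · exact absurd h' hδ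
        · left; rw [h, h']
        · right; rw [h, h']; ring
      · rcases cases3 hq δ with h' | h' | h'
        · exact absurd h' hδ
        · right; rw [h, h']
        · left; rw [h, h']
    rcases hcase with h | h
    · exact h
    · exfalso
      have hsum : Q (b0 + w1) = 0 := by
        rw [QuadraticMap.map_add (⇑Q) b0 w1, ← hδdef, h, hp01]
        ring
      have h0 := haniso (b0 + w1) (W.add_mem hb0W hw1W) hsum
      have hw : w1 = -b0 := eq_neg_of_add_eq_zero_right h0
      rw [hw, QuadraticMap.polar_neg_right, polar_self', ← hδdef] at hp01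
      have : (2 : F) * δ = 0 := by linear_combination -hp01
      exact mul_ne_zero h20 hδ this
  have hp10 : polar (⇑Q) w1 b0 = 0 := by rw [QuadraticMap.polar_comm]; exact hp01
  refine ⟨δ, ![b0, w1], hδ, ?_, ?_, ?_, ?_⟩
  · intro j
    fin_cases j
    · exact hb0W
    · exact hw1W
  · intro j
    fin_cases j
    · exact hδdef.symm
    · exact hQw1
  · intro j j' hjj'
    fin_cases j <;> fin_cases j'
    · exact absurd rfl hjj'
    · exact hp01
    · exact hp10
    · exact absurd rfl hjj'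
  · intro v hv hQv
    obtain ⟨α, β, rfl⟩ := hspan v hv
    have hv' : α • b0 + β • b1 = (α + β * c) • b0 + β • w1 := by
      rw [hw1, smul_sub, add_smul, smul_smul]
      abel
    rw [hv'] at hQv ⊢
    have hval : Q ((α + β * c) • b0 + β • w1) = δ * ((α + β * c) ^ 2 + β ^ 2) := by
      rw [QuadraticMap.map_add (⇑Q), QuadraticMap.map_smul, QuadraticMap.map_smul,
        QuadraticMap.polar_smul_left, QuadraticMap.polar_smul_right, hp01, ← hδdef, hQw1]
      simp only [smul_eq_mul]
      ring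
    rw [hval] at hQv
    have hsum : (α + β * c) ^ 2 + β ^ 2 = 1 := by
      have h1 : δ * ((α + β * c) ^ 2 + β ^ 2 - 1) = 0 := by linear_combination hQv
      rcases mul_eq_zero.mp h1 with h2 | h2
      · exact absurd h2 hδ
      · linear_combination h2
    obtain ⟨x, hx⟩ : ∃ x : F, x = α + β * c := ⟨_, rfl⟩
    rw [← hx] at hsum ⊢
    rcases cases3 hq x with hx0 | hx0 | hx0 <;> rcases cases3 hq β with hβ | hβ | hβ
    · exfalso; rw [hx0, hβ] at hsum; simp at hsum
    · exact ⟨1, 1, by rw [hx0, hβ]; simp⟩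
    · exact ⟨1, -1, by rw [hx0, hβ]; simp⟩
    · exact ⟨0, 1, by rw [hx0, hβ]; simp⟩
    · exfalso
      rw [hx0, hβ] at hsum
      have : (1 : F) = 0 := by linear_combination hsum
      exact one_ne_zero this
    · exfalso
      rw [hx0, hβ] at hsum
      have : (1 : F) = 0 := by linear_combination hsum
      exact one_ne_zero this
    · exact ⟨0, -1, by rw [hx0, hβ]; simp⟩
    · exfalso
      rw [hx0, hβ] at hsum
      have : (1 : F) = 0 := by linear_combination hsum
      exact one_ne_zero this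
    · exfalso
      rw [hx0, hβ] at hsum
      have : (1 : F) = 0 := by linear_combination hsum
      exact one_ne_zero this

theorem decomp2_aniso_not_max (hq : Fintype.card F = 3) (Q : QuadraticForm F (ι → F))
    (hQ : (polarBilin Q).Nondegenerate) (hn : 10 ≤ Fintype.card ι) {t : ℕ}
    (D : Fin t → Submodule F (ι → F)) (hD : Cfsg.Geo.IsOrthogonalMDecomposition (⇑Q) 2 D)
    (hnp : ∀ i, ¬ Cfsg.Geo.IsPlusTypeOn (⇑Q) (D i)) :
    ∃ K : Subgroup (GL ι F),
      Cfsg.Geo.decompositionStabilizer D ⊓ Cfsg.Geo.omegaGL ⇑Q < K ∧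
        K < Cfsg.Geo.omegaGL ⇑Q := by
  classical
  have h3 := three_eq_zero hq
  have ht : 5 ≤ t := by
    have := card_le_mul hD.decomp.decomp
    omega
  have horth : ∀ i j, i ≠ j → ∀ u ∈ D i, ∀ v ∈ D j, polar (⇑Q) u v = 0 :=
    fun i j hij u hu v hv => hD.decomp.orthogonal i j hij u hu v hv
  have hind := indep_of_decomp hD.decomp.decomp
  obtain ⟨δ, e0, hδ, he0⟩ := exists_frame2_aniso hq Q (D ⟨0, by omega⟩)
    (hD.decomp.decomp.finrank_eq _)
    (aniso_of_not_plus Q _ (hD.decomp.decomp.finrank_eq _) (hnp _))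
  have hex : ∀ i, ∃ e' : Fin 2 → (ι → F), IsFrame (⇑Q) (D i) δ e' :=
    fun i => he0.transport (hD.isometric _ i)
  choose E hE using hex
  obtain ⟨J, hJdef⟩ : ∃ J : Fin 5 → Fin t, J = fun p => ⟨p.1, by omega⟩ := ⟨_, rfl⟩
  have hJ : Function.Injective J := by
    intro p q hpq
    rw [hJdef] at hpq
    exact Fin.ext (Fin.mk.inj_iff.mp hpq)
  have hx0 : E (J 0) 1 ≠ 0 := by
    intro h
    have := (hE (J 0)).2.1 1
    rw [h, QuadraticMap.map_zero] at this
    exact hδ this.symm
  refine decomp_not_max Q hQ (by omega) h3 D horth hind δ hδ (fun i => E i 0)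
    (fun i => (hE i).1 0) (fun i => (hE i).2.1 0) J hJ (E (J 0) 0) (E (J 1) 0) (E (J 2) 0)
    (E (J 3) 0) (E (J 0) 1) δ hδ ((hE _).2.1 0) ((hE _).2.1 0) ((hE _).2.1 0) ((hE _).2.1 0)
    ((hE _).1 0) ((hE _).1 0) ((hE _).1 0) ((hE _).1 0) ((hE _).1 1) hx0
    ((hE (J 0)).2.2.1 0 1 (by decide)) ?_
  rintro v hv y (rfl | rfl | rfl | rfl)
  all_goals exact frame_compat hq Q D horth δ hδ E hE v hv _ _

end Cfsg.Agent.Lib.Helper27.OrthDecomp
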