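import Mathlib
import Cfsg.Prelude.Def_GeometricClasses
import Cfsg.Agent.Lib.Helper27.OrthDecomp4

set_option autoImplicit false

/-!
Orthogonal decompositions in odd characteristic: a general form of the non-maximality argument,
and transport of frames along explicit isometries.
-/

namespace Cfsg.Agent.Lib.Helper27.OrthDecomp

open Cfsg Matrix QuadraticMap
open Cfsg.Agent.Lib.Helper19.OrthRefl Cfsg.Agent.Lib.Helper27.OrthPlane
open Cfsg.Agent.Lib.Helper27.SpTensor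

variable {F : Type*} [Field F] [Fintype F] {ι : Type} [Fintype ι] [DecidableEq ι]

/-- The final assembly: an element of the stabiliser of the norm set outside the stabiliser of
the decomposition, and an element of `Ω` outside the stabiliser of the norm set. -/
theorem not_max_of_elements (Q : (ι → F) → F) {t : ℕ} (D : Fin t → Submodule F (ι → F)) (δ : F)
    (g₀ g₁ : ↥(Cfsg.isometryGroup F Q)) (h₀Ω : g₀ ∈ Cfsg.Omega F Q)
    (h₀S : ∀ s ∈ normSet Q D δ, act g₀ s ∈ normSet Q D δ ∧ act g₀⁻¹ s ∈ normSet Q D δ)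
    (h₀D : (g₀ : GL ι F) ∉ Cfsg.Geo.decompositionStabilizer D)
    (h₁Ω : g₁ ∈ Cfsg.Omega F Q)
    (h₁ : ∃ s ∈ normSet Q D δ, act g₁ s ∉ normSet Q D δ) :
    ∃ K : Subgroup (GL ι F),
      Cfsg.Geo.decompositionStabilizer D ⊓ Cfsg.Geo.omegaGL Q < K ∧
        K < Cfsg.Geo.omegaGL Q := by
  refine ⟨normStab Q D δ, ?_, ?_⟩
  · refine lt_of_le_of_ne (stab_le_normStab Q D δ) ?_
    intro h
    have hg₀K : (g₀ : GL ι F) ∈ normStab Q D δ :=
      ⟨mem_omegaGL_of_mem_Omega g₀ h₀Ω, fun s hs => h₀S s hs⟩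
    rw [← h] at hg₀K
    exact h₀D hg₀K.1
  · refine lt_of_le_of_ne (fun g hg => hg.1) ?_
    intro h
    obtain ⟨s, hs, hns⟩ := h₁
    have : (g₁ : GL ι F) ∈ normStab Q D δ := by
      rw [h]
      exact mem_omegaGL_of_mem_Omega g₁ h₁Ω
    exact hns (this.2 s hs).1

theorem Q_sum_of_orth (Q : QuadraticForm F (ι → F)) {κ : Type*} [DecidableEq κ] (s : Finset κ)
    (x : κ → (ι → F)) (h : ∀ i ∈ s, ∀ j ∈ s, i ≠ j → polar (⇑Q) (x i) (x j) = 0) :
    Q (∑ i ∈ s, x i) = ∑ i ∈ s, Q (x i) := by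
  induction s using Finset.induction_on with
  | empty => simp
  | insert a s ha ih =>
    rw [Finset.sum_insert ha, Finset.sum_insert ha, QuadraticMap.map_add (⇑Q)]
    have h1 : polar (⇑Q) (x a) (∑ i ∈ s, x i) = 0 := by
      have : polar (⇑Q) (x a) (∑ i ∈ s, x i) = ∑ i ∈ s, polar (⇑Q) (x a) (x i) := by
        exact map_sum (QuadraticMap.polarBilin Q (x a)) x s
      rw [this]
      apply Finset.sum_eq_zero
      intro i hi
      apply h a (Finset.mem_insert_self a s) i (Finset.mem_insert_of_mem hi)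
      rintro rfl
      exact ha hi
    rw [h1, add_zero, ih]
    intro i hi j hj hij
    exact h i (Finset.mem_insert_of_mem hi) j (Finset.mem_insert_of_mem hj) hij

theorem polar_sum_left' (Q : QuadraticForm F (ι → F)) {κ : Type*} (s : Finset κ)
    (x : κ → (ι → F)) (z : ι → F) :
    polar (⇑Q) (∑ i ∈ s, x i) z = ∑ i ∈ s, polar (⇑Q) (x i) z := by
  rw [QuadraticMap.polar_comm]
  have h2 : polar (⇑Q) z (∑ i ∈ s, x i) = ∑ i ∈ s, polar (⇑Q) z (x i) :=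
    map_sum (QuadraticMap.polarBilin Q z) x s
  rw [h2]
  apply Finset.sum_congr rfl
  intro i _
  exact QuadraticMap.polar_comm _ _ _

/-- The swapping element: a product of two reflections in `Ω` preserving the norm set but not the
decomposition (odd characteristic). -/
theorem swap_element (Q : QuadraticForm F (ι → F)) (hQ : (polarBilin Q).Nondegenerate)
    (hn : 5 ≤ Fintype.card ι) (h20 : (2 : F) ≠ 0) {t : ℕ} (D : Fin t → Submodule F (ι → F))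
    (horth : ∀ i j, i ≠ j → ∀ u ∈ D i, ∀ v ∈ D j, polar (⇑Q) u v = 0)
    (hind : ∀ i j, ∀ v, v ∈ D i → v ∈ D j → v ≠ 0 → i = j)
    (δ : F) (J : Fin 4 → Fin t) (hJ : Function.Injective J)
    (a b a' b' x : ι → F) (c : F) (hc : c ≠ 0) (ha : Q a = c) (hb : Q b = c) (ha' : Q a' = c)
    (hb' : Q b' = c) (haD : a ∈ D (J 0)) (hbD : b ∈ D (J 1)) (ha'D : a' ∈ D (J 2))
    (hb'D : b' ∈ D (J 3)) (hxD : x ∈ D (J 0)) (hx0 : x ≠ 0) (hax : polar (⇑Q) a x = 0)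
    (hcompat : ∀ v ∈ normSet (⇑Q) D δ, ∀ y, (y = a ∨ y = b ∨ y = a' ∨ y = b') →
      (polar (⇑Q) y v = 0 ∨ v = y ∨ v = -y)) :
    ∃ g₀ : ↥(Cfsg.isometryGroup F ⇑Q), g₀ ∈ Cfsg.Omega F ⇑Q ∧
      (∀ s ∈ normSet (⇑Q) D δ, act g₀ s ∈ normSet (⇑Q) D δ ∧ act g₀⁻¹ s ∈ normSet (⇑Q) D δ) ∧
      (g₀ : GL ι F) ∉ Cfsg.Geo.decompositionStabilizer D := by
  classical
  have hJne : ∀ p q : Fin 4, p ≠ q → J p ≠ J q := fun p q hpq h => hpq (hJ h)
  have h01 : J 0 ≠ J 1 := hJne 0 1 (by decide)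
  have h02 : J 0 ≠ J 2 := hJne 0 2 (by decide)
  have h03 : J 0 ≠ J 3 := hJne 0 3 (by decide)
  have h12 : J 1 ≠ J 2 := hJne 1 2 (by decide)
  have h13 : J 1 ≠ J 3 := hJne 1 3 (by decide)
  have h23 : J 2 ≠ J 3 := hJne 2 3 (by decide)
  have pab : polar (⇑Q) a b = 0 := horth _ _ h01 a haD b hbD
  have paa' : polar (⇑Q) a a' = 0 := horth _ _ h02 a haD a' ha'D
  have pab' : polar (⇑Q) a b' = 0 := horth _ _ h03 a haD b' hb'D
  have pa'b' : polar (⇑Q) a' b' = 0 := horth _ _ h23 a' ha'D b' hb'D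
  have pxb : polar (⇑Q) x b = 0 := horth _ _ h01 x hxD b hbD
  have pxa' : polar (⇑Q) x a' = 0 := horth _ _ h02 x hxD a' ha'D
  have pxb' : polar (⇑Q) x b' = 0 := horth _ _ h03 x hxD b' hb'D
  have hQab : Q (a - b) = 2 * c := by rw [Q_sub', ha, hb, pab]; ring
  have hQa'b' : Q (a' - b') = 2 * c := by rw [Q_sub', ha', hb', pa'b']; ring
  have hne1 : Q (a - b) ≠ 0 := by rw [hQab]; exact mul_ne_zero h20 hc
  have hne2 : Q (a' - b') ≠ 0 := by rw [hQa'b']; exact mul_ne_zero h20 hc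
  have hr1 : ∀ v ∈ normSet (⇑Q) D δ, act (refl Q (a - b) hne1) v ∈ normSet (⇑Q) D δ :=
    refl_swap_maps Q D δ a b (ha.trans hb.symm) (J 0) (J 1) haD hbD hne1
      (fun v hv => ⟨hcompat v hv a (Or.inl rfl), hcompat v hv b (Or.inr (Or.inl rfl))⟩)
  have hr2 : ∀ v ∈ normSet (⇑Q) D δ, act (refl Q (a' - b') hne2) v ∈ normSet (⇑Q) D δ :=
    refl_swap_maps Q D δ a' b' (ha'.trans hb'.symm) (J 2) (J 3) ha'D hb'D hne2
      (fun v hv => ⟨hcompat v hv a' (Or.inr (Or.inr (Or.inl rfl))),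
        hcompat v hv b' (Or.inr (Or.inr (Or.inr rfl)))⟩)
  obtain ⟨g₀, hg₀⟩ : ∃ g : ↥(Cfsg.isometryGroup F ⇑Q),
      g = refl Q (a - b) hne1 * refl Q (a' - b') hne2 := ⟨_, rfl⟩
  have hg₀Ω : g₀ ∈ Cfsg.Omega F ⇑Q := by
    rw [hg₀]
    exact refl_mul_refl_mem_Omega' Q hQ hn _ _ hne1 hne2 (hQab.trans hQa'b'.symm)
  have hg₀inv : g₀⁻¹ = refl Q (a' - b') hne2 * refl Q (a - b) hne1 := by
    rw [hg₀, _root_.mul_inv_rev, refl_inv, refl_inv]
  have hg₀a : act g₀ a = b := by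
    have e1 : polar (⇑Q) (a' - b') a = 0 := by
      rw [QuadraticMap.polar_sub_left, QuadraticMap.polar_comm (⇑Q) a' a,
        QuadraticMap.polar_comm (⇑Q) b' a, paa', pab', sub_zero]
    rw [hg₀, act_mul, act_refl_of_polar_eq_zero Q _ hne2 a e1]
    exact act_refl_sub Q a b (ha.trans hb.symm) hne1
  have hg₀x : act g₀ x = x := by
    have e1 : polar (⇑Q) (a' - b') x = 0 := by
      rw [QuadraticMap.polar_sub_left, QuadraticMap.polar_comm (⇑Q) a' x,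
        QuadraticMap.polar_comm (⇑Q) b' x, pxa', pxb', sub_zero]
    have e2 : polar (⇑Q) (a - b) x = 0 := by
      rw [QuadraticMap.polar_sub_left, QuadraticMap.polar_comm (⇑Q) b x, hax, pxb, sub_zero]
    rw [hg₀, act_mul, act_refl_of_polar_eq_zero Q _ hne2 x e1,
      act_refl_of_polar_eq_zero Q _ hne1 x e2]
  have hb0 : b ≠ 0 := by
    rintro rfl
    rw [QuadraticMap.map_zero] at hb
    exact hc hb.symm
  refine ⟨g₀, hg₀Ω, fun s hs => ⟨?_, ?_⟩, ?_⟩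
  · rw [hg₀, act_mul]
    exact hr1 _ (hr2 s hs)
  · rw [hg₀inv, act_mul]
    exact hr2 _ (hr1 s hs)
  · rintro ⟨σ, hσ⟩
    have hmap : ∀ v ∈ D (J 0), act g₀ v ∈ D (σ (J 0)) := by
      intro v hv
      rw [← hσ (J 0)]
      exact Submodule.mem_map.mpr ⟨v, hv, Matrix.toLin'_apply _ _⟩
    have e1 : σ (J 0) = J 1 := by
      have := hmap a haD
      rw [hg₀a] at this
      exact hind _ _ b this hbD hb0
    have e2 : σ (J 0) = J 0 := by
      have := hmap x hxD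
      rw [hg₀x] at this
      exact hind _ _ x this hxD hx0
    exact h01 (e2.symm.trans e1)

/-- The moving element: a product of two reflections in `Ω` that does not preserve the norm set
(characteristic dividing `r`, with `r + 2` blocks). -/
theorem moving_element_odd (Q : QuadraticForm F (ι → F)) (hQ : (polarBilin Q).Nondegenerate)
    (hn : 5 ≤ Fintype.card ι) (h20 : (2 : F) ≠ 0) (r : ℕ) (hr3 : 3 ≤ r) (hr : (r : F) = 0)
    {t : ℕ} (D : Fin t → Submodule F (ι → F))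
    (horth : ∀ i j, i ≠ j → ∀ u ∈ D i, ∀ v ∈ D j, polar (⇑Q) u v = 0)
    (δ : F) (hδ : δ ≠ 0) (E : Fin t → (ι → F)) (hE : ∀ i, E i ∈ D i) (hEQ : ∀ i, Q (E i) = δ)
    (J : Fin (r + 2) → Fin t) (hJ : Function.Injective J) :
    ∃ g₁ : ↥(Cfsg.isometryGroup F ⇑Q), g₁ ∈ Cfsg.Omega F ⇑Q ∧
      ∃ s ∈ normSet (⇑Q) D δ, act g₁ s ∉ normSet (⇑Q) D δ := by
  classical
  have hJne : ∀ p q : Fin (r + 2), p ≠ q → J p ≠ J q := fun p q hpq h => hpq (hJ h)
  have hEorth : ∀ p q : Fin (r + 2), p ≠ q → polar (⇑Q) (E (J p)) (E (J q)) = 0 :=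
    fun p q hpq => horth _ _ (hJne p q hpq) _ (hE _) _ (hE _)
  obtain ⟨u, hu⟩ : ∃ u : ι → F, u = ∑ p : Fin (r + 1), E (J p.castSucc) := ⟨_, rfl⟩
  obtain ⟨w, hw⟩ : ∃ w : ι → F, w = E (J (Fin.last (r + 1))) := ⟨_, rfl⟩
  have hcs : ∀ p q : Fin (r + 1), p ≠ q → (p.castSucc : Fin (r + 2)) ≠ q.castSucc :=
    fun p q hpq h => hpq (Fin.castSucc_injective _ h)
  have hQu : Q u = δ := by
    rw [hu, Q_sum_of_orth Q Finset.univ (fun p : Fin (r + 1) => E (J p.castSucc))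
      (fun p _ q _ hpq => hEorth _ _ (hcs p q hpq))]
    simp only [hEQ, Finset.sum_const, Finset.card_univ, Fintype.card_fin, nsmul_eq_mul]
    push_cast
    rw [hr, zero_add, one_mul]
  have hpu : ∀ z, polar (⇑Q) u z = ∑ p : Fin (r + 1), polar (⇑Q) (E (J p.castSucc)) z := by
    intro z
    rw [hu, polar_sum_left']
  have hpuE : ∀ q : Fin (r + 1), polar (⇑Q) u (E (J q.castSucc)) = 2 * δ := by
    intro q
    rw [hpu, Finset.sum_eq_single q]
    · rw [polar_self', hEQ]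
    · intro p _ hpq
      exact hEorth _ _ (hcs p q hpq)
    · intro h
      exact absurd (Finset.mem_univ q) h
  have hQw : Q w = δ := by rw [hw]; exact hEQ _
  have hune : Q u ≠ 0 := by rw [hQu]; exact hδ
  have hwne : Q w ≠ 0 := by rw [hQw]; exact hδ
  obtain ⟨g₁, hg₁⟩ : ∃ g : ↥(Cfsg.isometryGroup F ⇑Q),
      g = refl Q u hune * refl Q w hwne := ⟨_, rfl⟩
  have hg₁Ω : g₁ ∈ Cfsg.Omega F ⇑Q := by
    rw [hg₁]
    exact refl_mul_refl_mem_Omega' Q hQ hn _ _ hune hwne (hQu.trans hQw.symm)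
  obtain ⟨p0, hp0⟩ : ∃ p : Fin (r + 1), p = ⟨0, by omega⟩ := ⟨_, rfl⟩
  obtain ⟨p1, hp1⟩ : ∃ p : Fin (r + 1), p = ⟨1, by omega⟩ := ⟨_, rfl⟩
  obtain ⟨p2, hp2⟩ : ∃ p : Fin (r + 1), p = ⟨2, by omega⟩ := ⟨_, rfl⟩
  have hp01 : p0 ≠ p1 := by rw [hp0, hp1]; intro h; simp [Fin.ext_iff] at h
  have hp02 : p0 ≠ p2 := by rw [hp0, hp2]; intro h; simp [Fin.ext_iff] at h
  have hp12 : p1 ≠ p2 := by rw [hp1, hp2]; intro h; simp [Fin.ext_iff] at h
  obtain ⟨e₀, he₀⟩ : ∃ e, e = E (J p0.castSucc) := ⟨_, rfl⟩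
  obtain ⟨e₁, he₁⟩ : ∃ e, e = E (J p1.castSucc) := ⟨_, rfl⟩
  obtain ⟨e₂, he₂⟩ : ∃ e, e = E (J p2.castSucc) := ⟨_, rfl⟩
  have hlast : ∀ p : Fin (r + 1), (p.castSucc : Fin (r + 2)) ≠ Fin.last (r + 1) :=
    fun p => Fin.castSucc_ne_last p
  have hg₁e : act g₁ e₀ = e₀ - (2 : F) • u := by
    have e1 : polar (⇑Q) w e₀ = 0 := by
      rw [hw, he₀]
      exact hEorth _ _ (hlast p0).symm
    rw [hg₁, act_mul, act_refl_of_polar_eq_zero Q _ hwne e₀ e1, act_refl, he₀, hpuE, hQu]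
    congr 2
    field_simp
  refine ⟨g₁, hg₁Ω, e₀, ⟨J p0.castSucc, by rw [he₀]; exact hE _, by rw [he₀]; exact hEQ _⟩, ?_⟩
  rw [hg₁e]
  rintro ⟨k, hk, _⟩
  have hq1 : polar (⇑Q) (e₀ - (2 : F) • u) e₁ = -(4 * δ) := by
    rw [QuadraticMap.polar_sub_left, QuadraticMap.polar_smul_left, he₁, hpuE, he₀,
      hEorth _ _ (hcs p0 p1 hp01), smul_eq_mul]
    ring
  have hq2 : polar (⇑Q) (e₀ - (2 : F) • u) e₂ = -(4 * δ) := by
    rw [QuadraticMap.polar_sub_left, QuadraticMap.polar_smul_left, he₂, hpuE, he₀,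
      hEorth _ _ (hcs p0 p2 hp02), smul_eq_mul]
    ring
  have h4δ : -(4 * δ) ≠ 0 := by
    have : -(4 * δ) = -(2 * 2 * δ) := by ring
    rw [this]
    exact neg_ne_zero.mpr (mul_ne_zero (mul_ne_zero h20 h20) hδ)
  have k1 : k = J p1.castSucc := by
    by_contra hne
    exact h4δ (hq1 ▸ horth k _ hne _ hk _ (by rw [he₁]; exact hE _))
  have k2 : k = J p2.castSucc := by
    by_contra hne
    exact h4δ (hq2 ▸ horth k _ hne _ hk _ (by rw [he₂]; exact hE _))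
  exact hJne _ _ (hcs p1 p2 hp12) (k1.symm.trans k2)

end Cfsg.Agent.Lib.Helper27.OrthDecomp
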