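import Mathlib
import Cfsg.Prelude.Def_GeometricClasses
import Cfsg.Agent.Lib.Helper27.OrthDecomp5

set_option autoImplicit false

/-!
Hyperbolic planes: hyperbolic pairs, the value of the form in hyperbolic coordinates, and
transport along explicit isometries.
-/

namespace Cfsg.Agent.Lib.Helper27.OrthDecomp

open Cfsg Matrix QuadraticMap
open Cfsg.Agent.Lib.Helper19.OrthRefl Cfsg.Agent.Lib.Helper27.OrthPlane
open Cfsg.Agent.Lib.Helper27.SpTensor

variable {F : Type*} [Field F] {ι : Type} [Fintype ι] [DecidableEq ι]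

theorem polar_map (Q : QuadraticForm F (ι → F)) {W W' : Submodule F (ι → F)} (ψ : W ≃ₗ[F] W')
    (hψ : ∀ w : W, Q ((ψ w : W') : ι → F) = Q (w : ι → F)) (x y : W) :
    polar (⇑Q) ((ψ x : W') : ι → F) ((ψ y : W') : ι → F) =
      polar (⇑Q) (x : ι → F) (y : ι → F) := by
  have e1 : ((ψ x : W') : ι → F) + ((ψ y : W') : ι → F) = ((ψ (x + y) : W') : ι → F) := by
    rw [map_add]
    rfl
  unfold QuadraticMap.polar
  rw [e1, hψ, hψ, hψ]
  rfl

/-- A hyperbolic pair spanning a non-degenerate plane of plus type. -/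
theorem exists_hyp_pair (Q : QuadraticForm F (ι → F)) (W : Submodule F (ι → F))
    (hdim : Module.finrank F W = 2)
    (hW : Cfsg.Geo.IsNondegenerateOn (QuadraticMap.polar ⇑Q) W)
    (hplus : Cfsg.Geo.IsPlusTypeOn ⇑Q W) :
    ∃ e f : ι → F, e ∈ W ∧ f ∈ W ∧ Q e = 0 ∧ Q f = 0 ∧ polar (⇑Q) e f = 1 ∧
      ∀ v ∈ W, ∃ a b : F, v = a • e + b • f := by
  classical
  obtain ⟨U, hUW, hUts, hUdim⟩ := hplus
  have hU1 : Module.finrank F U = 1 := by omega
  obtain ⟨e, heU, he0⟩ : ∃ e ∈ U, e ≠ 0 := by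
    have : U ≠ ⊥ := by
      intro h
      rw [h, finrank_bot] at hU1
      exact zero_ne_one hU1
    exact Submodule.exists_mem_ne_zero_of_ne_bot this
  have heW : e ∈ W := hUW heU
  have hQe : Q e = 0 := hUts e heU
  have hBee : polar (⇑Q) e e = 0 := polar_self_of_singular Q hQe
  obtain ⟨_, ⟨y, hyW, hy⟩⟩ := hW e heW he0
  obtain ⟨f', hf'W, hef'⟩ : ∃ f' ∈ W, polar (⇑Q) e f' = 1 := by
    refine ⟨(polar (⇑Q) e y)⁻¹ • y, W.smul_mem _ hyW, ?_⟩
    rw [polar_smul_right, smul_eq_mul, inv_mul_cancel₀ hy]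
  obtain ⟨f, hfW, hef, hQf⟩ : ∃ f ∈ W, polar (⇑Q) e f = 1 ∧ Q f = 0 := by
    refine ⟨f' - Q f' • e, W.sub_mem hf'W (W.smul_mem _ heW), ?_, ?_⟩
    · rw [polar_sub_right, polar_smul_right, hBee, hef', smul_zero, sub_zero]
    · rw [Q_sub', QuadraticMap.map_smul, hQe, polar_smul_right, polar_comm, hef']
      simp
  have hfe : polar (⇑Q) f e = 1 := by rw [polar_comm]; exact hef
  have hBff : polar (⇑Q) f f = 0 := polar_self_of_singular Q hQf
  refine ⟨e, f, heW, hfW, hQe, hQf, hef, ?_⟩
  have hli : LinearIndependent F ![e, f] := by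
    rw [LinearIndependent.pair_iff]
    intro s t hst
    have h1 : polar (⇑Q) (s • e + t • f) f = 0 := by rw [hst, polar_zero_left]
    have h2 : polar (⇑Q) (s • e + t • f) e = 0 := by rw [hst, polar_zero_left]
    rw [polar_add_left, polar_smul_left, polar_smul_left, hef, hBff] at h1
    rw [polar_add_left, polar_smul_left, polar_smul_left, hfe, hBee] at h2
    simp only [smul_eq_mul, mul_one, mul_zero, add_zero, zero_add] at h1 h2
    exact ⟨h1, h2⟩
  have hle : Submodule.span F (Set.range ![e, f]) ≤ W := by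
    rw [Submodule.span_le]
    rintro _ ⟨i, rfl⟩
    fin_cases i
    · exact heW
    · exact hfW
  have hfr : Module.finrank F (Submodule.span F (Set.range ![e, f])) = 2 := by
    rw [finrank_span_eq_card hli, Fintype.card_fin]
  have heq : Submodule.span F (Set.range ![e, f]) = W :=
    Submodule.eq_of_le_of_finrank_eq hle (by rw [hfr, hdim])
  intro v hv
  rw [← heq, Matrix.range_cons, Matrix.range_cons, Matrix.range_empty, Set.union_empty,
    Set.singleton_union, Submodule.mem_span_pair] at hv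
  obtain ⟨a, b, hab⟩ := hv
  exact ⟨a, b, hab.symm⟩

/-- The form in hyperbolic coordinates. -/
theorem Q_hyp (Q : QuadraticForm F (ι → F)) {e f : ι → F} (hQe : Q e = 0) (hQf : Q f = 0)
    (hef : polar (⇑Q) e f = 1) (a b : F) : Q (a • e + b • f) = a * b := by
  rw [QuadraticMap.map_add (⇑Q), QuadraticMap.map_smul, QuadraticMap.map_smul, hQe, hQf,
    QuadraticMap.polar_smul_left, QuadraticMap.polar_smul_right, hef]
  simp

/-- The polar form in hyperbolic coordinates. -/
theorem polar_hyp (Q : QuadraticForm F (ι → F)) {e f : ι → F} (hQe : Q e = 0) (hQf : Q f = 0)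
    (hef : polar (⇑Q) e f = 1) (a b c d : F) :
    polar (⇑Q) (a • e + b • f) (c • e + d • f) = a * d + b * c := by
  have hfe : polar (⇑Q) f e = 1 := by rw [polar_comm]; exact hef
  have hBee : polar (⇑Q) e e = 0 := polar_self_of_singular Q hQe
  have hBff : polar (⇑Q) f f = 0 := polar_self_of_singular Q hQf
  simp only [QuadraticMap.polar_add_left, QuadraticMap.polar_add_right,
    QuadraticMap.polar_smul_left, QuadraticMap.polar_smul_right, hef, hfe, hBee, hBff,
    smul_eq_mul]
  ring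

end Cfsg.Agent.Lib.Helper27.OrthDecomp
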