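import Mathlib
import Cfsg.Prelude.Def_GeometricClasses
import Cfsg.Agent.Lib.Helper27.OrthDecomp6

set_option autoImplicit false

/-!
Orthogonal decompositions into hyperbolic planes over the fields with three and five elements.
-/

namespace Cfsg.Agent.Lib.Helper27.OrthDecomp

open Cfsg Matrix QuadraticMap
open Cfsg.Agent.Lib.Helper19.OrthRefl Cfsg.Agent.Lib.Helper27.OrthPlane
open Cfsg.Agent.Lib.Helper27.SpTensor

variable {F : Type*} [Field F] [Fintype F] {ι : Type} [Fintype ι] [DecidableEq ι]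

/-- Hyperbolic pairs in all the blocks of a decomposition into planes, one of which is of plus
type. -/
theorem exists_hyp_pairs (Q : QuadraticForm F (ι → F)) {t : ℕ} (D : Fin t → Submodule F (ι → F))
    (hD : Cfsg.Geo.IsOrthogonalMDecomposition (⇑Q) 2 D) (i₀ : Fin t)
    (h0 : Cfsg.Geo.IsPlusTypeOn (⇑Q) (D i₀)) :
    ∃ e f : Fin t → (ι → F), ∀ i, e i ∈ D i ∧ f i ∈ D i ∧ Q (e i) = 0 ∧ Q (f i) = 0 ∧
      polar (⇑Q) (e i) (f i) = 1 ∧ ∀ v ∈ D i, ∃ a b : F, v = a • e i + b • f i := by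
  classical
  obtain ⟨e₀, f₀, he₀, hf₀, hQe, hQf, hef, hspan⟩ := exists_hyp_pair Q (D i₀)
    (hD.decomp.decomp.finrank_eq _) (hD.decomp.nondegenerate _) h0
  have hiso := fun i => hD.isometric i₀ i
  choose ψ hψ using hiso
  refine ⟨fun i => ((ψ i ⟨e₀, he₀⟩ : D i) : ι → F), fun i => ((ψ i ⟨f₀, hf₀⟩ : D i) : ι → F),
    fun i => ⟨(ψ i _).2, (ψ i _).2, ?_, ?_, ?_, ?_⟩⟩
  · rw [hψ]; exact hQe
  · rw [hψ]; exact hQf
  · rw [polar_map Q (ψ i) (hψ i)]; exact hef
  · intro v hv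
    obtain ⟨w, hw⟩ : ∃ w : D i₀, ψ i w = ⟨v, hv⟩ := (ψ i).surjective _
    obtain ⟨a, b, hab⟩ := hspan w w.2
    refine ⟨a, b, ?_⟩
    have e1 : w = a • (⟨e₀, he₀⟩ : D i₀) + b • (⟨f₀, hf₀⟩ : D i₀) := Subtype.ext hab
    have e2 : (⟨v, hv⟩ : D i) = a • ψ i ⟨e₀, he₀⟩ + b • ψ i ⟨f₀, hf₀⟩ := by
      rw [← hw, e1, map_add, map_smul, map_smul]
    exact congrArg Subtype.val e2

theorem decomp2_hyp_q3_not_max (hq : Fintype.card F = 3) (Q : QuadraticForm F (ι → F))
    (hQ : (polarBilin Q).Nondegenerate) (hn : 10 ≤ Fintype.card ι) {t : ℕ}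
    (D : Fin t → Submodule F (ι → F)) (hD : Cfsg.Geo.IsOrthogonalMDecomposition (⇑Q) 2 D)
    (e f : Fin t → (ι → F))
    (hef : ∀ i, e i ∈ D i ∧ f i ∈ D i ∧ Q (e i) = 0 ∧ Q (f i) = 0 ∧
      polar (⇑Q) (e i) (f i) = 1 ∧ ∀ v ∈ D i, ∃ a b : F, v = a • e i + b • f i) :
    ∃ K : Subgroup (GL ι F),
      Cfsg.Geo.decompositionStabilizer D ⊓ Cfsg.Geo.omegaGL ⇑Q < K ∧
        K < Cfsg.Geo.omegaGL ⇑Q := by
  classical
  have h3 := three_eq_zero hq
  have h20 : (2 : F) ≠ 0 := by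
    intro h2
    have h1 : (1 : F) = 0 := by linear_combination h3 - h2
    exact one_ne_zero h1
  have ht : 5 ≤ t := by
    have := card_le_mul hD.decomp.decomp
    omega
  have horth : ∀ i j, i ≠ j → ∀ u ∈ D i, ∀ v ∈ D j, polar (⇑Q) u v = 0 :=
    fun i j hij u hu v hv => hD.decomp.orthogonal i j hij u hu v hv
  have hind := indep_of_decomp hD.decomp.decomp
  -- the vectors of norm 1 and -1
  obtain ⟨E, hEdef⟩ : ∃ E : Fin t → (ι → F), E = fun i => (1 : F) • e i + (1 : F) • f i :=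
    ⟨_, rfl⟩
  obtain ⟨E', hE'def⟩ : ∃ E' : Fin t → (ι → F), E' = fun i => (1 : F) • e i + (-1 : F) • f i :=
    ⟨_, rfl⟩
  have hED : ∀ i, E i ∈ D i := by
    intro i
    rw [hEdef]
    exact (D i).add_mem ((D i).smul_mem _ (hef i).1) ((D i).smul_mem _ (hef i).2.1)
  have hE'D : ∀ i, E' i ∈ D i := by
    intro i
    rw [hE'def]
    exact (D i).add_mem ((D i).smul_mem _ (hef i).1) ((D i).smul_mem _ (hef i).2.1)
  have hEQ : ∀ i, Q (E i) = 1 := by
    intro i
    rw [hEdef]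
    simp only
    rw [Q_hyp Q (hef i).2.2.1 (hef i).2.2.2.1 (hef i).2.2.2.2.1, one_mul]
  have hE'Q : ∀ i, Q (E' i) = -1 := by
    intro i
    rw [hE'def]
    simp only
    rw [Q_hyp Q (hef i).2.2.1 (hef i).2.2.2.1 (hef i).2.2.2.2.1, one_mul]
  have hEE' : ∀ i, polar (⇑Q) (E' i) (E i) = 0 := by
    intro i
    rw [hEdef, hE'def]
    simp only
    rw [polar_hyp Q (hef i).2.2.1 (hef i).2.2.2.1 (hef i).2.2.2.2.1]
    ring
  -- the norm set
  have hS : ∀ v ∈ normSet (⇑Q) D 1, ∃ i, v = E i ∨ v = -E i := by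
    rintro v ⟨i, hvi, hQv⟩
    obtain ⟨a, b, rfl⟩ := (hef i).2.2.2.2.2 v hvi
    rw [Q_hyp Q (hef i).2.2.1 (hef i).2.2.2.1 (hef i).2.2.2.2.1] at hQv
    refine ⟨i, ?_⟩
    rw [hEdef]
    simp only
    rcases cases3 hq a with ha | ha | ha
    · rw [ha, zero_mul] at hQv
      exact absurd hQv.symm one_ne_zero
    · left
      rw [ha, one_mul] at hQv
      rw [ha, hQv]
    · right
      rw [ha] at hQv
      have hb : b = -1 := by linear_combination -hQv
      rw [ha, hb]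
      simp only [neg_smul, one_smul, neg_add]
  obtain ⟨J4, hJ4def⟩ : ∃ J : Fin 4 → Fin t, J = fun p => ⟨p.1, by omega⟩ := ⟨_, rfl⟩
  have hJ4 : Function.Injective J4 := by
    intro p q hpq
    rw [hJ4def] at hpq
    exact Fin.ext (Fin.mk.inj_iff.mp hpq)
  obtain ⟨J5, hJ5def⟩ : ∃ J : Fin (3 + 2) → Fin t, J = fun p => ⟨p.1, by omega⟩ := ⟨_, rfl⟩
  have hJ5 : Function.Injective J5 := by
    intro p q hpq
    rw [hJ5def] at hpq
    exact Fin.ext (Fin.mk.inj_iff.mp hpq)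
  have hx0 : E (J4 0) ≠ 0 := by
    intro h
    have := hEQ (J4 0)
    rw [h, QuadraticMap.map_zero] at this
    exact zero_ne_one this
  have hcompat : ∀ v ∈ normSet (⇑Q) D 1, ∀ y,
      (y = E' (J4 0) ∨ y = E' (J4 1) ∨ y = E' (J4 2) ∨ y = E' (J4 3)) →
      (polar (⇑Q) y v = 0 ∨ v = y ∨ v = -y) := by
    intro v hv y hy
    left
    obtain ⟨i, hvi⟩ := hS v hv
    have key : ∀ i', polar (⇑Q) (E' i') v = 0 := by
      intro i'
      by_cases hi : i' = i
      · subst hi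
        rcases hvi with h | h
        · rw [h, hEE']
        · rw [h, QuadraticMap.polar_neg_right, hEE', neg_zero]
      · rcases hvi with h | h
        · rw [h]
          exact horth i' i hi _ (hE'D i') _ (hED i)
        · rw [h]
          exact horth i' i hi _ (hE'D i') _ ((D i).neg_mem (hED i))
    rcases hy with rfl | rfl | rfl | rfl <;> exact key _
  obtain ⟨g₀, hg₀Ω, hg₀S, hg₀D⟩ := swap_element Q hQ (by omega) h20 D horth hind 1 J4 hJ4
    (E' (J4 0)) (E' (J4 1)) (E' (J4 2)) (E' (J4 3)) (E (J4 0)) (-1) (neg_ne_zero.mpr one_ne_zero)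
    (hE'Q _) (hE'Q _) (hE'Q _) (hE'Q _) (hE'D _) (hE'D _) (hE'D _) (hE'D _) (hED _) hx0
    (hEE' _) hcompat
  obtain ⟨g₁, hg₁Ω, hg₁⟩ := moving_element_odd Q hQ (by omega) h20 3 (le_refl 3)
    (by exact_mod_cast h3) D horth 1 one_ne_zero E hED hEQ J5 hJ5
  exact not_max_of_elements (⇑Q) D 1 g₀ g₁ hg₀Ω hg₀S hg₀D hg₁Ω hg₁

theorem five_eq_zero (hq : Fintype.card F = 5) : (5 : F) = 0 := by
  have h := FiniteField.cast_card_eq_zero F
  rw [hq] at h
  exact_mod_cast h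

theorem decomp2_hyp_q5_not_max (hq : Fintype.card F = 5) (Q : QuadraticForm F (ι → F))
    (hQ : (polarBilin Q).Nondegenerate) (hn : 13 ≤ Fintype.card ι) {t : ℕ}
    (D : Fin t → Submodule F (ι → F)) (hD : Cfsg.Geo.IsOrthogonalMDecomposition (⇑Q) 2 D)
    (e f : Fin t → (ι → F))
    (hef : ∀ i, e i ∈ D i ∧ f i ∈ D i ∧ Q (e i) = 0 ∧ Q (f i) = 0 ∧
      polar (⇑Q) (e i) (f i) = 1 ∧ ∀ v ∈ D i, ∃ a b : F, v = a • e i + b • f i) :
    ∃ K : Subgroup (GL ι F),
      Cfsg.Geo.decompositionStabilizer D ⊓ Cfsg.Geo.omegaGL ⇑Q < K ∧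
        K < Cfsg.Geo.omegaGL ⇑Q := by
  classical
  have h5 := five_eq_zero hq
  have h20 : (2 : F) ≠ 0 := by
    intro h2
    have h1 : (1 : F) = 0 := by linear_combination h5 - 2 * h2
    exact one_ne_zero h1
  have ht : 7 ≤ t := by
    have := card_le_mul hD.decomp.decomp
    omega
  have horth : ∀ i j, i ≠ j → ∀ u ∈ D i, ∀ v ∈ D j, polar (⇑Q) u v = 0 :=
    fun i j hij u hu v hv => hD.decomp.orthogonal i j hij u hu v hv
  have hind := indep_of_decomp hD.decomp.decomp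
  obtain ⟨E, hEdef⟩ : ∃ E : Fin t → (ι → F), E = fun i => (1 : F) • e i + (1 : F) • f i :=
    ⟨_, rfl⟩
  obtain ⟨E', hE'def⟩ : ∃ E' : Fin t → (ι → F), E' = fun i => (2 : F) • e i + (3 : F) • f i :=
    ⟨_, rfl⟩
  have hED : ∀ i, E i ∈ D i := by
    intro i
    rw [hEdef]
    exact (D i).add_mem ((D i).smul_mem _ (hef i).1) ((D i).smul_mem _ (hef i).2.1)
  have hE'D : ∀ i, E' i ∈ D i := by
    intro i
    rw [hE'def]
    exact (D i).add_mem ((D i).smul_mem _ (hef i).1) ((D i).smul_mem _ (hef i).2.1)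
  have hEQ : ∀ i, Q (E i) = 1 := by
    intro i
    rw [hEdef]
    simp only
    rw [Q_hyp Q (hef i).2.2.1 (hef i).2.2.2.1 (hef i).2.2.2.2.1, one_mul]
  have hE'Q : ∀ i, Q (E' i) = 1 := by
    intro i
    rw [hE'def]
    simp only
    rw [Q_hyp Q (hef i).2.2.1 (hef i).2.2.2.1 (hef i).2.2.2.2.1]
    linear_combination h5
  have hEE' : ∀ i, polar (⇑Q) (E i) (E' i) = 0 := by
    intro i
    rw [hEdef, hE'def]
    simp only
    rw [polar_hyp Q (hef i).2.2.1 (hef i).2.2.2.1 (hef i).2.2.2.2.1]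
    linear_combination h5
  -- the norm set
  have hS : ∀ v ∈ normSet (⇑Q) D 1, ∃ i, (v = E i ∨ v = -E i) ∨ (v = E' i ∨ v = -E' i) := by
    rintro v ⟨i, hvi, hQv⟩
    obtain ⟨a, b, rfl⟩ := (hef i).2.2.2.2.2 v hvi
    rw [Q_hyp Q (hef i).2.2.1 (hef i).2.2.2.1 (hef i).2.2.2.2.1] at hQv
    refine ⟨i, ?_⟩
    rw [hEdef, hE'def]
    simp only
    have ha0 : a ≠ 0 := by
      rintro rfl
      rw [zero_mul] at hQv
      exact zero_ne_one hQv
    have h4 : a ^ 4 = 1 := by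
      have := FiniteField.pow_card_sub_one_eq_one a ha0
      rw [hq] at this
      exact this
    have hfac : (a - 1) * ((a + 1) * ((a - 2) * (a + 2))) = 0 := by
      linear_combination h4 - (a ^ 2 - 1) * h5
    rcases mul_eq_zero.mp hfac with h | h
    · have ha : a = 1 := sub_eq_zero.mp h
      left; left
      rw [ha, one_mul] at hQv
      rw [ha, hQv]
    rcases mul_eq_zero.mp h with h | h
    · have ha : a = -1 := eq_neg_of_add_eq_zero_left h
      left; right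
      rw [ha] at hQv
      have hb : b = -1 := by linear_combination -hQv
      rw [ha, hb]
      simp only [neg_smul, one_smul, neg_add]
    rcases mul_eq_zero.mp h with h | h
    · have ha : a = 2 := sub_eq_zero.mp h
      right; left
      rw [ha] at hQv
      have hb : b = 3 := by linear_combination 3 * hQv - b * h5
      rw [ha, hb]
    · have ha : a = -2 := eq_neg_of_add_eq_zero_left h
      right; right
      rw [ha] at hQv
      have hb : b = -3 := by linear_combination -3 * hQv - b * h5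
      rw [ha, hb]
      simp only [neg_smul, neg_add]
  obtain ⟨J4, hJ4def⟩ : ∃ J : Fin 4 → Fin t, J = fun p => ⟨p.1, by omega⟩ := ⟨_, rfl⟩
  have hJ4 : Function.Injective J4 := by
    intro p q hpq
    rw [hJ4def] at hpq
    exact Fin.ext (Fin.mk.inj_iff.mp hpq)
  obtain ⟨J7, hJ7def⟩ : ∃ J : Fin (5 + 2) → Fin t, J = fun p => ⟨p.1, by omega⟩ := ⟨_, rfl⟩
  have hJ7 : Function.Injective J7 := by
    intro p q hpq
    rw [hJ7def] at hpq
    exact Fin.ext (Fin.mk.inj_iff.mp hpq)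
  have hx0 : E' (J4 0) ≠ 0 := by
    intro h
    have := hE'Q (J4 0)
    rw [h, QuadraticMap.map_zero] at this
    exact zero_ne_one this
  have hcompat : ∀ v ∈ normSet (⇑Q) D 1, ∀ y,
      (y = E (J4 0) ∨ y = E (J4 1) ∨ y = E (J4 2) ∨ y = E (J4 3)) →
      (polar (⇑Q) y v = 0 ∨ v = y ∨ v = -y) := by
    intro v hv y hy
    obtain ⟨i, hvi⟩ := hS v hv
    have key : ∀ i', polar (⇑Q) (E i') v = 0 ∨ v = E i' ∨ v = -E i' := by
      intro i'
      by_cases hi : i' = i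
      · subst hi
        rcases hvi with (h | h) | (h | h)
        · right; left; exact h
        · right; right; exact h
        · left; rw [h, hEE']
        · left; rw [h, QuadraticMap.polar_neg_right, hEE', neg_zero]
      · left
        have hvD : v ∈ D i := by
          rcases hvi with (h | h) | (h | h)
          · rw [h]; exact hED i
          · rw [h]; exact (D i).neg_mem (hED i)
          · rw [h]; exact hE'D i
          · rw [h]; exact (D i).neg_mem (hE'D i)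
        exact horth i' i hi _ (hED i') _ hvD
    rcases hy with rfl | rfl | rfl | rfl <;> exact key _
  obtain ⟨g₀, hg₀Ω, hg₀S, hg₀D⟩ := swap_element Q hQ (by omega) h20 D horth hind 1 J4 hJ4
    (E (J4 0)) (E (J4 1)) (E (J4 2)) (E (J4 3)) (E' (J4 0)) 1 one_ne_zero
    (hEQ _) (hEQ _) (hEQ _) (hEQ _) (hED _) (hED _) (hED _) (hED _) (hE'D _) hx0
    (hEE' _) hcompat
  obtain ⟨g₁, hg₁Ω, hg₁⟩ := moving_element_odd Q hQ (by omega) h20 5 (by norm_num)
    (by exact_mod_cast h5) D horth 1 one_ne_zero E hED hEQ J7 hJ7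
  exact not_max_of_elements (⇑Q) D 1 g₀ g₁ hg₀Ω hg₀S hg₀D hg₁Ω hg₁

end Cfsg.Agent.Lib.Helper27.OrthDecomp
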