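import Mathlib
import Cfsg.Prelude.Def_GeometricClasses
import Cfsg.Agent.Lib.Helper27.TensorForm
import Cfsg.Agent.Lib.Helper27.UGroup

set_option autoImplicit false

/-!
Unitary forms over the field with four elements, and the tensor decomposition
`GU₂(2) ⊗ GU_{n₂}(2)`: its stabiliser in `SU_n(2)` is not maximal.
-/

namespace Cfsg.Agent.Lib.Helper27.UTensor

open Cfsg Matrix Cfsg.Agent.Lib.Helper27.TensorForm Cfsg.Agent.Lib.Helper27.Unitary
open scoped Kronecker

variable {F : Type*} [Field F] [Fintype F]

theorem two_eq_zero (hF : Fintype.card F = 4) : (2 : F) = 0 := by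
  have h := FiniteField.cast_card_eq_zero F
  rw [hF] at h
  have h4 : (2 : F) * 2 = 0 := by
    have : ((4 : ℕ) : F) = 2 * 2 := by norm_num
    rw [← this]; exact h
  rcases mul_self_eq_zero.mp h4 with h2
  exact h2

theorem add_self (hF : Fintype.card F = 4) (x : F) : x + x = 0 := by
  have := two_eq_zero hF
  linear_combination x * this

theorem pow_four (hF : Fintype.card F = 4) (x : F) : x ^ 4 = x := by
  have := FiniteField.pow_card x
  rwa [hF] at this

theorem pow_three (hF : Fintype.card F = 4) {x : F} (hx : x ≠ 0) : x ^ 3 = 1 := by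
  have h := pow_four hF x
  have h2 : x * (x ^ 3 - 1) = 0 := by linear_combination h
  rcases mul_eq_zero.mp h2 with h3 | h3
  · exact absurd h3 hx
  · exact sub_eq_zero.mp h3

theorem sq_add (hF : Fintype.card F = 4) (x y : F) : (x + y) ^ 2 = x ^ 2 + y ^ 2 := by
  have := two_eq_zero hF
  linear_combination (x * y) * this

theorem fixed_cases {x : F} (hx : x ^ 2 = x) : x = 0 ∨ x = 1 := by
  have h2 : x * (x - 1) = 0 := by linear_combination hx
  rcases mul_eq_zero.mp h2 with h3 | h3
  · exact Or.inl h3
  · exact Or.inr (sub_eq_zero.mp h3)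

section form

variable {k : ℕ} {f : (Fin k → F) → (Fin k → F) → F}

/-- A unitary form for `x ↦ x²` over the field with four elements is sesquilinear. -/
theorem sesq (hF : Fintype.card F = 4) (h : Cfsg.Geo.IsUnitaryFormPow 2 f) :
    IsSesq (fun x : F => x ^ 2) f where
  add_left := h.add_left
  smul_left := h.smul_left
  add_right := by
    intro v x y
    rw [h.herm v (x + y), h.add_left, sq_add hF, ← h.herm, ← h.herm]
  smul_right := by
    intro c v x
    rw [h.herm v (c • x), h.smul_left, mul_pow, ← h.herm]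

theorem self_cases (h : Cfsg.Geo.IsUnitaryFormPow 2 f) (u : Fin k → F) :
    f u u = 0 ∨ f u u = 1 :=
  fixed_cases (h.herm u u).symm

theorem self_eq_one (h : Cfsg.Geo.IsUnitaryFormPow 2 f) {u : Fin k → F} (hu : f u u ≠ 0) :
    f u u = 1 := by
  rcases self_cases h u with h1 | h1
  · exact absurd h1 hu
  · exact h1

theorem swap_zero (h : Cfsg.Geo.IsUnitaryFormPow 2 f) {u v : Fin k → F} (huv : f u v = 0) :
    f v u = 0 := by
  rw [h.herm, huv]; ring

/-- A non-degenerate unitary form in positive dimension has an anisotropic vector. -/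
theorem exists_aniso (hF : Fintype.card F = 4) (h : Cfsg.Geo.IsUnitaryFormPow 2 f) (hk : 0 < k) :
    ∃ u : Fin k → F, f u u = 1 := by
  by_contra hcon
  push_neg at hcon
  have hS := sesq hF h
  have h0 : ∀ u : Fin k → F, f u u = 0 := by
    intro u
    rcases self_cases h u with h1 | h1
    · exact h1
    · exact absurd h1 (hcon u)
  -- then f(v,w) lies in the prime field for all v, w
  have h1 : ∀ v w : Fin k → F, (f v w) ^ 2 = f v w := by
    intro v w
    have h2 := h0 (v + w)
    rw [hS.add_left, hS.add_right, hS.add_right, h0 v, h0 w, zero_add, add_zero] at h2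
    have h3 := h.herm w v
    have := add_self hF (f v w)
    rw [← h3]
    linear_combination h2 - this
  -- hence it vanishes identically
  have h2 : ∀ v w : Fin k → F, f v w = 0 := by
    intro v w
    by_contra hne
    obtain ⟨θ, hθ⟩ : ∃ θ : F, θ ^ 2 ≠ θ := by
      have := Cfsg.Agent.Lib.Helper27.Unitary.exists_not_fixed (F := F) (q := 2) (by rw [hF]; norm_num)
      exact this
    have h3 := h1 (θ • v) w
    rw [hS.smul_left, mul_pow, h1 v w] at h3
    have h4 : (θ ^ 2 - θ) * f v w = 0 := by linear_combination h3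
    rcases mul_eq_zero.mp h4 with h5 | h5
    · exact hθ (sub_eq_zero.mp h5)
    · exact hne h5
  -- contradiction with non-degeneracy
  let v0 : Fin k → F := Pi.single ⟨0, hk⟩ 1
  have hv0 : v0 ≠ 0 := by
    intro hz
    have := congrFun hz ⟨0, hk⟩
    simp [v0] at this
  obtain ⟨⟨x, hx⟩, _⟩ := h.nondegenerate v0 hv0
  exact hx (h2 x v0)

/-- In dimension at least two, every vector has a non-zero vector perpendicular to it. -/
theorem exists_perp (h : Cfsg.Geo.IsUnitaryFormPow 2 f) (hk : 2 ≤ k) (u : Fin k → F) :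
    ∃ w : Fin k → F, w ≠ 0 ∧ f w u = 0 := by
  let φ : (Fin k → F) →ₗ[F] F :=
    { toFun := fun x => f x u
      map_add' := fun x y => h.add_left x y u
      map_smul' := fun c x => by
        show f (c • x) u = c • f x u
        rw [h.smul_left, smul_eq_mul] }
  have hker : LinearMap.ker φ ≠ ⊥ := by
    apply LinearMap.ker_ne_bot_of_finrank_lt
    rw [Module.finrank_self, Module.finrank_fin_fun]
    omega
  obtain ⟨w, hw, hw0⟩ := Submodule.exists_mem_ne_zero_of_ne_bot hker
  exact ⟨w, hw0, hw⟩

/-- In dimension at least two there is a non-zero isotropic vector. -/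
theorem exists_iso (hF : Fintype.card F = 4) (h : Cfsg.Geo.IsUnitaryFormPow 2 f) (hk : 2 ≤ k) :
    ∃ w : Fin k → F, w ≠ 0 ∧ f w w = 0 := by
  have hS := sesq hF h
  obtain ⟨u, hu⟩ := exists_aniso hF h (by omega)
  obtain ⟨w, hw0, hwu⟩ := exists_perp h hk u
  have huw : f u w = 0 := swap_zero h hwu
  rcases self_cases h w with hw | hw
  · exact ⟨w, hw0, hw⟩
  · refine ⟨u + w, ?_, ?_⟩
    · intro hz
      have h1 : f (u + w) u = 0 := by rw [hz, hS.zero_left]
      rw [hS.add_left, hu, hwu, add_zero] at h1
      exact one_ne_zero h1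
    · rw [hS.add_left, hS.add_right, hS.add_right, hu, hw, huw, hwu]
      have := add_self hF (1 : F)
      linear_combination this

end form

/-- The frame of a non-degenerate unitary form on the plane over the field with four elements:
two perpendicular vectors of norm one whose multiples are the only anisotropic vectors. -/
theorem frame2 (hF : Fintype.card F = 4) {f : (Fin 2 → F) → (Fin 2 → F) → F}
    (h : Cfsg.Geo.IsUnitaryFormPow 2 f) :
    ∃ v₁ v₂ : Fin 2 → F, f v₁ v₁ = 1 ∧ f v₂ v₂ = 1 ∧ f v₁ v₂ = 0 ∧ f v₂ v₁ = 0 ∧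
      ∀ v, f v v ≠ 0 → (∃ α : F, v = α • v₁) ∨ (∃ α : F, v = α • v₂) := by
  have hS := sesq hF h
  obtain ⟨u, hu⟩ := exists_aniso hF h (by norm_num)
  obtain ⟨w, hw0, hwu⟩ := exists_perp h (le_refl 2) u
  have huw : f u w = 0 := swap_zero h hwu
  -- u, w form a basis
  have hli : LinearIndependent F ![u, w] := by
    rw [LinearIndependent.pair_iff]
    intro s t hst
    have h1 : f (s • u + t • w) u = 0 := by rw [hst, hS.zero_left]
    rw [hS.add_left, hS.smul_left, hS.smul_left, hu, hwu, mul_one, mul_zero, add_zero] at h1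
    subst h1
    rw [zero_smul, zero_add] at hst
    rcases smul_eq_zero.mp hst with h2 | h2
    · exact ⟨rfl, h2⟩
    · exact absurd h2 hw0
  have hcard : Fintype.card (Fin 2) = Module.finrank F (Fin 2 → F) := by
    rw [Module.finrank_fin_fun, Fintype.card_fin]
  let B := basisOfLinearIndependentOfCardEqFinrank hli hcard
  have hspan : ∀ v : Fin 2 → F, ∃ α β : F, v = α • u + β • w := by
    intro v
    refine ⟨B.repr v 0, B.repr v 1, ?_⟩
    have h1 := B.sum_repr v
    rw [Fin.sum_univ_two] at h1
    have hB0 : B 0 = u := by simp [B]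
    have hB1 : B 1 = w := by simp [B]
    rw [hB0, hB1] at h1
    exact h1.symm
  -- w is anisotropic
  have hww : f w w = 1 := by
    apply self_eq_one h
    intro hz
    obtain ⟨_, ⟨x, hx⟩⟩ := h.nondegenerate w hw0
    obtain ⟨α, β, rfl⟩ := hspan x
    apply hx
    rw [hS.add_right, hS.smul_right, hS.smul_right, hwu, hz, mul_zero, mul_zero, add_zero]
  refine ⟨u, w, hu, hww, huw, hwu, ?_⟩
  intro v hv
  obtain ⟨α, β, rfl⟩ := hspan v
  have hval : f (α • u + β • w) (α • u + β • w) = α ^ 3 + β ^ 3 := by
    rw [hS.add_left, hS.add_right, hS.add_right, hS.smul_left, hS.smul_left, hS.smul_right,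
      hS.smul_right, hS.smul_left, hS.smul_left, hS.smul_right, hS.smul_right, hu, hww, huw, hwu]
    ring
  by_cases hα : α = 0
  · right
    exact ⟨β, by rw [hα, zero_smul, zero_add]⟩
  by_cases hβ : β = 0
  · left
    exact ⟨α, by rw [hβ, zero_smul, add_zero]⟩
  exfalso
  apply hv
  rw [hval, pow_three hF hα, pow_three hF hβ]
  exact add_self hF 1

end Cfsg.Agent.Lib.Helper27.UTensor
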