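import Mathlib
import Cfsg.Prelude.Def_GeometricClasses
import Cfsg.Agent.Lib.Helper27.OrthDecomp7
import Cfsg.Agent.Lib.Helper27.TensorF2
import Cfsg.Agent.Lib.Helper27.UTensor

set_option autoImplicit false

/-!
Orthogonal decompositions into hyperbolic planes over the fields with two and four elements.
-/

namespace Cfsg.Agent.Lib.Helper27.OrthDecomp

open Cfsg Matrix QuadraticMap
open Cfsg.Agent.Lib.Helper19.OrthRefl Cfsg.Agent.Lib.Helper27.OrthPlane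

variable {F : Type*} [Field F] [Fintype F] {ι : Type} [Fintype ι] [DecidableEq ι]

/-- The stabiliser of a set of vectors inside `Ω`. -/
def setStab (Q : (ι → F) → F) (A : Set (ι → F)) : Subgroup (GL ι F) where
  carrier := {g | g ∈ Cfsg.Geo.omegaGL Q ∧
    ∀ s ∈ A, (g : Matrix _ _ F) *ᵥ s ∈ A ∧ ((g⁻¹ : GL ι F) : Matrix _ _ F) *ᵥ s ∈ A}
  one_mem' := by
    refine ⟨one_mem _, fun s hs => ?_⟩
    rw [inv_one, Units.val_one, Matrix.one_mulVec]
    exact ⟨hs, hs⟩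
  mul_mem' := by
    rintro g h ⟨hg, hg2⟩ ⟨hh, hh2⟩
    refine ⟨mul_mem hg hh, fun s hs => ?_⟩
    rw [_root_.mul_inv_rev, Units.val_mul, Units.val_mul, ← Matrix.mulVec_mulVec,
      ← Matrix.mulVec_mulVec]
    exact ⟨(hg2 _ (hh2 s hs).1).1, (hh2 _ (hg2 s hs).2).2⟩
  inv_mem' := by
    rintro g ⟨hg, hg2⟩
    refine ⟨inv_mem hg, fun s hs => ?_⟩
    rw [inv_inv]
    exact ⟨(hg2 s hs).2, (hg2 s hs).1⟩

theorem not_max_of_elements_set (Q : (ι → F) → F) {t : ℕ} (D : Fin t → Submodule F (ι → F))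
    (A : Set (ι → F))
    (hA : ∀ g ∈ Cfsg.Geo.decompositionStabilizer D ⊓ Cfsg.Geo.omegaGL Q, ∀ v ∈ A,
      (g : Matrix _ _ F) *ᵥ v ∈ A)
    (g₀ g₁ : ↥(Cfsg.isometryGroup F Q)) (h₀Ω : g₀ ∈ Cfsg.Omega F Q)
    (h₀S : ∀ s ∈ A, act g₀ s ∈ A ∧ act g₀⁻¹ s ∈ A)
    (h₀D : (g₀ : GL ι F) ∉ Cfsg.Geo.decompositionStabilizer D)
    (h₁Ω : g₁ ∈ Cfsg.Omega F Q)
    (h₁ : ∃ s ∈ A, act g₁ s ∉ A) :
    ∃ K : Subgroup (GL ι F),
      Cfsg.Geo.decompositionStabilizer D ⊓ Cfsg.Geo.omegaGL Q < K ∧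
        K < Cfsg.Geo.omegaGL Q := by
  refine ⟨setStab Q A, ?_, ?_⟩
  · refine lt_of_le_of_ne ?_ ?_
    · intro g hg
      exact ⟨hg.2, fun s hs => ⟨hA g hg s hs, hA g⁻¹ (inv_mem hg) s hs⟩⟩
    · intro h
      have hg₀K : (g₀ : GL ι F) ∈ setStab Q A :=
        ⟨mem_omegaGL_of_mem_Omega g₀ h₀Ω, fun s hs => h₀S s hs⟩
      rw [← h] at hg₀K
      exact h₀D hg₀K.1
  · refine lt_of_le_of_ne (fun g hg => hg.1) ?_
    intro h
    obtain ⟨s, hs, hns⟩ := h₁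
    have : (g₁ : GL ι F) ∈ setStab Q A := by
      rw [h]
      exact mem_omegaGL_of_mem_Omega g₁ h₁Ω
    exact hns (this.2 s hs).1

/-- Reflections in characteristic two with norm one. -/
theorem act_refl_char2 (h2 : (2 : F) = 0) (Q : QuadraticForm F (ι → F)) (v : ι → F)
    (hv : Q v ≠ 0) (hv1 : Q v = 1) (x : ι → F) :
    act (refl Q v hv) x = x + polar (⇑Q) v x • v := by
  rw [act_refl, hv1, inv_one, one_mul, sub_eq_add_neg]
  congr 1
  rw [← neg_smul]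
  congr 1
  rw [neg_eq_iff_add_eq_zero]
  linear_combination (polar (⇑Q) v x) * h2

theorem decomp2_hyp_q2_not_max (hq : Fintype.card F = 2) (Q : QuadraticForm F (ι → F))
    (hQ : (polarBilin Q).Nondegenerate) (hn : 12 ≤ Fintype.card ι) {t : ℕ}
    (D : Fin t → Submodule F (ι → F)) (hD : Cfsg.Geo.IsOrthogonalMDecomposition (⇑Q) 2 D)
    (e f : Fin t → (ι → F))
    (hef : ∀ i, e i ∈ D i ∧ f i ∈ D i ∧ Q (e i) = 0 ∧ Q (f i) = 0 ∧
      polar (⇑Q) (e i) (f i) = 1 ∧ ∀ v ∈ D i, ∃ a b : F, v = a • e i + b • f i) :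
    ∃ K : Subgroup (GL ι F),
      Cfsg.Geo.decompositionStabilizer D ⊓ Cfsg.Geo.omegaGL ⇑Q < K ∧
        K < Cfsg.Geo.omegaGL ⇑Q := by
  classical
  have h11 := Cfsg.Agent.Lib.Helper27.TensorF2.two_eq_zero hq
  have h2 : (2 : F) = 0 := by linear_combination h11
  have ht : 6 ≤ t := by
    have := card_le_mul hD.decomp.decomp
    omega
  have horth : ∀ i j, i ≠ j → ∀ u ∈ D i, ∀ v ∈ D j, polar (⇑Q) u v = 0 :=
    fun i j hij u hu v hv => hD.decomp.orthogonal i j hij u hu v hv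
  obtain ⟨d, hddef⟩ : ∃ d : Fin t → (ι → F), d = fun i => (1 : F) • e i + (1 : F) • f i :=
    ⟨_, rfl⟩
  have hdD : ∀ i, d i ∈ D i := by
    intro i
    rw [hddef]
    exact (D i).add_mem ((D i).smul_mem _ (hef i).1) ((D i).smul_mem _ (hef i).2.1)
  have hdQ : ∀ i, Q (d i) = 1 := by
    intro i
    rw [hddef]
    simp only
    rw [Q_hyp Q (hef i).2.2.1 (hef i).2.2.2.1 (hef i).2.2.2.2.1, one_mul]
  have hdd : ∀ i, polar (⇑Q) (d i) (d i) = 0 := by
    intro i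
    rw [polar_self', hdQ, mul_one]
    exact h2
  have hde : ∀ i, polar (⇑Q) (d i) (e i) = 1 := by
    intro i
    have : e i = (1 : F) • e i + (0 : F) • f i := by rw [one_smul, zero_smul, add_zero]
    rw [this, hddef]
    simp only
    rw [polar_hyp Q (hef i).2.2.1 (hef i).2.2.2.1 (hef i).2.2.2.2.1]
    ring
  have hee : ∀ i, polar (⇑Q) (e i) (e i) = 0 := fun i => polar_self_of_singular Q (hef i).2.2.1
  have hdorth : ∀ i j, i ≠ j → polar (⇑Q) (d i) (d j) = 0 :=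
    fun i j hij => horth i j hij _ (hdD i) _ (hdD j)
  have hdeorth : ∀ i j, i ≠ j → polar (⇑Q) (d i) (e j) = 0 :=
    fun i j hij => horth i j hij _ (hdD i) _ (hef j).1
  -- the norm set
  have hS : ∀ v ∈ normSet (⇑Q) D 1, ∃ i, v = d i := by
    rintro v ⟨i, hvi, hQv⟩
    obtain ⟨a, b, rfl⟩ := (hef i).2.2.2.2.2 v hvi
    rw [Q_hyp Q (hef i).2.2.1 (hef i).2.2.2.1 (hef i).2.2.2.2.1] at hQv
    refine ⟨i, ?_⟩
    rw [hddef]
    simp only
    rcases Cfsg.Agent.Lib.Helper27.TensorF2.f2_cases hq a with ha | ha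
    · rw [ha, zero_mul] at hQv
      exact absurd hQv.symm one_ne_zero
    · rw [ha, one_mul] at hQv
      rw [ha, hQv]
  -- indices
  obtain ⟨i0, hi0⟩ : ∃ i : Fin t, i = ⟨0, by omega⟩ := ⟨_, rfl⟩
  obtain ⟨i1, hi1⟩ : ∃ i : Fin t, i = ⟨1, by omega⟩ := ⟨_, rfl⟩
  obtain ⟨i2, hi2⟩ : ∃ i : Fin t, i = ⟨2, by omega⟩ := ⟨_, rfl⟩
  obtain ⟨i3, hi3⟩ : ∃ i : Fin t, i = ⟨3, by omega⟩ := ⟨_, rfl⟩
  obtain ⟨i4, hi4⟩ : ∃ i : Fin t, i = ⟨4, by omega⟩ := ⟨_, rfl⟩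
  obtain ⟨i5, hi5⟩ : ∃ i : Fin t, i = ⟨5, by omega⟩ := ⟨_, rfl⟩
  have n01 : i0 ≠ i1 := by rw [hi0, hi1]; intro h; simp [Fin.ext_iff] at h
  have n02 : i0 ≠ i2 := by rw [hi0, hi2]; intro h; simp [Fin.ext_iff] at h
  have n03 : i0 ≠ i3 := by rw [hi0, hi3]; intro h; simp [Fin.ext_iff] at h
  have n04 : i0 ≠ i4 := by rw [hi0, hi4]; intro h; simp [Fin.ext_iff] at h
  have n05 : i0 ≠ i5 := by rw [hi0, hi5]; intro h; simp [Fin.ext_iff] at h
  have n12 : i1 ≠ i2 := by rw [hi1, hi2]; intro h; simp [Fin.ext_iff] at h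
  have n13 : i1 ≠ i3 := by rw [hi1, hi3]; intro h; simp [Fin.ext_iff] at h
  have n14 : i1 ≠ i4 := by rw [hi1, hi4]; intro h; simp [Fin.ext_iff] at h
  have n15 : i1 ≠ i5 := by rw [hi1, hi5]; intro h; simp [Fin.ext_iff] at h
  have n23 : i2 ≠ i3 := by rw [hi2, hi3]; intro h; simp [Fin.ext_iff] at h
  have n24 : i2 ≠ i4 := by rw [hi2, hi4]; intro h; simp [Fin.ext_iff] at h
  have n25 : i2 ≠ i5 := by rw [hi2, hi5]; intro h; simp [Fin.ext_iff] at h
  have n34 : i3 ≠ i4 := by rw [hi3, hi4]; intro h; simp [Fin.ext_iff] at h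
  have n35 : i3 ≠ i5 := by rw [hi3, hi5]; intro h; simp [Fin.ext_iff] at h
  have n45 : i4 ≠ i5 := by rw [hi4, hi5]; intro h; simp [Fin.ext_iff] at h
  -- sums of three norm-one vectors
  have hsum3 : ∀ a b c : Fin t, a ≠ b → a ≠ c → b ≠ c → Q (d a + d b + d c) = 1 := by
    intro a b c hab hac hbc
    rw [QuadraticMap.map_add (⇑Q), QuadraticMap.map_add (⇑Q), QuadraticMap.polar_add_left, hdQ,
      hdQ, hdQ, hdorth a b hab, hdorth a c hac, hdorth b c hbc]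
    linear_combination h2
  have hpol3 : ∀ a b c : Fin t, a ≠ b → a ≠ c → b ≠ c → ∀ i,
      polar (⇑Q) (d a + d b + d c) (d i) = 0 := by
    intro a b c hab hac hbc i
    rw [QuadraticMap.polar_add_left, QuadraticMap.polar_add_left]
    have key : ∀ j, polar (⇑Q) (d j) (d i) = 0 := by
      intro j
      by_cases h : j = i
      · rw [h]; exact hdd i
      · exact hdorth j i h
    rw [key, key, key]
    ring
  obtain ⟨y, hy⟩ : ∃ y, y = d i0 + d i1 + d i2 := ⟨_, rfl⟩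
  obtain ⟨y', hy'⟩ : ∃ y', y' = d i3 + d i4 + d i5 := ⟨_, rfl⟩
  have hQy : Q y = 1 := by rw [hy]; exact hsum3 _ _ _ n01 n02 n12
  have hQy' : Q y' = 1 := by rw [hy']; exact hsum3 _ _ _ n34 n35 n45
  have hyne : Q y ≠ 0 := by rw [hQy]; exact one_ne_zero
  have hy'ne : Q y' ≠ 0 := by rw [hQy']; exact one_ne_zero
  have hyS : ∀ s ∈ normSet (⇑Q) D 1, act (refl Q y hyne) s = s := by
    intro s hs
    obtain ⟨i, rfl⟩ := hS s hs
    rw [act_refl_char2 h2 Q y hyne hQy, hy, hpol3 _ _ _ n01 n02 n12, zero_smul, add_zero]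
  have hy'S : ∀ s ∈ normSet (⇑Q) D 1, act (refl Q y' hy'ne) s = s := by
    intro s hs
    obtain ⟨i, rfl⟩ := hS s hs
    rw [act_refl_char2 h2 Q y' hy'ne hQy', hy', hpol3 _ _ _ n34 n35 n45, zero_smul, add_zero]
  obtain ⟨g₀, hg₀⟩ : ∃ g : ↥(Cfsg.isometryGroup F ⇑Q),
      g = refl Q y hyne * refl Q y' hy'ne := ⟨_, rfl⟩
  have hg₀Ω : g₀ ∈ Cfsg.Omega F ⇑Q := by
    rw [hg₀]
    exact refl_mul_refl_mem_Omega' Q hQ (by omega) _ _ hyne hy'ne (hQy.trans hQy'.symm)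
  have hg₀inv : g₀⁻¹ = refl Q y' hy'ne * refl Q y hyne := by
    rw [hg₀, _root_.mul_inv_rev, refl_inv, refl_inv]
  have hg₀S : ∀ s ∈ normSet (⇑Q) D 1, act g₀ s ∈ normSet (⇑Q) D 1 ∧
      act g₀⁻¹ s ∈ normSet (⇑Q) D 1 := by
    intro s hs
    constructor
    · rw [hg₀, act_mul, hy'S s hs, hyS s hs]
      exact hs
    · rw [hg₀inv, act_mul, hyS s hs, hy'S s hs]
      exact hs
  have hg₀e : act g₀ (e i0) = e i0 + y := by
    have e1 : polar (⇑Q) y' (e i0) = 0 := by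
      rw [hy', QuadraticMap.polar_add_left, QuadraticMap.polar_add_left,
        hdeorth i3 i0 n03.symm, hdeorth i4 i0 n04.symm, hdeorth i5 i0 n05.symm]
      ring
    have e2 : polar (⇑Q) y (e i0) = 1 := by
      rw [hy, QuadraticMap.polar_add_left, QuadraticMap.polar_add_left, hde,
        hdeorth i1 i0 n01.symm, hdeorth i2 i0 n02.symm]
      ring
    rw [hg₀, act_mul, act_refl_of_polar_eq_zero Q _ hy'ne _ e1,
      act_refl_char2 h2 Q y hyne hQy, e2, one_smul]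
  have hg₀D : (g₀ : GL ι F) ∉ Cfsg.Geo.decompositionStabilizer D := by
    rintro ⟨σ, hσ⟩
    have hmem : act g₀ (e i0) ∈ D (σ i0) := by
      rw [← hσ i0]
      exact Submodule.mem_map.mpr ⟨e i0, (hef i0).1, Matrix.toLin'_apply _ _⟩
    rw [hg₀e] at hmem
    have p1 : polar (⇑Q) (e i0 + y) (e i1) = 1 := by
      rw [hy, QuadraticMap.polar_add_left, QuadraticMap.polar_add_left,
        QuadraticMap.polar_add_left, hde, hdeorth i0 i1 n01, hdeorth i2 i1 n12.symm,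
        horth i0 i1 n01 _ (hef i0).1 _ (hef i1).1]
      ring
    have p2 : polar (⇑Q) (e i0 + y) (e i2) = 1 := by
      rw [hy, QuadraticMap.polar_add_left, QuadraticMap.polar_add_left,
        QuadraticMap.polar_add_left, hde, hdeorth i0 i2 n02, hdeorth i1 i2 n12,
        horth i0 i2 n02 _ (hef i0).1 _ (hef i2).1]
      ring
    have k1 : σ i0 = i1 := by
      by_contra hne
      have := horth _ _ hne _ hmem _ (hef i1).1
      rw [p1] at this
      exact one_ne_zero this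
    have k2 : σ i0 = i2 := by
      by_contra hne
      have := horth _ _ hne _ hmem _ (hef i2).1
      rw [p2] at this
      exact one_ne_zero this
    exact n12 (k1.symm.trans k2)
  -- the moving element
  obtain ⟨u, hu⟩ : ∃ u, u = d i0 + e i1 := ⟨_, rfl⟩
  have hQu : Q u = 1 := by
    rw [hu, QuadraticMap.map_add (⇑Q), hdQ, (hef i1).2.2.1, hdeorth i0 i1 n01]
    ring
  have hune : Q u ≠ 0 := by rw [hQu]; exact one_ne_zero
  have hwne : Q (d i2) ≠ 0 := by rw [hdQ]; exact one_ne_zero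
  obtain ⟨g₁, hg₁⟩ : ∃ g : ↥(Cfsg.isometryGroup F ⇑Q),
      g = refl Q u hune * refl Q (d i2) hwne := ⟨_, rfl⟩
  have hg₁Ω : g₁ ∈ Cfsg.Omega F ⇑Q := by
    rw [hg₁]
    exact refl_mul_refl_mem_Omega' Q hQ (by omega) _ _ hune hwne (hQu.trans (hdQ i2).symm)
  have hg₁d : act g₁ (d i1) = d i1 + u := by
    have e1 : polar (⇑Q) (d i2) (d i1) = 0 := hdorth i2 i1 n12.symm
    have e2 : polar (⇑Q) u (d i1) = 1 := by
      rw [hu, QuadraticMap.polar_add_left, hdorth i0 i1 n01, QuadraticMap.polar_comm, hde]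
      ring
    rw [hg₁, act_mul, act_refl_of_polar_eq_zero Q _ hwne _ e1,
      act_refl_char2 h2 Q u hune hQu, e2, one_smul]
  refine not_max_of_elements (⇑Q) D 1 g₀ g₁ hg₀Ω hg₀S hg₀D hg₁Ω ⟨d i1, ⟨i1, hdD i1, hdQ i1⟩, ?_⟩
  rw [hg₁d]
  rintro ⟨k, hk, _⟩
  have p1 : polar (⇑Q) (d i1 + u) (e i0) = 1 := by
    rw [hu, QuadraticMap.polar_add_left, QuadraticMap.polar_add_left, hde,
      hdeorth i1 i0 n01.symm, horth i1 i0 n01.symm _ (hef i1).1 _ (hef i0).1]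
    ring
  have p2 : polar (⇑Q) (d i1 + u) (e i1) = 1 := by
    rw [hu, QuadraticMap.polar_add_left, QuadraticMap.polar_add_left, hde,
      hdeorth i0 i1 n01, hee]
    ring
  have k1 : k = i0 := by
    by_contra hne
    have := horth _ _ hne _ hk _ (hef i0).1
    rw [p1] at this
    exact one_ne_zero this
  have k2 : k = i1 := by
    by_contra hne
    have := horth _ _ hne _ hk _ (hef i1).1
    rw [p2] at this
    exact one_ne_zero this
  exact n01 (k1.symm.trans k2)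

end Cfsg.Agent.Lib.Helper27.OrthDecomp
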