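import Mathlib
import Cfsg.Prelude.Def_GeometricClasses
import Cfsg.Agent.Lib.Helper27.OrthDecomp8

set_option autoImplicit false

/-!
Orthogonal decompositions into hyperbolic planes over the field with four elements: the
stabiliser lies in the stabiliser of a form over the field with two elements.
-/

namespace Cfsg.Agent.Lib.Helper27.OrthDecomp

open Cfsg Matrix QuadraticMap
open Cfsg.Agent.Lib.Helper19.OrthRefl Cfsg.Agent.Lib.Helper27.OrthPlane
open Cfsg.Agent.Lib.Helper27.UTensor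

variable {F : Type*} [Field F] [Fintype F] {ι : Type} [Fintype ι] [DecidableEq ι]

theorem exists_omega (hq : Fintype.card F = 4) : ∃ ω : F, ω ≠ 0 ∧ ω ≠ 1 ∧ ω ^ 2 + ω + 1 = 0 := by
  classical
  obtain ⟨ω, _, hω⟩ : ∃ x ∈ (Finset.univ : Finset F), x ∉ ({0, 1} : Finset F) := by
    apply Finset.exists_mem_notMem_of_card_lt_card
    rw [Finset.card_univ, hq]
    calc ({0, 1} : Finset F).card ≤ 2 := Finset.card_le_two
      _ < 4 := by norm_num
  have h0 : ω ≠ 0 := by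
    intro h
    apply hω
    rw [h]
    simp
  have h1 : ω ≠ 1 := by
    intro h
    apply hω
    rw [h]
    simp
  refine ⟨ω, h0, h1, ?_⟩
  have h3 := pow_three hq h0
  have h4 : (ω - 1) * (ω ^ 2 + ω + 1) = 0 := by linear_combination h3
  rcases mul_eq_zero.mp h4 with h | h
  · exact absurd (sub_eq_zero.mp h) h1
  · exact h

theorem decomp2_hyp_q4_not_max (hq : Fintype.card F = 4) (Q : QuadraticForm F (ι → F))
    (hQ : (polarBilin Q).Nondegenerate) (hn : 12 ≤ Fintype.card ι) {t : ℕ}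
    (D : Fin t → Submodule F (ι → F)) (hD : Cfsg.Geo.IsOrthogonalMDecomposition (⇑Q) 2 D)
    (e f : Fin t → (ι → F))
    (hef : ∀ i, e i ∈ D i ∧ f i ∈ D i ∧ Q (e i) = 0 ∧ Q (f i) = 0 ∧
      polar (⇑Q) (e i) (f i) = 1 ∧ ∀ v ∈ D i, ∃ a b : F, v = a • e i + b • f i) :
    ∃ K : Subgroup (GL ι F),
      Cfsg.Geo.decompositionStabilizer D ⊓ Cfsg.Geo.omegaGL ⇑Q < K ∧
        K < Cfsg.Geo.omegaGL ⇑Q := by
  classical
  have h2 : (2 : F) = 0 := two_eq_zero hq
  have hnegV : ∀ v : ι → F, -v = v := by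
    intro v
    funext i
    rw [Pi.neg_apply, neg_eq_iff_add_eq_zero]
    exact add_self hq (v i)
  obtain ⟨ω, hω0, hω1, hω⟩ := exists_omega hq
  have hω3 : ω ^ 3 = 1 := pow_three hq hω0
  have hωsum : ω ^ 2 + ω = 1 := by linear_combination hω - h2
  have ht : 6 ≤ t := by
    have := card_le_mul hD.decomp.decomp
    omega
  have horth : ∀ i j, i ≠ j → ∀ u ∈ D i, ∀ v ∈ D j, polar (⇑Q) u v = 0 :=
    fun i j hij u hu v hv => hD.decomp.orthogonal i j hij u hu v hv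
  obtain ⟨d, hddef⟩ : ∃ d : Fin t → (ι → F), d = fun i => (1 : F) • e i + (1 : F) • f i :=
    ⟨_, rfl⟩
  obtain ⟨d', hd'def⟩ : ∃ d' : Fin t → (ι → F), d' = fun i => ω • e i + ω ^ 2 • f i :=
    ⟨_, rfl⟩
  have hdD : ∀ i, d i ∈ D i := by
    intro i
    rw [hddef]
    exact (D i).add_mem ((D i).smul_mem _ (hef i).1) ((D i).smul_mem _ (hef i).2.1)
  have hd'D : ∀ i, d' i ∈ D i := by
    intro i
    rw [hd'def]
    exact (D i).add_mem ((D i).smul_mem _ (hef i).1) ((D i).smul_mem _ (hef i).2.1)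
  have hdQ : ∀ i, Q (d i) = 1 := by
    intro i
    rw [hddef]
    simp only
    rw [Q_hyp Q (hef i).2.2.1 (hef i).2.2.2.1 (hef i).2.2.2.2.1, one_mul]
  have hd'Q : ∀ i, Q (d' i) = 1 := by
    intro i
    rw [hd'def]
    simp only
    rw [Q_hyp Q (hef i).2.2.1 (hef i).2.2.2.1 (hef i).2.2.2.2.1]
    linear_combination hω3
  have hdd : ∀ i, polar (⇑Q) (d i) (d i) = 0 := by
    intro i
    rw [polar_self', h2, zero_mul]
  have hd'd' : ∀ i, polar (⇑Q) (d' i) (d' i) = 0 := by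
    intro i
    rw [polar_self', h2, zero_mul]
  have hdd' : ∀ i, polar (⇑Q) (d i) (d' i) = 1 := by
    intro i
    rw [hddef, hd'def]
    simp only
    rw [polar_hyp Q (hef i).2.2.1 (hef i).2.2.2.1 (hef i).2.2.2.2.1]
    linear_combination hωsum
  have hdorth : ∀ i j, i ≠ j → polar (⇑Q) (d i) (d j) = 0 :=
    fun i j hij => horth i j hij _ (hdD i) _ (hdD j)
  have hdd'orth : ∀ i j, i ≠ j → polar (⇑Q) (d i) (d' j) = 0 :=
    fun i j hij => horth i j hij _ (hdD i) _ (hd'D j)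
  -- the norm set and the F₂-form
  obtain ⟨V₀, hV₀⟩ : ∃ V₀ : Set (ι → F),
      V₀ = {v | ∀ s ∈ normSet (⇑Q) D 1, polar (⇑Q) v s ^ 2 = polar (⇑Q) v s} := ⟨_, rfl⟩
  have hV₀add : ∀ v w, v ∈ V₀ → w ∈ V₀ → v + w ∈ V₀ := by
    intro v w hv hw
    rw [hV₀] at hv hw ⊢
    intro s hs
    rw [QuadraticMap.polar_add_left, sq_add hq, hv s hs, hw s hs]
  have hSform : ∀ s ∈ normSet (⇑Q) D 1, ∃ (j : Fin t) (a b : F), s = a • e j + b • f j ∧
      a ^ 2 = b ∧ b ^ 2 = a := by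
    rintro s ⟨j, hsj, hQs⟩
    obtain ⟨a, b, rfl⟩ := (hef j).2.2.2.2.2 s hsj
    rw [Q_hyp Q (hef j).2.2.1 (hef j).2.2.2.1 (hef j).2.2.2.2.1] at hQs
    have ha0 : a ≠ 0 := by
      rintro rfl
      rw [zero_mul] at hQs
      exact zero_ne_one hQs
    have ha3 := pow_three hq ha0
    have hb : a ^ 2 = b := by
      have : a * (a ^ 2 - b) = 0 := by linear_combination ha3 - hQs
      rcases mul_eq_zero.mp this with h | h
      · exact absurd h ha0
      · exact sub_eq_zero.mp h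
    refine ⟨j, a, b, rfl, hb, ?_⟩
    rw [← hb]
    have := pow_four hq a
    linear_combination this
  have hdV : ∀ i, d i ∈ V₀ := by
    intro i
    rw [hV₀]
    intro s hs
    obtain ⟨j, a, b, rfl, hab, hba⟩ := hSform s hs
    by_cases hij : i = j
    · subst hij
      rw [hddef]
      simp only
      rw [polar_hyp Q (hef i).2.2.1 (hef i).2.2.2.1 (hef i).2.2.2.2.1, one_mul, one_mul,
        sq_add hq, hab, hba]
      exact add_comm _ _
    · rw [horth i j hij _ (hdD i) _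
        ((D j).add_mem ((D j).smul_mem _ (hef j).1) ((D j).smul_mem _ (hef j).2.1))]
      ring
  have hd'V : ∀ i, d' i ∈ V₀ := by
    intro i
    rw [hV₀]
    intro s hs
    obtain ⟨j, a, b, rfl, hab, hba⟩ := hSform s hs
    by_cases hij : i = j
    · subst hij
      rw [hd'def]
      simp only
      rw [polar_hyp Q (hef i).2.2.1 (hef i).2.2.2.1 (hef i).2.2.2.2.1, sq_add hq, mul_pow,
        mul_pow, hab, hba]
      have hω4 : ω ^ 4 = ω := pow_four hq ω
      linear_combination b * hω4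
    · rw [horth i j hij _ (hd'D i) _
        ((D j).add_mem ((D j).smul_mem _ (hef j).1) ((D j).smul_mem _ (hef j).2.1))]
      ring
  have hdS : ∀ i, d i ∈ normSet (⇑Q) D 1 := fun i => ⟨i, hdD i, hdQ i⟩
  have hd'S : ∀ i, d' i ∈ normSet (⇑Q) D 1 := fun i => ⟨i, hd'D i, hd'Q i⟩
  -- invariance under the stabiliser of the decomposition
  have hA : ∀ g ∈ Cfsg.Geo.decompositionStabilizer D ⊓ Cfsg.Geo.omegaGL ⇑Q, ∀ v ∈ V₀,
      (g : Matrix _ _ F) *ᵥ v ∈ V₀ := by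
    intro g hg v hv
    have hginv := ((stab_le_normStab (⇑Q) D 1) hg).2
    obtain ⟨h, _, rfl⟩ := Subgroup.mem_map.mp hg.2
    rw [hV₀] at hv ⊢
    intro s hs
    have e1 : ((((Cfsg.isometryGroup F ⇑Q).subtype h : GL ι F)) : Matrix ι ι F) *ᵥ v = act h v :=
      rfl
    have e2 : s = act h (act h⁻¹ s) := (act_act_inv h s).symm
    have e3 : act h⁻¹ s ∈ normSet (⇑Q) D 1 := (hginv s hs).2
    rw [e1, e2, polar_act]
    exact hv _ e3
  -- indices
  obtain ⟨i0, hi0⟩ : ∃ i : Fin t, i = ⟨0, by omega⟩ := ⟨_, rfl⟩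
  obtain ⟨i1, hi1⟩ : ∃ i : Fin t, i = ⟨1, by omega⟩ := ⟨_, rfl⟩
  obtain ⟨i2, hi2⟩ : ∃ i : Fin t, i = ⟨2, by omega⟩ := ⟨_, rfl⟩
  obtain ⟨i3, hi3⟩ : ∃ i : Fin t, i = ⟨3, by omega⟩ := ⟨_, rfl⟩
  obtain ⟨i4, hi4⟩ : ∃ i : Fin t, i = ⟨4, by omega⟩ := ⟨_, rfl⟩
  obtain ⟨i5, hi5⟩ : ∃ i : Fin t, i = ⟨5, by omega⟩ := ⟨_, rfl⟩
  have n01 : i0 ≠ i1 := by rw [hi0, hi1]; intro h; simp [Fin.ext_iff] at h
  have n02 : i0 ≠ i2 := by rw [hi0, hi2]; intro h; simp [Fin.ext_iff] at h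
  have n03 : i0 ≠ i3 := by rw [hi0, hi3]; intro h; simp [Fin.ext_iff] at h
  have n04 : i0 ≠ i4 := by rw [hi0, hi4]; intro h; simp [Fin.ext_iff] at h
  have n05 : i0 ≠ i5 := by rw [hi0, hi5]; intro h; simp [Fin.ext_iff] at h
  have n12 : i1 ≠ i2 := by rw [hi1, hi2]; intro h; simp [Fin.ext_iff] at h
  have n23 : i2 ≠ i3 := by rw [hi2, hi3]; intro h; simp [Fin.ext_iff] at h
  have n34 : i3 ≠ i4 := by rw [hi3, hi4]; intro h; simp [Fin.ext_iff] at h
  have n35 : i3 ≠ i5 := by rw [hi3, hi5]; intro h; simp [Fin.ext_iff] at h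
  have n45 : i4 ≠ i5 := by rw [hi4, hi5]; intro h; simp [Fin.ext_iff] at h
  have n13 : i1 ≠ i3 := by rw [hi1, hi3]; intro h; simp [Fin.ext_iff] at h
  -- sums of three norm-one vectors
  have hsum3 : ∀ a b c : Fin t, a ≠ b → a ≠ c → b ≠ c → Q (d a + d b + d c) = 1 := by
    intro a b c hab hac hbc
    rw [QuadraticMap.map_add (⇑Q), QuadraticMap.map_add (⇑Q), QuadraticMap.polar_add_left, hdQ,
      hdQ, hdQ, hdorth a b hab, hdorth a c hac, hdorth b c hbc]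
    linear_combination h2
  have hrefl3 : ∀ (a b c : Fin t) (hne : Q (d a + d b + d c) ≠ 0), Q (d a + d b + d c) = 1 →
      ∀ v ∈ V₀, act (refl Q (d a + d b + d c) hne) v ∈ V₀ := by
    intro a b c hne h1 v hv
    rw [act_refl_char2 h2 Q _ hne h1]
    have hc : polar (⇑Q) (d a + d b + d c) v ^ 2 = polar (⇑Q) (d a + d b + d c) v := by
      rw [hV₀] at hv
      rw [QuadraticMap.polar_add_left, QuadraticMap.polar_add_left, sq_add hq, sq_add hq,
        QuadraticMap.polar_comm (⇑Q) (d a) v, QuadraticMap.polar_comm (⇑Q) (d b) v,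
        QuadraticMap.polar_comm (⇑Q) (d c) v, hv _ (hdS a), hv _ (hdS b), hv _ (hdS c)]
    rcases fixed_cases hc with h | h
    · rw [h, zero_smul, add_zero]
      exact hv
    · rw [h, one_smul]
      exact hV₀add _ _ hv (hV₀add _ _ (hV₀add _ _ (hdV a) (hdV b)) (hdV c))
  obtain ⟨y, hy⟩ : ∃ y, y = d i0 + d i1 + d i2 := ⟨_, rfl⟩
  obtain ⟨y', hy'⟩ : ∃ y', y' = d i3 + d i4 + d i5 := ⟨_, rfl⟩
  have hQy : Q y = 1 := by rw [hy]; exact hsum3 _ _ _ n01 n02 n12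
  have hQy' : Q y' = 1 := by rw [hy']; exact hsum3 _ _ _ n34 n35 n45
  have hyne : Q y ≠ 0 := by rw [hQy]; exact one_ne_zero
  have hy'ne : Q y' ≠ 0 := by rw [hQy']; exact one_ne_zero
  have hyV : ∀ v ∈ V₀, act (refl Q y hyne) v ∈ V₀ := by
    subst hy
    exact hrefl3 _ _ _ hyne hQy
  have hy'V : ∀ v ∈ V₀, act (refl Q y' hy'ne) v ∈ V₀ := by
    subst hy'
    exact hrefl3 _ _ _ hy'ne hQy'
  obtain ⟨g₀, hg₀⟩ : ∃ g : ↥(Cfsg.isometryGroup F ⇑Q),
      g = refl Q y hyne * refl Q y' hy'ne := ⟨_, rfl⟩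
  have hg₀Ω : g₀ ∈ Cfsg.Omega F ⇑Q := by
    rw [hg₀]
    exact refl_mul_refl_mem_Omega' Q hQ (by omega) _ _ hyne hy'ne (hQy.trans hQy'.symm)
  have hg₀inv : g₀⁻¹ = refl Q y' hy'ne * refl Q y hyne := by
    rw [hg₀, _root_.mul_inv_rev, refl_inv, refl_inv]
  have hg₀S : ∀ s ∈ V₀, act g₀ s ∈ V₀ ∧ act g₀⁻¹ s ∈ V₀ := by
    intro s hs
    constructor
    · rw [hg₀, act_mul]
      exact hyV _ (hy'V s hs)
    · rw [hg₀inv, act_mul]
      exact hy'V _ (hyV s hs)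
  have hg₀e : act g₀ (d' i0) = d' i0 + y := by
    have e1 : polar (⇑Q) y' (d' i0) = 0 := by
      rw [hy', QuadraticMap.polar_add_left, QuadraticMap.polar_add_left,
        hdd'orth i3 i0 n03.symm, hdd'orth i4 i0 n04.symm, hdd'orth i5 i0 n05.symm]
      ring
    have e2 : polar (⇑Q) y (d' i0) = 1 := by
      rw [hy, QuadraticMap.polar_add_left, QuadraticMap.polar_add_left, hdd',
        hdd'orth i1 i0 n01.symm, hdd'orth i2 i0 n02.symm]
      ring
    rw [hg₀, act_mul, act_refl_of_polar_eq_zero Q _ hy'ne _ e1,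
      act_refl_char2 h2 Q y hyne hQy, e2, one_smul]
  have hg₀D : (g₀ : GL ι F) ∉ Cfsg.Geo.decompositionStabilizer D := by
    rintro ⟨σ, hσ⟩
    have hmem : act g₀ (d' i0) ∈ D (σ i0) := by
      rw [← hσ i0]
      exact Submodule.mem_map.mpr ⟨d' i0, hd'D i0, Matrix.toLin'_apply _ _⟩
    rw [hg₀e] at hmem
    have p1 : polar (⇑Q) (d' i0 + y) (d' i1) = 1 := by
      rw [hy, QuadraticMap.polar_add_left, QuadraticMap.polar_add_left,
        QuadraticMap.polar_add_left, hdd', hdd'orth i0 i1 n01, hdd'orth i2 i1 n12.symm,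
        horth i0 i1 n01 _ (hd'D i0) _ (hd'D i1)]
      ring
    have p2 : polar (⇑Q) (d' i0 + y) (d' i2) = 1 := by
      rw [hy, QuadraticMap.polar_add_left, QuadraticMap.polar_add_left,
        QuadraticMap.polar_add_left, hdd', hdd'orth i0 i2 n02, hdd'orth i1 i2 n12,
        horth i0 i2 n02 _ (hd'D i0) _ (hd'D i2)]
      ring
    have k1 : σ i0 = i1 := by
      by_contra hne
      have := horth _ _ hne _ hmem _ (hd'D i1)
      rw [p1] at this
      exact one_ne_zero this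
    have k2 : σ i0 = i2 := by
      by_contra hne
      have := horth _ _ hne _ hmem _ (hd'D i2)
      rw [p2] at this
      exact one_ne_zero this
    exact n12 (k1.symm.trans k2)
  -- the moving element
  obtain ⟨u, hu⟩ : ∃ u, u = ω • d i0 + d i1 := ⟨_, rfl⟩
  obtain ⟨u', hu'⟩ : ∃ u', u' = ω • d i2 + d i3 := ⟨_, rfl⟩
  have hQu : Q u = ω := by
    rw [hu, QuadraticMap.map_add (⇑Q), QuadraticMap.map_smul, hdQ, hdQ,
      QuadraticMap.polar_smul_left, hdorth i0 i1 n01, smul_eq_mul, smul_eq_mul]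
    linear_combination hω - ω * h2
  have hQu' : Q u' = ω := by
    rw [hu', QuadraticMap.map_add (⇑Q), QuadraticMap.map_smul, hdQ, hdQ,
      QuadraticMap.polar_smul_left, hdorth i2 i3 n23, smul_eq_mul, smul_eq_mul]
    linear_combination hω - ω * h2
  have hune : Q u ≠ 0 := by rw [hQu]; exact hω0
  have hu'ne : Q u' ≠ 0 := by rw [hQu']; exact hω0
  obtain ⟨g₁, hg₁⟩ : ∃ g : ↥(Cfsg.isometryGroup F ⇑Q),
      g = refl Q u hune * refl Q u' hu'ne := ⟨_, rfl⟩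
  have hg₁Ω : g₁ ∈ Cfsg.Omega F ⇑Q := by
    rw [hg₁]
    exact refl_mul_refl_mem_Omega' Q hQ (by omega) _ _ hune hu'ne (hQu.trans hQu'.symm)
  have hpu : polar (⇑Q) u (d' i0) = ω := by
    rw [hu, QuadraticMap.polar_add_left, QuadraticMap.polar_smul_left, hdd',
      hdd'orth i1 i0 n01.symm, smul_eq_mul]
    ring
  have hg₁d : act g₁ (d' i0) = d' i0 + u := by
    have e1 : polar (⇑Q) u' (d' i0) = 0 := by
      rw [hu', QuadraticMap.polar_add_left, QuadraticMap.polar_smul_left,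
        hdd'orth i2 i0 n02.symm, hdd'orth i3 i0 n03.symm, smul_zero, add_zero]
    rw [hg₁, act_mul, act_refl_of_polar_eq_zero Q _ hu'ne _ e1, act_refl, hQu, hpu,
      inv_mul_cancel₀ hω0, one_smul, sub_eq_add_neg, hnegV]
  refine not_max_of_elements_set (⇑Q) D V₀ hA g₀ g₁ hg₀Ω hg₀S hg₀D hg₁Ω ⟨d' i0, hd'V i0, ?_⟩
  rw [hg₁d, hV₀]
  intro hmem
  have h1 := hmem (d' i0) (hd'S i0)
  rw [QuadraticMap.polar_add_left, hd'd', zero_add, hpu] at h1
  rcases fixed_cases h1 with h | h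
  · exact hω0 h
  · exact hω1 h

end Cfsg.Agent.Lib.Helper27.OrthDecomp
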