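import Mathlib
import Cfsg.Prelude.Def_GeometricClasses
import Cfsg.Agent.Lib.Helper27.OrthDecomp9

set_option autoImplicit false

/-!
Four-dimensional spaces of plus type over the field with two elements: hyperbolic bases and the
two anisotropic planes carrying all the non-singular vectors.
-/

namespace Cfsg.Agent.Lib.Helper27.OrthDecomp

open Cfsg Matrix QuadraticMap
open Cfsg.Agent.Lib.Helper19.OrthRefl Cfsg.Agent.Lib.Helper27.OrthPlane

variable {F : Type*} [Field F] [Fintype F] {ι : Type} [Fintype ι] [DecidableEq ι]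

/-- Over the field with two elements: a vector of `W` pairing to one with `x` and to zero with
`y`. -/
theorem exists_dual_f2 (hq : Fintype.card F = 2) (Q : QuadraticForm F (ι → F))
    (W : Submodule F (ι → F))
    (hW : Cfsg.Geo.IsNondegenerateOn (QuadraticMap.polar ⇑Q) W) (x y : ι → F) (hx : x ∈ W)
    (hy : y ∈ W) (hx0 : x ≠ 0) (hy0 : y ≠ 0) (hxy : x + y ≠ 0) :
    ∃ g ∈ W, polar (⇑Q) x g = 1 ∧ polar (⇑Q) y g = 0 := by
  have h11 := Cfsg.Agent.Lib.Helper27.TensorF2.two_eq_zero hq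
  have key : ∀ z ∈ W, z ≠ 0 → ∃ g ∈ W, polar (⇑Q) z g = 1 := by
    intro z hz hz0
    obtain ⟨_, g, hg, hne⟩ := hW z hz hz0
    refine ⟨g, hg, ?_⟩
    rcases Cfsg.Agent.Lib.Helper27.TensorF2.f2_cases hq (polar (⇑Q) z g) with h | h
    · exact absurd h hne
    · exact h
  obtain ⟨y1, hy1W, hy1⟩ := key x hx hx0
  obtain ⟨y2, hy2W, hy2⟩ := key y hy hy0
  obtain ⟨y3, hy3W, hy3⟩ := key (x + y) (W.add_mem hx hy) hxy
  rcases Cfsg.Agent.Lib.Helper27.TensorF2.f2_cases hq (polar (⇑Q) y y1) with h | h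
  · exact ⟨y1, hy1W, hy1, h⟩
  · rcases Cfsg.Agent.Lib.Helper27.TensorF2.f2_cases hq (polar (⇑Q) x y2) with h' | h'
    · refine ⟨y1 + y2, W.add_mem hy1W hy2W, ?_, ?_⟩
      · rw [polar_add_right, hy1, h', add_zero]
      · rw [polar_add_right, h, hy2]
        exact h11
    · rw [polar_add_left] at hy3
      rcases Cfsg.Agent.Lib.Helper27.TensorF2.f2_cases hq (polar (⇑Q) x y3) with h3 | h3
      · rw [h3, zero_add] at hy3
        refine ⟨y1 + y3, W.add_mem hy1W hy3W, ?_, ?_⟩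
        · rw [polar_add_right, hy1, h3, add_zero]
        · rw [polar_add_right, h, hy3]
          exact h11
      · rw [h3] at hy3
        have : polar (⇑Q) y y3 = 0 := by linear_combination hy3
        exact ⟨y3, hy3W, h3, this⟩

/-- A hyperbolic basis of a four-dimensional space of plus type over the field with two
elements. -/
theorem exists_hyp_basis4 (hq : Fintype.card F = 2) (Q : QuadraticForm F (ι → F))
    (W : Submodule F (ι → F)) (hdim : Module.finrank F W = 4)
    (hW : Cfsg.Geo.IsNondegenerateOn (QuadraticMap.polar ⇑Q) W)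
    (hplus : Cfsg.Geo.IsPlusTypeOn ⇑Q W) :
    ∃ e1 f1 e2 f2 : ι → F, e1 ∈ W ∧ f1 ∈ W ∧ e2 ∈ W ∧ f2 ∈ W ∧ Q e1 = 0 ∧ Q f1 = 0 ∧
      Q e2 = 0 ∧ Q f2 = 0 ∧ polar (⇑Q) e1 f1 = 1 ∧ polar (⇑Q) e2 f2 = 1 ∧
      polar (⇑Q) e1 e2 = 0 ∧ polar (⇑Q) e1 f2 = 0 ∧ polar (⇑Q) f1 e2 = 0 ∧
      polar (⇑Q) f1 f2 = 0 ∧
      ∀ v ∈ W, ∃ x1 y1 x2 y2 : F, v = x1 • e1 + y1 • f1 + (x2 • e2 + y2 • f2) := by
  classical
  have h11 := Cfsg.Agent.Lib.Helper27.TensorF2.two_eq_zero hq
  have h2 : (2 : F) = 0 := by linear_combination h11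
  obtain ⟨U, hUW, hUts, hUdim⟩ := hplus
  have hU2 : Module.finrank F U = 2 := by omega
  obtain ⟨bU, hbU⟩ : ∃ b : Module.Basis (Fin 2) F U, b = Module.finBasisOfFinrankEq F U hU2 :=
    ⟨_, rfl⟩
  have hind : ∀ s t : F, s • (bU 0 : ι → F) + t • (bU 1 : ι → F) = 0 → s = 0 ∧ t = 0 := by
    intro s t h
    have h' : ∑ i, ![s, t] i • bU i = 0 := by
      rw [Fin.sum_univ_two]
      apply Subtype.ext
      simpa using h
    have := Fintype.linearIndependent_iff.mp bU.linearIndependent ![s, t] h'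
    exact ⟨this 0, this 1⟩
  obtain ⟨e1, he1⟩ : ∃ e : ι → F, e = (bU 0 : ι → F) := ⟨_, rfl⟩
  obtain ⟨e2, he2⟩ : ∃ e : ι → F, e = (bU 1 : ι → F) := ⟨_, rfl⟩
  rw [← he1, ← he2] at hind
  have he1U : e1 ∈ U := by rw [he1]; exact (bU 0).2
  have he2U : e2 ∈ U := by rw [he2]; exact (bU 1).2
  have he1W : e1 ∈ W := hUW he1U
  have he2W : e2 ∈ W := hUW he2U
  have hQe1 : Q e1 = 0 := hUts e1 he1U
  have hQe2 : Q e2 = 0 := hUts e2 he2U
  have he10 : e1 ≠ 0 := by
    intro h
    have := hind 1 0 (by rw [h]; simp)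
    exact one_ne_zero this.1
  have he20 : e2 ≠ 0 := by
    intro h
    have := hind 0 1 (by rw [h]; simp)
    exact one_ne_zero this.2
  have he12 : e1 + e2 ≠ 0 := by
    intro h
    have := hind 1 1 (by rw [one_smul, one_smul]; exact h)
    exact one_ne_zero this.1
  have he21 : e2 + e1 ≠ 0 := by rw [add_comm]; exact he12
  have p12 : polar (⇑Q) e1 e2 = 0 := by
    have := hUts (e1 + e2) (U.add_mem he1U he2U)
    unfold QuadraticMap.polar
    rw [this, hQe1, hQe2]
    ring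
  have p21 : polar (⇑Q) e2 e1 = 0 := by rw [polar_comm]; exact p12
  have p11 : polar (⇑Q) e1 e1 = 0 := polar_self_of_singular Q hQe1
  have p22 : polar (⇑Q) e2 e2 = 0 := polar_self_of_singular Q hQe2
  obtain ⟨g1, hg1W, hg11, hg12⟩ := exists_dual_f2 hq Q W hW e1 e2 he1W he2W he10 he20 he12
  obtain ⟨g2, hg2W, hg22, hg21⟩ := exists_dual_f2 hq Q W hW e2 e1 he2W he1W he20 he10 he21
  -- first hyperbolic partner
  obtain ⟨f1, hf1⟩ : ∃ f : ι → F, f = g1 + Q g1 • e1 := ⟨_, rfl⟩
  have hf1W : f1 ∈ W := by rw [hf1]; exact W.add_mem hg1W (W.smul_mem _ he1W)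
  have hQf1 : Q f1 = 0 := by
    rw [hf1, QuadraticMap.map_add (⇑Q), QuadraticMap.map_smul, hQe1, polar_smul_right,
      polar_comm, hg11, smul_eq_mul, smul_eq_mul]
    linear_combination (Q g1) * h2
  have pe1f1 : polar (⇑Q) e1 f1 = 1 := by
    rw [hf1, polar_add_right, polar_smul_right, p11, hg11, smul_zero, add_zero]
  have pe2f1 : polar (⇑Q) e2 f1 = 0 := by
    rw [hf1, polar_add_right, polar_smul_right, p21, hg12, smul_zero, add_zero]
  have pf1e1 : polar (⇑Q) f1 e1 = 1 := by rw [polar_comm]; exact pe1f1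
  have pf1e2 : polar (⇑Q) f1 e2 = 0 := by rw [polar_comm]; exact pe2f1
  have pf1f1 : polar (⇑Q) f1 f1 = 0 := polar_self_of_singular Q hQf1
  -- second hyperbolic partner
  obtain ⟨g2', hg2'⟩ : ∃ g : ι → F, g = g2 + polar (⇑Q) f1 g2 • e1 := ⟨_, rfl⟩
  have hg2'W : g2' ∈ W := by rw [hg2']; exact W.add_mem hg2W (W.smul_mem _ he1W)
  have pe1g2' : polar (⇑Q) e1 g2' = 0 := by
    rw [hg2', polar_add_right, polar_smul_right, p11, hg21, smul_zero, add_zero]
  have pe2g2' : polar (⇑Q) e2 g2' = 1 := by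
    rw [hg2', polar_add_right, polar_smul_right, p21, hg22, smul_zero, add_zero]
  have pf1g2' : polar (⇑Q) f1 g2' = 0 := by
    rw [hg2', polar_add_right, polar_smul_right, pf1e1, smul_eq_mul]
    linear_combination (polar (⇑Q) f1 g2) * h2
  obtain ⟨f2, hf2⟩ : ∃ f : ι → F, f = g2' + Q g2' • e2 := ⟨_, rfl⟩
  have hf2W : f2 ∈ W := by rw [hf2]; exact W.add_mem hg2'W (W.smul_mem _ he2W)
  have hQf2 : Q f2 = 0 := by
    rw [hf2, QuadraticMap.map_add (⇑Q), QuadraticMap.map_smul, hQe2, polar_smul_right,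
      polar_comm, pe2g2', smul_eq_mul, smul_eq_mul]
    linear_combination (Q g2') * h2
  have pe1f2 : polar (⇑Q) e1 f2 = 0 := by
    rw [hf2, polar_add_right, polar_smul_right, p12, pe1g2', smul_zero, add_zero]
  have pe2f2 : polar (⇑Q) e2 f2 = 1 := by
    rw [hf2, polar_add_right, polar_smul_right, p22, pe2g2', smul_zero, add_zero]
  have pf1f2 : polar (⇑Q) f1 f2 = 0 := by
    rw [hf2, polar_add_right, polar_smul_right, pf1e2, pf1g2', smul_zero, add_zero]
  have pf2e1 : polar (⇑Q) f2 e1 = 0 := by rw [polar_comm]; exact pe1f2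
  have pf2e2 : polar (⇑Q) f2 e2 = 1 := by rw [polar_comm]; exact pe2f2
  have pf2f1 : polar (⇑Q) f2 f1 = 0 := by rw [polar_comm]; exact pf1f2
  have pf2f2 : polar (⇑Q) f2 f2 = 0 := polar_self_of_singular Q hQf2
  refine ⟨e1, f1, e2, f2, he1W, hf1W, he2W, hf2W, hQe1, hQf1, hQe2, hQf2, pe1f1, pe2f2, p12,
    pe1f2, pf1e2, pf1f2, ?_⟩
  have hli : LinearIndependent F ![e1, f1, e2, f2] := by
    rw [Fintype.linearIndependent_iff]
    intro g hg
    rw [Fin.sum_univ_four] at hg
    have hg' : g 0 • e1 + g 1 • f1 + g 2 • e2 + g 3 • f2 = 0 := hg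
    have q0 : g 0 = 0 := by
      have := congrArg (fun z => polar (⇑Q) z f1) hg'
      simp only [polar_add_left, polar_smul_left, pe1f1, pf1f1, pe2f1, pf2f1, smul_eq_mul,
        polar_zero_left] at this
      linear_combination this
    have q1 : g 1 = 0 := by
      have := congrArg (fun z => polar (⇑Q) z e1) hg'
      simp only [polar_add_left, polar_smul_left, p11, pf1e1, p21, pf2e1, smul_eq_mul,
        polar_zero_left] at this
      linear_combination this
    have q2 : g 2 = 0 := by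
      have := congrArg (fun z => polar (⇑Q) z f2) hg'
      simp only [polar_add_left, polar_smul_left, pe1f2, pf1f2, pe2f2, pf2f2, smul_eq_mul,
        polar_zero_left] at this
      linear_combination this
    have q3 : g 3 = 0 := by
      have := congrArg (fun z => polar (⇑Q) z e2) hg'
      simp only [polar_add_left, polar_smul_left, p12, pf1e2, p22, pf2e2, smul_eq_mul,
        polar_zero_left] at this
      linear_combination this
    intro i
    fin_cases i
    · exact q0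
    · exact q1
    · exact q2
    · exact q3
  have hle : Submodule.span F (Set.range ![e1, f1, e2, f2]) ≤ W := by
    rw [Submodule.span_le]
    rintro _ ⟨i, rfl⟩
    fin_cases i
    · exact he1W
    · exact hf1W
    · exact he2W
    · exact hf2W
  have hfr : Module.finrank F (Submodule.span F (Set.range ![e1, f1, e2, f2])) = 4 := by
    rw [finrank_span_eq_card hli, Fintype.card_fin]
  have heq : Submodule.span F (Set.range ![e1, f1, e2, f2]) = W :=
    Submodule.eq_of_le_of_finrank_eq hle (by rw [hfr, hdim])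
  intro v hv
  rw [← heq] at hv
  obtain ⟨c, hc⟩ := (Submodule.mem_span_range_iff_exists_fun F).mp hv
  rw [Fin.sum_univ_four] at hc
  refine ⟨c 0, c 1, c 2, c 3, ?_⟩
  rw [← hc]
  show c 0 • e1 + c 1 • f1 + c 2 • e2 + c 3 • f2 = _
  rw [add_assoc]

end Cfsg.Agent.Lib.Helper27.OrthDecomp
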