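import Mathlib
import Cfsg.Prelude.Def_GeometricClasses
import Cfsg.Agent.Lib.Helper27.OrthDecomp10

set_option autoImplicit false

/-!
Four-dimensional spaces of plus type over the field with two elements: the two anisotropic planes
carrying all the non-singular vectors.
-/

namespace Cfsg.Agent.Lib.Helper27.OrthDecomp

open Cfsg Matrix QuadraticMap
open Cfsg.Agent.Lib.Helper19.OrthRefl Cfsg.Agent.Lib.Helper27.OrthPlane

variable {F : Type*} [Field F] [Fintype F] {ι : Type} [Fintype ι] [DecidableEq ι]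

/-- The two anisotropic planes of a four-dimensional space of plus type over the field with two
elements: every non-singular vector lies in one of them. -/
theorem exists_aniso_planes4 (hq : Fintype.card F = 2) (Q : QuadraticForm F (ι → F))
    (W : Submodule F (ι → F)) (hdim : Module.finrank F W = 4)
    (hW : Cfsg.Geo.IsNondegenerateOn (QuadraticMap.polar ⇑Q) W)
    (hplus : Cfsg.Geo.IsPlusTypeOn ⇑Q W) :
    ∃ a b a' b' : ι → F, a ∈ W ∧ b ∈ W ∧ a' ∈ W ∧ b' ∈ W ∧ Q a = 1 ∧ Q b = 1 ∧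
      Q a' = 1 ∧ Q b' = 1 ∧ polar (⇑Q) a b = 1 ∧ polar (⇑Q) a' b' = 1 ∧
      polar (⇑Q) a a' = 0 ∧ polar (⇑Q) a b' = 0 ∧ polar (⇑Q) b a' = 0 ∧
      polar (⇑Q) b b' = 0 ∧
      ∀ v ∈ W, Q v = 1 → (∃ x y : F, v = x • a + y • b) ∨ (∃ x y : F, v = x • a' + y • b') := by
  classical
  have h11 := Cfsg.Agent.Lib.Helper27.TensorF2.two_eq_zero hq
  have h2 : (2 : F) = 0 := by linear_combination h11
  obtain ⟨e1, f1, e2, f2, he1W, hf1W, he2W, hf2W, hQe1, hQf1, hQe2, hQf2, pe1f1, pe2f2, pe1e2,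
    pe1f2, pf1e2, pf1f2, hspan⟩ := exists_hyp_basis4 hq Q W hdim hW hplus
  have pf1e1 : polar (⇑Q) f1 e1 = 1 := by rw [polar_comm]; exact pe1f1
  have pf2e2 : polar (⇑Q) f2 e2 = 1 := by rw [polar_comm]; exact pe2f2
  have pe2e1 : polar (⇑Q) e2 e1 = 0 := by rw [polar_comm]; exact pe1e2
  have pf2e1 : polar (⇑Q) f2 e1 = 0 := by rw [polar_comm]; exact pe1f2
  have pe2f1 : polar (⇑Q) e2 f1 = 0 := by rw [polar_comm]; exact pf1e2
  have pf2f1 : polar (⇑Q) f2 f1 = 0 := by rw [polar_comm]; exact pf1f2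
  have pe1e1 : polar (⇑Q) e1 e1 = 0 := polar_self_of_singular Q hQe1
  have pf1f1 : polar (⇑Q) f1 f1 = 0 := polar_self_of_singular Q hQf1
  have pe2e2 : polar (⇑Q) e2 e2 = 0 := polar_self_of_singular Q hQe2
  have pf2f2 : polar (⇑Q) f2 f2 = 0 := polar_self_of_singular Q hQf2
  have hP4 : ∀ x1 y1 x2 y2 x1' y1' x2' y2' : F,
      polar (⇑Q) (x1 • e1 + y1 • f1 + (x2 • e2 + y2 • f2))
        (x1' • e1 + y1' • f1 + (x2' • e2 + y2' • f2)) =
      x1 * y1' + y1 * x1' + x2 * y2' + y2 * x2' := by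
    intro x1 y1 x2 y2 x1' y1' x2' y2'
    simp only [polar_add_left, polar_add_right, polar_smul_left, polar_smul_right, pe1f1, pf1e1,
      pe2f2, pf2e2, pe1e2, pe2e1, pe1f2, pf2e1, pf1e2, pe2f1, pf1f2, pf2f1, pe1e1, pf1f1, pe2e2,
      pf2f2, smul_eq_mul]
    ring
  have hQ4 : ∀ x1 y1 x2 y2 : F,
      Q (x1 • e1 + y1 • f1 + (x2 • e2 + y2 • f2)) = x1 * y1 + x2 * y2 := by
    intro x1 y1 x2 y2
    rw [QuadraticMap.map_add (⇑Q), Q_hyp Q hQe1 hQf1 pe1f1, Q_hyp Q hQe2 hQf2 pe2f2]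
    simp only [polar_add_left, polar_add_right, polar_smul_left, polar_smul_right, pe1e2, pe1f2,
      pf1e2, pf1f2, smul_eq_mul]
    ring
  have hmemW : ∀ x1 y1 x2 y2 : F, x1 • e1 + y1 • f1 + (x2 • e2 + y2 • f2) ∈ W :=
    fun x1 y1 x2 y2 => W.add_mem (W.add_mem (W.smul_mem _ he1W) (W.smul_mem _ hf1W))
      (W.add_mem (W.smul_mem _ he2W) (W.smul_mem _ hf2W))
  refine ⟨(1 : F) • e1 + (1 : F) • f1 + ((1 : F) • e2 + (0 : F) • f2),
    (1 : F) • e1 + (1 : F) • f1 + ((0 : F) • e2 + (1 : F) • f2),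
    (1 : F) • e1 + (0 : F) • f1 + ((1 : F) • e2 + (1 : F) • f2),
    (0 : F) • e1 + (1 : F) • f1 + ((1 : F) • e2 + (1 : F) • f2),
    hmemW _ _ _ _, hmemW _ _ _ _, hmemW _ _ _ _, hmemW _ _ _ _, ?_, ?_, ?_, ?_, ?_, ?_, ?_, ?_,
    ?_, ?_, ?_⟩
  · rw [hQ4]; ring
  · rw [hQ4]; ring
  · rw [hQ4]; ring
  · rw [hQ4]; ring
  · rw [hP4]; linear_combination h2
  · rw [hP4]; linear_combination h2
  · rw [hP4]; linear_combination h2
  · rw [hP4]; linear_combination h2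
  · rw [hP4]; linear_combination h2
  · rw [hP4]; linear_combination h2
  · intro v hv hQv
    obtain ⟨x1, y1, x2, y2, rfl⟩ := hspan v hv
    rw [hQ4] at hQv
    have hcl : (x1 = x2 + y2 ∧ y1 = x2 + y2) ∨ (x2 = x1 + y1 ∧ y2 = x1 + y1) := by
      rcases Cfsg.Agent.Lib.Helper27.TensorF2.f2_cases hq x1 with rfl | rfl <;>
      rcases Cfsg.Agent.Lib.Helper27.TensorF2.f2_cases hq y1 with rfl | rfl <;>
      rcases Cfsg.Agent.Lib.Helper27.TensorF2.f2_cases hq x2 with rfl | rfl <;>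
      rcases Cfsg.Agent.Lib.Helper27.TensorF2.f2_cases hq y2 with rfl | rfl <;>
      simp [h11, h2] at hQv ⊢
    rcases hcl with ⟨h1, h1'⟩ | ⟨h1, h1'⟩
    · left
      refine ⟨x2, y2, ?_⟩
      rw [h1, h1']
      module
    · right
      refine ⟨x1, y1, ?_⟩
      rw [h1, h1']
      module

end Cfsg.Agent.Lib.Helper27.OrthDecomp
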