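import Mathlib
import Cfsg.Prelude.Def_GeometricClasses
import Cfsg.Agent.Lib.Helper27.OrthDecomp11

set_option autoImplicit false

/-!
Orthogonal decompositions into four-dimensional spaces of plus type over the field with two
elements: the stabiliser is contained in the stabiliser of the finer decomposition into
anisotropic planes.
-/

namespace Cfsg.Agent.Lib.Helper27.OrthDecomp

open Cfsg Matrix QuadraticMap
open Cfsg.Agent.Lib.Helper19.OrthRefl Cfsg.Agent.Lib.Helper27.OrthPlane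

variable {F : Type*} [Field F] [Fintype F] {ι : Type} [Fintype ι] [DecidableEq ι]

theorem decomp4_plus_q2_not_max (hq : Fintype.card F = 2) (Q : QuadraticForm F (ι → F))
    (hQ : (polarBilin Q).Nondegenerate) (hn : 13 ≤ Fintype.card ι) {t : ℕ}
    (D : Fin t → Submodule F (ι → F)) (hD : Cfsg.Geo.IsOrthogonalMDecomposition (⇑Q) 4 D)
    (hplus : ∀ i, Cfsg.Geo.IsPlusTypeOn (⇑Q) (D i)) :
    ∃ K : Subgroup (GL ι F),
      Cfsg.Geo.decompositionStabilizer D ⊓ Cfsg.Geo.omegaGL ⇑Q < K ∧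
        K < Cfsg.Geo.omegaGL ⇑Q := by
  classical
  have h11 := Cfsg.Agent.Lib.Helper27.TensorF2.two_eq_zero hq
  have h2 : (2 : F) = 0 := by linear_combination h11
  have hnegF : ∀ x : F, -x = x := by
    intro x
    linear_combination (-x) * h2
  have hnegV : ∀ v : ι → F, -v = v := by
    intro v
    have : -v = (-1 : F) • v := by rw [neg_smul, one_smul]
    rw [this, hnegF, one_smul]
  have hdouble : ∀ v : ι → F, v + v = 0 := by
    intro v
    have := hnegV v
    rw [neg_eq_iff_add_eq_zero] at this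
    exact this
  have ht : 4 ≤ t := by
    have := card_le_mul hD.decomp.decomp
    omega
  have horth : ∀ i j, i ≠ j → ∀ u ∈ D i, ∀ v ∈ D j, polar (⇑Q) u v = 0 :=
    fun i j hij u hu v hv => hD.decomp.orthogonal i j hij u hu v hv
  have hex := fun i => exists_aniso_planes4 hq Q (D i) (hD.decomp.decomp.finrank_eq i)
    (hD.decomp.nondegenerate i) (hplus i)
  choose a b a' b' haD hbD ha'D hb'D hQa hQb hQa' hQb' pab pa'b' paa' pab' pba' pbb' hclass
    using hex
  have pba : ∀ i, polar (⇑Q) (b i) (a i) = 1 := fun i => by rw [polar_comm]; exact pab i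
  have pb'a' : ∀ i, polar (⇑Q) (b' i) (a' i) = 1 := fun i => by rw [polar_comm]; exact pa'b' i
  have pa'a : ∀ i, polar (⇑Q) (a' i) (a i) = 0 := fun i => by rw [polar_comm]; exact paa' i
  have pb'a : ∀ i, polar (⇑Q) (b' i) (a i) = 0 := fun i => by rw [polar_comm]; exact pab' i
  have pa'b : ∀ i, polar (⇑Q) (a' i) (b i) = 0 := fun i => by rw [polar_comm]; exact pba' i
  have pb'b : ∀ i, polar (⇑Q) (b' i) (b i) = 0 := fun i => by rw [polar_comm]; exact pbb' i
  have hself : ∀ v : ι → F, Q v = 1 → polar (⇑Q) v v = 0 := by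
    intro v hv
    rw [polar_self', hv, mul_one]
    exact h2
  have paa : ∀ i, polar (⇑Q) (a i) (a i) = 0 := fun i => hself _ (hQa i)
  have pbb : ∀ i, polar (⇑Q) (b i) (b i) = 0 := fun i => hself _ (hQb i)
  have pa'a' : ∀ i, polar (⇑Q) (a' i) (a' i) = 0 := fun i => hself _ (hQa' i)
  have pb'b' : ∀ i, polar (⇑Q) (b' i) (b' i) = 0 := fun i => hself _ (hQb' i)
  -- indices
  obtain ⟨i0, hi0⟩ : ∃ i : Fin t, i = ⟨0, by omega⟩ := ⟨_, rfl⟩
  obtain ⟨i1, hi1⟩ : ∃ i : Fin t, i = ⟨1, by omega⟩ := ⟨_, rfl⟩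
  obtain ⟨i2, hi2⟩ : ∃ i : Fin t, i = ⟨2, by omega⟩ := ⟨_, rfl⟩
  obtain ⟨i3, hi3⟩ : ∃ i : Fin t, i = ⟨3, by omega⟩ := ⟨_, rfl⟩
  have n01 : i0 ≠ i1 := by rw [hi0, hi1]; intro h; simp [Fin.ext_iff] at h
  have n02 : i0 ≠ i2 := by rw [hi0, hi2]; intro h; simp [Fin.ext_iff] at h
  have n03 : i0 ≠ i3 := by rw [hi0, hi3]; intro h; simp [Fin.ext_iff] at h
  have n12 : i1 ≠ i2 := by rw [hi1, hi2]; intro h; simp [Fin.ext_iff] at h
  have n13 : i1 ≠ i3 := by rw [hi1, hi3]; intro h; simp [Fin.ext_iff] at h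
  have n23 : i2 ≠ i3 := by rw [hi2, hi3]; intro h; simp [Fin.ext_iff] at h
  -- the swapping element
  obtain ⟨p, hp⟩ : ∃ p, p = a' i0 + a i1 := ⟨_, rfl⟩
  obtain ⟨u, hu⟩ : ∃ u, u = b' i0 + b i1 := ⟨_, rfl⟩
  have hQp : Q p = 0 := by
    rw [hp, QuadraticMap.map_add (⇑Q), hQa', hQa, horth i0 i1 n01 _ (ha'D i0) _ (haD i1)]
    linear_combination h2
  have hQu : Q u = 0 := by
    rw [hu, QuadraticMap.map_add (⇑Q), hQb', hQb, horth i0 i1 n01 _ (hb'D i0) _ (hbD i1)]
    linear_combination h2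
  have hpu : polar (⇑Q) p u = 0 := by
    rw [hp, hu, polar_add_left, polar_add_right, polar_add_right, pa'b', pab,
      horth i0 i1 n01 _ (ha'D i0) _ (hbD i1), horth i1 i0 n01.symm _ (haD i1) _ (hb'D i0)]
    linear_combination h2
  have hup : polar (⇑Q) u p = 0 := by rw [polar_comm]; exact hpu
  have hpp : polar (⇑Q) p p = 0 := polar_self_of_singular Q hQp
  have huu : polar (⇑Q) u u = 0 := polar_self_of_singular Q hQu
  obtain ⟨g₀, hg₀⟩ : ∃ g : ↥(Cfsg.isometryGroup F ⇑Q), g = siegel Q hQ p u hQp hpu := ⟨_, rfl⟩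
  have hg₀Ω : g₀ ∈ Cfsg.Omega F ⇑Q := by
    rw [hg₀]
    exact siegel_mem_Omega Q hQ (by omega) p u hQp hpu
  have hact : ∀ v, act g₀ v = v + polar (⇑Q) u v • p + polar (⇑Q) p v • u := by
    intro v
    rw [hg₀, act_siegel, hQu, zero_smul, sub_zero, sub_eq_add_neg, hnegV]
  have hinv2 : ∀ v, act g₀ (act g₀ v) = v := by
    intro v
    have e1 : polar (⇑Q) u (act g₀ v) = polar (⇑Q) u v := by
      rw [hact v, polar_add_right, polar_add_right, polar_smul_right, polar_smul_right, hup, huu,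
        smul_zero, smul_zero, add_zero, add_zero]
    have e2 : polar (⇑Q) p (act g₀ v) = polar (⇑Q) p v := by
      rw [hact v, polar_add_right, polar_add_right, polar_smul_right, polar_smul_right, hpp, hpu,
        smul_zero, smul_zero, add_zero, add_zero]
    rw [hact (act g₀ v), e1, e2, hact v]
    have : v + polar (⇑Q) u v • p + polar (⇑Q) p v • u + polar (⇑Q) u v • p +
        polar (⇑Q) p v • u = v + (polar (⇑Q) u v • p + polar (⇑Q) u v • p) +
        (polar (⇑Q) p v • u + polar (⇑Q) p v • u) := by abel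
    rw [this, hdouble, hdouble, add_zero, add_zero]
  have hg₀inv : ∀ v, act g₀⁻¹ v = act g₀ v := by
    intro v
    have := act_inv_act g₀ (act g₀ v)
    rw [hinv2] at this
    exact this
  have hfix : ∀ v, polar (⇑Q) (a' i0) v = 0 → polar (⇑Q) (b' i0) v = 0 →
      polar (⇑Q) (a i1) v = 0 → polar (⇑Q) (b i1) v = 0 → act g₀ v = v := by
    intro v h1 h2' h3 h4
    rw [hact, hu, hp, polar_add_left, polar_add_left, h1, h2', h3, h4, add_zero, zero_smul,
      zero_smul, add_zero, add_zero]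
  have hga0 : act g₀ (a i0) = a i0 :=
    hfix _ (pa'a i0) (pb'a i0) (horth i1 i0 n01.symm _ (haD i1) _ (haD i0))
      (horth i1 i0 n01.symm _ (hbD i1) _ (haD i0))
  have hgb0 : act g₀ (b i0) = b i0 :=
    hfix _ (pa'b i0) (pb'b i0) (horth i1 i0 n01.symm _ (haD i1) _ (hbD i0))
      (horth i1 i0 n01.symm _ (hbD i1) _ (hbD i0))
  have hga'1 : act g₀ (a' i1) = a' i1 :=
    hfix _ (horth i0 i1 n01 _ (ha'D i0) _ (ha'D i1)) (horth i0 i1 n01 _ (hb'D i0) _ (ha'D i1))
      (paa' i1) (pba' i1)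
  have hgb'1 : act g₀ (b' i1) = b' i1 :=
    hfix _ (horth i0 i1 n01 _ (ha'D i0) _ (hb'D i1)) (horth i0 i1 n01 _ (hb'D i0) _ (hb'D i1))
      (pab' i1) (pbb' i1)
  have hga'0 : act g₀ (a' i0) = a i1 := by
    rw [hact, hu, hp, polar_add_left, polar_add_left, pb'a', pa'a',
      horth i1 i0 n01.symm _ (hbD i1) _ (ha'D i0), horth i1 i0 n01.symm _ (haD i1) _ (ha'D i0),
      add_zero, add_zero, one_smul, zero_smul, add_zero, ← add_assoc, hdouble, zero_add]
  have hgb'0 : act g₀ (b' i0) = b i1 := by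
    rw [hact, hu, hp, polar_add_left, polar_add_left, pb'b', pa'b',
      horth i1 i0 n01.symm _ (hbD i1) _ (hb'D i0), horth i1 i0 n01.symm _ (haD i1) _ (hb'D i0),
      add_zero, add_zero, one_smul, zero_smul, add_zero, ← add_assoc, hdouble, zero_add]
  have hga1 : act g₀ (a i1) = a' i0 := by
    have := hinv2 (a' i0)
    rw [hga'0] at this
    exact this
  have hgb1 : act g₀ (b i1) = b' i0 := by
    have := hinv2 (b' i0)
    rw [hgb'0] at this
    exact this
  have hmaps : ∀ s ∈ normSet (⇑Q) D 1, act g₀ s ∈ normSet (⇑Q) D 1 := by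
    rintro s ⟨j, hsj, hQs⟩
    by_cases hj0 : j = i0
    · subst hj0
      rcases hclass j s hsj hQs with ⟨x, y, rfl⟩ | ⟨x, y, rfl⟩
      · rw [act_add, act_smul, act_smul, hga0, hgb0]
        exact ⟨j, hsj, hQs⟩
      · refine ⟨i1, ?_, ?_⟩
        · rw [act_add, act_smul, act_smul, hga'0, hgb'0]
          exact (D i1).add_mem ((D i1).smul_mem _ (haD i1)) ((D i1).smul_mem _ (hbD i1))
        · exact (Q_act g₀ _).trans hQs
    · by_cases hj1 : j = i1
      · subst hj1
        rcases hclass j s hsj hQs with ⟨x, y, rfl⟩ | ⟨x, y, rfl⟩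
        · refine ⟨i0, ?_, ?_⟩
          · rw [act_add, act_smul, act_smul, hga1, hgb1]
            exact (D i0).add_mem ((D i0).smul_mem _ (ha'D i0)) ((D i0).smul_mem _ (hb'D i0))
          · exact (Q_act g₀ _).trans hQs
        · rw [act_add, act_smul, act_smul, hga'1, hgb'1]
          exact ⟨j, hsj, hQs⟩
      · have hj0' : i0 ≠ j := fun h => hj0 h.symm
        have hj1' : i1 ≠ j := fun h => hj1 h.symm
        rw [hfix s (horth i0 j hj0' _ (ha'D i0) _ hsj) (horth i0 j hj0' _ (hb'D i0) _ hsj)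
          (horth i1 j hj1' _ (haD i1) _ hsj) (horth i1 j hj1' _ (hbD i1) _ hsj)]
        exact ⟨j, hsj, hQs⟩
  have hg₀S : ∀ s ∈ normSet (⇑Q) D 1, act g₀ s ∈ normSet (⇑Q) D 1 ∧
      act g₀⁻¹ s ∈ normSet (⇑Q) D 1 := by
    intro s hs
    refine ⟨hmaps s hs, ?_⟩
    rw [hg₀inv]
    exact hmaps s hs
  have hg₀D : (g₀ : GL ι F) ∉ Cfsg.Geo.decompositionStabilizer D := by
    rintro ⟨σ, hσ⟩
    have hmap : ∀ v ∈ D i0, act g₀ v ∈ D (σ i0) := by
      intro v hv
      rw [← hσ i0]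
      exact Submodule.mem_map.mpr ⟨v, hv, Matrix.toLin'_apply _ _⟩
    have m1 := hmap _ (haD i0)
    have m2 := hmap _ (ha'D i0)
    rw [hga0] at m1
    rw [hga'0] at m2
    have k1 : σ i0 = i0 := by
      by_contra hne
      have := horth _ _ hne _ m1 _ (hbD i0)
      rw [pab] at this
      exact one_ne_zero this
    have k2 : σ i0 = i1 := by
      by_contra hne
      have := horth _ _ hne _ m2 _ (hbD i1)
      rw [pab] at this
      exact one_ne_zero this
    exact n01 (k1.symm.trans k2)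
  -- the moving element
  obtain ⟨y, hy⟩ : ∃ y, y = a i0 + a i1 + a i2 := ⟨_, rfl⟩
  have hQy : Q y = 1 := by
    rw [hy, QuadraticMap.map_add (⇑Q), QuadraticMap.map_add (⇑Q), polar_add_left, hQa, hQa, hQa,
      horth i0 i1 n01 _ (haD i0) _ (haD i1), horth i0 i2 n02 _ (haD i0) _ (haD i2),
      horth i1 i2 n12 _ (haD i1) _ (haD i2)]
    linear_combination h2
  have hyne : Q y ≠ 0 := by rw [hQy]; exact one_ne_zero
  have hwne : Q (a i3) ≠ 0 := by rw [hQa]; exact one_ne_zero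
  obtain ⟨g₁, hg₁⟩ : ∃ g : ↥(Cfsg.isometryGroup F ⇑Q),
      g = refl Q y hyne * refl Q (a i3) hwne := ⟨_, rfl⟩
  have hg₁Ω : g₁ ∈ Cfsg.Omega F ⇑Q := by
    rw [hg₁]
    exact refl_mul_refl_mem_Omega' Q hQ (by omega) _ _ hyne hwne (hQy.trans (hQa i3).symm)
  have hg₁b : act g₁ (b i0) = b i0 + y := by
    have e1 : polar (⇑Q) (a i3) (b i0) = 0 := horth i3 i0 n03.symm _ (haD i3) _ (hbD i0)
    have e2 : polar (⇑Q) y (b i0) = 1 := by
      rw [hy, polar_add_left, polar_add_left, pab, horth i1 i0 n01.symm _ (haD i1) _ (hbD i0),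
        horth i2 i0 n02.symm _ (haD i2) _ (hbD i0), add_zero, add_zero]
    rw [hg₁, act_mul, act_refl_of_polar_eq_zero Q _ hwne _ e1,
      act_refl_char2 h2 Q y hyne hQy, e2, one_smul]
  refine not_max_of_elements (⇑Q) D 1 g₀ g₁ hg₀Ω hg₀S hg₀D hg₁Ω
    ⟨b i0, ⟨i0, hbD i0, hQb i0⟩, ?_⟩
  rw [hg₁b]
  rintro ⟨k, hk, _⟩
  have p1 : polar (⇑Q) (b i0 + y) (b i1) = 1 := by
    rw [hy, polar_add_left, polar_add_left, polar_add_left, pab,
      horth i0 i1 n01 _ (hbD i0) _ (hbD i1), horth i0 i1 n01 _ (haD i0) _ (hbD i1),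
      horth i2 i1 n12.symm _ (haD i2) _ (hbD i1)]
    ring
  have p2 : polar (⇑Q) (b i0 + y) (b i2) = 1 := by
    rw [hy, polar_add_left, polar_add_left, polar_add_left, pab,
      horth i0 i2 n02 _ (hbD i0) _ (hbD i2), horth i0 i2 n02 _ (haD i0) _ (hbD i2),
      horth i1 i2 n12 _ (haD i1) _ (hbD i2)]
    ring
  have k1 : k = i1 := by
    by_contra hne
    have := horth _ _ hne _ hk _ (hbD i1)
    rw [p1] at this
    exact one_ne_zero this
  have k2 : k = i2 := by
    by_contra hne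
    have := horth _ _ hne _ hk _ (hbD i2)
    rw [p2] at this
    exact one_ne_zero this
  exact n12 (k1.symm.trans k2)

end Cfsg.Agent.Lib.Helper27.OrthDecomp
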