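import Mathlib
import Cfsg.Prelude.Def_GeometricClasses
import Cfsg.Agent.Lib.Helper19.OrthWitt
import Cfsg.Agent.Lib.Helper19.OrthPoints
import Cfsg.Agent.Lib.Helper19.OrthLong
import Cfsg.Agent.Lib.Helper19.OrthParity
import Cfsg.Agent.Lib.Helper19.NondegSub
import Cfsg.Agent.Lib.Helper27.OrthParab3

set_option autoImplicit false

/-!
Non-degenerate subspaces of an orthogonal space: decomposition, stabilisers, and Siegel
transformations outside the stabiliser.
-/

namespace Cfsg.Agent.Lib.Helper27.OrthNdeg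

open Cfsg Matrix QuadraticMap Module
open Cfsg.Agent.Lib.Helper19.OrthRefl Cfsg.Agent.Lib.Helper27.OrthPlane
open Cfsg.Agent.Lib.Helper19.Parity Cfsg.Agent.Lib.Helper27.OrthParab

variable {F : Type*} [Field F] [Fintype F] {ι : Type} [Fintype ι] [DecidableEq ι]

section basic

variable (Q : QuadraticForm F (ι → F)) (hQ : (polarBilin Q).Nondegenerate)
  {U : Submodule F (ι → F)}

omit [Fintype F] [DecidableEq ι] in
include hQ in
theorem nondeg_orth (hU : Nondeg Q U) : Nondeg Q (orth Q U) := by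
  unfold Nondeg at hU ⊢
  rw [orth_orth hQ, inf_comm]
  exact hU

omit [Fintype F] [DecidableEq ι] in
include hQ in
theorem sup_orth_eq_top (hU : Nondeg Q U) : U ⊔ orth Q U = ⊤ := by
  apply Submodule.eq_top_of_finrank_eq
  have h1 := Submodule.finrank_sup_add_finrank_inf_eq U (orth Q U)
  unfold Nondeg at hU
  rw [hU, finrank_bot, add_zero, finrank_orth hQ] at h1
  have h2 := Submodule.finrank_le U
  omega

omit [Fintype F] [DecidableEq ι] in
include hQ in
theorem exists_decomp (hU : Nondeg Q U) (v : ι → F) :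
    ∃ u ∈ U, ∃ w ∈ orth Q U, v = u + w := by
  have hv : v ∈ U ⊔ orth Q U := by rw [sup_orth_eq_top Q hQ hU]; exact Submodule.mem_top
  obtain ⟨u, hu, w, hw, rfl⟩ := Submodule.mem_sup.mp hv
  exact ⟨u, hu, w, hw, rfl⟩

omit [Fintype F] [DecidableEq ι] in
theorem polar_orth_right {u w : ι → F} (hu : u ∈ U) (hw : w ∈ orth Q U) :
    polar (⇑Q) u w = 0 := mem_orth.mp hw u hu

omit [Fintype F] [DecidableEq ι] in
theorem polar_orth_left {u w : ι → F} (hu : u ∈ U) (hw : w ∈ orth Q U) :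
    polar (⇑Q) w u = 0 := by rw [polar_comm]; exact mem_orth.mp hw u hu

omit [Fintype F] [DecidableEq ι] in
theorem eq_zero_of_mem_both (hU : Nondeg Q U) {v : ι → F} (h1 : v ∈ U) (h2 : v ∈ orth Q U) :
    v = 0 := by
  have : v ∈ U ⊓ orth Q U := ⟨h1, h2⟩
  unfold Nondeg at hU
  rw [hU] at this
  exact (Submodule.mem_bot F).1 this

omit [Fintype F] [DecidableEq ι] in
include hQ in
theorem mem_of_forall_orth {v : ι → F} (h : ∀ w ∈ orth Q U, polar (⇑Q) w v = 0) : v ∈ U := by
  rw [← orth_orth hQ U, mem_orth]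
  exact h

omit [Fintype F] in
/-- An isometry stabilising `U` stabilises its orthogonal complement. -/
theorem act_mem_orth (g : ↥(Cfsg.isometryGroup F ⇑Q)) (hg : ∀ u ∈ U, act g u ∈ U) :
    ∀ w ∈ orth Q U, act g w ∈ orth Q U := by
  intro w hw
  rw [mem_orth]
  intro u hu
  have hmap := map_eq_of_act_mem g U hg
  have hu' : u ∈ U.map (Matrix.mulVecLin ((g : GL ι F) : Matrix ι ι F)) := by rw [hmap]; exact hu
  obtain ⟨u', hu'U, rfl⟩ := (mem_map_act g U u).mp hu'
  rw [polar_act]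
  exact mem_orth.mp hw u' hu'U

include hQ in
theorem stab_orth_le (g : ↥(Cfsg.isometryGroup F ⇑Q))
    (hg : (g : GL ι F) ∈ Cfsg.Geo.subspaceStabilizer U) :
    (g : GL ι F) ∈ Cfsg.Geo.subspaceStabilizer (orth Q U) := by
  apply mem_stab_of_maps
  apply act_mem_orth Q g
  intro u hu
  exact ((mem_stab_iff U _).mp hg u).mp hu

include hQ in
theorem stab_orth_eq :
    Cfsg.Geo.subspaceStabilizer U ⊓ Cfsg.Geo.omegaGL ⇑Q =
      Cfsg.Geo.subspaceStabilizer (orth Q U) ⊓ Cfsg.Geo.omegaGL ⇑Q := by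
  apply le_antisymm
  · rintro m ⟨hm1, hm2⟩
    obtain ⟨m', hm'Ω, rfl⟩ := Subgroup.mem_map.mp hm2
    exact ⟨stab_orth_le Q hQ m' hm1, hm2⟩
  · rintro m ⟨hm1, hm2⟩
    obtain ⟨m', hm'Ω, rfl⟩ := Subgroup.mem_map.mp hm2
    refine ⟨?_, hm2⟩
    have := stab_orth_le Q hQ (U := orth Q U) m' hm1
    rwa [orth_orth hQ] at this

omit [Fintype F] in
/-- A hyperbolic partner inside a non-degenerate subspace. -/
theorem exists_partner_in (hU : Nondeg Q U) {p : ι → F} (hp : p ∈ U) (hp0 : p ≠ 0)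
    (hQp : Q p = 0) : ∃ f ∈ U, Q f = 0 ∧ polar (⇑Q) p f = 1 := by
  obtain ⟨y, hyU, hpy⟩ := hU.exists_polar_ne hp hp0
  obtain ⟨y', hy'⟩ : ∃ y', y' = (polar (⇑Q) p y)⁻¹ • y := ⟨_, rfl⟩
  have hy'U : y' ∈ U := by rw [hy']; exact U.smul_mem _ hyU
  have hpy' : polar (⇑Q) p y' = 1 := by
    rw [hy', polar_smul_right, smul_eq_mul, inv_mul_cancel₀ hpy]
  refine ⟨y' - Q y' • p, U.sub_mem hy'U (U.smul_mem _ hp), ?_, ?_⟩
  · rw [Q_sub', QuadraticMap.map_smul, hQp, polar_smul_right, polar_comm (⇑Q) y' p, hpy']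
    simp
  · rw [polar_sub_right, polar_smul_right, polar_self_of_singular Q hQp, smul_zero, sub_zero,
      hpy']

omit [Fintype F] [DecidableEq ι] in
include hQ in
/-- Dimension of the part of a subspace orthogonal to a given subspace. -/
theorem finrank_inf_orth_ge (U S : Submodule F (ι → F)) :
    finrank F U ≤ finrank F ↥(U ⊓ orth Q S) + finrank F S := by
  rw [inf_orth_eq hQ, finrank_orth hQ]
  have h1 := Submodule.finrank_add_le_finrank_add_finrank (orth Q U) S
  have h2 : finrank F (orth Q U) = finrank F (ι → F) - finrank F U := finrank_orth hQ U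
  have h3 := Submodule.finrank_le U
  have h4 := Submodule.finrank_le (orth Q U ⊔ S)
  omega

omit [Fintype ι] [DecidableEq ι] in
theorem finrank_span3_le (a b c : ι → F) :
    finrank F (Submodule.span F (Set.range ![a, b, c])) ≤ 3 := by
  have := finrank_range_le_card (R := F) ![a, b, c]
  rw [Fintype.card_fin] at this
  exact this

omit [Fintype ι] [DecidableEq ι] in
theorem mem_span3 (a b c : ι → F) :
    a ∈ Submodule.span F (Set.range ![a, b, c]) ∧ b ∈ Submodule.span F (Set.range ![a, b, c]) ∧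
      c ∈ Submodule.span F (Set.range ![a, b, c]) :=
  ⟨Submodule.subset_span ⟨0, rfl⟩, Submodule.subset_span ⟨1, rfl⟩, Submodule.subset_span ⟨2, rfl⟩⟩

omit [DecidableEq ι] in
include hQ in
/-- A non-zero singular vector of `U` orthogonal to three given vectors. -/
theorem exists_singular_orth3 (h6 : 6 ≤ finrank F U) (a b c : ι → F) :
    ∃ s ∈ U, s ≠ 0 ∧ Q s = 0 ∧ polar (⇑Q) a s = 0 ∧ polar (⇑Q) b s = 0 ∧ polar (⇑Q) c s = 0 := by
  have h1 := finrank_inf_orth_ge Q hQ U (Submodule.span F (Set.range ![a, b, c]))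
  have h2 := finrank_span3_le a b c
  obtain ⟨s, hs, hs0, hQs⟩ := Cfsg.Agent.Lib.Helper19.QuadWitt.exists_singular_of_three (Q := Q)
    (U ⊓ orth Q (Submodule.span F (Set.range ![a, b, c]))) (by omega)
  obtain ⟨ha, hb, hc⟩ := mem_span3 a b c
  exact ⟨s, hs.1, hs0, hQs, mem_orth.mp hs.2 a ha, mem_orth.mp hs.2 b hb, mem_orth.mp hs.2 c hc⟩

end basic

end Cfsg.Agent.Lib.Helper27.OrthNdeg
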