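import Mathlib
import Cfsg.Prelude.Def_GeometricClasses
import Cfsg.Agent.Lib.Helper27.OrthNdeg

set_option autoImplicit false

/-!
Overgroups of the stabiliser of a non-degenerate subspace: a Siegel transformation mixing the
subspace and its complement.
-/

namespace Cfsg.Agent.Lib.Helper27.OrthNdeg

open Cfsg Matrix QuadraticMap Module
open Cfsg.Agent.Lib.Helper19.OrthRefl Cfsg.Agent.Lib.Helper27.OrthPlane
open Cfsg.Agent.Lib.Helper19.Parity Cfsg.Agent.Lib.Helper27.OrthParab

variable {F : Type*} [Field F] [Fintype F] {ι : Type} [Fintype ι] [DecidableEq ι]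

section partA

variable (Q : QuadraticForm F (ι → F)) (hQ : (polarBilin Q).Nondegenerate)
  {U : Submodule F (ι → F)}

omit [Fintype F] in
/-- If a Siegel transformation with centre outside `X` stabilises `X`, its second parameter is
orthogonal to the part of `X` orthogonal to the centre. -/
theorem siegel_stab_polar (a b : ι → F) (ha : Q a = 0) (hab : polar (⇑Q) a b = 0)
    {X : Submodule F (ι → F)} (hs : ∀ x ∈ X, act (siegel Q hQ a b ha hab) x ∈ X) (haX : a ∉ X)
    {x : ι → F} (hx : x ∈ X) (hax : polar (⇑Q) a x = 0) : polar (⇑Q) b x = 0 := by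
  by_contra hbx
  apply haX
  have h1 := hs x hx
  rw [act_siegel, hax] at h1
  simp only [zero_smul, smul_zero, sub_zero] at h1
  have h2 : polar (⇑Q) b x • a ∈ X := by
    have := X.sub_mem h1 hx
    rwa [add_sub_cancel_left] at this
  have := X.smul_mem (polar (⇑Q) b x)⁻¹ h2
  rwa [smul_smul, inv_mul_cancel₀ hbx, one_smul] at this

omit [Fintype F] [Fintype ι] [DecidableEq ι] in
theorem exists_smul_of_orth_imp (hU : Nondeg Q U) {a b : ι → F} (ha : a ∈ U) (hb : b ∈ U)
    (h : ∀ u ∈ U, polar (⇑Q) a u = 0 → polar (⇑Q) b u = 0) : ∃ c : F, b = c • a := by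
  by_cases ha0 : a = 0
  · refine ⟨0, ?_⟩
    rw [zero_smul]
    by_contra hb0
    obtain ⟨y, hy, hby⟩ := hU.exists_polar_ne hb hb0
    exact hby (h y hy (by rw [ha0, polar_zero_left]))
  · obtain ⟨u₀, hu₀, hau₀⟩ := hU.exists_polar_ne ha ha0
    refine ⟨polar (⇑Q) b u₀ / polar (⇑Q) a u₀, ?_⟩
    by_contra hne
    have hd : b - (polar (⇑Q) b u₀ / polar (⇑Q) a u₀) • a ∈ U :=
      U.sub_mem hb (U.smul_mem _ ha)
    obtain ⟨y, hy, hdy⟩ := hU.exists_polar_ne hd (sub_ne_zero.mpr hne)
    apply hdy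
    have h1 := h (y - (polar (⇑Q) a y / polar (⇑Q) a u₀) • u₀)
      (U.sub_mem hy (U.smul_mem _ hu₀)) (by
        rw [polar_sub_right, polar_smul_right, smul_eq_mul, div_mul_cancel₀ _ hau₀, sub_self])
    rw [polar_sub_right, polar_smul_right, smul_eq_mul] at h1
    rw [polar_sub_left, polar_smul_left, smul_eq_mul]
    have h2 : polar (⇑Q) b y = polar (⇑Q) a y / polar (⇑Q) a u₀ * polar (⇑Q) b u₀ :=
      sub_eq_zero.mp h1
    rw [h2]
    field_simp
    ring

omit [Fintype F] in
include hQ in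
theorem siegel_stab_comp {X : Submodule F (ι → F)} (hX : Nondeg Q X) (a b : ι → F)
    (ha : Q a = 0) (hab : polar (⇑Q) a b = 0)
    (hs : ∀ x ∈ X, act (siegel Q hQ a b ha hab) x ∈ X) {aX aY bX bY : ι → F} (haX : aX ∈ X)
    (haY : aY ∈ orth Q X) (haY0 : aY ≠ 0) (hbX : bX ∈ X) (hbY : bY ∈ orth Q X)
    (hae : a = aX + aY) (hbe : b = bX + bY) : ∃ c : F, bX = c • aX := by
  have hanX : a ∉ X := by
    intro h
    apply haY0
    apply eq_zero_of_mem_both Q hX _ haY
    have : aY = a - aX := by rw [hae]; abel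
    rw [this]
    exact X.sub_mem h haX
  apply exists_smul_of_orth_imp Q hX haX hbX
  intro u hu hau
  have h1 : polar (⇑Q) a u = 0 := by
    rw [hae, polar_add_left, hau, polar_orth_left Q hu haY, add_zero]
  have h2 := siegel_stab_polar Q hQ a b ha hab hs hanX hu h1
  rw [hbe, polar_add_left, polar_orth_left Q hu hbY, add_zero] at h2
  exact h2

omit [Fintype F] [Fintype ι] [DecidableEq ι] in
theorem finrank_span_singleton_le (x : ι → F) : finrank F (Submodule.span F {x}) ≤ 1 := by
  by_cases hx : x = 0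
  · rw [hx, Submodule.span_zero_singleton, finrank_bot]
    exact Nat.zero_le _
  · rw [finrank_span_singleton hx]

omit [Fintype F] [Fintype ι] [DecidableEq ι] in
theorem mem_orth_span_singleton {x y : ι → F} (h : polar (⇑Q) x y = 0) :
    y ∈ orth Q (Submodule.span F {x}) := by
  rw [mem_orth]
  intro s hs
  obtain ⟨c, rfl⟩ := Submodule.mem_span_singleton.mp hs
  rw [polar_smul_left, h, smul_zero]

omit [Fintype F] in
theorem act_ne_zero (g : ↥(Cfsg.isometryGroup F ⇑Q)) {x : ι → F} (hx : x ≠ 0) : act g x ≠ 0 := by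
  intro h
  apply hx
  have := act_inv_act g x
  rw [h, act_zero] at this
  exact this.symm

include hQ in
/-- For a singular vector `x` of `U`: if all conjugates by `g` of the Siegel transformations of
`U` centred at `x` stabilise `U`, then `g` maps `U ∩ x^⊥` into `U` or into `U^⊥`. -/
theorem act_mem_or_of_stab (hU : Nondeg Q U) (h4 : 4 ≤ finrank F U)
    (g : ↥(Cfsg.isometryGroup F ⇑Q)) {x : ι → F} (hx0 : x ≠ 0)
    (hx : ∀ y ∈ U, polar (⇑Q) x y = 0 → ∀ (h1 : Q (act g x) = 0)
      (h2 : polar (⇑Q) (act g x) (act g y) = 0), ∀ u ∈ U,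
        act (siegel Q hQ (act g x) (act g y) h1 h2) u ∈ U)
    (hQx : Q x = 0) :
    (∀ y ∈ U, polar (⇑Q) x y = 0 → act g y ∈ U) ∨
      (∀ y ∈ U, polar (⇑Q) x y = 0 → act g y ∈ orth Q U) := by
  have hW := nondeg_orth Q hQ hU
  obtain ⟨aU, haU, aW, haW, hae⟩ := exists_decomp Q hQ hU (act g x)
  have ha0 : act g x ≠ 0 := act_ne_zero Q g hx0
  have h1 : Q (act g x) = 0 := (Q_act g x).trans hQx
  have h2 : ∀ y, polar (⇑Q) x y = 0 → polar (⇑Q) (act g x) (act g y) = 0 := by
    intro y hy
    rw [polar_act]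
    exact hy
  by_cases haW0 : aW = 0
  · left
    intro y hy hxy
    obtain ⟨bU, hbU, bW, hbW, hbe⟩ := exists_decomp Q hQ hU (act g y)
    have hstab := hx y hy hxy h1 (h2 y hxy)
    have hstabW := act_mem_orth Q _ hstab
    have haU0 : aU ≠ 0 := by
      intro h
      apply ha0
      rw [hae, h, haW0, add_zero]
    have haU' : aU ∈ orth Q (orth Q U) := by rw [orth_orth hQ]; exact haU
    have hbU' : bU ∈ orth Q (orth Q U) := by rw [orth_orth hQ]; exact hbU
    obtain ⟨c, hc⟩ := siegel_stab_comp Q hQ hW (act g x) (act g y) h1 (h2 y hxy) hstabW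
      haW haU' haU0 hbW hbU' (by rw [hae]; abel) (by rw [hbe]; abel)
    rw [hbe, hc, haW0, smul_zero, add_zero]
    exact hbU
  · by_cases haU0 : aU = 0
    · right
      intro y hy hxy
      obtain ⟨bU, hbU, bW, hbW, hbe⟩ := exists_decomp Q hQ hU (act g y)
      have hstab := hx y hy hxy h1 (h2 y hxy)
      obtain ⟨c, hc⟩ := siegel_stab_comp Q hQ hU (act g x) (act g y) h1 (h2 y hxy) hstab
        haU haW haW0 hbU hbW hae hbe
      rw [hbe, hc, haU0, smul_zero, zero_add]
      exact hbW
    · exfalso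
      have hmem : ∀ y ∈ U, polar (⇑Q) x y = 0 → act g y ∈ plane F aU aW := by
        intro y hy hxy
        obtain ⟨bU, hbU, bW, hbW, hbe⟩ := exists_decomp Q hQ hU (act g y)
        have hstab := hx y hy hxy h1 (h2 y hxy)
        have hstabW := act_mem_orth Q _ hstab
        have haU' : aU ∈ orth Q (orth Q U) := by rw [orth_orth hQ]; exact haU
        have hbU' : bU ∈ orth Q (orth Q U) := by rw [orth_orth hQ]; exact hbU
        obtain ⟨c, hc⟩ := siegel_stab_comp Q hQ hU (act g x) (act g y) h1 (h2 y hxy) hstab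
          haU haW haW0 hbU hbW hae hbe
        obtain ⟨c', hc'⟩ := siegel_stab_comp Q hQ hW (act g x) (act g y) h1 (h2 y hxy) hstabW
          haW haU' haU0 hbW hbU' (by rw [hae]; abel) (by rw [hbe]; abel)
        rw [mem_plane]
        exact ⟨c, c', by rw [hbe, hc, hc']⟩
      have hle : (U ⊓ orth Q (Submodule.span F {x})).map
          ((actEquiv (⇑Q) g : (ι → F) ≃ₗ[F] (ι → F)) : (ι → F) →ₗ[F] (ι → F)) ≤
          plane F aU aW := by
        rintro z hz
        obtain ⟨y, ⟨hyU, hyx⟩, rfl⟩ := Submodule.mem_map.mp hz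
        have : polar (⇑Q) x y = 0 :=
          mem_orth.mp hyx x (Submodule.mem_span_singleton_self x)
        have h3 := hmem y hyU this
        rw [← actEquiv_apply] at h3
        exact h3
      have h5 := Submodule.finrank_mono hle
      rw [LinearEquiv.finrank_map_eq (actEquiv (⇑Q) g)] at h5
      have h6 := finrank_plane_le (F := F) aU aW
      have h7 := finrank_inf_orth_ge Q hQ U (Submodule.span F {x})
      have h8 := finrank_span_singleton_le (F := F) x
      omega

omit [Fintype F] [DecidableEq ι] in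
/-- The part of a non-degenerate subspace orthogonal to a non-degenerate subspace of it. -/
theorem nondeg_inf_orth (hQ : (polarBilin Q).Nondegenerate) (hU : Nondeg Q U)
    {S : Submodule F (ι → F)} (hS : Nondeg Q S)
    (hSU : S ≤ U) : Nondeg Q (U ⊓ orth Q S) := by
  unfold Nondeg
  rw [eq_bot_iff]
  rintro x ⟨⟨hxU, hxS⟩, hx⟩
  rw [Submodule.mem_bot]
  apply eq_zero_of_mem_both Q hU hxU
  rw [mem_orth]
  intro u hu
  obtain ⟨s, hs, t, ht, hut⟩ := exists_decomp Q hQ hS u
  have htU : t ∈ U := by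
    have : t = u - s := by rw [hut]; abel
    rw [this]
    exact U.sub_mem hu (hSU hs)
  rw [hut, polar_add_left, mem_orth.mp hxS s hs, zero_add]
  exact mem_orth.mp hx t ⟨htU, ht⟩

end partA

end Cfsg.Agent.Lib.Helper27.OrthNdeg
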