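import Mathlib
import Cfsg.Prelude.Def_GeometricClasses
import Cfsg.Agent.Lib.Helper27.OrthNdeg2

set_option autoImplicit false

/-!
Overgroups of the stabiliser of a non-degenerate subspace: existence of a Siegel transformation
`siegel p w` in the overgroup, with `p` in the subspace and `w` in its complement.
-/

namespace Cfsg.Agent.Lib.Helper27.OrthNdeg

open Cfsg Matrix QuadraticMap Module
open Cfsg.Agent.Lib.Helper19.OrthRefl Cfsg.Agent.Lib.Helper27.OrthPlane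
open Cfsg.Agent.Lib.Helper19.Parity Cfsg.Agent.Lib.Helper27.OrthParab

variable {F : Type*} [Field F] [Fintype F] {ι : Type} [Fintype ι] [DecidableEq ι]

section partB

variable (Q : QuadraticForm F (ι → F)) (hQ : (polarBilin Q).Nondegenerate)
  {U : Submodule F (ι → F)}

omit [Fintype F] in
theorem finrank_le_card (U : Submodule F (ι → F)) : finrank F U ≤ Fintype.card ι := by
  rw [← Module.finrank_fintype_fun_eq_card F]
  exact Submodule.finrank_le U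

include hQ in
/-- A hyperbolic pair of `U` orthogonal to a hyperbolic pair of `U`. -/
theorem exists_hyp_pair_in_orth (hU : Nondeg Q U) (h5 : 5 ≤ finrank F U) {p p' : ι → F}
    (hp : p ∈ U) (hp' : p' ∈ U) (hQp : Q p = 0) (hpp' : polar (⇑Q) p p' = 1) :
    ∃ e ∈ U, ∃ f ∈ U, Q e = 0 ∧ Q f = 0 ∧ polar (⇑Q) e f = 1 ∧ polar (⇑Q) p e = 0 ∧
      polar (⇑Q) p f = 0 ∧ polar (⇑Q) p' e = 0 ∧ polar (⇑Q) p' f = 0 := by
  have hS := nondeg_hyp_plane Q p p' hQp hpp'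
  have hD := nondeg_inf_orth Q hQ hU hS (plane_le hp hp')
  have h1 := finrank_inf_orth_ge Q hQ U (plane F p p')
  have h2 := finrank_plane_le (F := F) p p'
  obtain ⟨e, he, f, hf, h3, h4, h5⟩ := exists_hyp_pair_in Q hD (by omega)
  exact ⟨e, he.1, f, hf.1, h3, h4, h5, (mem_orth_plane.1 he.2).1, (mem_orth_plane.1 hf.2).1,
    (mem_orth_plane.1 he.2).2, (mem_orth_plane.1 hf.2).2⟩

include hQ in
/-- If all conjugates by `g` of the Siegel transformations of `U` stabilise `U`, then `g` maps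
`U` into `U` or into its orthogonal complement. -/
theorem act_mem_or_of_all_stab (hU : Nondeg Q U) (h5 : 5 ≤ finrank F U)
    (g : ↥(Cfsg.isometryGroup F ⇑Q))
    (hall : ∀ x ∈ U, Q x = 0 → ∀ y ∈ U, polar (⇑Q) x y = 0 → ∀ (h1 : Q (act g x) = 0)
      (h2 : polar (⇑Q) (act g x) (act g y) = 0), ∀ u ∈ U,
        act (siegel Q hQ (act g x) (act g y) h1 h2) u ∈ U) :
    (∀ u ∈ U, act g u ∈ U) ∨ (∀ u ∈ U, act g u ∈ orth Q U) := by
  obtain ⟨x₁, hx₁, x₁', hx₁', hQ1, hQ1', h11⟩ := exists_hyp_pair_in Q hU (by omega)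
  obtain ⟨x₂, hx₂, x₂', hx₂', hQ2, hQ2', h22, h12, h12', h1'2, h1'2'⟩ :=
    exists_hyp_pair_in_orth Q hQ hU h5 hx₁ hx₁' hQ1 h11
  have hx₁0 : x₁ ≠ 0 := by
    rintro rfl
    rw [polar_zero_left] at h11
    exact zero_ne_one h11
  have hx₂0 : x₂ ≠ 0 := by
    rintro rfl
    rw [polar_zero_left] at h22
    exact zero_ne_one h22
  have hdec : ∀ u ∈ U, ∃ y ∈ U, polar (⇑Q) x₁ y = 0 ∧ ∃ c : F, u = y + c • x₁' := by
    intro u hu
    refine ⟨u - polar (⇑Q) x₁ u • x₁', U.sub_mem hu (U.smul_mem _ hx₁'), ?_,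
      polar (⇑Q) x₁ u, by abel⟩
    rw [polar_sub_right, polar_smul_right, h11, smul_eq_mul, mul_one, sub_self]
  have h2x₁' : polar (⇑Q) x₂ x₁' = 0 := by rw [polar_comm]; exact h1'2
  have h2x₁ : polar (⇑Q) x₂ x₁ = 0 := by rw [polar_comm]; exact h12
  have h11s : polar (⇑Q) x₁ x₁ = 0 := polar_self_of_singular Q hQ1
  have hne : ¬ (act g x₁ ∈ U ∧ act g x₁ ∈ orth Q U) := by
    rintro ⟨ha, hb⟩
    exact act_ne_zero Q g hx₁0 (eq_zero_of_mem_both Q hU ha hb)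
  rcases act_mem_or_of_stab Q hQ hU (by omega) g hx₁0 (hall x₁ hx₁ hQ1) hQ1 with hL1 | hR1
  · rcases act_mem_or_of_stab Q hQ hU (by omega) g hx₂0 (hall x₂ hx₂ hQ2) hQ2 with hL2 | hR2
    · left
      intro u hu
      obtain ⟨y, hy, hxy, c, rfl⟩ := hdec u hu
      rw [act_add, act_smul]
      exact U.add_mem (hL1 y hy hxy) (U.smul_mem _ (hL2 x₁' hx₁' h2x₁'))
    · exact absurd ⟨hL1 x₁ hx₁ h11s, hR2 x₁ hx₁ h2x₁⟩ hne
  · rcases act_mem_or_of_stab Q hQ hU (by omega) g hx₂0 (hall x₂ hx₂ hQ2) hQ2 with hL2 | hR2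
    · exact absurd ⟨hL2 x₁ hx₁ h2x₁, hR1 x₁ hx₁ h11s⟩ hne
    · right
      intro u hu
      obtain ⟨y, hy, hxy, c, rfl⟩ := hdec u hu
      rw [act_add, act_smul]
      exact (orth Q U).add_mem (hR1 y hy hxy) ((orth Q U).smul_mem _ (hR2 x₁' hx₁' h2x₁'))

/-- The Siegel transformations with both parameters in `U` lie in the stabiliser of `U` in
`Ω`. -/
theorem siegel_mem_H (hn : 5 ≤ Fintype.card ι) {p u : ι → F} (hpU : p ∈ U) (huU : u ∈ U)
    (hp : Q p = 0) (hpu : polar (⇑Q) p u = 0) :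
    ((siegel Q hQ p u hp hpu : ↥(Cfsg.isometryGroup F ⇑Q)) : GL ι F) ∈
      Cfsg.Geo.subspaceStabilizer U ⊓ Cfsg.Geo.omegaGL ⇑Q := by
  refine ⟨mem_stab_of_maps U _ ?_, mem_omegaGL_of_mem_Omega _ (siegel_mem_Omega Q hQ hn p u hp hpu)⟩
  intro x hx
  rw [act_siegel]
  exact U.sub_mem (U.sub_mem (U.add_mem hx (U.smul_mem _ hpU)) (U.smul_mem _ huU))
    (U.smul_mem _ (U.smul_mem _ hpU))

/-- An overgroup of the stabiliser of `U` in `Ω` not stabilising `U` contains a Siegel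
transformation with centre in `U` and second parameter in the orthogonal complement. -/
theorem exists_siegel_mixed (hU : Nondeg Q U) (h7 : 7 ≤ finrank F U) (M : Subgroup (GL ι F))
    (hHM : Cfsg.Geo.subspaceStabilizer U ⊓ Cfsg.Geo.omegaGL ⇑Q ≤ M)
    (g : ↥(Cfsg.isometryGroup F ⇑Q)) (hgM : (g : GL ι F) ∈ M)
    (hgU : ¬ ∀ u ∈ U, act g u ∈ U) (hgW : ¬ ∀ u ∈ U, act g u ∈ orth Q U) :
    ∃ p ∈ U, p ≠ 0 ∧ ∃ (hp : Q p = 0), ∃ w ∈ orth Q U, w ≠ 0 ∧ ∃ hpw : polar (⇑Q) p w = 0,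
      ((siegel Q hQ p w hp hpw : ↥(Cfsg.isometryGroup F ⇑Q)) : GL ι F) ∈ M := by
  have hn : 5 ≤ Fintype.card ι := by have := finrank_le_card U; omega
  have hnot : ¬ (∀ x ∈ U, Q x = 0 → ∀ y ∈ U, polar (⇑Q) x y = 0 → ∀ (h1 : Q (act g x) = 0)
      (h2 : polar (⇑Q) (act g x) (act g y) = 0), ∀ u ∈ U,
        act (siegel Q hQ (act g x) (act g y) h1 h2) u ∈ U) := by
    intro hall
    rcases act_mem_or_of_all_stab Q hQ hU (by omega) g hall with h | h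
    · exact hgU h
    · exact hgW h
  push Not at hnot
  obtain ⟨x, hxU, hQx, y, hyU, hxy, h1, h2, u₀, hu₀U, hu₀⟩ := hnot
  -- the conjugate lies in `M`
  have hs'M : ((siegel Q hQ (act g x) (act g y) h1 h2 : ↥(Cfsg.isometryGroup F ⇑Q)) : GL ι F)
      ∈ M := by
    rw [← conj_siegel Q hQ x y hQx hxy g h1 h2]
    have : (((g * siegel Q hQ x y hQx hxy * g⁻¹ : ↥(Cfsg.isometryGroup F ⇑Q))) : GL ι F) =
        (g : GL ι F) * ((siegel Q hQ x y hQx hxy : ↥(Cfsg.isometryGroup F ⇑Q)) : GL ι F) *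
          ((g : GL ι F))⁻¹ := rfl
    rw [this]
    exact mul_mem (mul_mem hgM (hHM (siegel_mem_H Q hQ hn hxU hyU hQx hxy))) (inv_mem hgM)
  obtain ⟨s', hs'⟩ : ∃ s', s' = siegel Q hQ (act g x) (act g y) h1 h2 := ⟨_, rfl⟩
  rw [← hs'] at hs'M hu₀
  obtain ⟨p, hpU, hp0, hQp, hap, hbp, hup⟩ :=
    exists_singular_orth3 Q hQ (U := U) (by omega) (act g x) (act g y) u₀
  have hs'p : act s' p = p := by
    rw [hs']
    exact act_siegel_fix Q hQ _ _ h1 h2 p hap hbp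
  have hpu₀ : polar (⇑Q) p u₀ = 0 := by rw [polar_comm]; exact hup
  have hps'u₀ : polar (⇑Q) p (act s' u₀) = 0 := by
    rw [← hs'p, polar_act]
    exact hpu₀
  have hkM : ((siegel Q hQ p (act s' u₀) hQp hps'u₀ : ↥(Cfsg.isometryGroup F ⇑Q)) : GL ι F)
      ∈ M := by
    have hp' : Q (act s' p) = 0 := by rw [hs'p]; exact hQp
    have hpu' : polar (⇑Q) (act s' p) (act s' u₀) = 0 := by rw [hs'p]; exact hps'u₀
    have e1 : siegel Q hQ p (act s' u₀) hQp hps'u₀ =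
        siegel Q hQ (act s' p) (act s' u₀) hp' hpu' :=
      siegel_congr Q hQ hQp hps'u₀ hp' hpu' hs'p.symm rfl
    rw [e1, ← conj_siegel Q hQ p u₀ hQp hpu₀ s' hp' hpu']
    have : (((s' * siegel Q hQ p u₀ hQp hpu₀ * s'⁻¹ : ↥(Cfsg.isometryGroup F ⇑Q))) : GL ι F) =
        (s' : GL ι F) * ((siegel Q hQ p u₀ hQp hpu₀ : ↥(Cfsg.isometryGroup F ⇑Q)) : GL ι F) *
          ((s' : GL ι F))⁻¹ := rfl
    rw [this]
    exact mul_mem (mul_mem hs'M (hHM (siegel_mem_H Q hQ hn hpU hu₀U hQp hpu₀))) (inv_mem hs'M)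
  obtain ⟨u₁, hu₁U, w₀, hw₀W, hdec⟩ := exists_decomp Q hQ hU (act s' u₀)
  have hw₀0 : w₀ ≠ 0 := by
    rintro rfl
    apply hu₀
    rw [hdec, add_zero]
    exact hu₁U
  have hpw₀ : polar (⇑Q) p w₀ = 0 := polar_orth_right Q hpU hw₀W
  have hpu₁ : polar (⇑Q) p u₁ = 0 := by
    have := hps'u₀
    rw [hdec, polar_add_right, hpw₀, add_zero] at this
    exact this
  have hsum : polar (⇑Q) p (u₁ + w₀) = 0 := by rw [polar_add_right, hpu₁, hpw₀, add_zero]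
  refine ⟨p, hpU, hp0, hQp, w₀, hw₀W, hw₀0, hpw₀, ?_⟩
  have e2 : siegel Q hQ p (act s' u₀) hQp hps'u₀ = siegel Q hQ p (u₁ + w₀) hQp hsum :=
    siegel_congr Q hQ hQp hps'u₀ hQp hsum rfl hdec
  rw [e2, ← siegel_mul Q hQ p u₁ w₀ hQp hpu₁ hpw₀ hsum] at hkM
  have h3 := hHM (siegel_mem_H Q hQ hn hpU hu₁U hQp hpu₁)
  have : ((siegel Q hQ p w₀ hQp hpw₀ : ↥(Cfsg.isometryGroup F ⇑Q)) : GL ι F) =
      ((siegel Q hQ p u₁ hQp hpu₁ : ↥(Cfsg.isometryGroup F ⇑Q)) : GL ι F)⁻¹ *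
        (((siegel Q hQ p u₁ hQp hpu₁ * siegel Q hQ p w₀ hQp hpw₀ :
          ↥(Cfsg.isometryGroup F ⇑Q))) : GL ι F) := by
    rw [Subgroup.coe_mul, inv_mul_cancel_left]
  rw [this]
  exact mul_mem (inv_mem h3) hkM

end partB

end Cfsg.Agent.Lib.Helper27.OrthNdeg
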