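import Mathlib
import Cfsg.Prelude.Def_GeometricClasses
import Cfsg.Agent.Lib.Helper19.OrthStab
import Cfsg.Agent.Lib.Helper27.OrthNdeg3

set_option autoImplicit false

/-!
Witt transitivity inside the stabiliser of a non-degenerate subspace.
-/

namespace Cfsg.Agent.Lib.Helper27.OrthNdeg

open Cfsg Matrix QuadraticMap Module
open Cfsg.Agent.Lib.Helper19.OrthRefl Cfsg.Agent.Lib.Helper27.OrthPlane
open Cfsg.Agent.Lib.Helper19.Parity Cfsg.Agent.Lib.Helper27.OrthParab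

variable {F : Type*} [Field F] [Fintype F] {ι : Type} [Fintype ι] [DecidableEq ι]

section partC

variable (Q : QuadraticForm F (ι → F)) (hQ : (polarBilin Q).Nondegenerate)
  {U : Submodule F (ι → F)}

omit [Fintype F] [Fintype ι] [DecidableEq ι] in
/-- The torus map of a hyperbolic pair preserves the form. -/
theorem Q_torus {p p' : ι → F} (hQp : Q p = 0) (hQp' : Q p' = 0) (hpp' : polar (⇑Q) p p' = 1)
    {c : F} (hc : c ≠ 0) (u : ι → F) :
    Q (u + ((c - 1) * polar (⇑Q) p' u) • p + ((c⁻¹ - 1) * polar (⇑Q) p u) • p') = Q u := by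
  have e1 : Q (u + ((c - 1) * polar (⇑Q) p' u) • p + ((c⁻¹ - 1) * polar (⇑Q) p u) • p') =
      Q (u + ((c - 1) * polar (⇑Q) p' u) • p) + Q (((c⁻¹ - 1) * polar (⇑Q) p u) • p') +
        polar (⇑Q) (u + ((c - 1) * polar (⇑Q) p' u) • p) (((c⁻¹ - 1) * polar (⇑Q) p u) • p') :=
    QuadraticMap.map_add (⇑Q) _ _
  have e2 : Q (u + ((c - 1) * polar (⇑Q) p' u) • p) =
      Q u + Q (((c - 1) * polar (⇑Q) p' u) • p) +
        polar (⇑Q) u (((c - 1) * polar (⇑Q) p' u) • p) := QuadraticMap.map_add (⇑Q) _ _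
  rw [e1, e2, QuadraticMap.map_smul, QuadraticMap.map_smul, hQp, hQp', polar_smul_right,
    polar_smul_right, polar_add_left, polar_smul_left, hpp', polar_comm (⇑Q) u p,
    polar_comm (⇑Q) u p']
  simp only [smul_eq_mul, mul_zero, add_zero, mul_one]
  have : c * c⁻¹ = 1 := mul_inv_cancel₀ hc
  linear_combination (polar (⇑Q) p' u * polar (⇑Q) p u) * this

omit [Fintype F] in
/-- Reflections in vectors of `U` orthogonal to `p` preserve the Witt property. -/
theorem refl_preserves (z : ι → F) (hz : Q z ≠ 0) (hzU : z ∈ U) {p : ι → F}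
    (hzp : polar (⇑Q) z p = 0) {c : F} {w₁ w₂ : ι → F} (hw₂ : w₂ ∈ orth Q U)
    (g : ↥(Cfsg.isometryGroup F ⇑Q))
    (hg : (∀ u ∈ U, act g u ∈ U) ∧ act g p = c • p ∧ act g w₁ = w₂) :
    (∀ u ∈ U, act (refl Q z hz * g) u ∈ U) ∧ act (refl Q z hz * g) p = c • p ∧
      act (refl Q z hz * g) w₁ = w₂ := by
  obtain ⟨hg1, hg2, hg3⟩ := hg
  refine ⟨fun u hu => ?_, ?_, ?_⟩
  · rw [act_mul, act_refl]
    exact U.sub_mem (hg1 u hu) (U.smul_mem _ hzU)
  · rw [act_mul, hg2]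
    exact act_refl_of_polar_eq_zero Q z hz _ (by rw [polar_smul_right, hzp, smul_zero])
  · rw [act_mul, hg3]
    exact act_refl_of_polar_eq_zero Q z hz _ (polar_orth_right Q hzU hw₂)

include hQ in
/-- Witt transitivity in the stabiliser of `U` in `Ω`: scale a singular vector of `U` and move a
vector of the orthogonal complement to another one of the same norm. -/
theorem exists_stab_witt (hU : Nondeg Q U) (h7 : 7 ≤ finrank F U) {p p' : ι → F}
    (hpU : p ∈ U) (hp'U : p' ∈ U) (hQp : Q p = 0) (hQp' : Q p' = 0)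
    (hpp' : polar (⇑Q) p p' = 1) {c : F} (hc : c ≠ 0) {w₁ w₂ : ι → F}
    (hw₁ : w₁ ∈ orth Q U) (hw₂ : w₂ ∈ orth Q U) (hw₁0 : w₁ ≠ 0) (hw₂0 : w₂ ≠ 0)
    (hQw : Q w₁ = Q w₂) :
    ∃ h ∈ Cfsg.Omega F ⇑Q, (∀ u ∈ U, act h u ∈ U) ∧ act h p = c • p ∧ act h w₁ = w₂ := by
  classical
  have hn : 7 ≤ Fintype.card ι := by have := finrank_le_card U; omega
  have hW := nondeg_orth Q hQ hU
  obtain ⟨b₀, hb₀W, hb₀⟩ := hW.exists_polar_ne hw₁ hw₁0
  obtain ⟨b, hb⟩ : ∃ b, b = (polar (⇑Q) w₁ b₀)⁻¹ • b₀ := ⟨_, rfl⟩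
  have hbW : b ∈ orth Q U := by rw [hb]; exact (orth Q U).smul_mem _ hb₀W
  have hbw₁ : polar (⇑Q) b w₁ = 1 := by
    rw [hb, polar_smul_left, polar_comm (⇑Q) b₀ w₁, smul_eq_mul, inv_mul_cancel₀ hb₀]
  have hp'p : polar (⇑Q) p' p = 1 := by rw [polar_comm]; exact hpp'
  have hppz : polar (⇑Q) p p = 0 := polar_self_of_singular Q hQp
  have hp'p'z : polar (⇑Q) p' p' = 0 := polar_self_of_singular Q hQp'
  obtain ⟨f, hf⟩ : ∃ f : (ι → F) →ₗ[F] (ι → F), f = LinearMap.id +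
      LinearMap.smulRight (polarBilin Q p') ((c - 1) • p) +
      LinearMap.smulRight (polarBilin Q p) ((c⁻¹ - 1) • p') +
      LinearMap.smulRight (polarBilin Q b) (w₂ - w₁) := ⟨_, rfl⟩
  have hfx : ∀ x, f x = x + polar (⇑Q) p' x • ((c - 1) • p) + polar (⇑Q) p x • ((c⁻¹ - 1) • p') +
      polar (⇑Q) b x • (w₂ - w₁) := by
    intro x
    rw [hf]
    simp only [LinearMap.add_apply, LinearMap.id_apply, LinearMap.smulRight_apply,
      polarBilin_apply_apply]
  obtain ⟨τ, hτ⟩ : ∃ τ : (ι → F) → (ι → F), τ = fun u =>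
      u + ((c - 1) * polar (⇑Q) p' u) • p + ((c⁻¹ - 1) * polar (⇑Q) p u) • p' := ⟨_, rfl⟩
  have hτx : ∀ u, τ u = u + ((c - 1) * polar (⇑Q) p' u) • p +
      ((c⁻¹ - 1) * polar (⇑Q) p u) • p' := by
    intro u; rw [hτ]
  have hτU : ∀ u ∈ U, τ u ∈ U := by
    intro u hu
    rw [hτx]
    exact U.add_mem (U.add_mem hu (U.smul_mem _ hpU)) (U.smul_mem _ hp'U)
  have hQτ : ∀ u, Q (τ u) = Q u := by
    intro u
    rw [hτx]
    exact Q_torus Q hQp hQp' hpp' hc u
  have hfut : ∀ u ∈ U, ∀ t : F, f (u + t • w₁) = τ u + t • w₂ := by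
    intro u hu t
    rw [hfx, hτx, polar_add_right, polar_add_right, polar_add_right, polar_smul_right,
      polar_smul_right, polar_smul_right, polar_orth_right Q hp'U hw₁, polar_orth_right Q hpU hw₁,
      hbw₁, polar_orth_left Q hu hbW]
    simp only [smul_eq_mul, mul_zero, add_zero, mul_one, zero_add]
    module
  obtain ⟨s, hs⟩ := (IsNoetherian.noetherian (U ⊔ Submodule.span F {w₁}) :
    (U ⊔ Submodule.span F {w₁}).FG)
  have hdec : ∀ x ∈ Submodule.span F (s : Set (ι → F)), ∃ u ∈ U, ∃ t : F, x = u + t • w₁ := by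
    intro x hx
    rw [hs] at hx
    obtain ⟨u, hu, v, hv, rfl⟩ := Submodule.mem_sup.mp hx
    obtain ⟨t, rfl⟩ := Submodule.mem_span_singleton.mp hv
    exact ⟨u, hu, t, rfl⟩
  have hiso : ∀ x ∈ Submodule.span F (s : Set (ι → F)), Q (f x) = Q x := by
    intro x hx
    obtain ⟨u, hu, t, rfl⟩ := hdec x hx
    rw [hfut u hu t, QuadraticMap.map_add (⇑Q), QuadraticMap.map_add (⇑Q) u,
      QuadraticMap.map_smul, QuadraticMap.map_smul, polar_smul_right, polar_smul_right,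
      polar_orth_right Q (hτU u hu) hw₂, polar_orth_right Q hu hw₁, hQτ, hQw]
  have hinj : ∀ x ∈ Submodule.span F (s : Set (ι → F)), f x = 0 → x = 0 := by
    intro x hx h0
    obtain ⟨u, hu, t, rfl⟩ := hdec x hx
    rw [hfut u hu t] at h0
    have h1 : τ u = -(t • w₂) := eq_neg_of_add_eq_zero_left h0
    have h2 : τ u = 0 := by
      apply eq_zero_of_mem_both Q hU (hτU u hu)
      rw [h1]
      exact (orth Q U).neg_mem ((orth Q U).smul_mem _ hw₂)
    have h3 : t = 0 := by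
      rw [h2, zero_add] at h0
      rcases smul_eq_zero.mp h0 with h | h
      · exact h
      · exact absurd h hw₂0
    have h4 : polar (⇑Q) p (τ u) = c⁻¹ * polar (⇑Q) p u := by
      rw [hτx, polar_add_right, polar_add_right, polar_smul_right, polar_smul_right, hppz, hpp']
      simp only [smul_eq_mul, mul_zero, add_zero, mul_one]
      ring
    have h5 : polar (⇑Q) p' (τ u) = c * polar (⇑Q) p' u := by
      rw [hτx, polar_add_right, polar_add_right, polar_smul_right, polar_smul_right, hp'p,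
        hp'p'z]
      simp only [smul_eq_mul, mul_zero, add_zero, mul_one]
      ring
    rw [h2, polar_zero_right] at h4 h5
    have h6 : polar (⇑Q) p u = 0 := by
      rcases mul_eq_zero.mp h4.symm with h | h
      · exact absurd h (inv_ne_zero hc)
      · exact h
    have h7' : polar (⇑Q) p' u = 0 := by
      rcases mul_eq_zero.mp h5.symm with h | h
      · exact absurd h hc
      · exact h
    have h8 : τ u = u := by
      rw [hτx, h6, h7']
      simp
    rw [h3, zero_smul, add_zero, ← h8, h2]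
  obtain ⟨e, he, hes⟩ := Cfsg.Agent.Lib.Helper19.WittQuad.main Q hQ s f hiso hinj
  have humem : ∀ u ∈ U, u ∈ Submodule.span F (s : Set (ι → F)) := by
    intro u hu
    rw [hs]
    exact Submodule.mem_sup_left hu
  have hwmem : w₁ ∈ Submodule.span F (s : Set (ι → F)) := by
    rw [hs]
    exact Submodule.mem_sup_right (Submodule.mem_span_singleton_self w₁)
  have hfu : ∀ u ∈ U, f u = τ u := by
    intro u hu
    have := hfut u hu 0
    rwa [zero_smul, add_zero, zero_smul, add_zero] at this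
  have hfw : f w₁ = w₂ := by
    have h0 : τ 0 = 0 := by rw [hτx]; simp
    have := hfut 0 U.zero_mem 1
    rwa [one_smul, zero_add, one_smul, h0, zero_add] at this
  have hτp : τ p = c • p := by
    rw [hτx, hp'p, hppz]
    simp only [mul_one, mul_zero, zero_smul, add_zero]
    module
  obtain ⟨P, hP⟩ : ∃ P : ↥(Cfsg.isometryGroup F ⇑Q) → Prop,
      P = fun g => (∀ u ∈ U, act g u ∈ U) ∧ act g p = c • p ∧ act g w₁ = w₂ := ⟨_, rfl⟩
  have hg₀ : P (ofEquiv (⇑Q) e he) := by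
    rw [hP]
    refine ⟨fun u hu => ?_, ?_, ?_⟩
    · rw [act_ofEquiv, hes u (humem u hu), hfu u hu]
      exact hτU u hu
    · rw [act_ofEquiv, hes p (humem p hpU), hfu p hpU, hτp]
    · rw [act_ofEquiv, hes w₁ hwmem, hfw]
  obtain ⟨e₁, he₁U, f₁, hf₁U, hQe₁, hQf₁, hef₁, hpe₁, hpf₁, hp'e₁, hp'f₁⟩ :=
    exists_hyp_pair_in_orth Q hQ hU (by omega) hpU hp'U hQp hpp'
  have hQz₁ : Q (e₁ + f₁) = 1 := by
    rw [QuadraticMap.map_add (⇑Q), hQe₁, hQf₁, hef₁]; ring
  have hz₁ : Q (e₁ + f₁) ≠ 0 := by rw [hQz₁]; exact one_ne_zero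
  have hz₁U : e₁ + f₁ ∈ U := U.add_mem he₁U hf₁U
  have hz₁p : polar (⇑Q) (e₁ + f₁) p = 0 := by
    rw [polar_comm, polar_add_right, hpe₁, hpf₁, add_zero]
  have hs₁ : ∀ g, P g → P (refl Q (e₁ + f₁) hz₁ * g) := by
    intro g hg
    rw [hP] at hg ⊢
    exact refl_preserves Q _ hz₁ hz₁U hz₁p hw₂ g hg
  by_cases h2 : (2 : F) = 0
  · obtain ⟨h, hhΩ, hh⟩ := exists_mem_Omega_of_stab_c2 h2 Q hQ (Or.inr (by omega)) P _ hg₀
      (refl Q (e₁ + f₁) hz₁) hs₁ (dicksonChar_refl h2 Q hQ _ hz₁)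
    rw [hP] at hh
    exact ⟨h, hhΩ, hh⟩
  · obtain ⟨ν, hν⟩ := FiniteField.exists_nonsquare (ringChar_ne_two h2) (F := F)
    have hν0 : ν ≠ 0 := by
      rintro rfl
      exact hν ⟨0, by ring⟩
    have hQz₂ : Q (e₁ + ν • f₁) = ν := by
      rw [QuadraticMap.map_add (⇑Q), hQe₁, QuadraticMap.map_smul, hQf₁, polar_smul_right, hef₁]
      simp
    have hz₂ : Q (e₁ + ν • f₁) ≠ 0 := by rw [hQz₂]; exact hν0
    have hz₂U : e₁ + ν • f₁ ∈ U := U.add_mem he₁U (U.smul_mem _ hf₁U)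
    have hz₂p : polar (⇑Q) (e₁ + ν • f₁) p = 0 := by
      rw [polar_comm, polar_add_right, polar_smul_right, hpe₁, hpf₁, smul_zero, add_zero]
    have hs₂ : ∀ g, P g → P (refl Q (e₁ + f₁) hz₁ * refl Q (e₁ + ν • f₁) hz₂ * g) := by
      intro g hg
      rw [mul_assoc]
      apply hs₁
      rw [hP] at hg ⊢
      exact refl_preserves Q _ hz₂ hz₂U hz₂p hw₂ g hg
    obtain ⟨h, hhΩ, hh⟩ := exists_mem_Omega_of_stab_odd h2 Q hQ (by omega) P _ hg₀
      (refl Q (e₁ + f₁) hz₁) (refl Q (e₁ + f₁) hz₁ * refl Q (e₁ + ν • f₁) hz₂) hs₁ hs₂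
      (detHom_refl Q _ hz₁) (by rw [map_mul, detHom_refl, detHom_refl]; simp)
      (by
        rw [map_mul, chi_refl h2 Q 1 one_ne_zero, chi_refl h2 Q 1 one_ne_zero, hQz₁, hQz₂,
          one_mul, one_mul, if_pos ⟨1, by ring⟩, if_neg hν]
        rfl)
    rw [hP] at hh
    exact ⟨h, hhΩ, hh⟩

end partC

end Cfsg.Agent.Lib.Helper27.OrthNdeg
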