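import Mathlib
import Cfsg.Prelude.Def_GeometricClasses
import Cfsg.Agent.Lib.Helper27.OrthNdeg3

set_option autoImplicit false

/-!
Irreducibility: a non-zero subspace of a non-degenerate space closed under passing to vectors of
equal norm is the whole space (apart from small exceptions).
-/

namespace Cfsg.Agent.Lib.Helper27.OrthNdeg

open Cfsg Matrix QuadraticMap Module
open Cfsg.Agent.Lib.Helper19.OrthRefl Cfsg.Agent.Lib.Helper27.OrthPlane
open Cfsg.Agent.Lib.Helper19.Parity Cfsg.Agent.Lib.Helper27.OrthParab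

variable {F : Type*} [Field F] [Fintype F] {ι : Type} [Fintype ι] [DecidableEq ι]

section irr

variable (Q : QuadraticForm F (ι → F)) (hQ : (polarBilin Q).Nondegenerate)
  {W C : Submodule F (ι → F)}

omit [Fintype F] in
theorem irr_of_singular (hW : Nondeg Q W) (hCW : C ≤ W)
    (hC : ∀ w₁ ∈ C, w₁ ≠ 0 → ∀ w₂ ∈ W, w₂ ≠ 0 → Q w₁ = Q w₂ → w₂ ∈ C)
    {s : ι → F} (hs : s ∈ C) (hs0 : s ≠ 0) (hQs : Q s = 0) : W ≤ C := by
  obtain ⟨s', hs'W, hQs', hss'⟩ := exists_partner_in Q hW (hCW hs) hs0 hQs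
  have hs'0 : s' ≠ 0 := by
    rintro rfl
    rw [polar_zero_right] at hss'
    exact zero_ne_one hss'
  have hs's : polar (⇑Q) s' s = 1 := by rw [polar_comm]; exact hss'
  have hssz : polar (⇑Q) s s = 0 := polar_self_of_singular Q hQs
  have hs's'z : polar (⇑Q) s' s' = 0 := polar_self_of_singular Q hQs'
  have hs'C : s' ∈ C := hC s hs hs0 s' hs'W hs'0 (by rw [hQs, hQs'])
  intro y hy
  obtain ⟨y', hy'⟩ : ∃ y', y' = y - polar (⇑Q) s' y • s - polar (⇑Q) s y • s' := ⟨_, rfl⟩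
  have hy'W : y' ∈ W := by
    rw [hy']
    exact W.sub_mem (W.sub_mem hy (W.smul_mem _ (hCW hs))) (W.smul_mem _ hs'W)
  have hsy' : polar (⇑Q) s y' = 0 := by
    rw [hy', polar_sub_right, polar_sub_right, polar_smul_right, polar_smul_right, hssz, hss']
    simp
  have hs'y' : polar (⇑Q) s' y' = 0 := by
    rw [hy', polar_sub_right, polar_sub_right, polar_smul_right, polar_smul_right, hs's, hs's'z]
    simp
  have hv : s' - Q y' • s + y' ∈ C := by
    apply hC s hs hs0 _ (W.add_mem (W.sub_mem hs'W (W.smul_mem _ (hCW hs))) hy'W)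
    · intro h0
      have := congrArg (fun v => polar (⇑Q) s v) h0
      simp only [polar_add_right, polar_sub_right, polar_smul_right, hss', hsy', hssz,
        polar_zero_right] at this
      simp at this
    · rw [hQs, Q_add', Q_sub', QuadraticMap.map_smul, hQs', hQs, polar_sub_left, polar_smul_left,
        hs'y', hsy', polar_smul_right, hs's]
      simp
  have hy'C : y' ∈ C := by
    have : y' = (s' - Q y' • s + y') - s' + Q y' • s := by abel
    rw [this]
    exact C.add_mem (C.sub_mem hv hs'C) (C.smul_mem _ hs)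
  have : y = y' + polar (⇑Q) s' y • s + polar (⇑Q) s y • s' := by rw [hy']; abel
  rw [this]
  exact C.add_mem (C.add_mem hy'C (C.smul_mem _ hs)) (C.smul_mem _ hs'C)

omit [Fintype F] in
theorem irr_of_singular_orth (hW : Nondeg Q W) (hCW : C ≤ W)
    (hC : ∀ w₁ ∈ C, w₁ ≠ 0 → ∀ w₂ ∈ W, w₂ ≠ 0 → Q w₁ = Q w₂ → w₂ ∈ C)
    {c₀ : ι → F} (hc₀ : c₀ ∈ C) (hc₀0 : c₀ ≠ 0) {s : ι → F} (hsW : s ∈ W) (hs0 : s ≠ 0)
    (hQs : Q s = 0) (hcs : polar (⇑Q) c₀ s = 0) : W ≤ C := by
  by_cases hQc : Q c₀ = 0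
  · exact irr_of_singular Q hW hCW hC hc₀ hc₀0 hQc
  · have hQcs : Q (c₀ + s) = Q c₀ := by rw [Q_add', hQs, hcs, add_zero, add_zero]
    have hcs0 : c₀ + s ≠ 0 := by
      intro h
      rw [h, QuadraticMap.map_zero] at hQcs
      exact hQc hQcs.symm
    have h1 : c₀ + s ∈ C := hC c₀ hc₀ hc₀0 _ (W.add_mem (hCW hc₀) hsW) hcs0 hQcs.symm
    have h2 : s ∈ C := by
      have : s = (c₀ + s) - c₀ := by abel
      rw [this]
      exact C.sub_mem h1 hc₀
    exact irr_of_singular Q hW hCW hC h2 hs0 hQs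

omit [Fintype F] in
theorem mem_of_refl (hW : Nondeg Q W) (hCW : C ≤ W)
    (hC : ∀ w₁ ∈ C, w₁ ≠ 0 → ∀ w₂ ∈ W, w₂ ≠ 0 → Q w₁ = Q w₂ → w₂ ∈ C)
    {c₀ : ι → F} (hc₀ : c₀ ∈ C) (hc₀0 : c₀ ≠ 0) {v : ι → F} (hvW : v ∈ W) (hQv : Q v ≠ 0)
    (hvc : polar (⇑Q) v c₀ ≠ 0) : v ∈ C := by
  by_cases hQc : Q c₀ = 0
  · exact irr_of_singular Q hW hCW hC hc₀ hc₀0 hQc hvW
  obtain ⟨t, ht⟩ : ∃ t, t = polar (⇑Q) v c₀ / Q v := ⟨_, rfl⟩
  have ht0 : t ≠ 0 := by rw [ht]; exact div_ne_zero hvc hQv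
  have hQr : Q (c₀ - t • v) = Q c₀ := by
    rw [Q_sub', QuadraticMap.map_smul, polar_smul_right, polar_comm (⇑Q) c₀ v, ht]
    simp only [smul_eq_mul]
    field_simp
    ring
  have hr0 : c₀ - t • v ≠ 0 := by
    intro h
    rw [h, QuadraticMap.map_zero] at hQr
    exact hQc hQr.symm
  have hrC : c₀ - t • v ∈ C :=
    hC c₀ hc₀ hc₀0 _ (W.sub_mem (hCW hc₀) (W.smul_mem _ hvW)) hr0 hQr.symm
  have h1 : t • v ∈ C := by
    have : t • v = c₀ - (c₀ - t • v) := by abel
    rw [this]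
    exact C.sub_mem hc₀ hrC
  have := C.smul_mem t⁻¹ h1
  rwa [smul_smul, inv_mul_cancel₀ ht0, one_smul] at this

omit [Fintype F] [Fintype ι] [DecidableEq ι] in
theorem exists_ne_zero_of_finrank_pos {S : Submodule F (ι → F)} (h : 0 < finrank F S) :
    ∃ z ∈ S, z ≠ 0 := by
  apply Submodule.exists_mem_ne_zero_of_ne_bot
  intro hS
  rw [hS, finrank_bot] at h
  exact lt_irrefl 0 h

omit [Fintype ι] [DecidableEq ι] in
/-- In a field with at least four elements, a quadratic and a linear condition can be avoided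
simultaneously. -/
theorem exists_avoid (h4 : 4 ≤ Fintype.card F) (a β γ : F) (hβ : β ≠ 0) (hγ : γ ≠ 0) :
    ∃ x : F, a + β * x + γ * x ^ 2 ≠ 0 ∧ β + 2 * γ * x ≠ 0 := by
  classical
  obtain ⟨f, hf⟩ : ∃ f : Polynomial F, f = (Polynomial.C a + Polynomial.C β * Polynomial.X +
      Polynomial.C γ * Polynomial.X ^ 2) * (Polynomial.C β + Polynomial.C (2 * γ) * Polynomial.X) :=
    ⟨_, rfl⟩
  have h1 : (Polynomial.C a + Polynomial.C β * Polynomial.X +
      Polynomial.C γ * Polynomial.X ^ 2 : Polynomial F) ≠ 0 := by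
    intro h
    have := congrArg (fun p => Polynomial.coeff p 2) h
    simp [Polynomial.coeff_X, Polynomial.coeff_C] at this
    exact hγ this
  have h2 : (Polynomial.C β + Polynomial.C (2 * γ) * Polynomial.X : Polynomial F) ≠ 0 := by
    intro h
    have := congrArg (fun p => Polynomial.coeff p 0) h
    simp at this
    exact hβ this
  have hf0 : f ≠ 0 := by rw [hf]; exact mul_ne_zero h1 h2
  have hdeg : f.natDegree ≤ 3 := by
    rw [hf]
    compute_degree
  have hfR : (f.natDegree : Cardinal) < Cardinal.mk F := by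
    rw [Cardinal.mk_fintype]
    exact_mod_cast lt_of_le_of_lt hdeg (by omega)
  obtain ⟨x, hx⟩ := Polynomial.exists_eval_ne_zero_of_natDegree_lt_card f hf0 hfR
  refine ⟨x, ?_, ?_⟩
  · intro h
    apply hx
    rw [hf, Polynomial.eval_mul]
    simp only [Polynomial.eval_add, Polynomial.eval_mul, Polynomial.eval_C, Polynomial.eval_X,
      Polynomial.eval_pow]
    rw [h, zero_mul]
  · intro h
    apply hx
    rw [hf, Polynomial.eval_mul]
    simp only [Polynomial.eval_add, Polynomial.eval_mul, Polynomial.eval_C, Polynomial.eval_X,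
      Polynomial.eval_pow]
    rw [h, mul_zero]

theorem irr_dim_two (hW : Nondeg Q W) (hCW : C ≤ W)
    (hC : ∀ w₁ ∈ C, w₁ ≠ 0 → ∀ w₂ ∈ W, w₂ ≠ 0 → Q w₁ = Q w₂ → w₂ ∈ C)
    (h2 : finrank F W = 2)
    (hirr2 : (∃ s ∈ W, s ≠ 0 ∧ Q s = 0) → 4 ≤ Fintype.card F)
    {c₀ : ι → F} (hc₀ : c₀ ∈ C) (hc₀0 : c₀ ≠ 0) (hQc : Q c₀ ≠ 0) : W ≤ C := by
  obtain ⟨v, hvW, hcv⟩ := hW.exists_polar_ne (hCW hc₀) hc₀0
  have hlt : Submodule.span F {c₀} < W := by
    refine lt_of_le_of_ne ((Submodule.span_singleton_le_iff_mem c₀ W).mpr (hCW hc₀)) ?_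
    intro h
    have := finrank_span_singleton (K := F) hc₀0
    rw [h, h2] at this
    omega
  obtain ⟨u, huW, hu⟩ := SetLike.exists_of_lt hlt
  have hex : ∃ v₀ ∈ W, v₀ ∉ Submodule.span F {c₀} ∧ polar (⇑Q) v₀ c₀ ≠ 0 := by
    by_cases hv : v ∈ Submodule.span F {c₀}
    · by_cases huc : polar (⇑Q) u c₀ = 0
      · refine ⟨u + v, W.add_mem huW hvW, ?_, ?_⟩
        · intro h
          apply hu
          have := Submodule.sub_mem _ h hv
          rwa [add_sub_cancel_right] at this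
        · rw [polar_add_left, huc, zero_add, polar_comm]
          exact hcv
      · exact ⟨u, huW, hu, huc⟩
    · exact ⟨v, hvW, hv, by rw [polar_comm]; exact hcv⟩
  obtain ⟨v₀, hv₀W, hv₀, hβ⟩ := hex
  have hv₀0 : v₀ ≠ 0 := by
    rintro rfl
    exact hv₀ (Submodule.zero_mem _)
  have hex2 : ∃ x : F, Q (v₀ + x • c₀) ≠ 0 ∧ polar (⇑Q) (v₀ + x • c₀) c₀ ≠ 0 := by
    by_cases han : ∃ s ∈ W, s ≠ 0 ∧ Q s = 0
    · obtain ⟨x, hx1, hx2⟩ := exists_avoid (hirr2 han) (Q v₀) (polar (⇑Q) v₀ c₀) (Q c₀) hβ hQc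
      refine ⟨x, ?_, ?_⟩
      · rw [Q_add', QuadraticMap.map_smul, polar_smul_right]
        intro h
        apply hx1
        rw [← h]
        simp only [smul_eq_mul]
        ring
      · rw [polar_add_left, polar_smul_left, polar_self']
        intro h
        apply hx2
        rw [← h]
        simp only [smul_eq_mul]
        ring
    · push Not at han
      refine ⟨0, ?_, ?_⟩
      · rw [zero_smul, add_zero]
        exact fun h => han v₀ hv₀W hv₀0 h
      · rw [zero_smul, add_zero]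
        exact hβ
  obtain ⟨x, hx1, hx2⟩ := hex2
  have hvx : v₀ + x • c₀ ∈ C :=
    mem_of_refl Q hW hCW hC hc₀ hc₀0 (W.add_mem hv₀W (W.smul_mem _ (hCW hc₀))) hx1 hx2
  have hv₀C : v₀ ∈ C := by
    have : v₀ = (v₀ + x • c₀) - x • c₀ := by abel
    rw [this]
    exact C.sub_mem hvx (C.smul_mem _ hc₀)
  have hlt' : Submodule.span F {c₀} < C := by
    refine lt_of_le_of_ne ((Submodule.span_singleton_le_iff_mem c₀ C).mpr hc₀) ?_
    intro h
    apply hv₀
    rw [h]
    exact hv₀C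
  have h5 := Submodule.finrank_lt_finrank_of_lt hlt'
  rw [finrank_span_singleton hc₀0] at h5
  have h6 : C = W := Submodule.eq_of_le_of_finrank_le hCW (by omega)
  rw [h6]

include hQ in
omit [Fintype F] in
theorem irr_dim_three_odd (hW : Nondeg Q W) (hCW : C ≤ W)
    (hC : ∀ w₁ ∈ C, w₁ ≠ 0 → ∀ w₂ ∈ W, w₂ ≠ 0 → Q w₁ = Q w₂ → w₂ ∈ C)
    (h3 : finrank F W = 3) (h2 : (2 : F) ≠ 0)
    {c₀ : ι → F} (hc₀ : c₀ ∈ C) (hc₀0 : c₀ ≠ 0) (hQc : Q c₀ ≠ 0) : W ≤ C := by
  have good : ∀ y ∈ W, polar (⇑Q) c₀ y = 0 → Q y ≠ -Q c₀ → y ∈ C := by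
    intro y hy hcy hg
    have hv : c₀ + y ∈ C := by
      apply mem_of_refl Q hW hCW hC hc₀ hc₀0 (W.add_mem (hCW hc₀) hy)
      · rw [Q_add', hcy, add_zero]
        intro h
        apply hg
        linear_combination h
      · rw [polar_add_left, polar_self', polar_comm (⇑Q) y c₀, hcy, add_zero]
        exact mul_ne_zero h2 hQc
    have : y = (c₀ + y) - c₀ := by abel
    rw [this]
    exact C.sub_mem hv hc₀
  have key : ∀ y ∈ W, polar (⇑Q) c₀ y = 0 → y ∈ C := by
    intro y hy hcy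
    by_cases hg : Q y = -Q c₀
    · have h1 := finrank_inf_orth_ge Q hQ W (plane F c₀ y)
      have h2' := finrank_plane_le (F := F) c₀ y
      obtain ⟨z, hz, hz0⟩ :=
        exists_ne_zero_of_finrank_pos (S := W ⊓ orth Q (plane F c₀ y)) (by omega)
      have hcz : polar (⇑Q) c₀ z = 0 := (mem_orth_plane.1 hz.2).1
      have hyz : polar (⇑Q) y z = 0 := (mem_orth_plane.1 hz.2).2
      by_cases hQz : Q z = 0
      · exact irr_of_singular_orth Q hW hCW hC hc₀ hc₀0 hz.1 hz0 hQz hcz hy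
      · have hp : y + z ∈ C := by
          apply good _ (W.add_mem hy hz.1) (by rw [polar_add_right, hcy, hcz, add_zero])
          rw [Q_add', hyz, add_zero, hg]
          intro h
          apply hQz
          linear_combination h
        have hm : y - z ∈ C := by
          apply good _ (W.sub_mem hy hz.1) (by rw [polar_sub_right, hcy, hcz, sub_zero])
          rw [Q_sub', hyz, sub_zero, hg]
          intro h
          apply hQz
          linear_combination h
        have h2y : (2 : F) • y ∈ C := by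
          have : (2 : F) • y = (y + z) + (y - z) := by rw [two_smul]; abel
          rw [this]
          exact C.add_mem hp hm
        have := C.smul_mem (2 : F)⁻¹ h2y
        rwa [smul_smul, inv_mul_cancel₀ h2, one_smul] at this
    · exact good y hy hcy hg
  intro y hy
  obtain ⟨t, ht⟩ : ∃ t, t = polar (⇑Q) c₀ y / (2 * Q c₀) := ⟨_, rfl⟩
  have : y = (y - t • c₀) + t • c₀ := by abel
  rw [this]
  refine C.add_mem (key _ (W.sub_mem hy (W.smul_mem _ (hCW hc₀))) ?_) (C.smul_mem _ hc₀)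
  rw [polar_sub_right, polar_smul_right, polar_self', smul_eq_mul, ht]
  field_simp
  ring

include hQ in
theorem irr_dim_three_two (hW : Nondeg Q W) (hCW : C ≤ W)
    (hC : ∀ w₁ ∈ C, w₁ ≠ 0 → ∀ w₂ ∈ W, w₂ ≠ 0 → Q w₁ = Q w₂ → w₂ ∈ C)
    (h3 : finrank F W = 3) (h2 : (2 : F) = 0)
    {c₀ : ι → F} (hc₀ : c₀ ∈ C) (hc₀0 : c₀ ≠ 0) (hQc : Q c₀ ≠ 0) : W ≤ C := by
  obtain ⟨v, hvW, hcv⟩ := hW.exists_polar_ne (hCW hc₀) hc₀0
  have h1 := finrank_inf_orth_ge Q hQ W (plane F c₀ v)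
  have h2' := finrank_plane_le (F := F) c₀ v
  obtain ⟨z, hz, hz0⟩ :=
    exists_ne_zero_of_finrank_pos (S := W ⊓ orth Q (plane F c₀ v)) (by omega)
  have hcz : polar (⇑Q) c₀ z = 0 := (mem_orth_plane.1 hz.2).1
  have hvz : polar (⇑Q) v z = 0 := (mem_orth_plane.1 hz.2).2
  by_cases hQz : Q z = 0
  · exact irr_of_singular_orth Q hW hCW hC hc₀ hc₀0 hz.1 hz0 hQz hcz
  · have hchar : ringChar F = 2 := CharP.ringChar_of_prime_eq_zero Nat.prime_two h2
    obtain ⟨x, hx⟩ := FiniteField.isSquare_of_char_two hchar (Q c₀ / Q z)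
    have hQs : Q (c₀ + x • z) = 0 := by
      rw [Q_add', QuadraticMap.map_smul, polar_smul_right, hcz, smul_zero, add_zero, smul_eq_mul,
        ← hx]
      field_simp
      linear_combination Q c₀ * h2
    have hs0 : c₀ + x • z ≠ 0 := by
      intro h
      have := congrArg (fun w => polar (⇑Q) w v) h
      simp only [polar_add_left, polar_smul_left, polar_zero_left] at this
      rw [polar_comm (⇑Q) z v, hvz, smul_zero, add_zero] at this
      exact hcv this
    have hcs : polar (⇑Q) c₀ (c₀ + x • z) = 0 := by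
      rw [polar_add_right, polar_smul_right, hcz, smul_zero, add_zero, polar_self', h2, zero_mul]
    exact irr_of_singular_orth Q hW hCW hC hc₀ hc₀0
      (W.add_mem (hCW hc₀) (W.smul_mem _ hz.1)) hs0 hQs hcs

include hQ in
/-- Irreducibility. -/
theorem irr_main (hW : Nondeg Q W) (hCW : C ≤ W) (hC0 : C ≠ ⊥)
    (hC : ∀ w₁ ∈ C, w₁ ≠ 0 → ∀ w₂ ∈ W, w₂ ≠ 0 → Q w₁ = Q w₂ → w₂ ∈ C)
    (hirr2 : finrank F W = 2 → (∃ s ∈ W, s ≠ 0 ∧ Q s = 0) → 4 ≤ Fintype.card F) : W ≤ C := by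
  obtain ⟨c₀, hc₀, hc₀0⟩ := Submodule.exists_mem_ne_zero_of_ne_bot hC0
  by_cases hQc : Q c₀ = 0
  · exact irr_of_singular Q hW hCW hC hc₀ hc₀0 hQc
  by_cases h4 : 4 ≤ finrank F W
  · have h1 := finrank_inf_orth_ge Q hQ W (Submodule.span F {c₀})
    have h2 := finrank_span_singleton_le (F := F) c₀
    obtain ⟨s, hs, hs0, hQs⟩ := Cfsg.Agent.Lib.Helper19.QuadWitt.exists_singular_of_three (Q := Q)
      (W ⊓ orth Q (Submodule.span F {c₀})) (by omega)
    exact irr_of_singular_orth Q hW hCW hC hc₀ hc₀0 hs.1 hs0 hQs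
      (mem_orth.mp hs.2 c₀ (Submodule.mem_span_singleton_self c₀))
  · have hk : finrank F W = 0 ∨ finrank F W = 1 ∨ finrank F W = 2 ∨ finrank F W = 3 := by omega
    rcases hk with hk | hk | hk | hk
    · exfalso
      have : W = ⊥ := Submodule.finrank_eq_zero.mp hk
      rw [this] at hCW
      exact hc₀0 ((Submodule.mem_bot F).mp (hCW hc₀))
    · have h5 : 0 < finrank F C := by
        rw [Nat.pos_iff_ne_zero]
        intro h
        exact hC0 (Submodule.finrank_eq_zero.mp h)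
      have h6 : C = W := Submodule.eq_of_le_of_finrank_le hCW (by omega)
      rw [h6]
    · exact irr_dim_two Q hW hCW hC hk (hirr2 hk) hc₀ hc₀0 hQc
    · by_cases h2 : (2 : F) = 0
      · exact irr_dim_three_two Q hQ hW hCW hC hk h2 hc₀ hc₀0 hQc
      · exact irr_dim_three_odd Q hQ hW hCW hC hk h2 hc₀ hc₀0 hQc

end irr

end Cfsg.Agent.Lib.Helper27.OrthNdeg
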