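import Mathlib
import Cfsg.Prelude.Def_GeometricClasses
import Cfsg.Agent.Lib.Helper27.OrthNdeg4
import Cfsg.Agent.Lib.Helper27.OrthNdeg5

set_option autoImplicit false

/-!
Maximality in `Ω` of the stabiliser of a non-degenerate subspace.
-/

namespace Cfsg.Agent.Lib.Helper27.OrthNdeg

open Cfsg Matrix QuadraticMap Module
open Cfsg.Agent.Lib.Helper19.OrthRefl Cfsg.Agent.Lib.Helper27.OrthPlane
open Cfsg.Agent.Lib.Helper19.Parity Cfsg.Agent.Lib.Helper27.OrthParab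

variable {F : Type*} [Field F] [Fintype F] {ι : Type} [Fintype ι] [DecidableEq ι]

section final

variable (Q : QuadraticForm F (ι → F)) (hQ : (polarBilin Q).Nondegenerate)
  {U : Submodule F (ι → F)}

/-- Conjugating by the Witt elements of the stabiliser. -/
theorem siegel_closed (hU : Nondeg Q U) (h7 : 7 ≤ finrank F U) (M : Subgroup (GL ι F))
    (hHM : Cfsg.Geo.subspaceStabilizer U ⊓ Cfsg.Geo.omegaGL ⇑Q ≤ M) {p p' : ι → F}
    (hpU : p ∈ U) (hp'U : p' ∈ U) (hQp : Q p = 0) (hQp' : Q p' = 0)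
    (hpp' : polar (⇑Q) p p' = 1) {c : F} (hc : c ≠ 0) {w₁ w₂ : ι → F}
    (hw₁ : w₁ ∈ orth Q U) (hw₂ : w₂ ∈ orth Q U) (hw₁0 : w₁ ≠ 0) (hw₂0 : w₂ ≠ 0)
    (hQw : Q w₁ = Q w₂) (h1 : polar (⇑Q) p w₁ = 0)
    (hM : ((siegel Q hQ p w₁ hQp h1 : ↥(Cfsg.isometryGroup F ⇑Q)) : GL ι F) ∈ M)
    (h2 : polar (⇑Q) p (c • w₂) = 0) :
    ((siegel Q hQ p (c • w₂) hQp h2 : ↥(Cfsg.isometryGroup F ⇑Q)) : GL ι F) ∈ M := by
  obtain ⟨h, hhΩ, hhU, hhp, hhw⟩ :=
    exists_stab_witt Q hQ hU h7 hpU hp'U hQp hQp' hpp' hc hw₁ hw₂ hw₁0 hw₂0 hQw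
  have hhM : (h : GL ι F) ∈ M := hHM ⟨mem_stab_of_maps U h hhU, mem_omegaGL_of_mem_Omega h hhΩ⟩
  have hp1 : Q (act h p) = 0 := (Q_act h p).trans hQp
  have hp2 : polar (⇑Q) (act h p) (act h w₁) = 0 := by rw [polar_act]; exact h1
  have hp3 : Q (c • p) = 0 := by rw [QuadraticMap.map_smul, hQp, smul_zero]
  have hp4 : polar (⇑Q) (c • p) w₂ = 0 := by
    rw [polar_smul_left, ← polar_smul_right]
    exact h2
  have e1 : siegel Q hQ p (c • w₂) hQp h2 = siegel Q hQ (act h p) (act h w₁) hp1 hp2 := by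
    rw [← siegel_smul_left Q hQ p w₂ c hp3 hp4 hQp h2]
    exact siegel_congr Q hQ hp3 hp4 hp1 hp2 hhp.symm hhw.symm
  rw [e1, ← conj_siegel Q hQ p w₁ hQp h1 h hp1 hp2]
  have : (((h * siegel Q hQ p w₁ hQp h1 * h⁻¹ : ↥(Cfsg.isometryGroup F ⇑Q))) : GL ι F) =
      (h : GL ι F) * ((siegel Q hQ p w₁ hQp h1 : ↥(Cfsg.isometryGroup F ⇑Q)) : GL ι F) *
        ((h : GL ι F))⁻¹ := rfl
  rw [this]
  exact mul_mem (mul_mem hhM hM) (inv_mem hhM)

include hQ in
theorem ndeg_maximal (hU : Nondeg Q U) (h7 : 7 ≤ finrank F U) (hW0 : orth Q U ≠ ⊥)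
    (hns : ∀ g : ↥(Cfsg.isometryGroup F ⇑Q), ¬ ∀ u ∈ U, act g u ∈ orth Q U)
    (hirr2 : finrank F (orth Q U) = 2 → (∃ s ∈ orth Q U, s ≠ 0 ∧ Q s = 0) →
      4 ≤ Fintype.card F) :
    Cfsg.Geo.IsMaximalIn (Cfsg.Geo.omegaGL ⇑Q)
      (Cfsg.Geo.subspaceStabilizer U ⊓ Cfsg.Geo.omegaGL ⇑Q) := by
  classical
  have hn : 7 ≤ Fintype.card ι := by have := finrank_le_card U; omega
  have hW := nondeg_orth Q hQ hU
  refine ⟨lt_of_le_of_ne inf_le_right ?_, ?_⟩
  · intro heq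
    obtain ⟨p, hpU, p', hp'U, hQp, hQp', hpp'⟩ := exists_hyp_pair_in Q hU (by omega)
    obtain ⟨w, hwW, hw0⟩ := Submodule.exists_mem_ne_zero_of_ne_bot hW0
    have hpw : polar (⇑Q) p w = 0 := polar_orth_right Q hpU hwW
    have hmem : ((siegel Q hQ p w hQp hpw : ↥(Cfsg.isometryGroup F ⇑Q)) : GL ι F) ∈
        Cfsg.Geo.subspaceStabilizer U ⊓ Cfsg.Geo.omegaGL ⇑Q := by
      rw [heq]
      exact mem_omegaGL_of_mem_Omega _ (siegel_mem_Omega Q hQ (by omega) p w hQp hpw)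
    have h1 : act (siegel Q hQ p w hQp hpw) p' ∈ U := ((mem_stab_iff U _).mp hmem.1 p').mp hp'U
    rw [act_siegel, hpp', polar_orth_left Q hp'U hwW] at h1
    apply hw0
    apply eq_zero_of_mem_both Q hU _ hwW
    have : w = p' - (p' + (0 : F) • p - (1 : F) • w - Q w • (1 : F) • p) - Q w • p := by
      module
    rw [this]
    exact U.sub_mem (U.sub_mem hp'U h1) (U.smul_mem _ hpU)
  · intro M hHM hMΩ
    by_cases hMH : M = Cfsg.Geo.subspaceStabilizer U ⊓ Cfsg.Geo.omegaGL ⇑Q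
    · exact Or.inl hMH
    right
    have hlt : Cfsg.Geo.subspaceStabilizer U ⊓ Cfsg.Geo.omegaGL ⇑Q < M :=
      lt_of_le_of_ne hHM (fun h => hMH h.symm)
    obtain ⟨m, hmM, hmH⟩ := SetLike.exists_of_lt hlt
    obtain ⟨m', hm'Ω, rfl⟩ := Subgroup.mem_map.mp (hMΩ hmM)
    have hgU : ¬ ∀ x ∈ U, act m' x ∈ U := by
      intro h
      exact hmH ⟨mem_stab_of_maps U m' h, hMΩ hmM⟩
    obtain ⟨p, hpU, hp0, hQp, w₀, hw₀W, hw₀0, hpw₀, hsM⟩ :=
      exists_siegel_mixed Q hQ hU h7 M hHM m' hmM hgU (hns m')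
    obtain ⟨p', hp'U, hQp', hpp'⟩ := exists_partner_in Q hU hpU hp0 hQp
    have hpW : ∀ w ∈ orth Q U, polar (⇑Q) p w = 0 := fun w hw => polar_orth_right Q hpU hw
    -- the subspace `C`
    obtain ⟨C, hC⟩ : ∃ C : Submodule F (ι → F), ∀ w, w ∈ C ↔ (w ∈ orth Q U ∧
        ∀ h : polar (⇑Q) p w = 0,
          ((siegel Q hQ p w hQp h : ↥(Cfsg.isometryGroup F ⇑Q)) : GL ι F) ∈ M) := by
      refine ⟨{ carrier := {w | w ∈ orth Q U ∧ ∀ h : polar (⇑Q) p w = 0,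
          ((siegel Q hQ p w hQp h : ↥(Cfsg.isometryGroup F ⇑Q)) : GL ι F) ∈ M}
                add_mem' := ?_
                zero_mem' := ?_
                smul_mem' := ?_ }, fun w => Iff.rfl⟩
      · rintro a b ⟨haW, ha⟩ ⟨hbW, hb⟩
        refine ⟨(orth Q U).add_mem haW hbW, fun h => ?_⟩
        rw [← siegel_mul Q hQ p a b hQp (hpW a haW) (hpW b hbW) h, Subgroup.coe_mul]
        exact mul_mem (ha _) (hb _)
      · refine ⟨(orth Q U).zero_mem, fun h => ?_⟩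
        rw [siegel_zero Q hQ p hQp h]
        exact one_mem M
      · rintro c a ⟨haW, ha⟩
        refine ⟨(orth Q U).smul_mem c haW, fun h => ?_⟩
        by_cases hc : c = 0
        · have e0 : siegel Q hQ p (c • a) hQp h = 1 := by
            rw [siegel_congr Q hQ hQp h hQp (polar_zero_right _ _) rfl
              (show c • a = 0 by rw [hc, zero_smul])]
            exact siegel_zero Q hQ p hQp _
          rw [e0]
          exact one_mem M
        by_cases ha0 : a = 0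
        · have e0 : siegel Q hQ p (c • a) hQp h = 1 := by
            rw [siegel_congr Q hQ hQp h hQp (polar_zero_right _ _) rfl
              (show c • a = 0 by rw [ha0, smul_zero])]
            exact siegel_zero Q hQ p hQp _
          rw [e0]
          exact one_mem M
        exact siegel_closed Q hQ hU h7 M hHM hpU hp'U hQp hQp' hpp' hc haW haW ha0 ha0 rfl
          (hpW a haW) (ha _) h
    have hCW : C ≤ orth Q U := fun w hw => ((hC w).mp hw).1
    have hC0 : C ≠ ⊥ := by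
      intro h
      have : w₀ ∈ C := (hC w₀).mpr ⟨hw₀W, fun _ => hsM⟩
      rw [h] at this
      exact hw₀0 ((Submodule.mem_bot F).mp this)
    have hCn : ∀ w₁ ∈ C, w₁ ≠ 0 → ∀ w₂ ∈ orth Q U, w₂ ≠ 0 → Q w₁ = Q w₂ → w₂ ∈ C := by
      intro w₁ hw₁ hw₁0 w₂ hw₂ hw₂0 hQw
      obtain ⟨hw₁W, hw₁M⟩ := (hC w₁).mp hw₁
      refine (hC w₂).mpr ⟨hw₂, fun h => ?_⟩
      have h' : polar (⇑Q) p ((1 : F) • w₂) = 0 := by rw [one_smul]; exact h
      have := siegel_closed Q hQ hU h7 M hHM hpU hp'U hQp hQp' hpp' one_ne_zero hw₁W hw₂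
        hw₁0 hw₂0 hQw (hpW w₁ hw₁W) (hw₁M _) h'
      rwa [siegel_congr Q hQ hQp h' hQp h rfl (one_smul F w₂)] at this
    have hWC : orth Q U ≤ C := irr_main Q hQ hW hCW hC0 hCn hirr2
    -- `p` is a centre
    have hpC : p ∈ Centers Q hQ M := by
      refine ⟨hQp, fun u hp hpu => ?_⟩
      obtain ⟨u₁, hu₁U, w₁, hw₁W, hdec⟩ := exists_decomp Q hQ hU u
      have hpw₁ : polar (⇑Q) p w₁ = 0 := hpW w₁ hw₁W
      have hpu₁ : polar (⇑Q) p u₁ = 0 := by
        have := hpu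
        rw [hdec, polar_add_right, hpw₁, add_zero] at this
        exact this
      have hsum : polar (⇑Q) p (u₁ + w₁) = 0 := by rw [polar_add_right, hpu₁, hpw₁, add_zero]
      rw [siegel_congr Q hQ hp hpu hQp hsum rfl hdec,
        ← siegel_mul Q hQ p u₁ w₁ hQp hpu₁ hpw₁ hsum, Subgroup.coe_mul]
      exact mul_mem (hHM (siegel_mem_H Q hQ (by omega) hpU hu₁U hQp hpu₁))
        (((hC w₁).mp (hWC hw₁W)).2 hpw₁)
    -- a second centre
    obtain ⟨e, heU, f, hfU, hQe, hQf, hef, hpe, hpf, hp'e, hp'f⟩ :=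
      exists_hyp_pair_in_orth Q hQ hU (by omega) hpU hp'U hQp hpp'
    have hQy : Q (e + f) = 1 := by rw [Q_add', hQe, hQf, hef]; ring
    have hp'y : polar (⇑Q) p' (e + f) = 0 := by rw [polar_add_right, hp'e, hp'f, add_zero]
    have hpy : polar (⇑Q) p (e + f) = 0 := by rw [polar_add_right, hpe, hpf, add_zero]
    have hhM : ((siegel Q hQ p' (e + f) hQp' hp'y : ↥(Cfsg.isometryGroup F ⇑Q)) : GL ι F) ∈ M :=
      hHM (siegel_mem_H Q hQ (by omega) hp'U (U.add_mem heU hfU) hQp' hp'y)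
    have hp2C := centers_act Q hQ M hpC _ hhM
    have hne : polar (⇑Q) p (act (siegel Q hQ p' (e + f) hQp' hp'y) p) ≠ 0 := by
      rw [act_siegel, hQy, polar_comm (⇑Q) p' p, hpp', polar_comm (⇑Q) (e + f) p, hpy]
      simp only [zero_smul, add_zero, one_smul, polar_sub_right, hpy, hpp',
        polar_self_of_singular Q hQp]
      simp
    apply eq_omega_of_centers Q hQ (by omega) M hMΩ
    exact centers_all Q hQ hn M hpC hp2C hne

end final

end Cfsg.Agent.Lib.Helper27.OrthNdeg
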