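import Mathlib
import Cfsg.Prelude.Def_GeometricClasses
import Cfsg.Agent.Lib.Helper27.OrthNdeg6

set_option autoImplicit false

/-!
Maximality in `Ω` of the stabiliser of a non-degenerate subspace: choosing the larger of the
subspace and its complement, and bridging to the vocabulary of the statements.
-/

namespace Cfsg.Agent.Lib.Helper27.OrthNdeg

open Cfsg Matrix QuadraticMap Module
open Cfsg.Agent.Lib.Helper19.OrthRefl Cfsg.Agent.Lib.Helper27.OrthPlane
open Cfsg.Agent.Lib.Helper19.Parity Cfsg.Agent.Lib.Helper27.OrthParab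

variable {F : Type*} [Field F] [Fintype F] {ι : Type} [Fintype ι] [DecidableEq ι]

section wrap

variable (Q : QuadraticForm F (ι → F)) (hQ : (polarBilin Q).Nondegenerate)
  {W : Submodule F (ι → F)}

omit [Fintype F] [Fintype ι] [DecidableEq ι] in
theorem nondeg_of_isNondegenerateOn
    (h : Cfsg.Geo.IsNondegenerateOn (QuadraticMap.polar ⇑Q) W) : Nondeg Q W := by
  unfold Nondeg
  rw [eq_bot_iff]
  rintro x ⟨hxW, hx⟩
  rw [Submodule.mem_bot]
  by_contra hx0
  obtain ⟨⟨y, hyW, hy⟩, _⟩ := h x hxW hx0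
  exact hy (mem_orth.mp hx y hyW)

omit [Fintype F] [Fintype ι] [DecidableEq ι] in
theorem isNondegenerateOn_of_nondeg (h : Nondeg Q W) :
    Cfsg.Geo.IsNondegenerateOn (QuadraticMap.polar ⇑Q) W := by
  intro w hw hw0
  obtain ⟨y, hyW, hy⟩ := h.exists_polar_ne hw hw0
  exact ⟨⟨y, hyW, by rw [polar_comm]; exact hy⟩, ⟨y, hyW, hy⟩⟩

omit [Fintype F] [Fintype ι] [DecidableEq ι] in
theorem isPlusTypeOn_plane {P : Submodule F (ι → F)} (h2 : finrank F P = 2) {s : ι → F}
    (hs : s ∈ P) (hs0 : s ≠ 0) (hQs : Q s = 0) : Cfsg.Geo.IsPlusTypeOn ⇑Q P := by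
  refine ⟨Submodule.span F {s}, (Submodule.span_singleton_le_iff_mem s P).mpr hs, ?_, ?_⟩
  · intro w hw
    obtain ⟨c, rfl⟩ := Submodule.mem_span_singleton.mp hw
    rw [QuadraticMap.map_smul, hQs, smul_zero]
  · rw [finrank_span_singleton hs0, h2]

omit [Fintype F] in
theorem not_maps_of_finrank_lt (g : ↥(Cfsg.isometryGroup F ⇑Q)) {U W' : Submodule F (ι → F)}
    (h : finrank F W' < finrank F U) : ¬ ∀ u ∈ U, act g u ∈ W' := by
  intro hall
  have hle : U.map ((actEquiv (⇑Q) g : (ι → F) ≃ₗ[F] (ι → F)) : (ι → F) →ₗ[F] (ι → F)) ≤ W' := by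
    rintro z hz
    obtain ⟨y, hy, rfl⟩ := Submodule.mem_map.mp hz
    have h3 := hall y hy
    rw [← actEquiv_apply] at h3
    exact h3
  have h5 := Submodule.finrank_mono hle
  rw [LinearEquiv.finrank_map_eq (actEquiv (⇑Q) g)] at h5
  omega

include hQ in
/-- The stabiliser in `Ω` of a non-degenerate subspace, of dimension different from half the
dimension of the space, is maximal (apart from small exceptions). -/
theorem ndeg_maximal_of_dims (hn : 13 ≤ Fintype.card ι) (hW : Nondeg Q W) (hW0 : W ≠ ⊥)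
    (hW1 : W ≠ ⊤) (hdim : 2 * finrank F W ≠ Fintype.card ι)
    (hex : ∀ P : Submodule F (ι → F), (P = W ∨ P = orth Q W) → finrank F P = 2 →
      (∃ s ∈ P, s ≠ 0 ∧ Q s = 0) → 4 ≤ Fintype.card F) :
    Cfsg.Geo.IsMaximalIn (Cfsg.Geo.omegaGL ⇑Q)
      (Cfsg.Geo.subspaceStabilizer W ⊓ Cfsg.Geo.omegaGL ⇑Q) := by
  have hfr : finrank F (ι → F) = Fintype.card ι := Module.finrank_fintype_fun_eq_card F
  have ho : finrank F (orth Q W) = Fintype.card ι - finrank F W := by
    rw [finrank_orth hQ, hfr]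
  have hle : finrank F W ≤ Fintype.card ι := finrank_le_card W
  have hlt : finrank F W < Fintype.card ι := by
    have := Submodule.finrank_lt hW1
    rw [hfr] at this
    exact this
  have hpos : 0 < finrank F W := by
    rw [Nat.pos_iff_ne_zero]
    intro h
    exact hW0 (Submodule.finrank_eq_zero.mp h)
  by_cases hbig : Fintype.card ι < 2 * finrank F W
  · apply ndeg_maximal Q hQ hW (by omega)
    · intro h
      rw [h, finrank_bot] at ho
      omega
    · intro g
      exact not_maps_of_finrank_lt Q g (by omega)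
    · exact hex (orth Q W) (Or.inr rfl)
  · rw [stab_orth_eq Q hQ]
    have hoo : orth Q (orth Q W) = W := orth_orth hQ W
    apply ndeg_maximal Q hQ (nondeg_orth Q hQ hW) (by omega)
    · rw [hoo]; exact hW0
    · intro g
      rw [hoo]
      exact not_maps_of_finrank_lt Q g (by omega)
    · rw [hoo]
      exact hex W (Or.inl rfl)

end wrap

end Cfsg.Agent.Lib.Helper27.OrthNdeg
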