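import Mathlib
import Cfsg.Prelude.Def_GeometricClasses
import Cfsg.Agent.Lib.Helper19.OrthSpinor
import Cfsg.Agent.Lib.Helper27.OrthNdeg7

set_option autoImplicit false

/-!
Anti-isometries of non-degenerate subspaces of even dimension, and the totally singular subspace
of half dimension in the orthogonal sum of two isometric subspaces.
-/

namespace Cfsg.Agent.Lib.Helper27.OrthNdeg

open Cfsg Matrix QuadraticMap Module
open Cfsg.Agent.Lib.Helper19.OrthRefl Cfsg.Agent.Lib.Helper27.OrthPlane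
open Cfsg.Agent.Lib.Helper19.Parity Cfsg.Agent.Lib.Helper27.OrthParab

variable {F : Type*} [Field F] [Fintype F] {ι : Type} [Fintype ι] [DecidableEq ι]

section anti

variable (Q : QuadraticForm F (ι → F)) (hQ : (polarBilin Q).Nondegenerate)
  {U : Submodule F (ι → F)}

omit [Fintype F] in
theorem nondeg_span_singleton (h2 : (2 : F) ≠ 0) {a : ι → F} (ha : Q a ≠ 0) :
    Nondeg Q (Submodule.span F {a}) := by
  unfold Nondeg
  rw [eq_bot_iff]
  rintro x ⟨hx1, hx2⟩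
  rw [Submodule.mem_bot]
  obtain ⟨c, rfl⟩ := Submodule.mem_span_singleton.mp hx1
  have := mem_orth.mp hx2 a (Submodule.mem_span_singleton_self a)
  rw [polar_smul_right, polar_self', smul_eq_mul] at this
  rcases mul_eq_zero.mp this with h | h
  · rw [h, zero_smul]
  · exact absurd h (mul_ne_zero h2 ha)

omit [Fintype F] in
theorem exists_nonsing_in (hU : Nondeg Q U) (hU0 : U ≠ ⊥) : ∃ a ∈ U, Q a ≠ 0 := by
  obtain ⟨u, huU, hu0⟩ := Submodule.exists_mem_ne_zero_of_ne_bot hU0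
  obtain ⟨y, hyU, huy⟩ := hU.exists_polar_ne huU hu0
  by_cases h1 : Q u = 0
  · by_cases h2 : Q y = 0
    · refine ⟨u + y, U.add_mem huU hyU, ?_⟩
      rw [Q_add', h1, h2, zero_add, zero_add]
      exact huy
    · exact ⟨y, hyU, h2⟩
  · exact ⟨u, huU, h1⟩

omit [Fintype F] in
theorem Q_comb_orth {a₁ a₂ : ι → F} (h12 : polar (⇑Q) a₁ a₂ = 0) (x y : F) :
    Q (x • a₁ + y • a₂) = x ^ 2 * Q a₁ + y ^ 2 * Q a₂ := by
  rw [Q_add', QuadraticMap.map_smul, QuadraticMap.map_smul, polar_smul_left, polar_smul_right,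
    h12]
  simp only [smul_eq_mul]
  ring

/-- An anti-isometry of a plane with an orthogonal basis. -/
theorem anti_plane (h2 : (2 : F) ≠ 0) {a₁ a₂ : ι → F} (h12 : polar (⇑Q) a₁ a₂ = 0)
    (hα₁ : Q a₁ ≠ 0) (hα₂ : Q a₂ ≠ 0) :
    ∃ p r d : F, ∀ x y : F,
      Q (x • (p • a₁ + r • a₂) + y • ((d * r) • a₁ + p • a₂)) = -Q (x • a₁ + y • a₂) := by
  have hcard : Fintype.card F % 2 = 1 :=
    FiniteField.odd_card_of_char_ne_two (ringChar_ne_two h2)
  have hf2 : (Polynomial.C (Q a₁) * Polynomial.X ^ 2 + Polynomial.C 0 * Polynomial.X +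
      Polynomial.C (Q a₁)).degree = 2 := Polynomial.degree_quadratic hα₁
  have hg2 : (Polynomial.C (Q a₂) * Polynomial.X ^ 2 + Polynomial.C 0 * Polynomial.X +
      Polynomial.C 0).degree = 2 := Polynomial.degree_quadratic hα₂
  obtain ⟨p, r, hpr⟩ := FiniteField.exists_root_sum_quadratic hf2 hg2 hcard
  simp only [Polynomial.eval_mul, Polynomial.eval_C, Polynomial.eval_pow, Polynomial.eval_X,
    Polynomial.eval_add, zero_mul, add_zero] at hpr
  refine ⟨p, r, -(Q a₂ / Q a₁), fun x y => ?_⟩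
  have e : x • (p • a₁ + r • a₂) + y • ((-(Q a₂ / Q a₁) * r) • a₁ + p • a₂) =
      (x * p + y * (-(Q a₂ / Q a₁) * r)) • a₁ + (x * r + y * p) • a₂ := by module
  rw [e, Q_comb_orth Q h12, Q_comb_orth Q h12]
  field_simp
  linear_combination (x ^ 2 * Q a₁ + y ^ 2 * Q a₂) * hpr

include hQ in
omit [DecidableEq ι] in
/-- Anti-isometries of non-degenerate subspaces of even dimension, odd characteristic. -/
theorem exists_anti_odd (h2 : (2 : F) ≠ 0) : ∀ k : ℕ, ∀ U : Submodule F (ι → F), Nondeg Q U →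
    finrank F U = 2 * k →
    ∃ σ : (ι → F) →ₗ[F] (ι → F), (∀ u ∈ U, σ u ∈ U) ∧ ∀ u ∈ U, Q (σ u) = -Q u := by
  classical
  intro k
  induction k with
  | zero =>
    intro U hU hk
    have hU0 : U = ⊥ := Submodule.finrank_eq_zero.mp (by rw [hk])
    refine ⟨0, fun u _ => by rw [LinearMap.zero_apply]; exact U.zero_mem, fun u hu => ?_⟩
    rw [hU0] at hu
    rw [(Submodule.mem_bot F).mp hu, LinearMap.zero_apply, QuadraticMap.map_zero, neg_zero]
  | succ k ih =>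
    intro U hU hk
    have hU0 : U ≠ ⊥ := by
      intro h
      rw [h, finrank_bot] at hk
      omega
    obtain ⟨a₁, ha₁U, hα₁⟩ := exists_nonsing_in Q hU hU0
    have ha₁0 : a₁ ≠ 0 := by
      rintro rfl
      exact hα₁ (QuadraticMap.map_zero _)
    have hS₁ := nondeg_span_singleton Q h2 hα₁
    have hS₁U : Submodule.span F {a₁} ≤ U := (Submodule.span_singleton_le_iff_mem a₁ U).mpr ha₁U
    have hU₁ := nondeg_inf_orth Q hQ hU hS₁ hS₁U
    have hf₁ := finrank_inf_orth hQ hU hS₁U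
    rw [finrank_span_singleton ha₁0] at hf₁
    have hU₁0 : U ⊓ orth Q (Submodule.span F {a₁}) ≠ ⊥ := by
      intro h
      rw [h, finrank_bot] at hf₁
      omega
    obtain ⟨a₂, ha₂U₁, hα₂⟩ := exists_nonsing_in Q hU₁ hU₁0
    have ha₂0 : a₂ ≠ 0 := by
      rintro rfl
      exact hα₂ (QuadraticMap.map_zero _)
    have hS₂ := nondeg_span_singleton Q h2 hα₂
    have hS₂U₁ : Submodule.span F {a₂} ≤ U ⊓ orth Q (Submodule.span F {a₁}) :=
      (Submodule.span_singleton_le_iff_mem a₂ _).mpr ha₂U₁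
    have hU₂ := nondeg_inf_orth Q hQ hU₁ hS₂ hS₂U₁
    have hf₂ := finrank_inf_orth hQ hU₁ hS₂U₁
    rw [finrank_span_singleton ha₂0] at hf₂
    obtain ⟨σ', hσ'U, hσ'Q⟩ := ih _ hU₂ (by omega)
    have ha₂U : a₂ ∈ U := ha₂U₁.1
    have h12 : polar (⇑Q) a₁ a₂ = 0 :=
      mem_orth.mp ha₂U₁.2 a₁ (Submodule.mem_span_singleton_self a₁)
    have h21 : polar (⇑Q) a₂ a₁ = 0 := by rw [polar_comm]; exact h12
    obtain ⟨p, r, d, hprd⟩ := anti_plane Q h2 h12 hα₁ hα₂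
    obtain ⟨φ₁, hφ₁⟩ : ∃ φ₁ : (ι → F) →ₗ[F] F, φ₁ = (2 * Q a₁)⁻¹ • polarBilin Q a₁ := ⟨_, rfl⟩
    obtain ⟨φ₂, hφ₂⟩ : ∃ φ₂ : (ι → F) →ₗ[F] F, φ₂ = (2 * Q a₂)⁻¹ • polarBilin Q a₂ := ⟨_, rfl⟩
    have hφ₁x : ∀ v, φ₁ v = (2 * Q a₁)⁻¹ * polar (⇑Q) a₁ v := by
      intro v
      rw [hφ₁, LinearMap.smul_apply, polarBilin_apply_apply, smul_eq_mul]
    have hφ₂x : ∀ v, φ₂ v = (2 * Q a₂)⁻¹ * polar (⇑Q) a₂ v := by
      intro v
      rw [hφ₂, LinearMap.smul_apply, polarBilin_apply_apply, smul_eq_mul]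
    obtain ⟨s₁, hs₁⟩ : ∃ s₁, s₁ = p • a₁ + r • a₂ := ⟨_, rfl⟩
    obtain ⟨s₂, hs₂⟩ : ∃ s₂, s₂ = (d * r) • a₁ + p • a₂ := ⟨_, rfl⟩
    have hs₁U : s₁ ∈ U := by rw [hs₁]; exact U.add_mem (U.smul_mem _ ha₁U) (U.smul_mem _ ha₂U)
    have hs₂U : s₂ ∈ U := by rw [hs₂]; exact U.add_mem (U.smul_mem _ ha₁U) (U.smul_mem _ ha₂U)
    obtain ⟨σ, hσ⟩ : ∃ σ : (ι → F) →ₗ[F] (ι → F), σ = LinearMap.smulRight φ₁ s₁ +
        LinearMap.smulRight φ₂ s₂ + σ' ∘ₗ (LinearMap.id - LinearMap.smulRight φ₁ a₁ -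
          LinearMap.smulRight φ₂ a₂) := ⟨_, rfl⟩
    have hσx : ∀ v, σ v = φ₁ v • s₁ + φ₂ v • s₂ + σ' (v - φ₁ v • a₁ - φ₂ v • a₂) := by
      intro v
      rw [hσ]
      simp only [LinearMap.add_apply, LinearMap.smulRight_apply, LinearMap.comp_apply,
        LinearMap.sub_apply, LinearMap.id_apply]
    have h2α₁ : 2 * Q a₁ ≠ 0 := mul_ne_zero h2 hα₁
    have h2α₂ : 2 * Q a₂ ≠ 0 := mul_ne_zero h2 hα₂
    have hu' : ∀ u ∈ U, u - φ₁ u • a₁ - φ₂ u • a₂ ∈
        (U ⊓ orth Q (Submodule.span F {a₁})) ⊓ orth Q (Submodule.span F {a₂}) := by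
      intro u hu
      refine ⟨⟨U.sub_mem (U.sub_mem hu (U.smul_mem _ ha₁U)) (U.smul_mem _ ha₂U), ?_⟩, ?_⟩
      · apply mem_orth_span_singleton
        rw [polar_sub_right, polar_sub_right, polar_smul_right, polar_smul_right, h12,
          polar_self', hφ₁x, smul_eq_mul, smul_eq_mul, mul_zero, sub_zero]
        field_simp
        ring
      · apply mem_orth_span_singleton
        rw [polar_sub_right, polar_sub_right, polar_smul_right, polar_smul_right, h21,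
          polar_self', hφ₂x, smul_eq_mul, smul_eq_mul, mul_zero, sub_zero]
        field_simp
        ring
    have horth : ∀ z ∈ (U ⊓ orth Q (Submodule.span F {a₁})) ⊓ orth Q (Submodule.span F {a₂}),
        polar (⇑Q) a₁ z = 0 ∧ polar (⇑Q) a₂ z = 0 := by
      intro z hz
      exact ⟨mem_orth.mp hz.1.2 a₁ (Submodule.mem_span_singleton_self a₁),
        mem_orth.mp hz.2 a₂ (Submodule.mem_span_singleton_self a₂)⟩
    refine ⟨σ, fun u hu => ?_, fun u hu => ?_⟩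
    · rw [hσx]
      exact U.add_mem (U.add_mem (U.smul_mem _ hs₁U) (U.smul_mem _ hs₂U))
        (hσ'U _ (hu' u hu)).1.1
    · obtain ⟨x, hx⟩ : ∃ x, x = φ₁ u := ⟨_, rfl⟩
      obtain ⟨y, hy⟩ : ∃ y, y = φ₂ u := ⟨_, rfl⟩
      obtain ⟨u', hu'e⟩ : ∃ u', u' = u - φ₁ u • a₁ - φ₂ u • a₂ := ⟨_, rfl⟩
      have hu'm := hu' u hu
      rw [← hu'e] at hu'm
      obtain ⟨hz1, hz2⟩ := horth _ (hσ'U _ hu'm)
      obtain ⟨hw1, hw2⟩ := horth _ hu'm
      have e1 : u = (x • a₁ + y • a₂) + u' := by rw [hu'e, hx, hy]; abel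
      have hu'e2 : u' = u - x • a₁ - y • a₂ := by rw [hu'e, hx, hy]
      rw [hσx, ← hx, ← hy, ← hu'e2, Q_add', hs₁, hs₂, hprd x y, hσ'Q _ hu'm]
      have e2 : polar (⇑Q) (x • (p • a₁ + r • a₂) + y • ((d * r) • a₁ + p • a₂)) (σ' u') = 0 := by
        simp only [polar_add_left, polar_smul_left, hz1, hz2, smul_zero, add_zero]
      have e3 : polar (⇑Q) (x • a₁ + y • a₂) u' = 0 := by
        simp only [polar_add_left, polar_smul_left, hw1, hw2, smul_zero, add_zero]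
      rw [e2, e1, Q_add' Q (x • a₁ + y • a₂) u', e3]
      ring

include hQ in
/-- If an isometry maps a non-degenerate subspace of even dimension `n/2` onto its orthogonal
complement, the form is of plus type. -/
theorem not_maps_orth_of_minus (hU : Nondeg Q U) {k : ℕ} (hk : finrank F U = 2 * k)
    (hn : Fintype.card ι = 2 * finrank F U) (hminus : ¬ Cfsg.Geo.IsPlusTypeOn ⇑Q ⊤)
    (g : ↥(Cfsg.isometryGroup F ⇑Q)) : ¬ ∀ u ∈ U, act g u ∈ orth Q U := by
  classical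
  intro hall
  obtain ⟨σ, hσU, hσQ⟩ : ∃ σ : (ι → F) →ₗ[F] (ι → F), (∀ u ∈ U, σ u ∈ U) ∧
      ∀ u ∈ U, Q (σ u) = -Q u := by
    by_cases h2 : (2 : F) = 0
    · refine ⟨LinearMap.id, fun u hu => hu, fun u _ => ?_⟩
      rw [LinearMap.id_apply]
      linear_combination Q u * h2
    · exact exists_anti_odd Q hQ h2 k U hU hk
  obtain ⟨f, hf⟩ : ∃ f : ↥U →ₗ[F] (ι → F), f = (LinearMap.id +
      ((actEquiv (⇑Q) g : (ι → F) ≃ₗ[F] (ι → F)) : (ι → F) →ₗ[F] (ι → F)) ∘ₗ σ).domRestrict U :=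
    ⟨_, rfl⟩
  have hfx : ∀ u : ↥U, f u = (u : ι → F) + act g (σ (u : ι → F)) := by
    intro u
    rw [hf, LinearMap.domRestrict_apply, LinearMap.add_apply, LinearMap.id_apply,
      LinearMap.comp_apply, LinearEquiv.coe_coe, actEquiv_apply]
  have hinj : Function.Injective f := by
    rw [← LinearMap.ker_eq_bot, LinearMap.ker_eq_bot']
    intro u hu
    rw [hfx] at hu
    have h1 : (u : ι → F) = -act g (σ (u : ι → F)) := eq_neg_of_add_eq_zero_left hu
    have h2 : (u : ι → F) ∈ orth Q U := by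
      rw [h1]
      exact (orth Q U).neg_mem (hall _ (hσU _ u.2))
    exact Subtype.ext (eq_zero_of_mem_both Q hU u.2 h2)
  have hfin := LinearMap.finrank_range_of_inj hinj
  apply hminus
  refine ⟨LinearMap.range f, le_top, ?_, ?_⟩
  · intro w hw
    obtain ⟨u, rfl⟩ := LinearMap.mem_range.mp hw
    rw [hfx]
    show Q ((u : ι → F) + act g (σ (u : ι → F))) = 0
    rw [Q_add', (Q_act g _).trans (hσQ _ u.2),
      polar_orth_right Q u.2 (hall _ (hσU _ u.2))]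
    ring
  · rw [hfin, finrank_top, Module.finrank_fintype_fun_eq_card, hn]

end anti

end Cfsg.Agent.Lib.Helper27.OrthNdeg
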