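import Mathlib
import Cfsg.Prelude.Def_GeometricClasses
import Cfsg.Agent.Lib.Helper27.OrthNdeg7

set_option autoImplicit false

/-!
The stabiliser of an orthogonal decomposition into two non-isometric non-degenerate halves.
-/

namespace Cfsg.Agent.Lib.Helper27.OrthNdeg

open Cfsg Matrix QuadraticMap Module
open Cfsg.Agent.Lib.Helper19.OrthRefl Cfsg.Agent.Lib.Helper27.OrthPlane
open Cfsg.Agent.Lib.Helper19.Parity Cfsg.Agent.Lib.Helper27.OrthParab

variable {F : Type*} [Field F] [Fintype F] {ι : Type} [Fintype ι] [DecidableEq ι]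

section halves

variable (Q : QuadraticForm F (ι → F)) (hQ : (polarBilin Q).Nondegenerate)

omit [Fintype F] in
/-- An isometry mapping `U` into `W`, of the same dimension, makes them isometric. -/
theorem areIsometricFor_of_maps (g : ↥(Cfsg.isometryGroup F ⇑Q)) {U W : Submodule F (ι → F)}
    (hfr : finrank F U = finrank F W) (hall : ∀ u ∈ U, act g u ∈ W) :
    Cfsg.Geo.AreIsometricFor ⇑Q U W := by
  obtain ⟨f, hf⟩ : ∃ f : ↥U →ₗ[F] ↥W, f =
      (((actEquiv (⇑Q) g : (ι → F) ≃ₗ[F] (ι → F)) : (ι → F) →ₗ[F] (ι → F))).restrict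
        (p := U) (q := W) (fun x hx => by
          rw [LinearEquiv.coe_coe, actEquiv_apply]
          exact hall x hx) := ⟨_, rfl⟩
  have hfx : ∀ u : ↥U, ((f u : ↥W) : ι → F) = act g (u : ι → F) := by
    intro u
    rw [hf, LinearMap.restrict_coe_apply, LinearEquiv.coe_coe, actEquiv_apply]
  have hinj : Function.Injective f := by
    rw [← LinearMap.ker_eq_bot, LinearMap.ker_eq_bot']
    intro u hu
    have h1 : act g (u : ι → F) = 0 := by
      rw [← hfx, hu]
      rfl
    apply Subtype.ext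
    by_contra h0
    exact act_ne_zero Q g h0 h1
  refine ⟨LinearMap.linearEquivOfInjective f hinj hfr, fun w => ?_⟩
  rw [LinearMap.linearEquivOfInjective_apply, hfx]
  exact Q_act g _

include hQ in
theorem halves_maximal (D : Fin 2 → Submodule F (ι → F)) {k : ℕ} (hk7 : 7 ≤ k)
    (hn : Fintype.card ι = 2 * k)
    (hD : Cfsg.Geo.IsNondegenerateMDecomposition (QuadraticMap.polar ⇑Q) k D)
    (hni : ¬ Cfsg.Geo.AreIsometricFor ⇑Q (D 0) (D 1)) :
    Cfsg.Geo.IsMaximalIn (Cfsg.Geo.omegaGL ⇑Q)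
      (Cfsg.Geo.decompositionStabilizer D ⊓ Cfsg.Geo.omegaGL ⇑Q) := by
  classical
  have hU : Nondeg Q (D 0) := nondeg_of_isNondegenerateOn Q (hD.nondegenerate 0)
  have hfr0 : finrank F (D 0) = k := hD.decomp.finrank_eq 0
  have hfr1 : finrank F (D 1) = k := hD.decomp.finrank_eq 1
  have hfr : finrank F (ι → F) = Fintype.card ι := Module.finrank_fintype_fun_eq_card F
  have horth : orth Q (D 0) = D 1 := by
    symm
    apply Submodule.eq_of_le_of_finrank_le
    · intro v hv
      rw [mem_orth]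
      intro u hu
      exact hD.orthogonal 0 1 (by decide) u hu v hv
    · rw [finrank_orth hQ, hfr, hfr0, hfr1, hn]
      omega
  have hns : ∀ g : ↥(Cfsg.isometryGroup F ⇑Q), ¬ ∀ u ∈ D 0, act g u ∈ orth Q (D 0) := by
    intro g hall
    rw [horth] at hall
    exact hni (areIsometricFor_of_maps Q g (by rw [hfr0, hfr1]) hall)
  have hact : ∀ (m' : ↥(Cfsg.isometryGroup F ⇑Q)) (x : ι → F),
      Matrix.toLin' ((m' : GL ι F) : Matrix ι ι F) x = act m' x := fun m' x => rfl
  have heq : Cfsg.Geo.decompositionStabilizer D ⊓ Cfsg.Geo.omegaGL ⇑Q =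
      Cfsg.Geo.subspaceStabilizer (D 0) ⊓ Cfsg.Geo.omegaGL ⇑Q := by
    ext m
    constructor
    · rintro ⟨⟨σ, hσ⟩, hmΩ⟩
      refine ⟨?_, hmΩ⟩
      obtain ⟨m', hm'Ω, rfl⟩ := Subgroup.mem_map.mp hmΩ
      have h0 := hσ 0
      have hmaps : ∀ x ∈ D 0, act m' x ∈ D (σ 0) := by
        intro x hx
        rw [← h0]
        exact Submodule.mem_map.mpr ⟨x, hx, hact m' x⟩
      have hcases : σ 0 = 0 ∨ σ 0 = 1 := by
        rcases Fin.exists_fin_two.mp ⟨σ 0, rfl⟩ with h | h
        · exact Or.inl h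
        · exact Or.inr h
      rcases hcases with h | h
      · rw [h] at hmaps
        exact mem_stab_of_maps (D 0) m' hmaps
      · rw [h, ← horth] at hmaps
        exact absurd hmaps (hns m')
    · rintro ⟨hm1, hmΩ⟩
      refine ⟨?_, hmΩ⟩
      obtain ⟨m', hm'Ω, rfl⟩ := Subgroup.mem_map.mp hmΩ
      refine ⟨1, fun i => ?_⟩
      have h0 : ∀ x ∈ D 0, act m' x ∈ D 0 := fun x hx => ((mem_stab_iff (D 0) _).mp hm1 x).mp hx
      have hm2 := stab_orth_le Q hQ m' hm1
      rw [horth] at hm2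
      have h1 : ∀ x ∈ D 1, act m' x ∈ D 1 := fun x hx => ((mem_stab_iff (D 1) _).mp hm2 x).mp hx
      rw [Equiv.Perm.one_apply]
      have e0 := map_eq_of_act_mem m' (D 0) h0
      have e1 := map_eq_of_act_mem m' (D 1) h1
      rcases Fin.exists_fin_two.mp ⟨i, rfl⟩ with h | h
      · rw [h]
        exact e0
      · rw [h]
        exact e1
  rw [heq]
  apply ndeg_maximal Q hQ hU (by omega)
  · rw [horth]
    intro h
    rw [h, finrank_bot] at hfr1
    omega
  · exact hns
  · intro h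
    rw [horth, hfr1] at h
    omega

end halves

end Cfsg.Agent.Lib.Helper27.OrthNdeg
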