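import Mathlib
import Cfsg.Prelude.Def_GeometricClasses
import Cfsg.Agent.Lib.Helper19.OrthWitt
import Cfsg.Agent.Lib.Helper19.OrthPoints
import Cfsg.Agent.Lib.Helper19.Dickson
import Cfsg.Agent.Lib.Helper27.OrthPlane

set_option autoImplicit false

/-!
Non-singular vectors of an orthogonal space in characteristic two: general position lemmas and
the transitivity of `Ω` on pairs of non-singular vectors with given inner product.
-/

namespace Cfsg.Agent.Lib.Helper27.OrthNonsing

open Cfsg Matrix QuadraticMap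
open Cfsg.Agent.Lib.Helper19.OrthRefl Cfsg.Agent.Lib.Helper27.OrthPlane

variable {F : Type*} [Field F] [Fintype F] {ι : Type} [Fintype ι] [DecidableEq ι]

theorem two_eq_zero_of_not_odd (hchar : ¬ Odd (Fintype.card F)) : (2 : F) = 0 := by
  by_contra h2
  apply hchar
  have hne : ringChar F ≠ 2 := by
    intro h
    apply h2
    have := ringChar.Nat.cast_ringChar (R := F)
    rw [h] at this
    exact_mod_cast this
  have := FiniteField.odd_card_of_char_ne_two hne
  exact Nat.odd_iff.mpr this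

theorem exists_sq_eq (h2 : (2 : F) = 0) (a : F) : ∃ s : F, s ^ 2 = a := by
  haveI : CharP F 2 := CharTwo.of_one_ne_zero_of_two_eq_zero one_ne_zero h2
  obtain ⟨s, hs⟩ := FiniteField.isSquare_of_char_two (ringChar.eq F 2) a
  exact ⟨s, by rw [hs]; ring⟩

omit [Fintype F] in
theorem eq_one_of_sq (h2 : (2 : F) = 0) {a : F} (h : a ^ 2 = 1) : a = 1 := by
  have : (a - 1) ^ 2 = 0 := by linear_combination h - (a - 1) * h2
  have := pow_eq_zero_iff (two_ne_zero) |>.mp this
  exact sub_eq_zero.mp this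

omit [Fintype F] in
theorem Q_lin2 (Q : QuadraticForm F (ι → F)) (x y : ι → F) (a b : F) :
    Q (a • x + b • y) = a * a * Q x + b * b * Q y + a * b * polar (⇑Q) x y := by
  rw [QuadraticMap.map_add (⇑Q), QuadraticMap.map_smul, QuadraticMap.map_smul,
    QuadraticMap.polar_smul_left, QuadraticMap.polar_smul_right]
  simp only [smul_eq_mul]
  ring

omit [Fintype F] in
theorem exists_polar_ne (Q : QuadraticForm F (ι → F)) (hQ : (polarBilin Q).Nondegenerate)
    {v : ι → F} (hv : v ≠ 0) : ∃ y, polar (⇑Q) v y ≠ 0 := by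
  by_contra hcon
  push Not at hcon
  exact hv (hQ.1 v (fun w => hcon w))

omit [Fintype F] in
theorem exists_polar_both_ne (Q : QuadraticForm F (ι → F)) (hQ : (polarBilin Q).Nondegenerate)
    {v w : ι → F} (hv : v ≠ 0) (hw : w ≠ 0) :
    ∃ y, polar (⇑Q) v y ≠ 0 ∧ polar (⇑Q) w y ≠ 0 := by
  obtain ⟨y1, hy1⟩ := exists_polar_ne Q hQ hv
  obtain ⟨y2, hy2⟩ := exists_polar_ne Q hQ hw
  by_cases h1 : polar (⇑Q) w y1 = 0
  · by_cases h2 : polar (⇑Q) v y2 = 0
    · refine ⟨y1 + y2, ?_, ?_⟩
      · rw [polar_add_right, h2, add_zero]; exact hy1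
      · rw [polar_add_right, h1, zero_add]; exact hy2
    · exact ⟨y2, h2, hy2⟩
  · exact ⟨y1, hy1, h1⟩

omit [Fintype F] in
theorem exists_dual2 (Q : QuadraticForm F (ι → F)) (hQ : (polarBilin Q).Nondegenerate)
    {v w : ι → F} (hwv : w ∉ Submodule.span F {v}) (hvw : v ∉ Submodule.span F {w}) (c : F) :
    ∃ z, polar (⇑Q) v z = c ∧ polar (⇑Q) w z = c := by
  obtain ⟨b1, hb1v, hb1w⟩ := exists_orth_polar_ne Q hQ v w hwv
  obtain ⟨b2, hb2w, hb2v⟩ := exists_orth_polar_ne Q hQ w v hvw
  refine ⟨(c / polar (⇑Q) b1 w) • b1 + (c / polar (⇑Q) b2 v) • b2, ?_, ?_⟩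
  · rw [polar_add_right, polar_smul_right, polar_smul_right, hb1v, polar_comm (⇑Q) v b2,
      smul_eq_mul, smul_eq_mul, mul_zero, zero_add]
    field_simp
  · rw [polar_add_right, polar_smul_right, polar_smul_right, hb2w, polar_comm (⇑Q) w b1,
      smul_eq_mul, smul_eq_mul, mul_zero, add_zero]
    field_simp

omit [Fintype F] in
/-- A non-singular vector of norm one spans a line meeting the norm-one vectors only in
itself. -/
theorem not_mem_span_of_ne (h2 : (2 : F) = 0) (Q : QuadraticForm F (ι → F)) {v w : ι → F}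
    (hv : Q v = 1) (hw : Q w = 1) (hne : w ≠ v) : w ∉ Submodule.span F {v} := by
  intro h
  obtain ⟨a, rfl⟩ := Submodule.mem_span_singleton.mp h
  rw [QuadraticMap.map_smul, hv, smul_eq_mul, mul_one] at hw
  have ha : a = 1 := eq_one_of_sq h2 (by rw [_root_.sq]; exact hw)
  apply hne
  rw [ha, one_smul]

/-- Connectivity: two norm-one vectors have a common neighbour at any prescribed inner
product. -/
theorem exists_common_neighbour (h2 : (2 : F) = 0) (Q : QuadraticForm F (ι → F))
    (hQ : (polarBilin Q).Nondegenerate) (hn : 7 ≤ Fintype.card ι) {v w : ι → F}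
    (hv : Q v = 1) (hw : Q w = 1) (c : F) :
    ∃ z, Q z = 1 ∧ polar (⇑Q) v z = c ∧ polar (⇑Q) w z = c ∧ z ≠ v ∧ z ≠ w := by
  have hv0 : v ≠ 0 := by
    rintro rfl
    rw [QuadraticMap.map_zero] at hv
    exact zero_ne_one hv
  have hw0 : w ≠ 0 := by
    rintro rfl
    rw [QuadraticMap.map_zero] at hw
    exact zero_ne_one hw
  have hvv : polar (⇑Q) v v = 0 := by rw [polar_self', hv, mul_one]; exact h2
  have hww : polar (⇑Q) w w = 0 := by rw [polar_self', hw, mul_one]; exact h2
  by_cases hc : c = 0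
  · subst hc
    obtain ⟨y, hy1, hy2⟩ := exists_polar_both_ne Q hQ hv0 hw0
    obtain ⟨x, hQx, hvx, hwx, hyx⟩ := exists_nonsing_orth_three Q hQ hn v w y
    obtain ⟨s, hs⟩ := exists_sq_eq h2 (Q x)⁻¹
    refine ⟨s • x, ?_, ?_, ?_, ?_, ?_⟩
    · rw [QuadraticMap.map_smul, smul_eq_mul, ← _root_.sq, hs, inv_mul_cancel₀ hQx]
    · rw [polar_smul_right, hvx, smul_zero]
    · rw [polar_smul_right, hwx, smul_zero]
    · intro h
      apply hy1
      rw [← h, polar_smul_left, polar_comm, hyx, smul_zero]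
    · intro h
      apply hy2
      rw [← h, polar_smul_left, polar_comm, hyx, smul_zero]
  · obtain ⟨z0, hz0v, hz0w⟩ : ∃ z0, polar (⇑Q) v z0 = c ∧ polar (⇑Q) w z0 = c := by
      by_cases hwv : w = v
      · subst hwv
        obtain ⟨y, hy⟩ := exists_polar_ne Q hQ hw0
        refine ⟨(c / polar (⇑Q) w y) • y, ?_, ?_⟩ <;>
        · rw [polar_smul_right, smul_eq_mul]
          field_simp
      · exact exists_dual2 Q hQ (not_mem_span_of_ne h2 Q hv hw hwv)
          (not_mem_span_of_ne h2 Q hw hv (fun h => hwv h.symm)) c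
    have hfin : ∀ z, Q z = 1 → polar (⇑Q) v z = c → polar (⇑Q) w z = c →
        ∃ z, Q z = 1 ∧ polar (⇑Q) v z = c ∧ polar (⇑Q) w z = c ∧ z ≠ v ∧ z ≠ w := by
      intro z hz1 hz2 hz3
      refine ⟨z, hz1, hz2, hz3, ?_, ?_⟩
      · rintro rfl
        rw [hvv] at hz2
        exact hc hz2.symm
      · rintro rfl
        rw [hww] at hz3
        exact hc hz3.symm
    by_cases hd : 1 + Q z0 = 0
    · apply hfin z0 _ hz0v hz0w
      linear_combination hd - h2
    · obtain ⟨x, hQx, hvx, hwx, hzx⟩ := exists_nonsing_orth_three Q hQ hn v w z0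
      obtain ⟨s, hs⟩ := exists_sq_eq h2 ((1 + Q z0) / Q x)
      apply hfin (z0 + s • x)
      · rw [QuadraticMap.map_add (⇑Q), QuadraticMap.map_smul, polar_smul_right, hzx, smul_eq_mul,
          smul_zero, add_zero, ← _root_.sq, hs, div_mul_cancel₀ _ hQx]
        linear_combination (Q z0) * h2
      · rw [polar_add_right, polar_smul_right, hvx, smul_zero, add_zero, hz0v]
      · rw [polar_add_right, polar_smul_right, hwx, smul_zero, add_zero, hz0w]

end Cfsg.Agent.Lib.Helper27.OrthNonsing
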