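import Mathlib
import Cfsg.Prelude.Def_GeometricClasses
import Cfsg.Agent.Lib.Helper27.OrthNonsing

set_option autoImplicit false

/-!
Transitivity of `Ω` on pairs of norm-one vectors with given inner product (characteristic two).
-/

namespace Cfsg.Agent.Lib.Helper27.OrthNonsing

open Cfsg Matrix QuadraticMap
open Cfsg.Agent.Lib.Helper19.OrthRefl Cfsg.Agent.Lib.Helper27.OrthPlane

variable {F : Type*} [Field F] [Fintype F] {ι : Type} [Fintype ι] [DecidableEq ι]

/-- An element of `Ω` fixing `v` and mapping `w` to `w'`. -/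
theorem exists_Omega_fix_map (h2 : (2 : F) = 0) (Q : QuadraticForm F (ι → F))
    (hQ : (polarBilin Q).Nondegenerate) (hn : 5 ≤ Fintype.card ι) {v w w' : ι → F}
    (hv : Q v = 1) (hw : Q w = 1) (hw' : Q w' = 1) (hwv : w ≠ v) (hw'v : w' ≠ v)
    (hc : polar (⇑Q) v w = polar (⇑Q) v w') :
    ∃ g ∈ Cfsg.Omega F ⇑Q, act g v = v ∧ act g w = w' := by
  classical
  have hv0 : v ≠ 0 := by
    rintro rfl
    rw [QuadraticMap.map_zero] at hv
    exact zero_ne_one hv
  have hwS : w ∉ Submodule.span F {v} := not_mem_span_of_ne h2 Q hv hw hwv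
  have hw'S : w' ∉ Submodule.span F {v} := not_mem_span_of_ne h2 Q hv hw' hw'v
  obtain ⟨b, hbv, hbw⟩ := exists_orth_polar_ne Q hQ v w hwS
  obtain ⟨f, hf⟩ : ∃ f : (ι → F) →ₗ[F] (ι → F), f = LinearMap.id +
      LinearMap.smulRight (polarBilin Q b) ((polar (⇑Q) b w)⁻¹ • (w' - w)) := ⟨_, rfl⟩
  have hfx : ∀ x, f x = x + polar (⇑Q) b x • ((polar (⇑Q) b w)⁻¹ • (w' - w)) := by
    intro x
    rw [hf, LinearMap.add_apply, LinearMap.id_apply, LinearMap.smulRight_apply,
      polarBilin_apply_apply]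
  have hfv : f v = v := by
    rw [hfx, polar_comm, hbv, zero_smul, add_zero]
  have hfw : f w = w' := by
    rw [hfx, smul_smul, mul_inv_cancel₀ hbw, one_smul]
    abel
  have hspan : ∀ x ∈ Submodule.span F (((({v, w} : Finset (ι → F))) : Set (ι → F))),
      ∃ a c : F, x = a • v + c • w := by
    intro x hx
    rw [Finset.coe_insert, Finset.coe_singleton, Submodule.mem_span_pair] at hx
    obtain ⟨a, c, h⟩ := hx
    exact ⟨a, c, h.symm⟩
  have hfac : ∀ a c : F, f (a • v + c • w) = a • v + c • w' := by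
    intro a c
    rw [map_add, map_smul, map_smul, hfv, hfw]
  have hiso : ∀ x ∈ Submodule.span F (((({v, w} : Finset (ι → F))) : Set (ι → F))),
      Q (f x) = Q x := by
    intro x hx
    obtain ⟨a, c, rfl⟩ := hspan x hx
    rw [hfac, Q_lin2, Q_lin2, hv, hw, hw', hc]
  have hinj : ∀ x ∈ Submodule.span F (((({v, w} : Finset (ι → F))) : Set (ι → F))),
      f x = 0 → x = 0 := by
    intro x hx h0
    obtain ⟨a, c, rfl⟩ := hspan x hx
    rw [hfac] at h0
    have hc0 : c = 0 := by
      by_contra hne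
      apply hw'S
      rw [Submodule.mem_span_singleton]
      refine ⟨-(c⁻¹ * a), ?_⟩
      have : c • w' = -(a • v) := by
        rw [eq_neg_iff_add_eq_zero, add_comm]
        exact h0
      have h3 : w' = c⁻¹ • (c • w') := by rw [smul_smul, inv_mul_cancel₀ hne, one_smul]
      rw [h3, this, smul_neg, smul_smul, neg_smul]
    rw [hc0, zero_smul, add_zero] at h0
    have ha0 : a = 0 := by
      rcases smul_eq_zero.mp h0 with h | h
      · exact h
      · exact absurd h hv0
    rw [ha0, hc0, zero_smul, zero_smul, add_zero]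
  obtain ⟨e, he, hes⟩ := Cfsg.Agent.Lib.Helper19.WittQuad.main Q hQ {v, w} f hiso hinj
  have hvmem : v ∈ Submodule.span F (((({v, w} : Finset (ι → F))) : Set (ι → F))) := by
    apply Submodule.subset_span
    rw [Finset.coe_insert]
    exact Set.mem_insert _ _
  have hwmem : w ∈ Submodule.span F (((({v, w} : Finset (ι → F))) : Set (ι → F))) := by
    apply Submodule.subset_span
    rw [Finset.coe_insert, Finset.coe_singleton]
    exact Set.mem_insert_of_mem _ rfl
  obtain ⟨z, hQz, hvz, hw'z⟩ := exists_nonsing_orth_pair Q hQ hn v w'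
  have hzv : polar (⇑Q) z v = 0 := by rw [polar_comm]; exact hvz
  have hzw' : polar (⇑Q) z w' = 0 := by rw [polar_comm]; exact hw'z
  refine exists_mem_Omega_of_stab_c2 h2 Q hQ (Or.inr (by omega))
    (fun g => act g v = v ∧ act g w = w') (ofEquiv (⇑Q) e he) ⟨?_, ?_⟩ (refl Q z hQz) ?_
    (dicksonChar_refl h2 Q hQ z hQz)
  · rw [act_ofEquiv, hes v hvmem, hfv]
  · rw [act_ofEquiv, hes w hwmem, hfw]
  · rintro g ⟨hg1, hg2⟩
    refine ⟨?_, ?_⟩
    · rw [act_mul, hg1, act_refl_of_polar_eq_zero Q z hQz v hzv]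
    · rw [act_mul, hg2, act_refl_of_polar_eq_zero Q z hQz w' hzw']

end Cfsg.Agent.Lib.Helper27.OrthNonsing
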