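import Mathlib
import Cfsg.Prelude.Def_GeometricClasses
import Cfsg.Agent.Lib.Helper27.OrthNonsing2
import Cfsg.Agent.Lib.Helper27.OrthDecomp8

set_option autoImplicit false

/-!
Maximality in `Ω` of the stabiliser of a non-singular vector (characteristic two).
-/

namespace Cfsg.Agent.Lib.Helper27.OrthNonsing

open Cfsg Matrix QuadraticMap
open Cfsg.Agent.Lib.Helper19.OrthRefl Cfsg.Agent.Lib.Helper27.OrthPlane
open Cfsg.Agent.Lib.Helper27.OrthDecomp

variable {F : Type*} [Field F] [Fintype F] {ι : Type} [Fintype ι] [DecidableEq ι]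

theorem stab_iff (h2 : (2 : F) = 0) (Q : QuadraticForm F (ι → F)) {v : ι → F} (hv : Q v = 1)
    (k : ↥(Cfsg.isometryGroup F ⇑Q)) :
    (k : GL ι F) ∈ Cfsg.Geo.subspaceStabilizer (Submodule.span F {v}) ↔ act k v = v := by
  rw [mem_stab_iff]
  constructor
  · intro h
    by_contra hne
    have hmem : act k v ∈ Submodule.span F {v} :=
      (h v).mp (Submodule.mem_span_singleton_self v)
    exact not_mem_span_of_ne h2 Q hv ((Q_act k v).trans hv) hne hmem
  · intro hkv x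
    have hkinv : act k⁻¹ v = v := by
      have := act_inv_act k v
      rw [hkv] at this
      exact this
    constructor
    · intro hx
      obtain ⟨a, rfl⟩ := Submodule.mem_span_singleton.mp hx
      show act k (a • v) ∈ _
      rw [act_smul, hkv]
      exact Submodule.mem_span_singleton.mpr ⟨a, rfl⟩
    · intro hx
      obtain ⟨a, ha⟩ := Submodule.mem_span_singleton.mp hx
      have hx' : act k x = a • v := ha.symm
      have : x = a • v := by
        rw [← act_inv_act k x, hx', act_smul, hkinv]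
      rw [this]
      exact Submodule.mem_span_singleton.mpr ⟨a, rfl⟩

theorem nonsing_stab_maximal (h2 : (2 : F) = 0) (Q : QuadraticForm F (ι → F))
    (hQ : (polarBilin Q).Nondegenerate) (hn : 7 ≤ Fintype.card ι) {v : ι → F} (hv : Q v = 1) :
    Cfsg.Geo.IsMaximalIn (Cfsg.Geo.omegaGL ⇑Q)
      (Cfsg.Geo.subspaceStabilizer (Submodule.span F {v}) ⊓ Cfsg.Geo.omegaGL ⇑Q) := by
  classical
  have hvv : polar (⇑Q) v v = 0 := by rw [polar_self', hv, mul_one]; exact h2
  have hdouble : ∀ x : ι → F, x + x = 0 := by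
    intro x
    have : x + x = (2 : F) • x := by rw [two_smul]
    rw [this, h2, zero_smul]
  refine ⟨lt_of_le_of_ne inf_le_right ?_, ?_⟩
  · -- properness
    intro heq
    obtain ⟨z, hQz, hvz, -, -, -⟩ := exists_common_neighbour h2 Q hQ hn hv hv 1
    have hzv : polar (⇑Q) z v = 1 := by rw [polar_comm]; exact hvz
    have hvne : Q v ≠ 0 := by rw [hv]; exact one_ne_zero
    have hzne : Q z ≠ 0 := by rw [hQz]; exact one_ne_zero
    have hgΩ : refl Q v hvne * refl Q z hzne ∈ Cfsg.Omega F ⇑Q :=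
      refl_mul_refl_mem_Omega' Q hQ (by omega) _ _ hvne hzne (hv.trans hQz.symm)
    have hgv : act (refl Q v hvne * refl Q z hzne) v = z := by
      rw [act_mul, act_refl_char2 h2 Q z hzne hQz, hzv, one_smul,
        act_refl_char2 h2 Q v hvne hv, polar_add_right, hvv, hvz, zero_add, one_smul]
      rw [add_comm v z, add_assoc, hdouble, add_zero]
    have hmem : ((refl Q v hvne * refl Q z hzne : ↥(Cfsg.isometryGroup F ⇑Q)) : GL ι F) ∈
        Cfsg.Geo.subspaceStabilizer (Submodule.span F {v}) ⊓ Cfsg.Geo.omegaGL ⇑Q := by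
      rw [heq]
      exact mem_omegaGL_of_mem_Omega _ hgΩ
    have := (stab_iff h2 Q hv _).mp hmem.1
    rw [hgv] at this
    rw [this, hvv] at hvz
    exact zero_ne_one hvz
  · intro M hHM hMΩ
    by_cases hMH : M = Cfsg.Geo.subspaceStabilizer (Submodule.span F {v}) ⊓ Cfsg.Geo.omegaGL ⇑Q
    · exact Or.inl hMH
    right
    have hlt : Cfsg.Geo.subspaceStabilizer (Submodule.span F {v}) ⊓ Cfsg.Geo.omegaGL ⇑Q < M :=
      lt_of_le_of_ne hHM (fun h => hMH h.symm)
    obtain ⟨m, hmM, hmH⟩ := SetLike.exists_of_lt hlt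
    obtain ⟨m', hm'Ω, rfl⟩ := Subgroup.mem_map.mp (hMΩ hmM)
    have hm'v : act m' v ≠ v := by
      intro h
      apply hmH
      exact ⟨(stab_iff h2 Q hv m').mpr h, hMΩ hmM⟩
    obtain ⟨w₁, hw₁⟩ : ∃ w₁, w₁ = act m' v := ⟨_, rfl⟩
    have hQw₁ : Q w₁ = 1 := by rw [hw₁]; exact (Q_act m' v).trans hv
    have hw₁v : w₁ ≠ v := by rw [hw₁]; exact hm'v
    obtain ⟨c, hc⟩ : ∃ c, c = polar (⇑Q) v w₁ := ⟨_, rfl⟩
    -- the orbit of `v` under `M`
    have hA : ∀ k : ↥(Cfsg.isometryGroup F ⇑Q), k ∈ Cfsg.Omega F ⇑Q → (k : GL ι F) ∈ M →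
        ∀ z, Q z = 1 → z ≠ act k v → polar (⇑Q) (act k v) z = c →
        ∃ k' : ↥(Cfsg.isometryGroup F ⇑Q), k' ∈ Cfsg.Omega F ⇑Q ∧ (k' : GL ι F) ∈ M ∧
          act k' v = z := by
      intro k hkΩ hkM z hQz hzne hpol
      obtain ⟨z', hz'⟩ : ∃ z', z' = act k⁻¹ z := ⟨_, rfl⟩
      have hkz' : act k z' = z := by rw [hz', act_act_inv]
      have hQz' : Q z' = 1 := by rw [hz']; exact (Q_act k⁻¹ z).trans hQz
      have hz'v : z' ≠ v := by
        intro h
        apply hzne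
        rw [← hkz', h]
      have hpz' : polar (⇑Q) v z' = c := by
        rw [← polar_act k v z', hkz']
        exact hpol
      obtain ⟨h, hhΩ, hhv, hhw⟩ := exists_Omega_fix_map h2 Q hQ (by omega) hv hQw₁ hQz' hw₁v
        hz'v (hc.symm.trans hpz'.symm)
      have hhM : (h : GL ι F) ∈ M :=
        hHM ⟨(stab_iff h2 Q hv h).mpr hhv, mem_omegaGL_of_mem_Omega h hhΩ⟩
      refine ⟨k * h * m', mul_mem (mul_mem hkΩ hhΩ) hm'Ω, ?_, ?_⟩
      · exact mul_mem (mul_mem hkM hhM) hmM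
      · rw [act_mul, act_mul, ← hw₁, hhw, hkz']
    have hB : ∀ z, Q z = 1 → ∃ k' : ↥(Cfsg.isometryGroup F ⇑Q), k' ∈ Cfsg.Omega F ⇑Q ∧
        (k' : GL ι F) ∈ M ∧ act k' v = z := by
      intro z hQz
      obtain ⟨z₁, hQz₁, hvz₁, hzz₁, hz₁v, hz₁z⟩ := exists_common_neighbour h2 Q hQ hn hv hQz c
      obtain ⟨k₁, hk₁Ω, hk₁M, hk₁v⟩ := hA 1 (one_mem _) (one_mem _) z₁ hQz₁
        (by rw [act_one]; exact hz₁v) (by rw [act_one]; exact hvz₁)
      exact hA k₁ hk₁Ω hk₁M z hQz (by rw [hk₁v]; exact fun h => hz₁z h.symm)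
        (by rw [hk₁v, polar_comm]; exact hzz₁)
    apply le_antisymm hMΩ
    intro g hg
    obtain ⟨g', hg'Ω, rfl⟩ := Subgroup.mem_map.mp hg
    obtain ⟨k, hkΩ, hkM, hkv⟩ := hB (act g' v) ((Q_act g' v).trans hv)
    have hfix : act (k⁻¹ * g') v = v := by
      rw [act_mul, ← hkv, act_inv_act]
    have hmem : ((k⁻¹ * g' : ↥(Cfsg.isometryGroup F ⇑Q)) : GL ι F) ∈ M :=
      hHM ⟨(stab_iff h2 Q hv _).mpr hfix,
        mem_omegaGL_of_mem_Omega _ (mul_mem (inv_mem hkΩ) hg'Ω)⟩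
    have : ((isometryGroup F ⇑Q).subtype g' : GL ι F) =
        (k : GL ι F) * ((k⁻¹ * g' : ↥(Cfsg.isometryGroup F ⇑Q)) : GL ι F) := by
      rw [← Subgroup.coe_mul, mul_inv_cancel_left]
      rfl
    rw [this]
    exact mul_mem hkM hmem

end Cfsg.Agent.Lib.Helper27.OrthNonsing
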