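import Mathlib
import Cfsg.Prelude.Def_GeometricClasses
import Cfsg.Agent.Lib.Helper19.OrthSiegel
import Cfsg.Agent.Lib.Helper19.OrthParity
import Cfsg.Agent.Lib.Helper27.OrthPlane

set_option autoImplicit false

/-!
Pairs of complementary totally singular subspaces of odd dimension: the stabiliser of the pair in
`Ω` fixes both members, and is not maximal.
-/

namespace Cfsg.Agent.Lib.Helper27.OrthPair

open Cfsg Matrix QuadraticMap Module
open Cfsg.Agent.Lib.Helper19.OrthRefl Cfsg.Agent.Lib.Helper19.Parity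
open Cfsg.Agent.Lib.Helper27.OrthPlane

variable {F : Type*} [Field F] [Fintype F] {ι : Type} [Fintype ι] [DecidableEq ι]

/-- A matrix mapping `W` onto itself stabilises `W`. -/
theorem mem_stab_of_map_eq (W : Submodule F (ι → F)) (g : GL ι F)
    (h : W.map (Matrix.toLin' (g : Matrix ι ι F)) = W) :
    g ∈ Cfsg.Geo.subspaceStabilizer W := by
  rw [mem_stab_iff]
  intro v
  constructor
  · intro hv
    rw [← h]
    exact ⟨v, hv, by rw [Matrix.toLin'_apply]⟩
  · intro hv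
    rw [← h] at hv
    obtain ⟨v', hv', hvv'⟩ := hv
    rw [Matrix.toLin'_apply] at hvv'
    have h2 : ∀ x : ι → F, x = ((g⁻¹ : GL ι F) : Matrix ι ι F) *ᵥ ((g : Matrix ι ι F) *ᵥ x) := by
      intro x
      rw [Matrix.mulVec_mulVec, ← Units.val_mul, inv_mul_cancel, Units.val_one,
        Matrix.one_mulVec]
    rw [h2 v, ← hvv', ← h2 v']
    exact hv'

/-- Siegel elements with both parameters in a totally singular subspace `A` complementary to a
totally singular subspace `B`: they fix `A` pointwise and move `B`. -/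
theorem exists_siegel_moving (Q : QuadraticForm F (ι → F)) (hQ : (polarBilin Q).Nondegenerate)
    (hn : 5 ≤ Fintype.card ι) (A B : Submodule F (ι → F)) (hA : IsTS Q A) (hB : IsTS Q B)
    (hdisj : A ⊓ B = ⊥) (hsup : A ⊔ B = ⊤) (hA2 : 2 ≤ finrank F A) :
    ∃ g : ↥(Cfsg.isometryGroup F ⇑Q), g ∈ Cfsg.Omega F ⇑Q ∧ (∀ v ∈ A, act g v = v) ∧
      ∃ v ∈ B, act g v ∉ B := by
  -- two independent vectors of A
  obtain ⟨p, hpA, hp0⟩ : ∃ p ∈ A, p ≠ 0 := by
    have : A ≠ ⊥ := by
      intro h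
      rw [h, finrank_bot] at hA2
      omega
    exact Submodule.exists_mem_ne_zero_of_ne_bot this
  obtain ⟨u, huA, hup⟩ : ∃ u ∈ A, u ∉ Submodule.span F {p} := by
    have hlt : Submodule.span F {p} < A := by
      apply lt_of_le_of_ne ((Submodule.span_singleton_le_iff_mem p A).2 hpA)
      intro heq
      rw [← heq, finrank_span_singleton hp0] at hA2
      omega
    obtain ⟨u, hu, hu'⟩ := SetLike.exists_of_lt hlt
    exact ⟨u, hu, hu'⟩
  have hu0 : u ≠ 0 := by
    rintro rfl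
    exact hup (Submodule.zero_mem _)
  have hQp : Q p = 0 := hA p hpA
  have hQu : Q u = 0 := hA u huA
  have hpu : polar (⇑Q) p u = 0 := hA.polar_zero hpA huA
  -- a vector of B not perpendicular to u
  obtain ⟨v, hvB, huv⟩ : ∃ v ∈ B, polar (⇑Q) u v ≠ 0 := by
    have : ∃ y, polar (⇑Q) u y ≠ 0 := by
      by_contra hcon
      push_neg at hcon
      exact hu0 (hQ.1 u (fun y => by simpa using hcon y))
    obtain ⟨y, hy⟩ := this
    have hy' : y ∈ A ⊔ B := by rw [hsup]; exact Submodule.mem_top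
    obtain ⟨y₀, hy₀, y₁, hy₁, rfl⟩ := Submodule.mem_sup.mp hy'
    refine ⟨y₁, hy₁, ?_⟩
    rw [polar_add_right, hA.polar_zero huA hy₀, zero_add] at hy
    exact hy
  refine ⟨siegel Q hQ p u hQp hpu, siegel_mem_Omega Q hQ hn p u hQp hpu, ?_, v, hvB, ?_⟩
  · intro x hx
    rw [act_siegel, hA.polar_zero huA hx, hA.polar_zero hpA hx]
    simp
  · intro hmem
    rw [act_siegel, hQu, zero_smul, sub_zero] at hmem
    have h1 : polar (⇑Q) u v • p - polar (⇑Q) p v • u ∈ B := by
      have h2 : polar (⇑Q) u v • p - polar (⇑Q) p v • u =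
          (v + polar (⇑Q) u v • p - polar (⇑Q) p v • u) - v := by abel
      rw [h2]
      exact B.sub_mem hmem hvB
    have h3 : polar (⇑Q) u v • p - polar (⇑Q) p v • u ∈ A :=
      A.sub_mem (A.smul_mem _ hpA) (A.smul_mem _ huA)
    have h4 : polar (⇑Q) u v • p - polar (⇑Q) p v • u = 0 := by
      have : polar (⇑Q) u v • p - polar (⇑Q) p v • u ∈ A ⊓ B := ⟨h3, h1⟩
      rw [hdisj] at this
      exact (Submodule.mem_bot F).mp this
    by_cases hpv : polar (⇑Q) p v = 0
    · rw [hpv, zero_smul, sub_zero] at h4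
      rcases smul_eq_zero.mp h4 with h5 | h5
      · exact huv h5
      · exact hp0 h5
    · apply hup
      rw [Submodule.mem_span_singleton]
      refine ⟨(polar (⇑Q) p v)⁻¹ * polar (⇑Q) u v, ?_⟩
      rw [← smul_smul, sub_eq_zero.mp h4, smul_smul, inv_mul_cancel₀ hpv, one_smul]

theorem pair_not_max (Q : QuadraticForm F (ι → F)) (hQ : (polarBilin Q).Nondegenerate)
    (hn : 5 ≤ Fintype.card ι) (k : ℕ) (hk : 2 * k = Fintype.card ι) (hko : Odd k)
    (D : Fin 2 → Submodule F (ι → F)) (hD : Cfsg.Geo.IsMDecomposition k D)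
    (hts : ∀ i, Cfsg.Geo.IsTotallySingularQuad ⇑Q (D i)) :
    ∃ K : Subgroup (GL ι F),
      Cfsg.Geo.decompositionStabilizer D ⊓ Cfsg.Geo.omegaGL ⇑Q < K ∧
        K < Cfsg.Geo.omegaGL ⇑Q := by
  classical
  have hV : finrank F (ι → F) = 2 * k := by
    rw [Module.finrank_fintype_fun_eq_card, hk]
  have hk2 : 2 ≤ k := by omega
  have hTS0 : IsTS Q (D 0) := hts 0
  have hTS1 : IsTS Q (D 1) := hts 1
  have hdisj : D 0 ⊓ D 1 = ⊥ := by
    have := hD.indep.pairwiseDisjoint (show (0 : Fin 2) ≠ 1 by decide)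
    exact disjoint_iff.mp this
  have hsup : D 0 ⊔ D 1 = ⊤ := by
    rw [eq_top_iff, ← hD.iSup_eq_top]
    apply iSup_le
    intro i
    fin_cases i
    · exact le_sup_left
    · exact le_sup_right
  have hdisj' : D 1 ⊓ D 0 = ⊥ := by rw [inf_comm]; exact hdisj
  have hsup' : D 1 ⊔ D 0 = ⊤ := by rw [sup_comm]; exact hsup
  have hne : D 0 ≠ D 1 := by
    intro h
    rw [← h, inf_idem] at hdisj
    have := hD.finrank_eq 0
    rw [hdisj, finrank_bot] at this
    omega
  -- the parity character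
  obtain ⟨χ, hχ⟩ : ∃ χ : ↥(Cfsg.isometryGroup F ⇑Q) →* ℤˣ,
      χ = parityChar Q hQ hV (D 0) hTS0 (hD.finrank_eq 0) := ⟨_, rfl⟩
  have hχΩ : ∀ g ∈ Cfsg.Omega F ⇑Q, χ g = 1 := by
    intro g hg
    exact MonoidHom.mem_ker.mp (Abelianization.commutator_subset_ker χ hg)
  -- the stabiliser of the pair inside Ω fixes D 0
  have hle : Cfsg.Geo.decompositionStabilizer D ⊓ Cfsg.Geo.omegaGL ⇑Q ≤
      Cfsg.Geo.subspaceStabilizer (D 0) ⊓ Cfsg.Geo.omegaGL ⇑Q := by
    rintro g ⟨⟨σ, hσ⟩, hg2⟩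
    refine ⟨?_, hg2⟩
    obtain ⟨h, hhΩ, rfl⟩ := Subgroup.mem_map.mp hg2
    have h1 := hχΩ h hhΩ
    rw [hχ, parityChar_eq_one_iff] at h1
    have hσ0 : σ 0 = 0 := by
      by_contra hne0
      have hσ1 : σ 0 = 1 := by
        have : ∀ j : Fin 2, j ≠ 0 → j = 1 := by decide
        exact this _ hne0
      have h2 := hσ 0
      rw [hσ1, Matrix.toLin'_apply'] at h2
      have h3 : ((isometryGroup F ⇑Q).subtype h : GL ι F) = (h : GL ι F) := rfl
      rw [h3] at h2
      rw [h2, hdisj, finrank_bot, Nat.sub_zero] at h1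
      exact (Nat.not_even_iff_odd.mpr hko) h1
    apply mem_stab_of_map_eq
    have := hσ 0
    rw [hσ0] at this
    exact this
  -- a Siegel element fixing D 0 pointwise and moving D 1
  obtain ⟨g₀, hg₀Ω, hg₀fix, v₀, hv₀, hg₀v⟩ := exists_siegel_moving Q hQ hn (D 0) (D 1) hTS0 hTS1
    hdisj hsup (by rw [hD.finrank_eq 0]; exact hk2)
  have hg₀map : (D 0).map (Matrix.toLin' ((g₀ : GL ι F) : Matrix ι ι F)) = D 0 := by
    ext x
    constructor
    · rintro ⟨y, hy, rfl⟩
      rw [Matrix.toLin'_apply]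
      have := hg₀fix y hy
      rw [act_def] at this
      rw [this]
      exact hy
    · intro hx
      refine ⟨x, hx, ?_⟩
      rw [Matrix.toLin'_apply]
      exact hg₀fix x hx
  have hg₀K : (g₀ : GL ι F) ∈ Cfsg.Geo.subspaceStabilizer (D 0) ⊓ Cfsg.Geo.omegaGL ⇑Q :=
    ⟨mem_stab_of_map_eq _ _ hg₀map, mem_omegaGL_of_mem_Omega g₀ hg₀Ω⟩
  have hg₀D : (g₀ : GL ι F) ∉ Cfsg.Geo.decompositionStabilizer D := by
    rintro ⟨σ, hσ⟩
    have hσ0 : σ 0 = 0 := by
      by_contra hne0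
      have hσ1 : σ 0 = 1 := by
        have : ∀ j : Fin 2, j ≠ 0 → j = 1 := by decide
        exact this _ hne0
      have h2 := hσ 0
      rw [hσ1, hg₀map] at h2
      exact hne h2
    have hσ1 : σ 1 = 1 := by
      by_contra hne1
      have : σ 1 = 0 := by
        have : ∀ j : Fin 2, j ≠ 1 → j = 0 := by decide
        exact this _ hne1
      have h3 : σ 1 = σ 0 := by rw [this, hσ0]
      have := σ.injective h3
      exact absurd this (by decide)
    have h2 := hσ 1
    rw [hσ1] at h2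
    apply hg₀v
    rw [← h2]
    exact ⟨v₀, hv₀, by rw [Matrix.toLin'_apply]; rfl⟩
  -- a Siegel element moving D 0
  obtain ⟨g₁, hg₁Ω, _, v₁, hv₁, hg₁v⟩ := exists_siegel_moving Q hQ hn (D 1) (D 0) hTS1 hTS0
    hdisj' hsup' (by rw [hD.finrank_eq 1]; exact hk2)
  have hg₁K : (g₁ : GL ι F) ∉ Cfsg.Geo.subspaceStabilizer (D 0) := by
    intro hmem
    exact hg₁v (((mem_stab_iff _ _).mp hmem v₁).mp hv₁)
  refine ⟨Cfsg.Geo.subspaceStabilizer (D 0) ⊓ Cfsg.Geo.omegaGL ⇑Q, ?_, ?_⟩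
  · refine lt_of_le_of_ne hle ?_
    intro heq
    have := hg₀K
    rw [← heq] at this
    exact hg₀D this.1
  · refine lt_of_le_of_ne inf_le_right ?_
    intro heq
    have := mem_omegaGL_of_mem_Omega g₁ hg₁Ω
    rw [← heq] at this
    exact hg₁K this.1

end Cfsg.Agent.Lib.Helper27.OrthPair
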