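import Mathlib
import Cfsg.Prelude.Def_RootSubgroups

set_option autoImplicit false

/-!
Abstract lemmas on conjugates of subgroups, rank one pairs and passage to `subgroupOf`.
-/

namespace Cfsg.Agent.Lib.Helper27.URoot

open Cfsg

variable {G : Type*} [Group G]

theorem mem_conjBy {A : Subgroup G} {g x : G} : x ∈ conjBy A g ↔ ∃ y ∈ A, g * y * g⁻¹ = x := by
  constructor
  · rintro ⟨y, hy, rfl⟩
    exact ⟨y, hy, rfl⟩
  · rintro ⟨y, hy, rfl⟩
    exact ⟨y, hy, rfl⟩

theorem conjBy_one (A : Subgroup G) : conjBy A 1 = A := by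
  ext x
  rw [mem_conjBy]
  constructor
  · rintro ⟨y, hy, rfl⟩
    simpa using hy
  · intro hx
    exact ⟨x, hx, by simp⟩

theorem conjBy_conjBy (A : Subgroup G) (g h : G) : conjBy (conjBy A g) h = conjBy A (h * g) := by
  ext x
  rw [mem_conjBy, mem_conjBy]
  constructor
  · rintro ⟨y, hy, rfl⟩
    rw [mem_conjBy] at hy
    obtain ⟨z, hz, rfl⟩ := hy
    exact ⟨z, hz, by group⟩
  · rintro ⟨z, hz, rfl⟩
    exact ⟨g * z * g⁻¹, mem_conjBy.mpr ⟨z, hz, rfl⟩, by group⟩

theorem conjBy_eq_self_of_centralizes {A : Subgroup G} {g : G} (hg : ∀ a ∈ A, g * a = a * g) :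
    conjBy A g = A := by
  ext x
  rw [mem_conjBy]
  constructor
  · rintro ⟨y, hy, rfl⟩
    rw [hg y hy, mul_inv_cancel_right]
    exact hy
  · intro hx
    exact ⟨x, hx, by rw [hg x hx, mul_inv_cancel_right]⟩

theorem conjBy_subgroupOf (K A : Subgroup G) (g : K) :
    conjBy (A.subgroupOf K) g = (conjBy A (g : G)).subgroupOf K := by
  ext x
  rw [mem_conjBy, Subgroup.mem_subgroupOf, mem_conjBy]
  constructor
  · rintro ⟨y, hy, rfl⟩
    exact ⟨(y : G), Subgroup.mem_subgroupOf.mp hy, rfl⟩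
  · rintro ⟨y, hy, hyx⟩
    have hyK : y ∈ K := by
      have : y = (g : G)⁻¹ * (x : G) * (g : G) := by
        rw [← hyx]; group
      rw [this]
      exact K.mul_mem (K.mul_mem (K.inv_mem g.2) x.2) g.2
    refine ⟨⟨y, hyK⟩, Subgroup.mem_subgroupOf.mpr hy, ?_⟩
    apply Subtype.ext
    exact hyx

theorem rankOneCondition_subgroupOf {K A B : Subgroup G} (hB : B ≤ K)
    (h : RankOneCondition A B) : RankOneCondition (A.subgroupOf K) (B.subgroupOf K) := by
  intro a ha hne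
  obtain ⟨b, hb, hb1, heq⟩ := h (a : G) (Subgroup.mem_subgroupOf.mp ha)
    (fun h1 => hne (Subtype.ext h1))
  refine ⟨⟨b, hB hb⟩, Subgroup.mem_subgroupOf.mpr hb, fun h1 => hb1 (congrArg Subtype.val h1), ?_⟩
  rw [conjBy_subgroupOf, conjBy_subgroupOf]
  show (conjBy A (b⁻¹)).subgroupOf K = (conjBy B ((a : G)⁻¹)).subgroupOf K
  rw [heq]

theorem isMulCommutative_subgroupOf {K A : Subgroup G} (hA : IsMulCommutative A) :
    IsMulCommutative (A.subgroupOf K) := by
  refine ⟨⟨?_⟩⟩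
  rintro ⟨x, hx⟩ ⟨y, hy⟩
  apply Subtype.ext
  apply Subtype.ext
  have := hA.is_comm.comm ⟨(x : G), Subgroup.mem_subgroupOf.mp hx⟩
    ⟨(y : G), Subgroup.mem_subgroupOf.mp hy⟩
  have h2 : (x : G) * (y : G) = (y : G) * (x : G) := congrArg Subtype.val this
  exact h2

theorem isNilpotent_of_isMulCommutative {A : Subgroup G} (hA : IsMulCommutative A) :
    Group.IsNilpotent A := by
  letI : CommGroup ↥A :=
    { (inferInstance : Group ↥A) with
      mul_comm := hA.is_comm.comm }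
  exact CommGroup.isNilpotent

theorem isRankOnePair_subgroupOf {K A B : Subgroup G} (hA : A ≤ K) (hB : B ≤ K)
    (hAc : IsMulCommutative A) (hBc : IsMulCommutative B)
    (h : IsRankOnePair A B) : IsRankOnePair (A.subgroupOf K) (B.subgroupOf K) where
  ne := by
    intro heq
    apply h.ne
    rw [Subgroup.subgroupOf_inj] at heq
    rwa [inf_eq_left.mpr hA, inf_eq_left.mpr hB] at heq
  nilpotent_left := isNilpotent_of_isMulCommutative (isMulCommutative_subgroupOf hAc)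
  nilpotent_right := isNilpotent_of_isMulCommutative (isMulCommutative_subgroupOf hBc)
  cond_left := rankOneCondition_subgroupOf hB h.cond_left
  cond_right := rankOneCondition_subgroupOf hA h.cond_right

theorem commutator_subgroupOf_eq_bot {K A B : Subgroup G}
    (h : ∀ a ∈ A, ∀ b ∈ B, a * b = b * a) : ⁅A.subgroupOf K, B.subgroupOf K⁆ = ⊥ := by
  rw [Subgroup.commutator_eq_bot_iff_le_centralizer]
  intro a ha
  rw [Subgroup.mem_centralizer_iff]
  intro b hb
  apply Subtype.ext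
  exact (h (a : G) (Subgroup.mem_subgroupOf.mp ha) (b : G) (Subgroup.mem_subgroupOf.mp hb)).symm

theorem iSup_subgroupOf_eq_top (S : Set (Subgroup G)) :
    (⨆ A ∈ (fun A : Subgroup G => A.subgroupOf (⨆ B ∈ S, B)) '' S, A) = ⊤ := by
  obtain ⟨K, hK⟩ : ∃ K : Subgroup G, K = ⨆ B ∈ S, B := ⟨_, rfl⟩
  rw [← hK]
  apply Subgroup.map_injective K.subtype_injective
  rw [iSup_image, Subgroup.map_iSup]
  simp only [Subgroup.map_iSup, Subgroup.subgroupOf_map_subtype]
  rw [← MonoidHom.range_eq_map, Subgroup.range_subtype]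
  apply le_antisymm
  · apply iSup₂_le
    intro A _
    exact inf_le_right
  · rw [hK]
    apply iSup₂_le
    intro A hA
    have hle : A ≤ ⨆ B ∈ S, B := le_iSup₂ (f := fun B _ => B) A hA
    exact le_iSup₂_of_le (f := fun B _ => B ⊓ ⨆ B ∈ S, B) A hA (le_inf le_rfl hle)

theorem not_rankOnePair_of_commute {A B : Subgroup G} (hA : A ≠ ⊥)
    (hc : ∀ a ∈ A, ∀ b ∈ B, a * b = b * a) : ¬ IsRankOnePair A B := by
  intro h
  obtain ⟨⟨a, haA⟩, ha1⟩ := (Subgroup.ne_bot_iff_exists_ne_one).mp hA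
  have ha1' : a ≠ 1 := fun h1 => ha1 (Subtype.ext h1)
  obtain ⟨b, hbB, hb1, heq⟩ := h.cond_left a haA ha1'
  rw [conjBy_eq_self_of_centralizes (g := b⁻¹), conjBy_eq_self_of_centralizes (g := a⁻¹)] at heq
  · exact h.ne heq
  · intro b' hb'
    have h1 : Commute a b' := hc a haA b' hb'
    exact h1.inv_left.eq
  · intro a' ha'
    have h1 : Commute a' b := hc a' ha' b hbB
    exact h1.inv_right.symm.eq

theorem conj_of_rankOnePair {A B : Subgroup G} (hA : A ≠ ⊥) (h : IsRankOnePair A B) :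
    ∃ g ∈ A ⊔ B, B = conjBy A g := by
  obtain ⟨⟨a, haA⟩, ha1⟩ := (Subgroup.ne_bot_iff_exists_ne_one).mp hA
  have ha1' : a ≠ 1 := fun h1 => ha1 (Subtype.ext h1)
  obtain ⟨b, hbB, hb1, heq⟩ := h.cond_left a haA ha1'
  refine ⟨a * b⁻¹, mul_mem (Subgroup.mem_sup_left haA) (inv_mem (Subgroup.mem_sup_right hbB)), ?_⟩
  have h1 : conjBy (conjBy A b⁻¹) a = conjBy (conjBy B a⁻¹) a := by rw [heq]
  rw [conjBy_conjBy, conjBy_conjBy, mul_inv_cancel, conjBy_one] at h1
  exact h1.symm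

theorem isConjClass_of_connected {S : Set (Subgroup G)} (hne : S.Nonempty)
    (hbot : ∀ A ∈ S, A ≠ ⊥) (hconn : IsConnectedFamily (FAdj S) S) :
    IsConjClassOfSubgroups S := by
  refine ⟨hne, ?_⟩
  intro A hA B hB
  have hpath := hconn A hA B hB
  clear hB
  induction hpath with
  | refl => exact ⟨1, (conjBy_one A).symm⟩
  | tail _ hbc ih =>
    obtain ⟨g, hg⟩ := ih
    obtain ⟨h, -, hh⟩ := conj_of_rankOnePair (hbot _ hbc.1) hbc.2.2
    exact ⟨h * g, by rw [hh, hg, conjBy_conjBy]⟩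

end Cfsg.Agent.Lib.Helper27.URoot
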