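import Mathlib
import Cfsg.Prelude.Def_RootSubgroups
import Cfsg.Agent.Lib.Helper27.URoot

set_option autoImplicit false

/-!
Abstract lemmas on the commutator case of a set of abstract root subgroups, and passage to
`subgroupOf` for the commutator case and for images of `SL₂`.
-/

namespace Cfsg.Agent.Lib.Helper27.OrthRoot

open Cfsg Cfsg.Agent.Lib.Helper27.URoot
open scoped commutatorElement

variable {G : Type*} [Group G]

theorem map_subgroupOf_subtype {K A : Subgroup G} (hA : A ≤ K) :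
    (A.subgroupOf K).map K.subtype = A := by
  rw [Subgroup.subgroupOf_map_subtype, inf_eq_left.mpr hA]

theorem commutator_le_of_le {K A B : Subgroup G} (hA : A ≤ K) (hB : B ≤ K) : ⁅A, B⁆ ≤ K := by
  rw [Subgroup.commutator_le]
  intro a ha b hb
  rw [commutatorElement_def]
  exact K.mul_mem (K.mul_mem (K.mul_mem (hA ha) (hB hb)) (K.inv_mem (hA ha))) (K.inv_mem (hB hb))

theorem commutator_subgroupOf {K A B : Subgroup G} (hA : A ≤ K) (hB : B ≤ K) :
    ⁅A.subgroupOf K, B.subgroupOf K⁆ = (⁅A, B⁆).subgroupOf K := by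
  apply Subgroup.map_injective K.subtype_injective
  rw [Subgroup.map_commutator, map_subgroupOf_subtype hA, map_subgroupOf_subtype hB,
    map_subgroupOf_subtype (commutator_le_of_le hA hB)]

theorem sup_subgroupOf_map {K A B : Subgroup G} (hA : A ≤ K) (hB : B ≤ K) :
    (A.subgroupOf K ⊔ B.subgroupOf K).map K.subtype = A ⊔ B := by
  rw [Subgroup.map_sup, map_subgroupOf_subtype hA, map_subgroupOf_subtype hB]

theorem rootCommutatorCase_subgroupOf {S : Set (Subgroup G)} {K A B : Subgroup G}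
    (hA : A ≤ K) (hB : B ≤ K) (h : RootCommutatorCase S A B) :
    RootCommutatorCase ((fun A : Subgroup G => A.subgroupOf K) '' S)
      (A.subgroupOf K) (B.subgroupOf K) := by
  obtain ⟨h1, h2, h3, h4⟩ := h
  have hC : ⁅A, B⁆ ≤ K := commutator_le_of_le hA hB
  refine ⟨?_, ?_, ?_, ?_⟩
  · rw [commutator_subgroupOf hA hB]
    exact ⟨_, h1, rfl⟩
  · intro c hc x hx
    rw [commutator_subgroupOf hA hB] at hc
    apply Subtype.ext
    refine h2 c.1 (Subgroup.mem_subgroupOf.mp hc) x.1 ?_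
    rw [← sup_subgroupOf_map hA hB]
    exact ⟨x, hx, rfl⟩
  · intro a ha ha1
    apply Subgroup.map_injective K.subtype_injective
    rw [commutator_subgroupOf hA hB, map_subgroupOf_subtype hC, MonoidHom.map_closure,
      ← h3 a.1 (Subgroup.mem_subgroupOf.mp ha) (fun h => ha1 (Subtype.ext h))]
    congr 1
    ext x
    constructor
    · rintro ⟨_, ⟨b, hb, rfl⟩, rfl⟩
      exact ⟨b.1, Subgroup.mem_subgroupOf.mp hb, rfl⟩
    · rintro ⟨b, hb, rfl⟩
      exact ⟨_, ⟨⟨b, hB hb⟩, Subgroup.mem_subgroupOf.mpr hb, rfl⟩, rfl⟩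
  · intro b hb hb1
    apply Subgroup.map_injective K.subtype_injective
    rw [commutator_subgroupOf hA hB, map_subgroupOf_subtype hC, MonoidHom.map_closure,
      ← h4 b.1 (Subgroup.mem_subgroupOf.mp hb) (fun h => hb1 (Subtype.ext h))]
    congr 1
    ext x
    constructor
    · rintro ⟨_, ⟨a, ha, rfl⟩, rfl⟩
      exact ⟨a.1, Subgroup.mem_subgroupOf.mp ha, rfl⟩
    · rintro ⟨a, ha, rfl⟩
      exact ⟨_, ⟨⟨a, hA ha⟩, Subgroup.mem_subgroupOf.mpr ha, rfl⟩, rfl⟩

/-- If the commutator subgroup of `A` and `B` is central in `⟨A, B⟩` and `B` is abelian, a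
rank one pair `(A, B)` commutes elementwise. -/
theorem commute_of_rankOne_of_central {A B : Subgroup G} (hA : A ≠ ⊥)
    (hB : IsMulCommutative B)
    (hcen : ∀ c ∈ ⁅A, B⁆, ∀ x ∈ A ⊔ B, c * x = x * c) (h : IsRankOnePair A B) :
    ∀ x ∈ A, ∀ y ∈ B, x * y = y * x := by
  obtain ⟨⟨a, haA⟩, ha1⟩ := (Subgroup.ne_bot_iff_exists_ne_one).mp hA
  have ha1' : a ≠ 1 := fun h1 => ha1 (Subtype.ext h1)
  obtain ⟨b, hbB, hb1, heq⟩ := h.cond_left a haA ha1'
  intro x hx y hy
  have hmem : b⁻¹ * x * b⁻¹⁻¹ ∈ conjBy A b⁻¹ := mem_conjBy.mpr ⟨x, hx, rfl⟩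
  rw [heq, mem_conjBy] at hmem
  obtain ⟨y0, hy0, hxy⟩ := hmem
  -- the central element
  obtain ⟨c1, hc1⟩ : ∃ c1, c1 = ⁅y0⁻¹, a⁻¹⁆ := ⟨_, rfl⟩
  have hc1mem : c1 ∈ ⁅A, B⁆ := by
    rw [hc1, Subgroup.commutator_comm]
    exact Subgroup.commutator_mem_commutator (B.inv_mem hy0) (A.inv_mem haA)
  have hBcomm : ∀ u ∈ B, ∀ v ∈ B, u * v = v * u := by
    intro u hu v hv
    have := hB.is_comm.comm ⟨u, hu⟩ ⟨v, hv⟩
    exact congrArg Subtype.val this
  have hx_eq : x = c1 * y0 := by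
    have h1 : a⁻¹ * y0 * a⁻¹⁻¹ = y0 * c1 := by
      rw [hc1, commutatorElement_def]; group
    have h2 : x = b * (a⁻¹ * y0 * a⁻¹⁻¹) * b⁻¹ := by
      rw [hxy]; group
    rw [h2, h1]
    have h3 : c1 * b⁻¹ = b⁻¹ * c1 := hcen c1 hc1mem b⁻¹ (Subgroup.mem_sup_right (B.inv_mem hbB))
    have h4 : b * y0 = y0 * b := hBcomm b hbB y0 hy0
    calc b * (y0 * c1) * b⁻¹ = b * y0 * (c1 * b⁻¹) := by group
      _ = b * y0 * (b⁻¹ * c1) := by rw [h3]
      _ = y0 * b * (b⁻¹ * c1) := by rw [h4]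
      _ = y0 * c1 := by group
      _ = c1 * y0 := (hcen c1 hc1mem y0 (Subgroup.mem_sup_right hy0)).symm
  rw [hx_eq]
  have h5 : c1 * y = y * c1 := hcen c1 hc1mem y (Subgroup.mem_sup_right hy)
  have h6 : y0 * y = y * y0 := hBcomm y0 hy0 y hy
  calc c1 * y0 * y = c1 * (y0 * y) := by group
    _ = c1 * (y * y0) := by rw [h6]
    _ = (c1 * y) * y0 := by group
    _ = (y * c1) * y0 := by rw [h5]
    _ = y * (c1 * y0) := by group

/-- The commutator case with a non-trivial commutator subgroup excludes a rank one pair. -/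
theorem not_rankOnePair_of_commutatorCase {S : Set (Subgroup G)} {A B : Subgroup G}
    (hA : A ≠ ⊥) (hB : IsMulCommutative B) (hne : ⁅A, B⁆ ≠ ⊥)
    (h : RootCommutatorCase S A B) : ¬ IsRankOnePair A B := by
  intro hr
  apply hne
  rw [Subgroup.commutator_eq_bot_iff_le_centralizer]
  intro x hx
  rw [Subgroup.mem_centralizer_iff]
  intro y hy
  exact (commute_of_rankOne_of_central hA hB h.2.1 hr x hx y hy).symm

/-- Passage of an image of `SL₂` to a subgroup containing both unipotent subgroups. -/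
theorem isPSL2PairOver_subgroupOf {k : Type*} [Field k] {K A B : Subgroup G}
    (hA : A ≤ K) (hB : B ≤ K) (h : IsPSL2PairOver k A B) :
    IsPSL2PairOver k (A.subgroupOf K) (B.subgroupOf K) := by
  obtain ⟨φ, hrange, hker, hup, hlow⟩ := h
  have hK : ∀ M, φ M ∈ K := by
    intro M
    have : φ M ∈ φ.range := ⟨M, rfl⟩
    rw [hrange] at this
    exact (sup_le hA hB) this
  have hcomp : K.subtype.comp (φ.codRestrict K hK) = φ := by
    ext M; rfl
  refine ⟨φ.codRestrict K hK, ?_, ?_, ?_, ?_⟩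
  · apply Subgroup.map_injective K.subtype_injective
    rw [sup_subgroupOf_map hA hB, ← hrange, MonoidHom.range_eq_map, Subgroup.map_map, hcomp,
      MonoidHom.range_eq_map]
  · rw [MonoidHom.ker_codRestrict]
    exact hker
  · apply Subgroup.map_injective K.subtype_injective
    rw [Subgroup.map_map, hcomp, hup, map_subgroupOf_subtype hA]
  · apply Subgroup.map_injective K.subtype_injective
    rw [Subgroup.map_map, hcomp, hlow, map_subgroupOf_subtype hB]

end Cfsg.Agent.Lib.Helper27.OrthRoot
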