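import Mathlib
import Cfsg.Prelude.Def_RootSubgroups
import Cfsg.Agent.Lib.Helper19.OrthSiegel
import Cfsg.Agent.Lib.Helper19.OrthPoints
import Cfsg.Agent.Lib.Helper19.NondegSub
import Cfsg.Agent.Lib.Helper27.OrthRoot

set_option autoImplicit false

/-!
Siegel transvection groups of totally singular lines: the group `Tl Q p r` of isometries fixing
`⟨p, r⟩^⊥` pointwise, its parametrisation by the field, conjugation.
-/

namespace Cfsg.Agent.Lib.Helper27.OrthRoot

open Cfsg Matrix QuadraticMap Module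
open Cfsg.Agent.Lib.Helper19.OrthRefl Cfsg.Agent.Lib.Helper19.Parity

variable {ι : Type} [Fintype ι] [DecidableEq ι] {F : Type*} [Field F]

/-- A totally singular line, given by a basis. -/
structure IsLine (Q : QuadraticForm F (ι → F)) (p r : ι → F) : Prop where
  indep : ∀ a b : F, a • p + b • r = 0 → a = 0 ∧ b = 0
  hp : Q p = 0
  hr : Q r = 0
  hpr : polar (⇑Q) p r = 0

theorem Q_lin2' (Q : QuadraticForm F (ι → F)) (x y : ι → F) (a b : F) :
    Q (a • x + b • y) = a * a * Q x + b * b * Q y + a * b * polar (⇑Q) x y := by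
  rw [QuadraticMap.map_add (⇑Q), QuadraticMap.map_smul, QuadraticMap.map_smul,
    QuadraticMap.polar_smul_left, QuadraticMap.polar_smul_right]
  simp only [smul_eq_mul]
  ring

namespace IsLine

variable {Q : QuadraticForm F (ι → F)} {p r : ι → F}

theorem symm (h : IsLine Q p r) : IsLine Q r p where
  indep := fun a b hab => by
    have := h.indep b a (by rw [add_comm]; exact hab)
    exact ⟨this.2, this.1⟩
  hp := h.hr
  hr := h.hp
  hpr := by rw [polar_comm]; exact h.hpr

theorem hrp (h : IsLine Q p r) : polar (⇑Q) r p = 0 := by rw [polar_comm]; exact h.hpr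

theorem hpp (h : IsLine Q p r) : polar (⇑Q) p p = 0 := polar_self_of_singular Q h.hp

theorem hrr (h : IsLine Q p r) : polar (⇑Q) r r = 0 := polar_self_of_singular Q h.hr

theorem p_ne (h : IsLine Q p r) : p ≠ 0 := by
  intro h0
  have := h.indep 1 0 (by rw [h0]; simp)
  exact one_ne_zero this.1

theorem r_ne (h : IsLine Q p r) : r ≠ 0 := h.symm.p_ne

theorem p_not_mem (h : IsLine Q p r) : p ∉ Submodule.span F {r} := by
  intro hm
  obtain ⟨a, ha⟩ := Submodule.mem_span_singleton.mp hm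
  have := h.indep 1 (-a) (by rw [← ha]; simp)
  exact one_ne_zero this.1

theorem r_not_mem (h : IsLine Q p r) : r ∉ Submodule.span F {p} := h.symm.p_not_mem

theorem Q_comb (h : IsLine Q p r) (a b : F) : Q (a • p + b • r) = 0 := by
  rw [Q_lin2', h.hp, h.hr, h.hpr]; ring

theorem act (h : IsLine Q p r) (g : ↥(Cfsg.isometryGroup F ⇑Q)) :
    IsLine Q (act g p) (act g r) where
  indep := fun a b hab => by
    apply h.indep
    have h1 : Cfsg.Agent.Lib.Helper19.OrthRefl.act g (a • p + b • r) = 0 := by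
      rw [act_add, act_smul, act_smul]; exact hab
    have h2 := congrArg (Cfsg.Agent.Lib.Helper19.OrthRefl.act g⁻¹) h1
    rwa [act_inv_act, act_zero] at h2
  hp := (Q_act g p).trans h.hp
  hr := (Q_act g r).trans h.hr
  hpr := (polar_act g p r).trans h.hpr

/-- Dual vectors of the basis of a line. -/
theorem exists_dual (h : IsLine Q p r) (hQ : (polarBilin Q).Nondegenerate) :
    ∃ ps rs : ι → F, polar (⇑Q) p ps = 1 ∧ polar (⇑Q) r ps = 0 ∧
      polar (⇑Q) p rs = 0 ∧ polar (⇑Q) r rs = 1 := by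
  obtain ⟨b, hb1, hb2⟩ := exists_orth_polar_ne Q hQ r p h.p_not_mem
  obtain ⟨b', hb1', hb2'⟩ := exists_orth_polar_ne Q hQ p r h.r_not_mem
  refine ⟨(polar (⇑Q) b p)⁻¹ • b, (polar (⇑Q) b' r)⁻¹ • b', ?_, ?_, ?_, ?_⟩
  · rw [polar_smul_right, polar_comm (⇑Q) p b, smul_eq_mul, inv_mul_cancel₀ hb2]
  · rw [polar_smul_right, hb1, smul_zero]
  · rw [polar_smul_right, hb1', smul_zero]
  · rw [polar_smul_right, polar_comm (⇑Q) r b', smul_eq_mul, inv_mul_cancel₀ hb2']

end IsLine

/-- The group of isometries fixing `⟨p, r⟩^⊥` pointwise. -/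
def Tl (Q : QuadraticForm F (ι → F)) (p r : ι → F) : Subgroup ↥(Cfsg.isometryGroup F ⇑Q) where
  carrier := {σ | ∀ v : ι → F, polar (⇑Q) v p = 0 → polar (⇑Q) v r = 0 → act σ v = v}
  mul_mem' := fun {a b} ha hb v h1 h2 => by rw [act_mul, hb v h1 h2, ha v h1 h2]
  one_mem' := fun v _ _ => act_one v
  inv_mem' := fun {a} ha v h1 h2 => by
    have h3 := ha v h1 h2
    have h4 := act_inv_act a v
    rwa [h3] at h4

theorem mem_Tl {Q : QuadraticForm F (ι → F)} {p r : ι → F} {σ : ↥(Cfsg.isometryGroup F ⇑Q)} :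
    σ ∈ Tl Q p r ↔ ∀ v : ι → F, polar (⇑Q) v p = 0 → polar (⇑Q) v r = 0 → act σ v = v :=
  Iff.rfl

theorem Tl_le_of_mem (Q : QuadraticForm F (ι → F)) {p r p' r' : ι → F}
    (hp : p ∈ plane F p' r') (hr : r ∈ plane F p' r') : Tl Q p r ≤ Tl Q p' r' := by
  intro σ hσ v h1 h2
  obtain ⟨a, b, rfl⟩ := mem_plane.1 hp
  obtain ⟨c, d, rfl⟩ := mem_plane.1 hr
  apply hσ v
  · rw [polar_add_right, polar_smul_right, polar_smul_right, h1, h2, smul_zero, smul_zero,
      add_zero]
  · rw [polar_add_right, polar_smul_right, polar_smul_right, h1, h2, smul_zero, smul_zero,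
      add_zero]

theorem Tl_eq_of_mem (Q : QuadraticForm F (ι → F)) {p r p' r' : ι → F}
    (hp : p ∈ plane F p' r') (hr : r ∈ plane F p' r')
    (hp' : p' ∈ plane F p r) (hr' : r' ∈ plane F p r) : Tl Q p r = Tl Q p' r' :=
  le_antisymm (Tl_le_of_mem Q hp hr) (Tl_le_of_mem Q hp' hr')

theorem Tl_swap (Q : QuadraticForm F (ι → F)) (p r : ι → F) : Tl Q p r = Tl Q r p :=
  Tl_eq_of_mem Q (right_mem_plane r p) (left_mem_plane r p) (right_mem_plane p r)
    (left_mem_plane p r)

/-- The Siegel transvection with parameter `c` on the line `⟨p, r⟩`. -/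
noncomputable def sg (Q : QuadraticForm F (ι → F)) (hQ : (polarBilin Q).Nondegenerate)
    (p r : ι → F) (hp : Q p = 0) (hpr : polar (⇑Q) p r = 0) (c : F) :
    ↥(Cfsg.isometryGroup F ⇑Q) :=
  siegel Q hQ p (c • r) hp (by rw [polar_smul_right, hpr, smul_zero])

theorem act_sg (Q : QuadraticForm F (ι → F)) (hQ : (polarBilin Q).Nondegenerate)
    (p r : ι → F) (hp : Q p = 0) (hpr : polar (⇑Q) p r = 0) (hr : Q r = 0) (c : F) (v : ι → F) :
    act (sg Q hQ p r hp hpr c) v
      = v + c • (polar (⇑Q) r v • p - polar (⇑Q) p v • r) := by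
  unfold sg
  rw [act_siegel, QuadraticMap.map_smul, hr, smul_zero, zero_smul, sub_zero, polar_smul_left]
  simp only [smul_eq_mul]
  module

section line

variable (Q : QuadraticForm F (ι → F)) (hQ : (polarBilin Q).Nondegenerate) {p r : ι → F}

theorem sg_mem_Tl (hl : IsLine Q p r) (c : F) : sg Q hQ p r hl.hp hl.hpr c ∈ Tl Q p r := by
  intro v h1 h2
  rw [act_sg Q hQ p r hl.hp hl.hpr hl.hr, polar_comm (⇑Q) r v, polar_comm (⇑Q) p v, h1, h2]
  simp

theorem sg_mul (hl : IsLine Q p r) (c d : F) :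
    sg Q hQ p r hl.hp hl.hpr c * sg Q hQ p r hl.hp hl.hpr d
      = sg Q hQ p r hl.hp hl.hpr (c + d) := by
  apply ext_act
  intro v
  rw [act_mul, act_sg Q hQ p r hl.hp hl.hpr hl.hr, act_sg Q hQ p r hl.hp hl.hpr hl.hr,
    act_sg Q hQ p r hl.hp hl.hpr hl.hr]
  simp only [polar_add_right, polar_smul_right, polar_sub_right, hl.hpp, hl.hrr, hl.hpr, hl.hrp,
    smul_eq_mul, mul_zero, sub_zero, add_zero]
  module

theorem sg_zero (hl : IsLine Q p r) : sg Q hQ p r hl.hp hl.hpr 0 = 1 := by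
  apply ext_act
  intro v
  rw [act_sg Q hQ p r hl.hp hl.hpr hl.hr, act_one, zero_smul, add_zero]

theorem sg_inv (hl : IsLine Q p r) (c : F) :
    (sg Q hQ p r hl.hp hl.hpr c)⁻¹ = sg Q hQ p r hl.hp hl.hpr (-c) := by
  rw [inv_eq_iff_mul_eq_one, sg_mul Q hQ hl, add_neg_cancel, sg_zero Q hQ hl]

theorem sg_injective (hl : IsLine Q p r) {c d : F}
    (h : sg Q hQ p r hl.hp hl.hpr c = sg Q hQ p r hl.hp hl.hpr d) : c = d := by
  obtain ⟨ps, rs, h1, h2, h3, h4⟩ := hl.exists_dual hQ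
  have h5 := congrArg (fun g => act g ps) h
  simp only [act_sg Q hQ p r hl.hp hl.hpr hl.hr, h1, h2] at h5
  have h6 : (0 : F) • p + (d - c) • r = 0 := by
    have : ps + c • ((0 : F) • p - (1 : F) • r) - (ps + d • ((0 : F) • p - (1 : F) • r)) = 0 := by
      rw [h5, sub_self]
    rw [← this]
    module
  have := (hl.indep _ _ h6).2
  exact (sub_eq_zero.mp this).symm

include hQ in
/-- The displacement of a member of `Tl` lies on the line. -/
theorem act_sub_mem_plane {σ : ↥(Cfsg.isometryGroup F ⇑Q)} (hσ : σ ∈ Tl Q p r) (v : ι → F) :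
    act σ v - v ∈ plane F p r := by
  rw [← orth_orth hQ (plane F p r), mem_orth]
  intro w hw
  rw [mem_orth_plane] at hw
  have hσw : act σ w = w :=
    hσ w (by rw [polar_comm]; exact hw.1) (by rw [polar_comm]; exact hw.2)
  have h1 := polar_act σ w v
  rw [hσw] at h1
  rw [polar_sub_right, h1, sub_self]

/-- Every member of `Tl` is a Siegel transvection of the line. -/
theorem exists_eq_sg (hl : IsLine Q p r) {σ : ↥(Cfsg.isometryGroup F ⇑Q)} (hσ : σ ∈ Tl Q p r) :
    ∃ c, σ = sg Q hQ p r hl.hp hl.hpr c := by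
  obtain ⟨ps, rs, h1, h2, h3, h4⟩ := hl.exists_dual hQ
  obtain ⟨a, b, hab⟩ := mem_plane.1 (act_sub_mem_plane Q hQ hσ ps)
  obtain ⟨c, d, hcd⟩ := mem_plane.1 (act_sub_mem_plane Q hQ hσ rs)
  have hps : act σ ps = ps + (a • p + b • r) := by rw [← hab]; abel
  have hrs : act σ rs = rs + (c • p + d • r) := by rw [← hcd]; abel
  have h1' : polar (⇑Q) ps p = 1 := by rw [polar_comm]; exact h1
  have h2' : polar (⇑Q) ps r = 0 := by rw [polar_comm]; exact h2
  have h3' : polar (⇑Q) rs p = 0 := by rw [polar_comm]; exact h3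
  have h4' : polar (⇑Q) rs r = 1 := by rw [polar_comm]; exact h4
  have ha : a = 0 := by
    have hq := Q_act σ ps
    rw [hps, QuadraticMap.map_add (⇑Q), hl.Q_comb, polar_add_right, polar_smul_right,
      polar_smul_right, h1', h2', smul_eq_mul, smul_eq_mul] at hq
    linear_combination hq
  have hd : d = 0 := by
    have hq := Q_act σ rs
    rw [hrs, QuadraticMap.map_add (⇑Q), hl.Q_comb, polar_add_right, polar_smul_right,
      polar_smul_right, h3', h4', smul_eq_mul, smul_eq_mul] at hq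
    linear_combination hq
  have hc : c = -b := by
    have hq := polar_act σ ps rs
    rw [hps, hrs, ha, hd] at hq
    simp only [polar_add_right, polar_add_left, polar_smul_right, polar_smul_left, h1', h2', h3',
      h4', h1, h2, h3, h4, hl.hpp, hl.hrr, hl.hpr, hl.hrp, smul_eq_mul, mul_zero, mul_one,
      add_zero, zero_add] at hq
    linear_combination hq
  refine ⟨-b, ext_act fun v => ?_⟩
  obtain ⟨v0, hv0⟩ : ∃ v0, v0 = v - polar (⇑Q) p v • ps - polar (⇑Q) r v • rs := ⟨_, rfl⟩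
  have hfix : act σ v0 = v0 := by
    apply hσ v0
    · rw [hv0]
      simp only [polar_sub_left, polar_smul_left, h1', h3', smul_eq_mul, mul_one, mul_zero,
        sub_zero]
      rw [polar_comm (⇑Q) v p, sub_self]
    · rw [hv0]
      simp only [polar_sub_left, polar_smul_left, h2', h4', smul_eq_mul, mul_one, mul_zero,
        sub_zero]
      rw [polar_comm (⇑Q) v r, sub_self]
  have hv : v = v0 + polar (⇑Q) p v • ps + polar (⇑Q) r v • rs := by rw [hv0]; abel
  rw [act_sg Q hQ p r hl.hp hl.hpr hl.hr]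
  conv_lhs => rw [hv]
  rw [act_add, act_add, act_smul, act_smul, hfix, hps, hrs, ha, hd, hc, hv0]
  module

theorem mem_Tl_iff (hl : IsLine Q p r) {σ : ↥(Cfsg.isometryGroup F ⇑Q)} :
    σ ∈ Tl Q p r ↔ ∃ c, σ = sg Q hQ p r hl.hp hl.hpr c := by
  constructor
  · exact exists_eq_sg Q hQ hl
  · rintro ⟨c, rfl⟩
    exact sg_mem_Tl Q hQ hl c

include hQ in
theorem Tl_comm (hl : IsLine Q p r) : IsMulCommutative ↥(Tl Q p r) := by
  refine ⟨⟨?_⟩⟩
  rintro ⟨x, hx⟩ ⟨y, hy⟩
  apply Subtype.ext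
  obtain ⟨c, rfl⟩ := exists_eq_sg Q hQ hl hx
  obtain ⟨d, rfl⟩ := exists_eq_sg Q hQ hl hy
  show sg Q hQ p r hl.hp hl.hpr c * sg Q hQ p r hl.hp hl.hpr d
    = sg Q hQ p r hl.hp hl.hpr d * sg Q hQ p r hl.hp hl.hpr c
  rw [sg_mul Q hQ hl, sg_mul Q hQ hl, add_comm]

theorem sg_ne_one (hl : IsLine Q p r) {c : F} (hc : c ≠ 0) :
    sg Q hQ p r hl.hp hl.hpr c ≠ 1 := by
  intro h
  rw [← sg_zero Q hQ hl] at h
  exact hc (sg_injective Q hQ hl h)

include hQ in
theorem Tl_ne_bot (hl : IsLine Q p r) : Tl Q p r ≠ ⊥ := by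
  intro h
  have h1 := sg_mem_Tl Q hQ hl 1
  rw [h, Subgroup.mem_bot] at h1
  exact sg_ne_one Q hQ hl one_ne_zero h1

end line

theorem conj_Tl (Q : QuadraticForm F (ι → F)) (p r : ι → F) (g : ↥(Cfsg.isometryGroup F ⇑Q)) :
    conjBy (Tl Q p r) g = Tl Q (act g p) (act g r) := by
  ext x
  rw [URoot.mem_conjBy]
  constructor
  · rintro ⟨y, hy, rfl⟩
    intro v h1 h2
    have h3 : act y (act g⁻¹ v) = act g⁻¹ v := by
      apply hy
      · rw [← polar_act g, act_act_inv]; exact h1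
      · rw [← polar_act g, act_act_inv]; exact h2
    rw [act_mul, act_mul, h3, act_act_inv]
  · intro hx
    refine ⟨g⁻¹ * x * g, ?_, by group⟩
    intro v h1 h2
    have h3 : act x (act g v) = act g v := by
      apply hx
      · rw [polar_act]; exact h1
      · rw [polar_act]; exact h2
    rw [act_mul, act_mul, h3, act_inv_act]

end Cfsg.Agent.Lib.Helper27.OrthRoot
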