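import Mathlib
import Cfsg.Agent.Lib.Helper27.OrthRoot2

set_option autoImplicit false

/-!
Relations between the Siegel transvection groups of two totally singular lines: commuting
pairs, the commutator case, opposite lines (rank one pairs); the trichotomy.
-/

namespace Cfsg.Agent.Lib.Helper27.OrthRoot

open Cfsg Matrix QuadraticMap Module
open Cfsg.Agent.Lib.Helper19.OrthRefl Cfsg.Agent.Lib.Helper19.Parity
open scoped commutatorElement

variable {ι : Type} [Fintype ι] [DecidableEq ι] {F : Type*} [Field F]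

theorem IsLine.change {Q : QuadraticForm F (ι → F)} {p r : ι → F} (hl : IsLine Q p r)
    {a b c d : F} (hdet : a * d - b * c ≠ 0) : IsLine Q (a • p + b • r) (c • p + d • r) where
  indep := fun x y hxy => by
    have h1 : (x * a + y * c) • p + (x * b + y * d) • r = 0 := by rw [← hxy]; module
    obtain ⟨h2, h3⟩ := hl.indep _ _ h1
    constructor
    · have : x * (a * d - b * c) = 0 := by linear_combination d * h2 - c * h3
      exact (mul_eq_zero.mp this).resolve_right hdet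
    · have : y * (a * d - b * c) = 0 := by linear_combination a * h3 - b * h2
      exact (mul_eq_zero.mp this).resolve_right hdet
  hp := hl.Q_comb a b
  hr := hl.Q_comb c d
  hpr := by
    simp only [polar_add_left, polar_add_right, polar_smul_left, polar_smul_right, hl.hpp,
      hl.hrr, hl.hpr, hl.hrp, smul_eq_mul, mul_zero, add_zero]

theorem Tl_change (Q : QuadraticForm F (ι → F)) (p r : ι → F) {a b c d : F}
    (hdet : a * d - b * c ≠ 0) : Tl Q (a • p + b • r) (c • p + d • r) = Tl Q p r := by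
  apply Tl_eq_of_mem
  · exact mem_plane.2 ⟨a, b, rfl⟩
  · exact mem_plane.2 ⟨c, d, rfl⟩
  · refine mem_plane.2 ⟨(a * d - b * c)⁻¹ * d, (a * d - b * c)⁻¹ * (-b), ?_⟩
    have h : (a * d - b * c) • p = d • (a • p + b • r) + (-b) • (c • p + d • r) := by module
    calc p = (a * d - b * c)⁻¹ • ((a * d - b * c) • p) := by
          rw [smul_smul, inv_mul_cancel₀ hdet, one_smul]
      _ = _ := by rw [h, smul_add, smul_smul, smul_smul]
  · refine mem_plane.2 ⟨(a * d - b * c)⁻¹ * (-c), (a * d - b * c)⁻¹ * a, ?_⟩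
    have h : (a * d - b * c) • r = (-c) • (a • p + b • r) + a • (c • p + d • r) := by module
    calc r = (a * d - b * c)⁻¹ • ((a * d - b * c) • r) := by
          rw [smul_smul, inv_mul_cancel₀ hdet, one_smul]
      _ = _ := by rw [h, smul_add, smul_smul, smul_smul]

/-- The set of Siegel transvection groups of totally singular lines. -/
def Sig (Q : QuadraticForm F (ι → F)) : Set (Subgroup ↥(Cfsg.isometryGroup F ⇑Q)) :=
  {A | ∃ p r : ι → F, IsLine Q p r ∧ A = Tl Q p r}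

section rel

variable (Q : QuadraticForm F (ι → F)) (hQ : (polarBilin Q).Nondegenerate)

/-- Short form of `sg`. -/
noncomputable def lsg {p r : ι → F} (hl : IsLine Q p r) (c : F) : ↥(Cfsg.isometryGroup F ⇑Q) :=
  sg Q hQ p r hl.hp hl.hpr c

variable {p r p' r' : ι → F}

theorem act_lsg (hl : IsLine Q p r) (c : F) (v : ι → F) :
    act (lsg Q hQ hl c) v = v + c • (polar (⇑Q) r v • p - polar (⇑Q) p v • r) :=
  act_sg Q hQ p r hl.hp hl.hpr hl.hr c v

theorem lsg_mem (hl : IsLine Q p r) (c : F) : lsg Q hQ hl c ∈ Tl Q p r := sg_mem_Tl Q hQ hl c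

theorem lsg_mul (hl : IsLine Q p r) (c d : F) :
    lsg Q hQ hl c * lsg Q hQ hl d = lsg Q hQ hl (c + d) := sg_mul Q hQ hl c d

theorem lsg_inv (hl : IsLine Q p r) (c : F) : (lsg Q hQ hl c)⁻¹ = lsg Q hQ hl (-c) :=
  sg_inv Q hQ hl c

theorem lsg_ne_one (hl : IsLine Q p r) {c : F} (hc : c ≠ 0) : lsg Q hQ hl c ≠ 1 :=
  sg_ne_one Q hQ hl hc

theorem lsg_zero (hl : IsLine Q p r) : lsg Q hQ hl 0 = 1 := sg_zero Q hQ hl

theorem exists_eq_lsg (hl : IsLine Q p r) {σ : ↥(Cfsg.isometryGroup F ⇑Q)}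
    (hσ : σ ∈ Tl Q p r) : ∃ c, σ = lsg Q hQ hl c := exists_eq_sg Q hQ hl hσ

/-- (R0) Orthogonal lines: the transvections commute. -/
theorem lsg_commute_of_orth (hl : IsLine Q p r) (hl' : IsLine Q p' r')
    (h1 : polar (⇑Q) p p' = 0) (h2 : polar (⇑Q) p r' = 0) (h3 : polar (⇑Q) r p' = 0)
    (h4 : polar (⇑Q) r r' = 0) (c d : F) :
    lsg Q hQ hl c * lsg Q hQ hl' d = lsg Q hQ hl' d * lsg Q hQ hl c := by
  have h1' : polar (⇑Q) p' p = 0 := by rw [polar_comm]; exact h1
  have h2' : polar (⇑Q) r' p = 0 := by rw [polar_comm]; exact h2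
  have h3' : polar (⇑Q) p' r = 0 := by rw [polar_comm]; exact h3
  have h4' : polar (⇑Q) r' r = 0 := by rw [polar_comm]; exact h4
  apply ext_act
  intro v
  rw [act_mul, act_mul]
  simp only [act_lsg, polar_add_right, polar_smul_right, polar_sub_right, h1, h2, h3, h4, h1',
    h2', h3', h4', smul_eq_mul, mul_zero, sub_zero, add_zero, sub_self]
  module

include hQ in
theorem commute_of_orth (hl : IsLine Q p r) (hl' : IsLine Q p' r')
    (h1 : polar (⇑Q) p p' = 0) (h2 : polar (⇑Q) p r' = 0) (h3 : polar (⇑Q) r p' = 0)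
    (h4 : polar (⇑Q) r r' = 0) :
    ∀ a ∈ Tl Q p r, ∀ b ∈ Tl Q p' r', a * b = b * a := by
  intro a ha b hb
  obtain ⟨c, rfl⟩ := exists_eq_lsg Q hQ hl ha
  obtain ⟨d, rfl⟩ := exists_eq_lsg Q hQ hl' hb
  exact lsg_commute_of_orth Q hQ hl hl' h1 h2 h3 h4 c d

/-- (R1) Lines through a common point: the transvections commute. -/
theorem lsg_commute_of_common (hl : IsLine Q p r) (hl' : IsLine Q p' r') {lam : F}
    (hlam : r' = lam • r) (h1 : polar (⇑Q) p p' = 1) (h3 : polar (⇑Q) r p' = 0) (c d : F) :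
    lsg Q hQ hl c * lsg Q hQ hl' d = lsg Q hQ hl' d * lsg Q hQ hl c := by
  have h1' : polar (⇑Q) p' p = 1 := by rw [polar_comm]; exact h1
  have h3' : polar (⇑Q) p' r = 0 := by rw [polar_comm]; exact h3
  apply ext_act
  intro v
  rw [act_mul, act_mul]
  simp only [act_lsg]
  subst hlam
  simp only [polar_add_right, polar_smul_right, polar_sub_right, polar_smul_left, h1, h3, h1',
    h3', hl.hpp, hl.hrr, hl.hpr, hl.hrp, hl'.hpp, smul_eq_mul, mul_zero, sub_zero, add_zero,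
    sub_self, mul_one, zero_sub]
  module

/-- (R2) The commutator formula. -/
theorem lsg_mul_eq (hl : IsLine Q p r) (hl' : IsLine Q p' r') (hl'' : IsLine Q r' r)
    (h1 : polar (⇑Q) p p' = 1) (h2 : polar (⇑Q) p r' = 0) (h3 : polar (⇑Q) r p' = 0)
    (s t : F) :
    lsg Q hQ hl s * lsg Q hQ hl' t
      = lsg Q hQ hl'' (s * t) * lsg Q hQ hl' t * lsg Q hQ hl s := by
  have h1' : polar (⇑Q) p' p = 1 := by rw [polar_comm]; exact h1
  have h2' : polar (⇑Q) r' p = 0 := by rw [polar_comm]; exact h2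
  have h3' : polar (⇑Q) p' r = 0 := by rw [polar_comm]; exact h3
  have h4 : polar (⇑Q) r r' = 0 := hl''.hrp
  have h4' : polar (⇑Q) r' r = 0 := hl''.hpr
  apply ext_act
  intro v
  rw [act_mul, act_mul, act_mul]
  simp only [act_lsg, polar_add_right, polar_smul_right, polar_sub_right, h1, h2, h3, h4, h1',
    h2', h3', h4', hl.hpp, hl.hrr, hl.hpr, hl.hrp, hl'.hpp, hl'.hrr, hl'.hpr, hl'.hrp,
    smul_eq_mul, mul_zero, sub_zero, add_zero, sub_self, mul_one, zero_sub]
  module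

theorem lsg_commutator (hl : IsLine Q p r) (hl' : IsLine Q p' r') (hl'' : IsLine Q r' r)
    (h1 : polar (⇑Q) p p' = 1) (h2 : polar (⇑Q) p r' = 0) (h3 : polar (⇑Q) r p' = 0)
    (s t : F) :
    lsg Q hQ hl s * lsg Q hQ hl' t * (lsg Q hQ hl s)⁻¹ * (lsg Q hQ hl' t)⁻¹
      = lsg Q hQ hl'' (s * t) := by
  rw [lsg_mul_eq Q hQ hl hl' hl'' h1 h2 h3]
  group

end rel

/-- Opposite lines, with dual bases. -/
structure IsOpp (Q : QuadraticForm F (ι → F)) (p r ps rs : ι → F) : Prop where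
  l1 : IsLine Q p r
  l2 : IsLine Q ps rs
  h1 : polar (⇑Q) p ps = 1
  h2 : polar (⇑Q) r ps = 0
  h3 : polar (⇑Q) p rs = 0
  h4 : polar (⇑Q) r rs = 1

theorem IsOpp.symm {Q : QuadraticForm F (ι → F)} {p r ps rs : ι → F} (h : IsOpp Q p r ps rs) :
    IsOpp Q ps rs p r where
  l1 := h.l2
  l2 := h.l1
  h1 := by rw [polar_comm]; exact h.h1
  h2 := by rw [polar_comm]; exact h.h3
  h3 := by rw [polar_comm]; exact h.h2
  h4 := by rw [polar_comm]; exact h.h4

section opp

variable (Q : QuadraticForm F (ι → F)) (hQ : (polarBilin Q).Nondegenerate)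
  {p r ps rs : ι → F}

include hQ in
theorem rankOneCondition_of_opp (h : IsOpp Q p r ps rs) :
    RankOneCondition (Tl Q p r) (Tl Q ps rs) := by
  intro a ha ha1
  obtain ⟨t, rfl⟩ := exists_eq_lsg Q hQ h.l1 ha
  have ht : t ≠ 0 := by
    intro h0
    apply ha1
    rw [h0, lsg_zero]
  refine ⟨lsg Q hQ h.l2 (-t⁻¹), lsg_mem Q hQ h.l2 _, lsg_ne_one Q hQ h.l2
    (neg_ne_zero.mpr (inv_ne_zero ht)), ?_⟩
  rw [conj_Tl, conj_Tl, lsg_inv, lsg_inv, neg_neg]
  have e1 : act (lsg Q hQ h.l2 t⁻¹) p = p - t⁻¹ • rs := by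
    rw [act_lsg, polar_comm (⇑Q) rs p, polar_comm (⇑Q) ps p, h.h1, h.h3]; module
  have e2 : act (lsg Q hQ h.l2 t⁻¹) r = r + t⁻¹ • ps := by
    rw [act_lsg, polar_comm (⇑Q) rs r, polar_comm (⇑Q) ps r, h.h2, h.h4]; module
  have e3 : act (lsg Q hQ h.l1 (-t)) ps = ps + t • r := by
    rw [act_lsg, h.h1, h.h2]; module
  have e4 : act (lsg Q hQ h.l1 (-t)) rs = rs - t • p := by
    rw [act_lsg, h.h3, h.h4]; module
  rw [e1, e2, e3, e4]
  apply Tl_eq_of_mem
  · refine mem_plane.2 ⟨0, -t⁻¹, ?_⟩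
    rw [smul_sub, smul_smul, neg_mul, inv_mul_cancel₀ ht]; module
  · refine mem_plane.2 ⟨t⁻¹, 0, ?_⟩
    rw [smul_add, smul_smul, inv_mul_cancel₀ ht]; module
  · refine mem_plane.2 ⟨0, t, ?_⟩
    rw [smul_add, smul_smul, mul_inv_cancel₀ ht]; module
  · refine mem_plane.2 ⟨-t, 0, ?_⟩
    rw [smul_sub, smul_smul, neg_mul, mul_inv_cancel₀ ht]; module

include hQ in
theorem Tl_ne_of_opp (h : IsOpp Q p r ps rs) : Tl Q p r ≠ Tl Q ps rs := by
  intro heq
  have h1 : lsg Q hQ h.l1 1 ∈ Tl Q ps rs := by rw [← heq]; exact lsg_mem Q hQ h.l1 1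
  have h2 := h1 ps h.l2.hpp h.l2.hpr
  rw [act_lsg, h.h1, h.h2] at h2
  have h3 : r = 0 := by
    have : ps + (1 : F) • ((0 : F) • p - (1 : F) • r) - ps = 0 := by rw [h2, sub_self]
    rw [← neg_eq_zero, ← this]; module
  exact h.l1.r_ne h3

include hQ in
theorem isRankOnePair_of_opp (h : IsOpp Q p r ps rs) :
    IsRankOnePair (Tl Q p r) (Tl Q ps rs) where
  ne := Tl_ne_of_opp Q hQ h
  nilpotent_left := URoot.isNilpotent_of_isMulCommutative (Tl_comm Q hQ h.l1)
  nilpotent_right := URoot.isNilpotent_of_isMulCommutative (Tl_comm Q hQ h.l2)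
  cond_left := rankOneCondition_of_opp Q hQ h
  cond_right := rankOneCondition_of_opp Q hQ h.symm

end opp

end Cfsg.Agent.Lib.Helper27.OrthRoot
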