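import Mathlib
import Cfsg.Agent.Lib.Helper27.OrthRoot3

set_option autoImplicit false

/-!
The commutator case for two Siegel transvection groups and the trichotomy for two totally
singular lines.
-/

namespace Cfsg.Agent.Lib.Helper27.OrthRoot

open Cfsg Matrix QuadraticMap Module
open Cfsg.Agent.Lib.Helper19.OrthRefl Cfsg.Agent.Lib.Helper19.Parity
open scoped commutatorElement

variable {ι : Type} [Fintype ι] [DecidableEq ι] {F : Type*} [Field F]

section comm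

variable (Q : QuadraticForm F (ι → F)) (hQ : (polarBilin Q).Nondegenerate)
  {p r p' r' : ι → F}

include hQ in
theorem commutator_eq (hl : IsLine Q p r) (hl' : IsLine Q p' r') (hl'' : IsLine Q r' r)
    (h1 : polar (⇑Q) p p' = 1) (h2 : polar (⇑Q) p r' = 0) (h3 : polar (⇑Q) r p' = 0) :
    ⁅Tl Q p r, Tl Q p' r'⁆ = Tl Q r' r := by
  apply le_antisymm
  · rw [Subgroup.commutator_le]
    intro a ha b hb
    obtain ⟨s, rfl⟩ := exists_eq_lsg Q hQ hl ha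
    obtain ⟨t, rfl⟩ := exists_eq_lsg Q hQ hl' hb
    rw [commutatorElement_def, lsg_commutator Q hQ hl hl' hl'' h1 h2 h3]
    exact lsg_mem Q hQ hl'' _
  · intro x hx
    obtain ⟨y, rfl⟩ := exists_eq_lsg Q hQ hl'' hx
    have := Subgroup.commutator_mem_commutator (lsg_mem Q hQ hl 1) (lsg_mem Q hQ hl' y)
    rwa [commutatorElement_def, lsg_commutator Q hQ hl hl' hl'' h1 h2 h3, one_mul] at this

include hQ in
theorem commutatorCase (hl : IsLine Q p r) (hl' : IsLine Q p' r') (hl'' : IsLine Q r' r)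
    (h1 : polar (⇑Q) p p' = 1) (h2 : polar (⇑Q) p r' = 0) (h3 : polar (⇑Q) r p' = 0) :
    RootCommutatorCase (Sig Q) (Tl Q p r) (Tl Q p' r') ∧ ⁅Tl Q p r, Tl Q p' r'⁆ ≠ ⊥ := by
  have hC := commutator_eq Q hQ hl hl' hl'' h1 h2 h3
  have h2' : polar (⇑Q) r' p = 0 := by rw [polar_comm]; exact h2
  refine ⟨⟨?_, ?_, ?_, ?_⟩, ?_⟩
  · rw [hC]; exact ⟨r', r, hl'', rfl⟩
  · intro c hc x hx
    rw [hC] at hc
    have hle : Tl Q p r ⊔ Tl Q p' r' ≤ Subgroup.centralizer {c} := by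
      apply sup_le
      · intro a ha
        rw [Subgroup.mem_centralizer_iff]
        intro h hh
        rw [Set.mem_singleton_iff] at hh
        subst hh
        exact commute_of_orth Q hQ hl'' hl h2' hl''.hpr hl.hrp hl.hrr h hc a ha
      · intro b hb
        rw [Subgroup.mem_centralizer_iff]
        intro h hh
        rw [Set.mem_singleton_iff] at hh
        subst hh
        exact commute_of_orth Q hQ hl'' hl' hl'.hrp hl'.hrr h3 hl''.hrp h hc b hb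
    have h5 := hle hx
    rw [Subgroup.mem_centralizer_iff] at h5
    exact h5 c rfl
  · intro a ha ha1
    obtain ⟨s, rfl⟩ := exists_eq_lsg Q hQ hl ha
    have hs : s ≠ 0 := fun h0 => ha1 (by rw [h0, lsg_zero])
    rw [hC]
    apply le_antisymm
    · rw [Subgroup.closure_le]
      rintro _ ⟨b, hb, rfl⟩
      obtain ⟨t, rfl⟩ := exists_eq_lsg Q hQ hl' hb
      show lsg Q hQ hl s * lsg Q hQ hl' t * (lsg Q hQ hl s)⁻¹ * (lsg Q hQ hl' t)⁻¹ ∈ Tl Q r' r
      rw [lsg_commutator Q hQ hl hl' hl'' h1 h2 h3]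
      exact lsg_mem Q hQ hl'' _
    · intro x hx
      obtain ⟨y, rfl⟩ := exists_eq_lsg Q hQ hl'' hx
      apply Subgroup.subset_closure
      refine ⟨lsg Q hQ hl' (s⁻¹ * y), lsg_mem Q hQ hl' _, ?_⟩
      show lsg Q hQ hl s * lsg Q hQ hl' (s⁻¹ * y) * (lsg Q hQ hl s)⁻¹
        * (lsg Q hQ hl' (s⁻¹ * y))⁻¹ = lsg Q hQ hl'' y
      rw [lsg_commutator Q hQ hl hl' hl'' h1 h2 h3, ← mul_assoc, mul_inv_cancel₀ hs, one_mul]
  · intro b hb hb1
    obtain ⟨t, rfl⟩ := exists_eq_lsg Q hQ hl' hb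
    have ht : t ≠ 0 := fun h0 => hb1 (by rw [h0, lsg_zero])
    rw [hC]
    apply le_antisymm
    · rw [Subgroup.closure_le]
      rintro _ ⟨a, ha, rfl⟩
      obtain ⟨s, rfl⟩ := exists_eq_lsg Q hQ hl ha
      show lsg Q hQ hl s * lsg Q hQ hl' t * (lsg Q hQ hl s)⁻¹ * (lsg Q hQ hl' t)⁻¹ ∈ Tl Q r' r
      rw [lsg_commutator Q hQ hl hl' hl'' h1 h2 h3]
      exact lsg_mem Q hQ hl'' _
    · intro x hx
      obtain ⟨y, rfl⟩ := exists_eq_lsg Q hQ hl'' hx
      apply Subgroup.subset_closure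
      refine ⟨lsg Q hQ hl (y * t⁻¹), lsg_mem Q hQ hl _, ?_⟩
      show lsg Q hQ hl (y * t⁻¹) * lsg Q hQ hl' t * (lsg Q hQ hl (y * t⁻¹))⁻¹
        * (lsg Q hQ hl' t)⁻¹ = lsg Q hQ hl'' y
      rw [lsg_commutator Q hQ hl hl' hl'' h1 h2 h3, mul_assoc, inv_mul_cancel₀ ht, mul_one]
  · rw [hC]
    exact Tl_ne_bot Q hQ hl''

include hQ in
/-- Two lines whose Gram matrix has rank one. -/
theorem pair_aux (hl : IsLine Q p r) (hl' : IsLine Q p' r') (hα : polar (⇑Q) p p' ≠ 0)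
    (hdet : polar (⇑Q) p p' * polar (⇑Q) r r' - polar (⇑Q) p r' * polar (⇑Q) r p' = 0) :
    (∀ a ∈ Tl Q p r, ∀ b ∈ Tl Q p' r', a * b = b * a) ∨
    (RootCommutatorCase (Sig Q) (Tl Q p r) (Tl Q p' r') ∧ ⁅Tl Q p r, Tl Q p' r'⁆ ≠ ⊥) := by
  obtain ⟨α, hαd⟩ : ∃ α, α = polar (⇑Q) p p' := ⟨_, rfl⟩
  obtain ⟨β, hβd⟩ : ∃ β, β = polar (⇑Q) p r' := ⟨_, rfl⟩
  obtain ⟨γ, hγd⟩ : ∃ γ, γ = polar (⇑Q) r p' := ⟨_, rfl⟩
  obtain ⟨δ, hδd⟩ : ∃ δ, δ = polar (⇑Q) r r' := ⟨_, rfl⟩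
  rw [← hαd] at hα
  rw [← hαd, ← hβd, ← hγd, ← hδd] at hdet
  have hlA : IsLine Q ((1 : F) • p + (0 : F) • r) ((-γ * α⁻¹) • p + (1 : F) • r) :=
    hl.change (by rw [mul_one, zero_mul, sub_zero]; exact one_ne_zero)
  have hTA : Tl Q ((1 : F) • p + (0 : F) • r) ((-γ * α⁻¹) • p + (1 : F) • r) = Tl Q p r :=
    Tl_change Q p r (by rw [mul_one, zero_mul, sub_zero]; exact one_ne_zero)
  have hlB : IsLine Q (α⁻¹ • p' + (0 : F) • r') ((-β * α⁻¹) • p' + (1 : F) • r') :=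
    hl'.change (by rw [mul_one, zero_mul, sub_zero]; exact inv_ne_zero hα)
  have hTB : Tl Q (α⁻¹ • p' + (0 : F) • r') ((-β * α⁻¹) • p' + (1 : F) • r') = Tl Q p' r' :=
    Tl_change Q p' r' (by rw [mul_one, zero_mul, sub_zero]; exact inv_ne_zero hα)
  rw [← hTA, ← hTB]
  obtain ⟨P, hP⟩ : ∃ P, P = (1 : F) • p + (0 : F) • r := ⟨_, rfl⟩
  obtain ⟨R, hR⟩ : ∃ R, R = (-γ * α⁻¹) • p + (1 : F) • r := ⟨_, rfl⟩
  obtain ⟨P', hP'⟩ : ∃ P', P' = α⁻¹ • p' + (0 : F) • r' := ⟨_, rfl⟩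
  obtain ⟨R', hR'⟩ : ∃ R', R' = (-β * α⁻¹) • p' + (1 : F) • r' := ⟨_, rfl⟩
  have g1 : polar (⇑Q) P P' = 1 := by
    rw [hP, hP']
    simp only [polar_add_left, polar_add_right, polar_smul_left, polar_smul_right, ← hαd, ← hβd,
      ← hγd, ← hδd, smul_eq_mul]
    field_simp
    ring
  have g2 : polar (⇑Q) P R' = 0 := by
    rw [hP, hR']
    simp only [polar_add_left, polar_add_right, polar_smul_left, polar_smul_right, ← hαd, ← hβd,
      ← hγd, ← hδd, smul_eq_mul]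
    field_simp
    ring
  have g3 : polar (⇑Q) R P' = 0 := by
    rw [hR, hP']
    simp only [polar_add_left, polar_add_right, polar_smul_left, polar_smul_right, ← hαd, ← hβd,
      ← hγd, ← hδd, smul_eq_mul]
    field_simp
    ring
  have g4 : polar (⇑Q) R R' = 0 := by
    rw [hR, hR']
    simp only [polar_add_left, polar_add_right, polar_smul_left, polar_smul_right, ← hαd, ← hβd,
      ← hγd, ← hδd, smul_eq_mul]
    field_simp
    linear_combination hdet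
  rw [← hP, ← hR] at hlA ⊢
  rw [← hP', ← hR'] at hlB ⊢
  by_cases hdep : R' ∈ Submodule.span F {R}
  · left
    obtain ⟨lam, hlam⟩ := Submodule.mem_span_singleton.mp hdep
    intro a ha b hb
    obtain ⟨c, rfl⟩ := exists_eq_lsg Q hQ hlA ha
    obtain ⟨d, rfl⟩ := exists_eq_lsg Q hQ hlB hb
    exact lsg_commute_of_common Q hQ hlA hlB hlam.symm g1 g3 c d
  · right
    have hl'' : IsLine Q R' R := by
      refine ⟨?_, hlB.hr, hlA.hr, by rw [polar_comm]; exact g4⟩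
      intro a b hab
      by_cases ha : a = 0
      · refine ⟨ha, ?_⟩
        rw [ha, zero_smul, zero_add] at hab
        rcases smul_eq_zero.mp hab with h | h
        · exact h
        · exact absurd h hlA.r_ne
      · exfalso
        apply hdep
        rw [Submodule.mem_span_singleton]
        refine ⟨-(a⁻¹ * b), ?_⟩
        have h5 : a⁻¹ • (a • R' + b • R) = 0 := by rw [hab, smul_zero]
        rw [smul_add, smul_smul, smul_smul, inv_mul_cancel₀ ha, one_smul] at h5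
        rw [neg_smul]
        exact (eq_neg_of_add_eq_zero_left h5).symm
    exact commutatorCase Q hQ hlA hlB hl'' g1 g2 g3

include hQ in
/-- The trichotomy for two totally singular lines. -/
theorem pair_cases (hl : IsLine Q p r) (hl' : IsLine Q p' r') :
    (∀ a ∈ Tl Q p r, ∀ b ∈ Tl Q p' r', a * b = b * a) ∨
    (∃ p₁ r₁ p₂ r₂ : ι → F, IsOpp Q p₁ r₁ p₂ r₂ ∧ Tl Q p r = Tl Q p₁ r₁ ∧
      Tl Q p' r' = Tl Q p₂ r₂) ∨
    (RootCommutatorCase (Sig Q) (Tl Q p r) (Tl Q p' r') ∧ ⁅Tl Q p r, Tl Q p' r'⁆ ≠ ⊥) := by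
  by_cases hdet : polar (⇑Q) p p' * polar (⇑Q) r r' - polar (⇑Q) p r' * polar (⇑Q) r p' = 0
  · by_cases hα : polar (⇑Q) p p' ≠ 0
    · rcases pair_aux Q hQ hl hl' hα hdet with h | h
      · exact Or.inl h
      · exact Or.inr (Or.inr h)
    push Not at hα
    by_cases hβ : polar (⇑Q) p r' ≠ 0
    · have h5 := pair_aux Q hQ hl hl'.symm hβ (by linear_combination -hdet)
      rw [Tl_swap Q r' p'] at h5
      rcases h5 with h | h
      · exact Or.inl h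
      · exact Or.inr (Or.inr h)
    push Not at hβ
    by_cases hγ : polar (⇑Q) r p' ≠ 0
    · have h5 := pair_aux Q hQ hl.symm hl' hγ (by linear_combination -hdet)
      rw [Tl_swap Q r p] at h5
      rcases h5 with h | h
      · exact Or.inl h
      · exact Or.inr (Or.inr h)
    push Not at hγ
    by_cases hδ : polar (⇑Q) r r' ≠ 0
    · have h5 := pair_aux Q hQ hl.symm hl'.symm hδ (by linear_combination hdet)
      rw [Tl_swap Q r p, Tl_swap Q r' p'] at h5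
      rcases h5 with h | h
      · exact Or.inl h
      · exact Or.inr (Or.inr h)
    push Not at hδ
    exact Or.inl (commute_of_orth Q hQ hl hl' hα hβ hγ hδ)
  · right; left
    obtain ⟨α, hαd⟩ : ∃ α, α = polar (⇑Q) p p' := ⟨_, rfl⟩
    obtain ⟨β, hβd⟩ : ∃ β, β = polar (⇑Q) p r' := ⟨_, rfl⟩
    obtain ⟨γ, hγd⟩ : ∃ γ, γ = polar (⇑Q) r p' := ⟨_, rfl⟩
    obtain ⟨δ, hδd⟩ : ∃ δ, δ = polar (⇑Q) r r' := ⟨_, rfl⟩
    rw [← hαd, ← hβd, ← hγd, ← hδd] at hdet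
    obtain ⟨D, hD⟩ : ∃ D, D = α * δ - β * γ := ⟨_, rfl⟩
    rw [← hD] at hdet
    have hdd : (D⁻¹ * δ) * (D⁻¹ * α) - (D⁻¹ * (-γ)) * (D⁻¹ * (-β)) ≠ 0 := by
      have : (D⁻¹ * δ) * (D⁻¹ * α) - (D⁻¹ * (-γ)) * (D⁻¹ * (-β)) = D⁻¹ := by
        calc (D⁻¹ * δ) * (D⁻¹ * α) - (D⁻¹ * (-γ)) * (D⁻¹ * (-β))
            = D⁻¹ * (D⁻¹ * (α * δ - β * γ)) := by ring
          _ = D⁻¹ := by rw [← hD, inv_mul_cancel₀ hdet, mul_one]
      rw [this]
      exact inv_ne_zero hdet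
    have hlB : IsLine Q ((D⁻¹ * δ) • p' + (D⁻¹ * (-γ)) • r')
        ((D⁻¹ * (-β)) • p' + (D⁻¹ * α) • r') := hl'.change hdd
    have hTB := Tl_change Q p' r' hdd
    refine ⟨p, r, _, _, ⟨hl, hlB, ?_, ?_, ?_, ?_⟩, rfl, hTB.symm⟩
    · simp only [polar_add_right, polar_smul_right, ← hαd, ← hβd, ← hγd, ← hδd, smul_eq_mul]
      calc D⁻¹ * δ * α + D⁻¹ * -γ * β = D⁻¹ * (α * δ - β * γ) := by ring
        _ = 1 := by rw [← hD, inv_mul_cancel₀ hdet]
    · simp only [polar_add_right, polar_smul_right, ← hαd, ← hβd, ← hγd, ← hδd, smul_eq_mul]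
      ring
    · simp only [polar_add_right, polar_smul_right, ← hαd, ← hβd, ← hγd, ← hδd, smul_eq_mul]
      ring
    · simp only [polar_add_right, polar_smul_right, ← hαd, ← hβd, ← hγd, ← hδd, smul_eq_mul]
      calc D⁻¹ * -β * γ + D⁻¹ * α * δ = D⁻¹ * (α * δ - β * γ) := by ring
        _ = 1 := by rw [← hD, inv_mul_cancel₀ hdet]

end comm

end Cfsg.Agent.Lib.Helper27.OrthRoot
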