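import Mathlib
import Cfsg.Agent.Lib.Helper27.OrthRoot4
import Cfsg.Agent.Lib.Helper27.SpRoot3

set_option autoImplicit false

/-!
The image of `SL₂` generated by the Siegel transvection groups of two opposite totally singular
lines.
-/

namespace Cfsg.Agent.Lib.Helper27.OrthRoot

open Cfsg Matrix QuadraticMap Module
open Cfsg.Agent.Lib.Helper19.OrthRefl Cfsg.Agent.Lib.Helper19.Parity
open Cfsg.Agent.Lib.Helper19.WittQuad
open Cfsg.Agent.Lib.Helper27.SpRoot (Uu Ll sl2_ext sl2_det sl2_generated)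

variable {ι : Type} [Fintype ι] [DecidableEq ι] {F : Type*} [Field F]

/-- The linear map induced by a `2 × 2` matrix on the hyperbolic 4-space of two opposite lines,
extended by the identity on the orthogonal complement. -/
def LMo (Q : QuadraticForm F (ι → F)) (p r ps rs : ι → F) (M : Matrix (Fin 2) (Fin 2) F) :
    (ι → F) →ₗ[F] (ι → F) where
  toFun v := v + (polar (⇑Q) ps v * (M 0 0 - 1) - polar (⇑Q) r v * M 0 1) • p
    + (-(polar (⇑Q) ps v * M 1 0) + polar (⇑Q) r v * (M 1 1 - 1)) • rs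
    + (polar (⇑Q) rs v * (M 0 0 - 1) + polar (⇑Q) p v * M 0 1) • r
    + (polar (⇑Q) rs v * M 1 0 + polar (⇑Q) p v * (M 1 1 - 1)) • ps
  map_add' u v := by
    simp only [polar_add_right]
    module
  map_smul' a v := by
    simp only [polar_smul_right, RingHom.id_apply, smul_eq_mul]
    module

theorem LMo_apply (Q : QuadraticForm F (ι → F)) (p r ps rs : ι → F)
    (M : Matrix (Fin 2) (Fin 2) F) (v : ι → F) :
    LMo Q p r ps rs M v = v + (polar (⇑Q) ps v * (M 0 0 - 1) - polar (⇑Q) r v * M 0 1) • p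
    + (-(polar (⇑Q) ps v * M 1 0) + polar (⇑Q) r v * (M 1 1 - 1)) • rs
    + (polar (⇑Q) rs v * (M 0 0 - 1) + polar (⇑Q) p v * M 0 1) • r
    + (polar (⇑Q) rs v * M 1 0 + polar (⇑Q) p v * (M 1 1 - 1)) • ps := rfl

section opp

variable {Q : QuadraticForm F (ι → F)} {p r ps rs : ι → F}

theorem IsOpp.h1' (h : IsOpp Q p r ps rs) : polar (⇑Q) ps p = 1 := by
  rw [polar_comm]; exact h.h1
theorem IsOpp.h2' (h : IsOpp Q p r ps rs) : polar (⇑Q) ps r = 0 := by
  rw [polar_comm]; exact h.h2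
theorem IsOpp.h3' (h : IsOpp Q p r ps rs) : polar (⇑Q) rs p = 0 := by
  rw [polar_comm]; exact h.h3
theorem IsOpp.h4' (h : IsOpp Q p r ps rs) : polar (⇑Q) rs r = 1 := by
  rw [polar_comm]; exact h.h4

theorem x1_LMo (h : IsOpp Q p r ps rs) (M : Matrix (Fin 2) (Fin 2) F) (v : ι → F) :
    polar (⇑Q) ps (LMo Q p r ps rs M v)
      = polar (⇑Q) ps v * M 0 0 - polar (⇑Q) r v * M 0 1 := by
  rw [LMo_apply]
  simp only [polar_add_right, polar_smul_right, h.h1', h.h2', h.l2.hpp, h.l2.hpr, smul_eq_mul]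
  ring

theorem y1_LMo (h : IsOpp Q p r ps rs) (M : Matrix (Fin 2) (Fin 2) F) (v : ι → F) :
    polar (⇑Q) r (LMo Q p r ps rs M v)
      = -(polar (⇑Q) ps v * M 1 0) + polar (⇑Q) r v * M 1 1 := by
  rw [LMo_apply]
  simp only [polar_add_right, polar_smul_right, h.h2, h.h4, h.l1.hrr, h.l1.hrp, smul_eq_mul]
  ring

theorem x2_LMo (h : IsOpp Q p r ps rs) (M : Matrix (Fin 2) (Fin 2) F) (v : ι → F) :
    polar (⇑Q) rs (LMo Q p r ps rs M v)
      = polar (⇑Q) rs v * M 0 0 + polar (⇑Q) p v * M 0 1 := by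
  rw [LMo_apply]
  simp only [polar_add_right, polar_smul_right, h.h3', h.h4', h.l2.hrr, h.l2.hrp, smul_eq_mul]
  ring

theorem y2_LMo (h : IsOpp Q p r ps rs) (M : Matrix (Fin 2) (Fin 2) F) (v : ι → F) :
    polar (⇑Q) p (LMo Q p r ps rs M v)
      = polar (⇑Q) rs v * M 1 0 + polar (⇑Q) p v * M 1 1 := by
  rw [LMo_apply]
  simp only [polar_add_right, polar_smul_right, h.h1, h.h3, h.l1.hpp, h.l1.hpr, smul_eq_mul]
  ring

theorem LMo_one (v : ι → F) : LMo Q p r ps rs (1 : Matrix (Fin 2) (Fin 2) F) v = v := by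
  rw [LMo_apply]
  simp

theorem LMo_mul (h : IsOpp Q p r ps rs) (M N : Matrix (Fin 2) (Fin 2) F) (v : ι → F) :
    LMo Q p r ps rs (M * N) v = LMo Q p r ps rs M (LMo Q p r ps rs N v) := by
  rw [LMo_apply Q p r ps rs M, x1_LMo h, y1_LMo h, x2_LMo h, y2_LMo h, LMo_apply, LMo_apply]
  simp only [Matrix.mul_apply, Fin.sum_univ_two]
  module

theorem Q_four (h : IsOpp Q p r ps rs) (A B C D : F) :
    Q (A • p + B • rs + C • r + D • ps) = A * D + B * C := by
  rw [QuadraticMap.map_add (⇑Q), QuadraticMap.map_add (⇑Q), QuadraticMap.map_add (⇑Q)]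
  simp only [QuadraticMap.map_smul, polar_add_left, polar_smul_left, polar_smul_right,
    h.l1.hp, h.l1.hr, h.l2.hp, h.l2.hr, h.h1, h.h2, h.h3, h.h4, h.h1', h.h2', h.h3', h.h4',
    h.l1.hpr, h.l2.hrp, h.l1.hrp, h.l2.hpr, smul_eq_mul,
    mul_zero, mul_one, add_zero, zero_add]
  ring

theorem Q_LMo (h : IsOpp Q p r ps rs) (M : Matrix (Fin 2) (Fin 2) F)
    (hdet : M 0 0 * M 1 1 - M 0 1 * M 1 0 = 1) (v : ι → F) :
    Q (LMo Q p r ps rs M v) = Q v := by
  rw [LMo_apply]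
  rw [add_assoc, add_assoc, add_assoc, QuadraticMap.map_add (⇑Q)]
  rw [← add_assoc, ← add_assoc, Q_four h]
  simp only [polar_add_right, polar_smul_right, smul_eq_mul]
  rw [polar_comm (⇑Q) v p, polar_comm (⇑Q) v rs, polar_comm (⇑Q) v r, polar_comm (⇑Q) v ps]
  linear_combination (polar (⇑Q) ps v * polar (⇑Q) p v + polar (⇑Q) r v * polar (⇑Q) rs v) * hdet

end opp

section hom

variable (Q : QuadraticForm F (ι → F)) (hQ : (polarBilin Q).Nondegenerate)
  {p r ps rs : ι → F}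

/-- The homomorphism from `SL₂`. -/
noncomputable def phiO (h : IsOpp Q p r ps rs) :
    Matrix.SpecialLinearGroup (Fin 2) F →* ↥(Cfsg.isometryGroup F ⇑Q) where
  toFun M := ofEquiv (⇑Q) (LinearEquiv.ofInjectiveEndo (LMo Q p r ps rs M.1)
      (injective_of_isometry Q hQ _ (Q_LMo h M.1 (sl2_det M))))
    (fun v => by rw [LinearEquiv.coe_ofInjectiveEndo]; exact Q_LMo h M.1 (sl2_det M) v)
  map_one' := by
    apply ext_act
    intro x
    rw [act_one, act_ofEquiv, LinearEquiv.coe_ofInjectiveEndo]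
    exact LMo_one x
  map_mul' M N := by
    apply ext_act
    intro x
    rw [act_mul, act_ofEquiv, act_ofEquiv, act_ofEquiv, LinearEquiv.coe_ofInjectiveEndo,
      LinearEquiv.coe_ofInjectiveEndo, LinearEquiv.coe_ofInjectiveEndo]
    exact LMo_mul h M.1 N.1 x

theorem act_phiO (h : IsOpp Q p r ps rs) (M : Matrix.SpecialLinearGroup (Fin 2) F)
    (x : ι → F) : act (phiO Q hQ h M) x = LMo Q p r ps rs M.1 x := by
  have e : phiO Q hQ h M = ofEquiv (⇑Q) (LinearEquiv.ofInjectiveEndo (LMo Q p r ps rs M.1)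
      (injective_of_isometry Q hQ _ (Q_LMo h M.1 (sl2_det M))))
    (fun v => by rw [LinearEquiv.coe_ofInjectiveEndo]; exact Q_LMo h M.1 (sl2_det M) v) := rfl
  rw [e, act_ofEquiv, LinearEquiv.coe_ofInjectiveEndo]

theorem phiO_upper (h : IsOpp Q p r ps rs) (M : Matrix.SpecialLinearGroup (Fin 2) F)
    (h10 : M.1 1 0 = 0) (h00 : M.1 0 0 = 1) (h11 : M.1 1 1 = 1) :
    phiO Q hQ h M = lsg Q hQ h.l1 (-(M.1 0 1)) := by
  apply ext_act
  intro x
  rw [act_phiO, LMo_apply, act_lsg, h10, h00, h11]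
  simp only [sub_self, mul_zero, zero_add, add_zero, zero_smul, neg_zero]
  module

theorem phiO_lower (h : IsOpp Q p r ps rs) (M : Matrix.SpecialLinearGroup (Fin 2) F)
    (h01 : M.1 0 1 = 0) (h00 : M.1 0 0 = 1) (h11 : M.1 1 1 = 1) :
    phiO Q hQ h M = lsg Q hQ h.l2 (M.1 1 0) := by
  apply ext_act
  intro x
  rw [act_phiO, LMo_apply, act_lsg, h01, h00, h11]
  simp only [sub_self, mul_zero, zero_add, add_zero, zero_smul, sub_zero]
  module

theorem phiO_ker (h : IsOpp Q p r ps rs) : (phiO Q hQ h).ker = ⊥ := by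
  rw [eq_bot_iff]
  intro M hM
  rw [MonoidHom.mem_ker] at hM
  rw [Subgroup.mem_bot]
  have hx : ∀ x, LMo Q p r ps rs M.1 x = x := by
    intro x
    rw [← act_phiO Q hQ h, hM, act_one]
  have e1 := x2_LMo h M.1 r
  have e2 := y2_LMo h M.1 r
  have e3 := x2_LMo h M.1 ps
  have e4 := y2_LMo h M.1 ps
  rw [hx, h.h4', h.l1.hpr, one_mul, zero_mul, add_zero] at e1
  rw [hx, h.h4', h.l1.hpr, one_mul, zero_mul, add_zero] at e2
  rw [hx, h.h1, h.l2.hrp, one_mul, zero_mul, zero_add] at e3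
  rw [hx, h.h1, h.l2.hrp, one_mul, zero_mul, zero_add] at e4
  apply sl2_ext
  · rw [← e1]; simp
  · rw [← e3]; simp
  · rw [← e2]; simp
  · rw [← e4]; simp

theorem phiO_map_upper (h : IsOpp Q p r ps rs) :
    (upperUnipotentSL2 F).map (phiO Q hQ h) = Tl Q p r := by
  unfold upperUnipotentSL2
  rw [MonoidHom.map_closure]
  have hs : (phiO Q hQ h) '' {g : Matrix.SpecialLinearGroup (Fin 2) F |
      (g : Matrix (Fin 2) (Fin 2) F) 1 0 = 0 ∧ (g : Matrix (Fin 2) (Fin 2) F) 0 0 = 1 ∧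
        (g : Matrix (Fin 2) (Fin 2) F) 1 1 = 1} = (Tl Q p r : Set _) := by
    ext g
    constructor
    · rintro ⟨M, ⟨h10, h00, h11⟩, rfl⟩
      rw [phiO_upper Q hQ h M h10 h00 h11]
      exact lsg_mem Q hQ h.l1 _
    · intro hg
      obtain ⟨c, rfl⟩ := exists_eq_lsg Q hQ h.l1 hg
      refine ⟨Uu (-c), ⟨by simp [Uu], by simp [Uu], by simp [Uu]⟩, ?_⟩
      rw [phiO_upper Q hQ h (Uu (-c)) (by simp [Uu]) (by simp [Uu]) (by simp [Uu])]
      simp [Uu]
  rw [hs, Subgroup.closure_eq]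

theorem phiO_map_lower (h : IsOpp Q p r ps rs) :
    (lowerUnipotentSL2 F).map (phiO Q hQ h) = Tl Q ps rs := by
  unfold lowerUnipotentSL2
  rw [MonoidHom.map_closure]
  have hs : (phiO Q hQ h) '' {g : Matrix.SpecialLinearGroup (Fin 2) F |
      (g : Matrix (Fin 2) (Fin 2) F) 0 1 = 0 ∧ (g : Matrix (Fin 2) (Fin 2) F) 0 0 = 1 ∧
        (g : Matrix (Fin 2) (Fin 2) F) 1 1 = 1} = (Tl Q ps rs : Set _) := by
    ext g
    constructor
    · rintro ⟨M, ⟨h01, h00, h11⟩, rfl⟩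
      rw [phiO_lower Q hQ h M h01 h00 h11]
      exact lsg_mem Q hQ h.l2 _
    · intro hg
      obtain ⟨c, rfl⟩ := exists_eq_lsg Q hQ h.l2 hg
      refine ⟨Ll c, ⟨by simp [Ll], by simp [Ll], by simp [Ll]⟩, ?_⟩
      rw [phiO_lower Q hQ h (Ll c) (by simp [Ll]) (by simp [Ll]) (by simp [Ll])]
      simp [Ll]
  rw [hs, Subgroup.closure_eq]

include hQ in
theorem isPSL2Pair_of_opp (h : IsOpp Q p r ps rs) :
    IsPSL2PairOver F (Tl Q p r) (Tl Q ps rs) := by
  refine ⟨phiO Q hQ h, ?_, ?_, ?_, ?_⟩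
  · rw [MonoidHom.range_eq_map, ← sl2_generated, Subgroup.map_sup, phiO_map_upper,
      phiO_map_lower]
  · rw [phiO_ker]
    exact bot_le
  · exact phiO_map_upper Q hQ h
  · exact phiO_map_lower Q hQ h

end hom

end Cfsg.Agent.Lib.Helper27.OrthRoot
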