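import Mathlib
import Cfsg.Agent.Lib.Helper27.OrthRoot5

set_option autoImplicit false

/-!
The Siegel transvection groups of the totally singular lines form a set of `F`-root subgroups of
the group they generate.
-/

namespace Cfsg.Agent.Lib.Helper27.OrthRoot

open Cfsg Matrix QuadraticMap Module
open Cfsg.Agent.Lib.Helper19.OrthRefl Cfsg.Agent.Lib.Helper19.Parity

variable {ι : Type} [Fintype ι] [DecidableEq ι] {F : Type*} [Field F]

/-- The group generated by the Siegel transvection groups. -/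
def G0 (Q : QuadraticForm F (ι → F)) : Subgroup ↥(Cfsg.isometryGroup F ⇑Q) := ⨆ B ∈ Sig Q, B

/-- The Siegel transvection groups, as subgroups of the group they generate. -/
def Sig0 (Q : QuadraticForm F (ι → F)) : Set (Subgroup ↥(G0 Q)) :=
  (fun A : Subgroup ↥(Cfsg.isometryGroup F ⇑Q) => A.subgroupOf (G0 Q)) '' Sig Q

section

variable (Q : QuadraticForm F (ι → F)) (hQ : (polarBilin Q).Nondegenerate)

theorem Tl_le_G0 {p r : ι → F} (hl : IsLine Q p r) : Tl Q p r ≤ G0 Q :=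
  le_iSup₂ (f := fun B _ => B) (Tl Q p r) ⟨p, r, hl, rfl⟩

include hQ in
theorem Sig0_ne_bot {p r : ι → F} (hl : IsLine Q p r) : (Tl Q p r).subgroupOf (G0 Q) ≠ ⊥ := by
  intro h
  apply Tl_ne_bot Q hQ hl
  have h1 := map_subgroupOf_subtype (Tl_le_G0 Q hl)
  rw [h, Subgroup.map_bot] at h1
  exact h1.symm

include hQ in
theorem isRootSubgroupSet : IsRootSubgroupSet (Sig0 Q) where
  commutative := by
    rintro _ ⟨_, ⟨p, r, hl, rfl⟩, rfl⟩
    exact URoot.isMulCommutative_subgroupOf (Tl_comm Q hQ hl)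
  ne_bot := by
    rintro _ ⟨_, ⟨p, r, hl, rfl⟩, rfl⟩
    exact Sig0_ne_bot Q hQ hl
  generates := URoot.iSup_subgroupOf_eq_top (Sig Q)
  conj_mem := by
    rintro _ ⟨_, ⟨p, r, hl, rfl⟩, rfl⟩ g
    rw [URoot.conjBy_subgroupOf, conj_Tl]
    exact ⟨_, ⟨_, _, hl.act g.1, rfl⟩, rfl⟩
  pair := by
    rintro _ ⟨_, ⟨p, r, hl, rfl⟩, rfl⟩ _ ⟨_, ⟨p', r', hl', rfl⟩, rfl⟩
    rcases pair_cases Q hQ hl hl' with h | ⟨p₁, r₁, p₂, r₂, hopp, e1, e2⟩ | ⟨h, -⟩
    · exact Or.inl (URoot.commutator_subgroupOf_eq_bot h)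
    · right; left
      rw [e1, e2]
      exact URoot.isRankOnePair_subgroupOf (Tl_le_G0 Q hopp.l1) (Tl_le_G0 Q hopp.l2)
        (Tl_comm Q hQ hopp.l1) (Tl_comm Q hQ hopp.l2) (isRankOnePair_of_opp Q hQ hopp)
    · right; right
      exact rootCommutatorCase_subgroupOf (Tl_le_G0 Q hl) (Tl_le_G0 Q hl') h

include hQ in
theorem isKRootSubgroupSet : IsKRootSubgroupSet F (Sig0 Q) := by
  refine ⟨isRootSubgroupSet Q hQ, ?_⟩
  rintro _ ⟨_, ⟨p, r, hl, rfl⟩, rfl⟩ _ ⟨_, ⟨p', r', hl', rfl⟩, rfl⟩ hpair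
  have hAne := Sig0_ne_bot Q hQ hl
  rcases pair_cases Q hQ hl hl' with h | ⟨p₁, r₁, p₂, r₂, hopp, e1, e2⟩ | ⟨h, hne⟩
  · exfalso
    refine URoot.not_rankOnePair_of_commute hAne ?_ hpair
    intro a ha b hb
    apply Subtype.ext
    exact h a.1 (Subgroup.mem_subgroupOf.mp ha) b.1 (Subgroup.mem_subgroupOf.mp hb)
  · rw [e1, e2]
    exact isPSL2PairOver_subgroupOf (Tl_le_G0 Q hopp.l1) (Tl_le_G0 Q hopp.l2)
      (isPSL2Pair_of_opp Q hQ hopp)
  · exfalso
    refine not_rankOnePair_of_commutatorCase hAne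
      (URoot.isMulCommutative_subgroupOf (Tl_comm Q hQ hl')) ?_
      (rootCommutatorCase_subgroupOf (Tl_le_G0 Q hl) (Tl_le_G0 Q hl') h) hpair
    rw [commutator_subgroupOf (Tl_le_G0 Q hl) (Tl_le_G0 Q hl')]
    intro h0
    apply hne
    have h1 := map_subgroupOf_subtype (commutator_le_of_le (Tl_le_G0 Q hl) (Tl_le_G0 Q hl'))
    rw [h0, Subgroup.map_bot] at h1
    exact h1.symm

end

end Cfsg.Agent.Lib.Helper27.OrthRoot
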