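import Mathlib
import Cfsg.Agent.Lib.Helper27.OrthRoot6

set_option autoImplicit false

/-!
Connectivity of the graph of opposite totally singular lines in a non-degenerate quadratic space
of dimension at least six.
-/

namespace Cfsg.Agent.Lib.Helper27.OrthRoot

open Cfsg Matrix QuadraticMap Module
open Cfsg.Agent.Lib.Helper19.OrthRefl Cfsg.Agent.Lib.Helper19.Parity

variable {ι : Type} [Fintype ι] [DecidableEq ι] {F : Type*} [Field F]

section

variable (Q : QuadraticForm F (ι → F)) (hQ : (polarBilin Q).Nondegenerate)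

include hQ in
/-- A non-singular vector orthogonal to three given vectors. -/
theorem exists_nonsing_orth3 (hn : 6 ≤ Fintype.card ι) (x z z' : ι → F)
    (hxz : polar (⇑Q) x z = 0) (hxz' : polar (⇑Q) x z' = 0) (hzz' : polar (⇑Q) z z' ≠ 0)
    (hz : Q z = 0) (hz' : Q z' = 0) :
    ∃ w, Q w ≠ 0 ∧ polar (⇑Q) x w = 0 ∧ polar (⇑Q) z w = 0 ∧ polar (⇑Q) z' w = 0 := by
  by_contra hcon
  push Not at hcon
  obtain ⟨W, hW⟩ : ∃ W : Submodule F (ι → F), W = Submodule.span F (Set.range ![x, z, z']) :=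
    ⟨_, rfl⟩
  have hxW : x ∈ W := by rw [hW]; exact Submodule.subset_span ⟨0, rfl⟩
  have hzW : z ∈ W := by rw [hW]; exact Submodule.subset_span ⟨1, rfl⟩
  have hz'W : z' ∈ W := by rw [hW]; exact Submodule.subset_span ⟨2, rfl⟩
  have hWfr : finrank F W ≤ 3 := by
    rw [hW]
    have := finrank_range_le_card (R := F) ![x, z, z']
    rw [Fintype.card_fin] at this
    exact this
  have hfr : finrank F (ι → F) = Fintype.card ι := Module.finrank_fintype_fun_eq_card F
  have hU : 3 ≤ finrank F (orth Q W) := by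
    rw [finrank_orth hQ, hfr]
    omega
  have hsing : ∀ u ∈ orth Q W, Q u = 0 := by
    intro u hu
    by_contra hne
    exact hcon u hne (mem_orth.1 hu x hxW) (mem_orth.1 hu z hzW) (mem_orth.1 hu z' hz'W)
  have hle : orth Q W ≤ Submodule.span F {x} := by
    intro u hu
    have huW : u ∈ W := by
      rw [← orth_orth hQ W, mem_orth]
      intro u' hu'
      have h1 := hsing _ ((orth Q W).add_mem hu' hu)
      rw [QuadraticMap.map_add (⇑Q), hsing u' hu', hsing u hu, zero_add, zero_add] at h1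
      exact h1
    rw [hW, Submodule.mem_span_range_iff_exists_fun] at huW
    obtain ⟨c, hc⟩ := huW
    rw [Fin.sum_univ_three] at hc
    simp only [Matrix.cons_val_zero, Matrix.cons_val_one, Matrix.cons_val_two,
      Matrix.head_cons, Matrix.tail_cons] at hc
    have hzz : polar (⇑Q) z z = 0 := polar_self_of_singular Q hz
    have hz'z' : polar (⇑Q) z' z' = 0 := polar_self_of_singular Q hz'
    have hzx : polar (⇑Q) z x = 0 := by rw [polar_comm]; exact hxz
    have hz'x : polar (⇑Q) z' x = 0 := by rw [polar_comm]; exact hxz'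
    have hz'z : polar (⇑Q) z' z ≠ 0 := by rw [polar_comm]; exact hzz'
    have e1 := mem_orth.1 hu z hzW
    have e2 := mem_orth.1 hu z' hz'W
    rw [← hc] at e1 e2
    simp only [polar_add_right, polar_smul_right, hzz, hzx, hz'x, hz'z', smul_eq_mul, mul_zero,
      zero_add, add_zero] at e1 e2
    have hc2 : c 2 = 0 := (mul_eq_zero.mp e1).resolve_right hzz'
    have hc1 : c 1 = 0 := (mul_eq_zero.mp e2).resolve_right hz'z
    rw [hc1, hc2, zero_smul, zero_smul, add_zero, add_zero] at hc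
    rw [← hc]
    exact Submodule.smul_mem _ _ (Submodule.mem_span_singleton_self x)
  have h1 := Submodule.finrank_mono hle
  have h2 : finrank F (Submodule.span F {x}) ≤ 1 := by
    have := finrank_span_le_card (R := F) ({x} : Set (ι → F))
    simpa using this
  omega

include hQ in
/-- A singular vector orthogonal to `x` and not orthogonal to two given singular vectors of
`x^⊥` outside `⟨x⟩`. -/
theorem exists_both (hn : 6 ≤ Fintype.card ι) (x z z' : ι → F)
    (hz : Q z = 0) (hz' : Q z' = 0) (hxz : polar (⇑Q) x z = 0) (hxz' : polar (⇑Q) x z' = 0)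
    (hzx : z ∉ Submodule.span F {x}) (hz'x : z' ∉ Submodule.span F {x}) :
    ∃ y, Q y = 0 ∧ polar (⇑Q) x y = 0 ∧ polar (⇑Q) y z ≠ 0 ∧ polar (⇑Q) y z' ≠ 0 := by
  have hzz : polar (⇑Q) z z = 0 := polar_self_of_singular Q hz
  have hz'z' : polar (⇑Q) z' z' = 0 := polar_self_of_singular Q hz'
  by_cases hzz' : polar (⇑Q) z z' = 0
  · -- orthogonal case
    obtain ⟨v1, hv1x, hv1z⟩ := exists_orth_polar_ne Q hQ x z hzx
    obtain ⟨v2, hv2x, hv2z'⟩ := exists_orth_polar_ne Q hQ x z' hz'x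
    obtain ⟨v, hvx, hvz, hvz'⟩ : ∃ v, polar (⇑Q) x v = 0 ∧ polar (⇑Q) v z ≠ 0 ∧
        polar (⇑Q) v z' ≠ 0 := by
      by_cases h1 : polar (⇑Q) v1 z' = 0
      · by_cases h2 : polar (⇑Q) v2 z = 0
        · refine ⟨v1 + v2, ?_, ?_, ?_⟩
          · rw [polar_add_right, hv1x, hv2x, add_zero]
          · rw [polar_add_left, h2, add_zero]; exact hv1z
          · rw [polar_add_left, h1, zero_add]; exact hv2z'
        · exact ⟨v2, hv2x, h2, hv2z'⟩
      · exact ⟨v1, hv1x, hv1z, h1⟩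
    refine ⟨v - (Q v / polar (⇑Q) v z) • z, ?_, ?_, ?_, ?_⟩
    · rw [Q_sub', QuadraticMap.map_smul, hz, polar_smul_right, smul_eq_mul, smul_eq_mul]
      field_simp
      ring
    · rw [polar_sub_right, polar_smul_right, hvx, hxz, smul_zero, sub_zero]
    · rw [polar_sub_left, polar_smul_left, hzz, smul_zero, sub_zero]; exact hvz
    · rw [polar_sub_left, polar_smul_left, hzz', smul_zero, sub_zero]; exact hvz'
  · -- non-orthogonal case
    obtain ⟨w, hw, hxw, hzw, hz'w⟩ := exists_nonsing_orth3 Q hQ hn x z z' hxz hxz' hzz' hz hz'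
    have hz'z : polar (⇑Q) z' z = polar (⇑Q) z z' := polar_comm _ _ _
    have hwz : polar (⇑Q) w z = 0 := by rw [polar_comm]; exact hzw
    have hwz' : polar (⇑Q) w z' = 0 := by rw [polar_comm]; exact hz'w
    refine ⟨z + (-(Q w) / polar (⇑Q) z z') • z' + w, ?_, ?_, ?_, ?_⟩
    · rw [QuadraticMap.map_add (⇑Q), QuadraticMap.map_add (⇑Q), QuadraticMap.map_smul, hz, hz']
      simp only [polar_add_left, polar_smul_left, polar_smul_right, hzw, hz'w, smul_eq_mul,
        mul_zero, add_zero, zero_add]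
      field_simp
      ring
    · rw [polar_add_right, polar_add_right, polar_smul_right, hxz, hxz', hxw, smul_zero,
        add_zero, add_zero]
    · rw [polar_add_left, polar_add_left, polar_smul_left, hzz, hwz, hz'z, smul_eq_mul,
        zero_add, add_zero]
      rw [div_mul_cancel₀ _ hzz']
      exact neg_ne_zero.mpr hw
    · rw [polar_add_left, polar_add_left, polar_smul_left, hz'z', hwz', smul_zero, add_zero,
        add_zero]
      exact hzz'

include hQ in
/-- Two lines with non-singular Gram matrix are opposite. -/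
theorem isRankOnePair_of_det {p r p' r' : ι → F} (hl : IsLine Q p r) (hl' : IsLine Q p' r')
    (hdet : polar (⇑Q) p p' * polar (⇑Q) r r' - polar (⇑Q) p r' * polar (⇑Q) r p' ≠ 0) :
    IsRankOnePair (Tl Q p r) (Tl Q p' r') := by
  obtain ⟨α, hαd⟩ : ∃ α, α = polar (⇑Q) p p' := ⟨_, rfl⟩
  obtain ⟨β, hβd⟩ : ∃ β, β = polar (⇑Q) p r' := ⟨_, rfl⟩
  obtain ⟨γ, hγd⟩ : ∃ γ, γ = polar (⇑Q) r p' := ⟨_, rfl⟩
  obtain ⟨δ, hδd⟩ : ∃ δ, δ = polar (⇑Q) r r' := ⟨_, rfl⟩
  rw [← hαd, ← hβd, ← hγd, ← hδd] at hdet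
  obtain ⟨D, hD⟩ : ∃ D, D = α * δ - β * γ := ⟨_, rfl⟩
  rw [← hD] at hdet
  have hdd : (D⁻¹ * δ) * (D⁻¹ * α) - (D⁻¹ * (-γ)) * (D⁻¹ * (-β)) ≠ 0 := by
    have : (D⁻¹ * δ) * (D⁻¹ * α) - (D⁻¹ * (-γ)) * (D⁻¹ * (-β)) = D⁻¹ := by
      calc (D⁻¹ * δ) * (D⁻¹ * α) - (D⁻¹ * (-γ)) * (D⁻¹ * (-β))
          = D⁻¹ * (D⁻¹ * (α * δ - β * γ)) := by ring
        _ = D⁻¹ := by rw [← hD, inv_mul_cancel₀ hdet, mul_one]
    rw [this]
    exact inv_ne_zero hdet
  have hlB : IsLine Q ((D⁻¹ * δ) • p' + (D⁻¹ * (-γ)) • r')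
      ((D⁻¹ * (-β)) • p' + (D⁻¹ * α) • r') := hl'.change hdd
  have hTB := Tl_change Q p' r' hdd
  rw [← hTB]
  apply isRankOnePair_of_opp Q hQ
  refine ⟨hl, hlB, ?_, ?_, ?_, ?_⟩
  · simp only [polar_add_right, polar_smul_right, ← hαd, ← hβd, smul_eq_mul]
    calc D⁻¹ * δ * α + D⁻¹ * -γ * β = D⁻¹ * (α * δ - β * γ) := by ring
      _ = 1 := by rw [← hD, inv_mul_cancel₀ hdet]
  · simp only [polar_add_right, polar_smul_right, ← hγd, ← hδd, smul_eq_mul]
    ring
  · simp only [polar_add_right, polar_smul_right, ← hαd, ← hβd, smul_eq_mul]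
    ring
  · simp only [polar_add_right, polar_smul_right, ← hγd, ← hδd, smul_eq_mul]
    calc D⁻¹ * -β * γ + D⁻¹ * α * δ = D⁻¹ * (α * δ - β * γ) := by ring
      _ = 1 := by rw [← hD, inv_mul_cancel₀ hdet]

include hQ in
/-- Two totally singular lines have a common opposite line. -/
theorem exists_common_opp (hn : 6 ≤ Fintype.card ι) {p r p' r' : ι → F} (hl : IsLine Q p r)
    (hl' : IsLine Q p' r') :
    ∃ x y : ι → F, IsLine Q x y ∧ IsRankOnePair (Tl Q p r) (Tl Q x y) ∧
      IsRankOnePair (Tl Q p' r') (Tl Q x y) := by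
  have h0 : ∀ v : ι → F, polar (⇑Q) (0 : ι → F) v = 0 := fun v => polar_zero_left _ _
  have hspan0 : ∀ v : ι → F, v ≠ 0 → v ∉ Submodule.span F {(0 : ι → F)} := by
    intro v hv hmem
    rw [Submodule.span_zero_singleton, Submodule.mem_bot] at hmem
    exact hv hmem
  obtain ⟨x, hx, -, hxp, hxp'⟩ := exists_both Q hQ hn 0 p p' hl.hp hl'.hp (h0 p) (h0 p')
    (hspan0 p hl.p_ne) (hspan0 p' hl'.p_ne)
  have hx0 : x ≠ 0 := by
    intro h
    rw [h, polar_zero_left] at hxp
    exact hxp rfl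
  -- the points of the two lines orthogonal to `x`
  obtain ⟨c, hc⟩ : ∃ c, c = polar (⇑Q) x r / polar (⇑Q) x p := ⟨_, rfl⟩
  obtain ⟨c', hc'⟩ : ∃ c', c' = polar (⇑Q) x r' / polar (⇑Q) x p' := ⟨_, rfl⟩
  obtain ⟨z, hzd⟩ : ∃ z, z = (-c) • p + (1 : F) • r := ⟨_, rfl⟩
  obtain ⟨z', hz'd⟩ : ∃ z', z' = (-c') • p' + (1 : F) • r' := ⟨_, rfl⟩
  have hQz : Q z = 0 := by rw [hzd]; exact hl.Q_comb _ _
  have hQz' : Q z' = 0 := by rw [hz'd]; exact hl'.Q_comb _ _
  have hxz : polar (⇑Q) x z = 0 := by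
    rw [hzd, polar_add_right, polar_smul_right, polar_smul_right, hc, smul_eq_mul, smul_eq_mul]
    field_simp
    ring
  have hxz' : polar (⇑Q) x z' = 0 := by
    rw [hz'd, polar_add_right, polar_smul_right, polar_smul_right, hc', smul_eq_mul, smul_eq_mul]
    field_simp
    ring
  have hpz : polar (⇑Q) p z = 0 := by
    rw [hzd, polar_add_right, polar_smul_right, polar_smul_right, hl.hpp, hl.hpr, smul_zero,
      smul_zero, add_zero]
  have hp'z' : polar (⇑Q) p' z' = 0 := by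
    rw [hz'd, polar_add_right, polar_smul_right, polar_smul_right, hl'.hpp, hl'.hpr, smul_zero,
      smul_zero, add_zero]
  have hz0 : z ≠ 0 := by
    intro h
    rw [hzd] at h
    exact one_ne_zero (hl.indep _ _ h).2
  have hz'0 : z' ≠ 0 := by
    intro h
    rw [hz'd] at h
    exact one_ne_zero (hl'.indep _ _ h).2
  have hzx : z ∉ Submodule.span F {x} := by
    intro hmem
    obtain ⟨a, ha⟩ := Submodule.mem_span_singleton.mp hmem
    have h1 : polar (⇑Q) p (a • x) = 0 := by rw [ha]; exact hpz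
    rw [polar_smul_right, polar_comm (⇑Q) p x, smul_eq_mul] at h1
    have ha0 : a = 0 := (mul_eq_zero.mp h1).resolve_right (by rw [polar_comm]; rw [polar_comm] at hxp; exact hxp)
    rw [ha0, zero_smul] at ha
    exact hz0 ha.symm
  have hz'x : z' ∉ Submodule.span F {x} := by
    intro hmem
    obtain ⟨a, ha⟩ := Submodule.mem_span_singleton.mp hmem
    have h1 : polar (⇑Q) p' (a • x) = 0 := by rw [ha]; exact hp'z'
    rw [polar_smul_right, polar_comm (⇑Q) p' x, smul_eq_mul] at h1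
    have ha0 : a = 0 := (mul_eq_zero.mp h1).resolve_right hxp'
    rw [ha0, zero_smul] at ha
    exact hz'0 ha.symm
  obtain ⟨y, hy, hxy, hyz, hyz'⟩ := exists_both Q hQ hn x z z' hQz hQz' hxz hxz' hzx hz'x
  have hlxy : IsLine Q x y := by
    refine ⟨?_, hx, hy, hxy⟩
    intro a b hab
    have h1 : polar (⇑Q) (a • x + b • y) z = 0 := by rw [hab]; exact polar_zero_left _ _
    rw [polar_add_left, polar_smul_left, polar_smul_left, hxz, smul_zero, zero_add,
      smul_eq_mul] at h1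
    have hb : b = 0 := (mul_eq_zero.mp h1).resolve_right hyz
    rw [hb, zero_smul, add_zero] at hab
    exact ⟨(smul_eq_zero.mp hab).resolve_right hx0, hb⟩
  refine ⟨x, y, hlxy, ?_, ?_⟩
  · apply isRankOnePair_of_det Q hQ hl hlxy
    have hr : r = z + c • p := by rw [hzd]; module
    have e : polar (⇑Q) p x * polar (⇑Q) r y - polar (⇑Q) p y * polar (⇑Q) r x
        = polar (⇑Q) x p * polar (⇑Q) y z := by
      rw [hr]
      simp only [polar_add_left, polar_smul_left, smul_eq_mul]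
      rw [polar_comm (⇑Q) z x, hxz, polar_comm (⇑Q) p x, polar_comm (⇑Q) z y]
      ring
    rw [e]
    exact mul_ne_zero hxp hyz
  · apply isRankOnePair_of_det Q hQ hl' hlxy
    have hr : r' = z' + c' • p' := by rw [hz'd]; module
    have e : polar (⇑Q) p' x * polar (⇑Q) r' y - polar (⇑Q) p' y * polar (⇑Q) r' x
        = polar (⇑Q) x p' * polar (⇑Q) y z' := by
      rw [hr]
      simp only [polar_add_left, polar_smul_left, smul_eq_mul]
      rw [polar_comm (⇑Q) z' x, hxz', polar_comm (⇑Q) p' x, polar_comm (⇑Q) z' y]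
      ring
    rw [e]
    exact mul_ne_zero hxp' hyz'

include hQ in
theorem isConnected (hn : 6 ≤ Fintype.card ι) : IsConnectedFamily (FAdj (Sig Q)) (Sig Q) := by
  rintro A ⟨p, r, hl, rfl⟩ B ⟨p', r', hl', rfl⟩
  obtain ⟨x, y, hlxy, h1, h2⟩ := exists_common_opp Q hQ hn hl hl'
  have hC : Tl Q x y ∈ Sig Q := ⟨x, y, hlxy, rfl⟩
  exact Relation.ReflTransGen.tail
    (Relation.ReflTransGen.single ⟨⟨p, r, hl, rfl⟩, hC, h1⟩)
    ⟨hC, ⟨p', r', hl', rfl⟩, RankOnePair_symm h2⟩

end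

end Cfsg.Agent.Lib.Helper27.OrthRoot
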