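import Mathlib
import Cfsg.Agent.Lib.Helper19.QuadStd
import Cfsg.Agent.Lib.Helper27.OrthRoot7

set_option autoImplicit false

/-!
The hyperbolic quadratic form as a bundled quadratic form whose underlying function is
`Cfsg.quadFormPlus` by definition, and the statement on Siegel transvection groups for it.
-/

namespace Cfsg.Agent.Lib.Helper27.OrthRoot

open Cfsg Matrix QuadraticMap Module
open Cfsg.Agent.Lib.Helper19.OrthRefl Cfsg.Agent.Lib.Helper19.Parity
open Cfsg.Agent.Lib.Helper19.QuadStd

variable {F : Type*} [Field F]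

/-- The hyperbolic form, bundled, with underlying function `Cfsg.quadFormPlus n F`. -/
noncomputable def plusQF (n : ℕ) (F : Type*) [Field F] : QuadraticForm F (Fin n ⊕ Fin n → F) where
  toFun := Cfsg.quadFormPlus n F
  toFun_smul := fun a x => by
    rw [← stdPlus_apply, ← stdPlus_apply]
    exact QuadraticMap.map_smul _ a x
  exists_companion' := by
    obtain ⟨B, hB⟩ := (stdPlus n F).exists_companion
    refine ⟨B, fun x y => ?_⟩
    have h := hB x y
    rw [stdPlus_apply, stdPlus_apply, stdPlus_apply] at h
    exact h

theorem coe_plusQF (n : ℕ) : ⇑(plusQF n F) = Cfsg.quadFormPlus n F := rfl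

theorem plusQF_eq (n : ℕ) : plusQF n F = stdPlus n F := by
  ext v
  exact (stdPlus_apply n v).symm

theorem plusQF_nondeg (n : ℕ) : (polarBilin (plusQF n F)).Nondegenerate := by
  rw [plusQF_eq]
  exact stdPlus_nondeg n

end Cfsg.Agent.Lib.Helper27.OrthRoot
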