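import Mathlib
import Cfsg.Prelude.Def_GeometricClasses
import Cfsg.Agent.Lib.Helper19.OrthSiegel
import Cfsg.Agent.Lib.Helper27.OrthPlane
import Cfsg.Agent.Lib.Helper27.TensorForm
import Cfsg.Agent.Lib.Helper27.TensorF2
import Cfsg.Agent.Lib.Helper27.SpTensor

set_option autoImplicit false

/-!
Tensor decompositions `Sp₂(2) ⊗ Sp_{n₂}(2)` inside `Ω⁺_{2n₂}(2)`: the stabiliser in `Ω` normalises
the cyclic group of order three generated by `ω ⊗ 1`, and this normaliser is a proper subgroup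
of `Ω` that is strictly bigger.
-/

namespace Cfsg.Agent.Lib.Helper27.OrthSpTensor

open Cfsg Matrix QuadraticMap
open Cfsg.Agent.Lib.Helper19.OrthRefl Cfsg.Agent.Lib.Helper27.OrthPlane
open Cfsg.Agent.Lib.Helper27.TensorForm Cfsg.Agent.Lib.Helper27.TensorF2
open scoped Kronecker

variable {F : Type*} [Field F] [Fintype F] {ι : Type} [Fintype ι] [DecidableEq ι] {n₂ : ℕ}

/-- The transport of matrices on `Fin 2 × Fin n₂` to matrices on `ι`. -/
def phi (e : ι ≃ Fin 2 × Fin n₂) (P : GL ι F) : GL (Fin 2 × Fin n₂) F →* GL ι F :=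
  (MulAut.conj P).toMonoidHom.comp (Cfsg.Geo.glReindex (F := F) e.symm).toMonoidHom

theorem tensor_eq_map (e : ι ≃ Fin 2 × Fin n₂) (P : GL ι F) :
    Cfsg.Geo.tensorProductSubgroup 2 n₂ e P = (Cfsg.Geo.kroneckerSubgroup 2 n₂ F).map (phi e P) := by
  unfold Cfsg.Geo.tensorProductSubgroup phi
  rw [Subgroup.map_map]

theorem phi_mulVec_theta (e : ι ≃ Fin 2 × Fin n₂) (P : GL ι F) (g₂ : GL (Fin 2 × Fin n₂) F)
    (x : Fin 2 × Fin n₂ → F) :
    ((phi e P g₂ : GL ι F) : Matrix ι ι F) *ᵥ theta e P x =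
      theta e P ((g₂ : Matrix _ _ F) *ᵥ x) := by
  unfold theta
  have h1 : ((phi e P g₂ : GL ι F) : Matrix ι ι F) =
      (P : Matrix ι ι F) * ((g₂ : Matrix _ _ F).submatrix e e) *
        ((P⁻¹ : GL ι F) : Matrix ι ι F) := by
    show ((P * (Cfsg.Geo.glReindex (F := F) e.symm g₂) * P⁻¹ : GL ι F) : Matrix ι ι F) = _
    rw [Units.val_mul, Units.val_mul]
    rfl
  rw [h1, Matrix.mulVec_mulVec, Matrix.mul_assoc, Matrix.mul_assoc, ← Units.val_mul,
    inv_mul_cancel, Units.val_one, Matrix.mul_one, ← Matrix.mulVec_mulVec]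
  congr 1
  funext i
  simp only [Matrix.mulVec, dotProduct, Matrix.submatrix_apply, Function.comp_apply]
  exact Fintype.sum_equiv e _ _ (fun _ => rfl)

/-- The element `ω ⊗ 1` transported to `ι`. -/
def zel (hq : Fintype.card F = 2) (e : ι ≃ Fin 2 × Fin n₂) (P : GL ι F) : GL ι F :=
  phi e P (Wg hq n₂)

theorem om_mulVec_s0 : om F *ᵥ ![1, 0] = ![0, 1] := by
  funext i
  fin_cases i <;> simp [om, Matrix.mulVec, dotProduct, Fin.sum_univ_two]

theorem om_mulVec_s1 : om F *ᵥ ![0, 1] = ![1, 1] := by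
  funext i
  fin_cases i <;> simp [om, Matrix.mulVec, dotProduct, Fin.sum_univ_two]

theorem om_mulVec_s01 (hq : Fintype.card F = 2) : om F *ᵥ ![1, 1] = ![1, 0] := by
  have h2 := two_eq_zero hq
  funext i
  fin_cases i <;> simp [om, Matrix.mulVec, dotProduct, Fin.sum_univ_two, h2]

theorem zel_tens (hq : Fintype.card F = 2) (e : ι ≃ Fin 2 × Fin n₂) (P : GL ι F)
    (v : Fin 2 → F) (w : Fin n₂ → F) :
    ((zel hq e P : GL ι F) : Matrix ι ι F) *ᵥ theta e P (tens v w) =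
      theta e P (tens (om F *ᵥ v) w) := by
  unfold zel
  rw [phi_mulVec_theta, Wg_coe, Wm_eq_kron, kron_mulVec_tens, Matrix.one_mulVec]

/-- Every element of `F^(2 × n₂)` is a sum of two pure tensors. -/
theorem tens_decomp (x : Fin 2 × Fin n₂ → F) :
    x = tens ![1, 0] (fun j => x (0, j)) + tens ![0, 1] (fun j => x (1, j)) := by
  funext p
  obtain ⟨i, j⟩ := p
  fin_cases i <;> simp [tens]

theorem tens_s0_apply0 (w : Fin n₂ → F) (j : Fin n₂) : tens (![1, 0] : Fin 2 → F) w (0, j) = w j := by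
  simp [tens]

theorem tens_s0_apply1 (w : Fin n₂ → F) (j : Fin n₂) : tens (![1, 0] : Fin 2 → F) w (1, j) = 0 := by
  simp [tens]

theorem tens_s1_apply0 (w : Fin n₂ → F) (j : Fin n₂) : tens (![0, 1] : Fin 2 → F) w (0, j) = 0 := by
  simp [tens]

theorem tens_s1_apply1 (w : Fin n₂ → F) (j : Fin n₂) : tens (![0, 1] : Fin 2 → F) w (1, j) = w j := by
  simp [tens]

theorem tens_s01_apply0 (w : Fin n₂ → F) (j : Fin n₂) :
    tens (![1, 1] : Fin 2 → F) w (0, j) = w j := by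
  simp [tens]

theorem tens_s01_apply1 (w : Fin n₂ → F) (j : Fin n₂) :
    tens (![1, 1] : Fin 2 → F) w (1, j) = w j := by
  simp [tens]

theorem neg_eq_self (hq : Fintype.card F = 2) (x : F) : -x = x := by
  have h2 := two_eq_zero hq
  rw [neg_eq_iff_add_eq_zero]
  linear_combination x * h2

theorem f1_vals (hq : Fintype.card F = 2) {f₁ : (Fin 2 → F) → (Fin 2 → F) → F}
    (hf₁ : Cfsg.Geo.IsSymplecticForm f₁) :
    f₁ ![1, 0] ![0, 1] = 1 ∧ f₁ ![0, 1] ![1, 0] = 1 := by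
  have hs0 : (![1, 0] : Fin 2 → F) ≠ 0 := by
    intro h
    have := congrFun h 0
    simp at this
  obtain ⟨_, ⟨x, hx⟩⟩ := hf₁.nondegenerate _ hs0
  have hxd : x = x 0 • (![1, 0] : Fin 2 → F) + x 1 • (![0, 1] : Fin 2 → F) := by
    funext i
    fin_cases i <;> simp
  rw [hxd, hf₁.bilinear.add_right, hf₁.bilinear.smul_right, hf₁.bilinear.smul_right,
    hf₁.alternating, mul_zero, zero_add] at hx
  have h1 : f₁ ![1, 0] ![0, 1] = 1 := by
    rcases f2_cases hq (f₁ ![1, 0] ![0, 1]) with h | h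
    · rw [h, mul_zero] at hx
      exact absurd rfl hx
    · exact h
  refine ⟨h1, ?_⟩
  rw [hf₁.skew, h1, neg_eq_self hq]

/-- Two hyperbolic pairs with the cross terms that are needed. -/
theorem exists_two_pairs (hq : Fintype.card F = 2) {f₂ : (Fin n₂ → F) → (Fin n₂ → F) → F}
    (hf₂ : Cfsg.Geo.IsSymplecticForm f₂) (h2 : 2 < n₂) :
    ∃ w₁ w₂ y₁ y₂ : Fin n₂ → F, f₂ w₁ w₂ = 0 ∧ f₂ w₁ y₁ = 1 ∧ f₂ w₂ y₁ = 0 ∧ f₂ w₁ y₂ = 0 ∧
      f₂ w₂ y₂ = 1 := by
  classical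
  obtain ⟨w₁, hw₁⟩ : ∃ w : Fin n₂ → F, w ≠ 0 := by
    refine ⟨Pi.single ⟨0, by omega⟩ 1, ?_⟩
    intro h
    have := congrFun h ⟨0, by omega⟩
    simp at this
  obtain ⟨_, ⟨y₁, hy₁⟩⟩ := hf₂.nondegenerate w₁ hw₁
  have hy₁' : f₂ w₁ y₁ = 1 := by
    rcases f2_cases hq (f₂ w₁ y₁) with h | h
    · exact absurd h hy₁
    · exact h
  let L1 : (Fin n₂ → F) →ₗ[F] F :=
    { toFun := fun x => f₂ w₁ x
      map_add' := fun x y => hf₂.bilinear.add_right _ _ _
      map_smul' := fun c x => by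
        rw [RingHom.id_apply, smul_eq_mul]
        exact hf₂.bilinear.smul_right _ _ _ }
  let L2 : (Fin n₂ → F) →ₗ[F] F :=
    { toFun := fun x => f₂ y₁ x
      map_add' := fun x y => hf₂.bilinear.add_right _ _ _
      map_smul' := fun c x => by
        rw [RingHom.id_apply, smul_eq_mul]
        exact hf₂.bilinear.smul_right _ _ _ }
  let Lm : (Fin n₂ → F) →ₗ[F] (Fin 2 → F) := LinearMap.pi ![L1, L2]
  have hker : LinearMap.ker Lm ≠ ⊥ := by
    apply LinearMap.ker_ne_bot_of_finrank_lt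
    rw [Module.finrank_fin_fun, Module.finrank_fin_fun]
    exact h2
  obtain ⟨w₂, hw₂, hw₂0⟩ := Submodule.exists_mem_ne_zero_of_ne_bot hker
  rw [LinearMap.mem_ker] at hw₂
  have h12 : f₂ w₁ w₂ = 0 := by
    have := congrFun hw₂ 0
    simpa [Lm, L1] using this
  have hy1w2 : f₂ y₁ w₂ = 0 := by
    have := congrFun hw₂ 1
    simpa [Lm, L2] using this
  have hw2y1 : f₂ w₂ y₁ = 0 := by rw [hf₂.skew, hy1w2, neg_zero]
  obtain ⟨_, ⟨y₂', hy₂'⟩⟩ := hf₂.nondegenerate w₂ hw₂0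
  have hy₂'1 : f₂ w₂ y₂' = 1 := by
    rcases f2_cases hq (f₂ w₂ y₂') with h | h
    · exact absurd h hy₂'
    · exact h
  refine ⟨w₁, w₂, y₁, y₂' + (f₂ w₁ y₂') • y₁, h12, hy₁', hw2y1, ?_, ?_⟩
  · rw [hf₂.bilinear.add_right, hf₂.bilinear.smul_right, hy₁', mul_one]
    have h2' := two_eq_zero hq
    linear_combination (f₂ w₁ y₂') * h2'
  · rw [hf₂.bilinear.add_right, hf₂.bilinear.smul_right, hw2y1, mul_zero, add_zero, hy₂'1]

/-- Powers of an element of order three. -/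
theorem zpow_cases {G : Type*} [Group G] (z : G) (hz : z ^ 3 = 1) (k : ℤ) :
    z ^ k = 1 ∨ z ^ k = z ∨ z ^ k = z ^ 2 := by
  have h1 : z ^ k = z ^ (k % 3) := by
    have h3 : (z ^ (3 : ℤ)) = 1 := by
      have : z ^ (3 : ℤ) = z ^ (3 : ℕ) := by norm_cast
      rw [this, hz]
    conv_lhs => rw [← Int.emod_add_mul_ediv k 3]
    rw [_root_.zpow_add, _root_.zpow_mul, h3, _root_.one_zpow, mul_one]
  have h2 : 0 ≤ k % 3 := Int.emod_nonneg k (by norm_num)
  have h3 : k % 3 < 3 := Int.emod_lt_of_pos k (by norm_num)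
  rw [h1]
  obtain ⟨r, hr⟩ : ∃ r : ℤ, r = k % 3 := ⟨_, rfl⟩
  rw [← hr] at h2 h3 ⊢
  interval_cases r
  · left; exact zpow_zero z
  · right; left; exact zpow_one z
  · right; right
    norm_cast

end Cfsg.Agent.Lib.Helper27.OrthSpTensor
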