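import Mathlib
import Cfsg.Prelude.Def_GeometricClasses
import Cfsg.Agent.Lib.Helper27.OrthSpTensor

set_option autoImplicit false

/-!
Tensor decompositions `Sp₂(2) ⊗ Sp_{n₂}(2)` inside `Ω⁺_{2n₂}(2)`: the main statement.
-/

namespace Cfsg.Agent.Lib.Helper27.OrthSpTensor

open Cfsg Matrix QuadraticMap
open Cfsg.Agent.Lib.Helper19.OrthRefl Cfsg.Agent.Lib.Helper27.OrthPlane
open Cfsg.Agent.Lib.Helper27.TensorForm Cfsg.Agent.Lib.Helper27.TensorF2
open Cfsg.Agent.Lib.Helper27.SpTensor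
open scoped Kronecker

variable {F : Type*} [Field F] [Fintype F] {ι : Type} [Fintype ι] [DecidableEq ι]

theorem exists_between_sp2 (hq : Fintype.card F = 2) (Q : QuadraticForm F (ι → F))
    (hQ : (polarBilin Q).Nondegenerate) (n₂ : ℕ) (h2 : 2 < n₂) (e : ι ≃ Fin 2 × Fin n₂)
    (P : GL ι F) (f₁ : (Fin 2 → F) → (Fin 2 → F) → F) (f₂ : (Fin n₂ → F) → (Fin n₂ → F) → F)
    (hf₁ : Cfsg.Geo.IsSymplecticForm f₁) (hf₂ : Cfsg.Geo.IsSymplecticForm f₂)
    (hT : Cfsg.Geo.IsTensorFormStructure id (QuadraticMap.polar ⇑Q) f₁ f₂ e P)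
    (hpure : ∀ (x₁ : Fin 2 → F) (x₂ : Fin n₂ → F), Q (theta e P (tens x₁ x₂)) = 0) :
    ∃ K : Subgroup (GL ι F),
      Cfsg.Geo.tensorProductSubgroup 2 n₂ e P ⊓ Cfsg.Geo.omegaGL ⇑Q < K ∧
        K < Cfsg.Geo.omegaGL ⇑Q := by
  classical
  have hcard : Fintype.card ι = 2 * n₂ := by
    have h := Fintype.card_congr e
    simpa using h
  have hn5 : 5 ≤ Fintype.card ι := by omega
  have h2' := two_eq_zero hq
  have hneg : ∀ x : F, -x = x := neg_eq_self hq
  have hnegV : ∀ v : ι → F, -v = v := by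
    intro v
    funext i
    exact hneg (v i)
  have hdouble : ∀ v : ι → F, v + v = 0 := by
    intro v
    have := hnegV v
    rw [← sub_neg_eq_add, this, sub_self]
  obtain ⟨c, hc0, hc⟩ := hT
  have hc1 : c = 1 := by
    rcases f2_cases hq c with h | h
    · exact absurd h hc0
    · exact h
  have hS₁ := sesq_of_bilinear hf₁.bilinear
  have hS₂ := sesq_of_bilinear hf₂.bilinear
  have key : ∀ (v v' : Fin 2 → F) (w w' : Fin n₂ → F),
      polar (⇑Q) (theta e P (tens v w)) (theta e P (tens v' w')) = f₁ v v' * f₂ w w' := by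
    intro v v' w w'
    rw [form_theta_tens (fun _ _ => rfl) hS₁ hS₂ hc, hc1, one_mul]
  obtain ⟨h01, h10⟩ := f1_vals hq hf₁
  have hs01 : (![1, 1] : Fin 2 → F) = ![1, 0] + ![0, 1] := by
    funext i
    fin_cases i <;> simp
  have f00 : f₁ ![1, 0] ![1, 0] = 0 := hf₁.alternating _
  have f11 : f₁ ![0, 1] ![0, 1] = 0 := hf₁.alternating _
  have fss : f₁ ![1, 1] ![1, 1] = 0 := hf₁.alternating _
  have f0s : f₁ ![1, 0] ![1, 1] = 1 := by
    rw [hs01, hf₁.bilinear.add_right, f00, h01, zero_add]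
  have f1s : f₁ ![0, 1] ![1, 1] = 1 := by
    rw [hs01, hf₁.bilinear.add_right, h10, f11, add_zero]
  have fs0 : f₁ ![1, 1] ![1, 0] = 1 := by
    rw [hs01, hf₁.bilinear.add_left, f00, h10, zero_add]
  have fs1 : f₁ ![1, 1] ![0, 1] = 1 := by
    rw [hs01, hf₁.bilinear.add_left, h01, f11, add_zero]
  obtain ⟨z, hzdef⟩ : ∃ z : GL ι F, z = zel hq e P := ⟨_, rfl⟩
  have hzA0 : ∀ w : Fin n₂ → F, (z : Matrix ι ι F) *ᵥ theta e P (tens ![1, 0] w) =
      theta e P (tens ![0, 1] w) := by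
    intro w
    rw [hzdef, zel_tens, om_mulVec_s0]
  have hzA1 : ∀ w : Fin n₂ → F, (z : Matrix ι ι F) *ᵥ theta e P (tens ![0, 1] w) =
      theta e P (tens ![1, 1] w) := by
    intro w
    rw [hzdef, zel_tens, om_mulVec_s1]
  have hzA01 : ∀ w : Fin n₂ → F, (z : Matrix ι ι F) *ᵥ theta e P (tens ![1, 1] w) =
      theta e P (tens ![1, 0] w) := by
    intro w
    rw [hzdef, zel_tens, om_mulVec_s01 hq]
  have hA01 : ∀ w : Fin n₂ → F, theta e P (tens ![1, 1] w) =
      theta e P (tens ![1, 0] w) + theta e P (tens ![0, 1] w) := by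
    intro w
    rw [hs01, tens_add_left, theta_add]
  have hz_polar : ∀ a b : ι → F,
      polar (⇑Q) ((z : Matrix ι ι F) *ᵥ a) ((z : Matrix ι ι F) *ᵥ b) = polar (⇑Q) a b := by
    intro a b
    obtain ⟨x, rfl⟩ := theta_surjective e P a
    obtain ⟨y, rfl⟩ := theta_surjective e P b
    obtain ⟨x0, x1, rfl⟩ : ∃ x0 x1 : Fin n₂ → F, x = tens ![1, 0] x0 + tens ![0, 1] x1 :=
      ⟨_, _, tens_decomp x⟩
    obtain ⟨y0, y1, rfl⟩ : ∃ y0 y1 : Fin n₂ → F, y = tens ![1, 0] y0 + tens ![0, 1] y1 :=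
      ⟨_, _, tens_decomp y⟩
    rw [theta_add, theta_add, Matrix.mulVec_add, Matrix.mulVec_add, hzA0, hzA1, hzA0, hzA1]
    simp only [QuadraticMap.polar_add_left, QuadraticMap.polar_add_right, key, f00, f11, fss,
      f0s, f1s, fs0, fs1, h01, h10]
  obtain ⟨w₁, w₂, y₁, y₂, h12, h1y1, h2y1, h1y2, h2y2⟩ := exists_two_pairs hq hf₂ h2
  have h11 : f₂ w₁ w₁ = 0 := hf₂.alternating _
  have h22 : f₂ w₂ w₂ = 0 := hf₂.alternating _
  have h21 : f₂ w₂ w₁ = 0 := by rw [hf₂.skew, h12, neg_zero]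
  -- the unitary transvection
  obtain ⟨u, hu⟩ : ∃ u : ι → F, u = theta e P (tens ![1, 0] w₁) + theta e P (tens ![0, 1] w₂) :=
    ⟨_, rfl⟩
  obtain ⟨zu, hzud⟩ : ∃ zu : ι → F,
      zu = theta e P (tens ![0, 1] w₁) + theta e P (tens ![1, 1] w₂) := ⟨_, rfl⟩
  have hzu : (z : Matrix ι ι F) *ᵥ u = zu := by
    rw [hu, hzud, Matrix.mulVec_add, hzA0, hzA1]
  have hzzu : (z : Matrix ι ι F) *ᵥ zu = u + zu := by
    rw [hzud, hu, Matrix.mulVec_add, hzA1, hzA01, hA01, hA01]
    have : ∀ X Y Z W : ι → F, X + Y + W = X + Z + (Y + (W + Z)) := by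
      intro X Y Z W
      have e1 : X + Z + (Y + (W + Z)) = X + Y + W + (Z + Z) := by abel
      rw [e1, hdouble, add_zero]
    exact this _ _ _ _
  have hQu : Q u = 0 := by
    rw [hu, QuadraticMap.map_add (⇑Q), hpure, hpure, key, h01, h12]
    ring
  have hQzu : Q zu = 0 := by
    rw [hzud, QuadraticMap.map_add (⇑Q), hpure, hpure, key, f1s, h12]
    ring
  have hpu : polar (⇑Q) u zu = 0 := by
    rw [hu, hzud]
    simp only [QuadraticMap.polar_add_left, QuadraticMap.polar_add_right, key, h11, h22, h12,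
      h21, f11]
    ring
  obtain ⟨g₀, hg₀⟩ : ∃ g : ↥(Cfsg.isometryGroup F ⇑Q), g = siegel Q hQ u zu hQu hpu := ⟨_, rfl⟩
  have hg₀Ω : g₀ ∈ Cfsg.Omega F ⇑Q := by
    rw [hg₀]
    exact siegel_mem_Omega Q hQ hn5 u zu hQu hpu
  have hg₀act : ∀ v, act g₀ v = v + polar (⇑Q) zu v • u + polar (⇑Q) u v • zu := by
    intro v
    rw [hg₀, act_siegel, hQzu, zero_smul, sub_zero, sub_eq_add_neg, hnegV]
  have hu' : u = (z : Matrix ι ι F) *ᵥ (u + zu) := by
    rw [Matrix.mulVec_add, hzu, hzzu]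
    have e1 : zu + (u + zu) = u + (zu + zu) := by abel
    rw [e1, hdouble, add_zero]
  have hcomm : (g₀ : GL ι F) * z = z * (g₀ : GL ι F) := by
    apply Units.ext
    rw [Units.val_mul, Units.val_mul]
    apply Matrix.toLin'.injective
    apply LinearMap.ext
    intro v
    rw [Matrix.toLin'_mul, Matrix.toLin'_mul, LinearMap.comp_apply, LinearMap.comp_apply,
      Matrix.toLin'_apply, Matrix.toLin'_apply, Matrix.toLin'_apply, Matrix.toLin'_apply]
    have e1 : ((g₀ : GL ι F) : Matrix ι ι F) *ᵥ ((z : Matrix ι ι F) *ᵥ v) =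
        act g₀ ((z : Matrix ι ι F) *ᵥ v) := rfl
    have e2 : ((g₀ : GL ι F) : Matrix ι ι F) *ᵥ v = act g₀ v := rfl
    have p1 : polar (⇑Q) zu ((z : Matrix ι ι F) *ᵥ v) = polar (⇑Q) u v := by
      rw [← hzu, hz_polar]
    have p2 : polar (⇑Q) u ((z : Matrix ι ι F) *ᵥ v) = polar (⇑Q) u v + polar (⇑Q) zu v := by
      calc polar (⇑Q) u ((z : Matrix ι ι F) *ᵥ v)
          = polar (⇑Q) ((z : Matrix ι ι F) *ᵥ (u + zu)) ((z : Matrix ι ι F) *ᵥ v) := by
            rw [← hu']
        _ = polar (⇑Q) (u + zu) v := hz_polar _ _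
        _ = polar (⇑Q) u v + polar (⇑Q) zu v := QuadraticMap.polar_add_left Q u zu v
    rw [e1, e2, hg₀act, hg₀act, p1, p2, Matrix.mulVec_add, Matrix.mulVec_add, Matrix.mulVec_smul,
      Matrix.mulVec_smul, hzu, hzzu, add_smul, smul_add]
    abel
  have hg₀N : (g₀ : GL ι F) ∈ Subgroup.normalizer
      ((Subgroup.zpowers z : Subgroup (GL ι F)) : Set (GL ι F)) := by
    apply mem_normalizer_zpowers
    · rw [hcomm, mul_inv_cancel_right]
      exact Subgroup.mem_zpowers _
    · rw [mul_assoc, ← hcomm, inv_mul_cancel_left]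
      exact Subgroup.mem_zpowers _
  -- g₀ is not in the tensor subgroup
  have hg₀T : (g₀ : GL ι F) ∉ Cfsg.Geo.tensorProductSubgroup 2 n₂ e P := by
    intro hmem
    obtain ⟨a, b, hab⟩ := mem_tensor_imp hmem
    obtain ⟨y, hy⟩ : ∃ y : Fin n₂ → F, y = y₁ + y₂ := ⟨_, rfl⟩
    have hw1y : f₂ w₁ y = 1 := by
      rw [hy, hf₂.bilinear.add_right, h1y1, h1y2, add_zero]
    have hw2y : f₂ w₂ y = 1 := by
      rw [hy, hf₂.bilinear.add_right, h2y1, h2y2, zero_add]
    have h1 := hab (tens ![1, 0] y)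
    have e2 : ((g₀ : GL ι F) : Matrix ι ι F) *ᵥ theta e P (tens ![1, 0] y) =
        act g₀ (theta e P (tens ![1, 0] y)) := rfl
    have q1 : polar (⇑Q) u (theta e P (tens ![1, 0] y)) = 1 := by
      rw [hu]
      simp only [QuadraticMap.polar_add_left, key, f00, h10, hw2y]
      ring
    have q2 : polar (⇑Q) zu (theta e P (tens ![1, 0] y)) = 0 := by
      rw [hzud]
      simp only [QuadraticMap.polar_add_left, key, fs0, h10, hw1y, hw2y]
      linear_combination h2'
    rw [e2, hg₀act, q1, q2, zero_smul, add_zero, one_smul, kron_mulVec_tens, hzud, hA01,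
      ← theta_add, ← theta_add, ← theta_add] at h1
    have h3 := theta_injective e P h1
    obtain ⟨α, hα⟩ : ∃ α : Fin 2 → F, α = (a : Matrix (Fin 2) (Fin 2) F) *ᵥ ![1, 0] := ⟨_, rfl⟩
    obtain ⟨β, hβ⟩ : ∃ β : Fin n₂ → F, β = (b : Matrix (Fin n₂) (Fin n₂) F) *ᵥ y := ⟨_, rfl⟩
    rw [← hα, ← hβ] at h3
    have c0 : ∀ j, y j + w₂ j = α 0 * β j := by
      intro j
      have := congrFun h3 (0, j)
      simp only [Pi.add_apply, tens_s0_apply0, tens_s1_apply0] at this
      rw [tens_apply] at this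
      rw [← this]
      ring
    have c1 : ∀ j, w₁ j + w₂ j = α 1 * β j := by
      intro j
      have := congrFun h3 (1, j)
      simp only [Pi.add_apply, tens_s0_apply1, tens_s1_apply1] at this
      rw [tens_apply] at this
      rw [← this]
      ring
    have hw12 : w₁ ≠ w₂ := by
      intro h
      rw [h, h2y1] at h1y1
      exact zero_ne_one h1y1
    rcases f2_cases hq (α 1) with ha1 | ha1
    · apply hw12
      funext j
      have := c1 j
      rw [ha1, zero_mul] at this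
      have h4 : w₁ j = -w₂ j := eq_neg_of_add_eq_zero_left this
      rw [h4, hneg]
    · rcases f2_cases hq (α 0) with ha0 | ha0
      · have hyw : y = w₂ := by
          funext j
          have := c0 j
          rw [ha0, zero_mul] at this
          have h4 : y j = -w₂ j := eq_neg_of_add_eq_zero_left this
          rw [h4, hneg]
        rw [hyw, h22] at hw2y
        exact zero_ne_one hw2y
      · have hyw : y = w₁ := by
          funext j
          have e3 := c0 j
          have e4 := c1 j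
          rw [ha0, one_mul] at e3
          rw [ha1, one_mul] at e4
          have : y j + w₂ j = w₁ j + w₂ j := by rw [e3, e4]
          exact add_right_cancel this
        rw [hyw, h11] at hw1y
        exact zero_ne_one hw1y
  -- an element of Ω outside the normaliser
  obtain ⟨p, hp⟩ : ∃ p : ι → F, p = theta e P (tens ![1, 0] w₁) := ⟨_, rfl⟩
  obtain ⟨u', hu'd⟩ : ∃ u' : ι → F, u' = theta e P (tens ![1, 0] w₂) := ⟨_, rfl⟩
  have hQp : Q p = 0 := by rw [hp]; exact hpure _ _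
  have hQu' : Q u' = 0 := by rw [hu'd]; exact hpure _ _
  have hpu' : polar (⇑Q) p u' = 0 := by rw [hp, hu'd, key, f00, zero_mul]
  obtain ⟨g₁, hg₁⟩ : ∃ g : ↥(Cfsg.isometryGroup F ⇑Q), g = siegel Q hQ p u' hQp hpu' := ⟨_, rfl⟩
  have hg₁Ω : g₁ ∈ Cfsg.Omega F ⇑Q := by
    rw [hg₁]
    exact siegel_mem_Omega Q hQ hn5 p u' hQp hpu'
  have hg₁act : ∀ v, act g₁ v = v + polar (⇑Q) u' v • p + polar (⇑Q) p v • u' := by
    intro v
    rw [hg₁, act_siegel, hQu', zero_smul, sub_zero, sub_eq_add_neg, hnegV]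
  have hz3 : z ^ 3 = 1 := by
    rw [hzdef]
    unfold zel
    rw [← map_pow, Wg_pow_three, map_one]
  have hg₁N : (g₁ : GL ι F) ∉ Subgroup.normalizer
      ((Subgroup.zpowers z : Subgroup (GL ι F)) : Set (GL ι F)) := by
    intro hmem
    rw [Subgroup.mem_normalizer_iff] at hmem
    obtain ⟨k, hk⟩ := Subgroup.mem_zpowers_iff.mp ((hmem z).mp (Subgroup.mem_zpowers z))
    have hk' : (g₁ : GL ι F) * z = z ^ k * (g₁ : GL ι F) := by
      rw [hk, inv_mul_cancel_right]
    have hfix : ((g₁ : GL ι F) : Matrix ι ι F) *ᵥ theta e P (tens ![1, 0] y₁) =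
        theta e P (tens ![1, 0] y₁) := by
      have e2 : ((g₁ : GL ι F) : Matrix ι ι F) *ᵥ theta e P (tens ![1, 0] y₁) =
        act g₁ (theta e P (tens ![1, 0] y₁)) := rfl
      rw [e2, hg₁act, hp, hu'd, key, key, f00]
      simp only [zero_mul, zero_smul, add_zero]
    have hlhs : (((g₁ : GL ι F) * z : GL ι F) : Matrix ι ι F) *ᵥ theta e P (tens ![1, 0] y₁) =
        theta e P (tens ![0, 1] y₁ + tens ![1, 0] w₂) := by
      rw [Units.val_mul, ← Matrix.mulVec_mulVec, hzA0]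
      have e2 : ((g₁ : GL ι F) : Matrix ι ι F) *ᵥ theta e P (tens ![0, 1] y₁) =
        act g₁ (theta e P (tens ![0, 1] y₁)) := rfl
      rw [e2, hg₁act, hp, hu'd, key, key, h01, h2y1, h1y1, mul_zero, zero_smul, add_zero, mul_one,
        one_smul, theta_add]
    have hrhs : ((z ^ k * (g₁ : GL ι F) : GL ι F) : Matrix ι ι F) *ᵥ
        theta e P (tens ![1, 0] y₁) =
        ((z ^ k : GL ι F) : Matrix ι ι F) *ᵥ theta e P (tens ![1, 0] y₁) := by
      rw [Units.val_mul, ← Matrix.mulVec_mulVec, hfix]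
    rw [hk', hrhs] at hlhs
    have hy10 : y₁ ≠ 0 := by
      intro h
      rw [h, (sesq_of_bilinear hf₂.bilinear).zero_right] at h1y1
      exact zero_ne_one h1y1
    have hw20 : w₂ ≠ 0 := by
      intro h
      rw [h, (sesq_of_bilinear hf₂.bilinear).zero_left] at h2y2
      exact zero_ne_one h2y2
    rcases zpow_cases z hz3 k with h | h | h
    · rw [h, Units.val_one, Matrix.one_mulVec] at hlhs
      have h3 := theta_injective e P hlhs
      apply hy10
      funext j
      have := congrFun h3 (1, j)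
      simp only [Pi.add_apply, tens_s0_apply1, tens_s1_apply1, add_zero] at this
      exact this.symm
    · rw [h, hzA0] at hlhs
      have h3 := theta_injective e P hlhs
      apply hw20
      funext j
      have := congrFun h3 (0, j)
      simp only [Pi.add_apply, tens_s0_apply0, tens_s1_apply0, zero_add] at this
      exact this.symm
    · rw [h, pow_two, Units.val_mul, ← Matrix.mulVec_mulVec, hzA0, hzA1] at hlhs
      have h3 := theta_injective e P hlhs
      have hyw : y₁ = w₂ := by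
        funext j
        have := congrFun h3 (0, j)
        simp only [Pi.add_apply, tens_s0_apply0, tens_s1_apply0, tens_s01_apply0, zero_add] at this
        exact this
      rw [hyw, h12] at h1y1
      exact zero_ne_one h1y1
  refine ⟨Cfsg.Geo.omegaGL ⇑Q ⊓ Subgroup.normalizer
      ((Subgroup.zpowers z : Subgroup (GL ι F)) : Set (GL ι F)), ?_, ?_⟩
  · refine lt_of_le_of_ne ?_ ?_
    · rintro g ⟨hg1, hg2⟩
      refine ⟨hg2, ?_⟩
      rw [tensor_eq_map] at hg1
      obtain ⟨g₂, hg₂, rfl⟩ := Subgroup.mem_map.mp hg1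
      have h3 := kron_le_Kn hq n₂ hg₂
      have h4 := Subgroup.le_normalizer_map (phi e P) (Subgroup.mem_map_of_mem _ h3)
      rw [MonoidHom.map_zpowers] at h4
      rw [hzdef]
      exact h4
    · intro h
      have : (g₀ : GL ι F) ∈ Cfsg.Geo.tensorProductSubgroup 2 n₂ e P ⊓ Cfsg.Geo.omegaGL ⇑Q := by
        rw [h]
        exact ⟨mem_omegaGL_of_mem_Omega g₀ hg₀Ω, hg₀N⟩
      exact hg₀T this.1
  · refine lt_of_le_of_ne inf_le_left ?_
    intro h
    have : (g₁ : GL ι F) ∈ Cfsg.Geo.omegaGL ⇑Q ⊓ Subgroup.normalizer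
        ((Subgroup.zpowers z : Subgroup (GL ι F)) : Set (GL ι F)) := by
      rw [h]
      exact mem_omegaGL_of_mem_Omega g₁ hg₁Ω
    exact hg₁N this.2

end Cfsg.Agent.Lib.Helper27.OrthSpTensor
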