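import Mathlib
import Cfsg.Prelude.Def_GeometricClasses
import Cfsg.Agent.Lib.Helper27.OrthPair

set_option autoImplicit false

/-!
Totally singular subspaces of dimension `n/2 - 1` in a plus-type space: the stabiliser in `Ω`
fixes both maximal totally singular subspaces containing it, and is not maximal.
-/

namespace Cfsg.Agent.Lib.Helper27.OrthSubmax

open Cfsg Matrix QuadraticMap Module
open Cfsg.Agent.Lib.Helper19.OrthRefl Cfsg.Agent.Lib.Helper19.Parity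
open Cfsg.Agent.Lib.Helper27.OrthPlane Cfsg.Agent.Lib.Helper27.OrthPair

variable {F : Type*} [Field F] {V : Type*} [AddCommGroup V] [Module F V] [FiniteDimensional F V]
  {Q : QuadraticForm F V}

/-- A totally singular subspace of dimension `k - 1` lies in a maximal one. -/
theorem exists_maxTS_containing (hQ : (polarBilin Q).Nondegenerate) {k : ℕ}
    (hV : finrank F V = 2 * k) {U W : Submodule F V} (hU : IsTS Q U) (hUk : finrank F U = k)
    (hW : IsTS Q W) (hWk : finrank F W + 1 = k) :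
    ∃ U₁ : Submodule F V, IsTS Q U₁ ∧ finrank F U₁ = k ∧ W ≤ U₁ := by
  set Wp := LinearMap.BilinForm.orthogonal (polarBilin Q) W with hWp
  have hTS : IsTS Q ((U ⊓ Wp) ⊔ W) := by
    apply IsTS.sup (hU.mono inf_le_left) hW
    intro a ha b hb
    have h1 : polar (⇑Q) b a = 0 := ha.2 b hb
    rw [polar_comm]
    exact h1
  refine ⟨(U ⊓ Wp) ⊔ W, hTS, ?_, le_sup_right⟩
  have hle := hTS.finrank_le hQ
  have h1 := Submodule.finrank_sup_add_finrank_inf_eq (U ⊓ Wp) W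
  have h2 : finrank F ↥((U ⊓ Wp) ⊓ W) ≤ finrank F ↥(U ⊓ W) :=
    Submodule.finrank_mono (inf_le_inf_right W inf_le_left)
  have h3 : LinearMap.BilinForm.orthogonal (polarBilin Q) (U ⊔ W) ≤ U ⊓ Wp := by
    intro x hx
    refine ⟨?_, ?_⟩
    · apply hU.mem_of_orth hQ (by omega)
      intro u hu
      exact hx u (Submodule.mem_sup_left hu)
    · intro w hw
      exact hx w (Submodule.mem_sup_right hw)
  have h4 := Submodule.finrank_mono h3
  rw [LinearMap.BilinForm.finrank_orthogonal hQ] at h4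
  have h5 := Submodule.finrank_sup_add_finrank_inf_eq U W
  have h6 := Submodule.finrank_le (U ⊔ W)
  omega

end Cfsg.Agent.Lib.Helper27.OrthSubmax

namespace Cfsg.Agent.Lib.Helper27.OrthSubmax

open Cfsg Matrix QuadraticMap Module
open Cfsg.Agent.Lib.Helper19.OrthRefl Cfsg.Agent.Lib.Helper19.Parity
open Cfsg.Agent.Lib.Helper27.OrthPlane Cfsg.Agent.Lib.Helper27.OrthPair

variable {F : Type*} [Field F] [Fintype F] {ι : Type} [Fintype ι] [DecidableEq ι]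

theorem submax_not_max (Q : QuadraticForm F (ι → F)) (hQ : (polarBilin Q).Nondegenerate)
    (hn : 5 ≤ Fintype.card ι) (hplus : Cfsg.Geo.IsPlusTypeOn ⇑Q ⊤)
    (W : Submodule F (ι → F)) (hW : Cfsg.Geo.IsTotallySingularQuad ⇑Q W)
    (hdim : 2 * (Module.finrank F W + 1) = Fintype.card ι) :
    ∃ K : Subgroup (GL ι F),
      Cfsg.Geo.subspaceStabilizer W ⊓ Cfsg.Geo.omegaGL ⇑Q < K ∧ K < Cfsg.Geo.omegaGL ⇑Q := by
  classical
  obtain ⟨k, hk⟩ : ∃ k, k = finrank F W + 1 := ⟨_, rfl⟩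
  have hV : finrank F (ι → F) = 2 * k := by
    rw [Module.finrank_fintype_fun_eq_card, hk, hdim]
  have hWk : finrank F W + 1 = k := hk.symm
  have hWTS : IsTS Q W := hW
  have hk3 : 3 ≤ k := by omega
  -- a maximal totally singular subspace
  obtain ⟨U, _, hUts, hUdim⟩ := hplus
  have hUk : finrank F U = k := by
    rw [finrank_top, hV] at hUdim
    omega
  obtain ⟨U₁, hU₁, hU₁k, hWU₁⟩ := exists_maxTS_containing hQ hV (hUts : IsTS Q U) hUk hWTS hWk
  set Wp := LinearMap.BilinForm.orthogonal (polarBilin Q) W with hWp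
  have hWpk : finrank F Wp = k + 1 := by
    rw [hWp, LinearMap.BilinForm.finrank_orthogonal hQ, hV]
    omega
  have hU₁Wp : U₁ ≤ Wp := by
    intro x hx w hw
    exact hU₁.polar_zero (hWU₁ hw) hx
  -- vectors u₁ ∈ U₁ \ W and x ∈ Wp \ U₁
  obtain ⟨u₁, hu₁U, hu₁W⟩ : ∃ u₁ ∈ U₁, u₁ ∉ W := by
    have hlt : W < U₁ := by
      apply lt_of_le_of_ne hWU₁
      intro heq
      rw [heq] at hWk
      omega
    exact SetLike.exists_of_lt hlt
  obtain ⟨x, hxWp, hxU₁⟩ : ∃ x ∈ Wp, x ∉ U₁ := by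
    have hlt : U₁ < Wp := by
      apply lt_of_le_of_ne hU₁Wp
      intro heq
      rw [← heq] at hWpk
      omega
    exact SetLike.exists_of_lt hlt
  have hxu₁ : polar (⇑Q) u₁ x ≠ 0 := by
    intro h0
    apply hxU₁
    exact mem_of_orth_hyperplane hQ hV hU₁ hU₁k hWU₁ hWk hu₁U hu₁W (fun h hh => hxWp h hh) h0
  have hQu₁ : Q u₁ = 0 := hU₁ u₁ hu₁U
  -- make x singular
  obtain ⟨x', hx'Wp, hx'U₁, hQx', hx'u₁⟩ : ∃ x' ∈ Wp, x' ∉ U₁ ∧ Q x' = 0 ∧
      polar (⇑Q) u₁ x' ≠ 0 := by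
    refine ⟨x - (Q x * (polar (⇑Q) u₁ x)⁻¹) • u₁, ?_, ?_, ?_, ?_⟩
    · exact Wp.sub_mem hxWp (Wp.smul_mem _ (hU₁Wp hu₁U))
    · intro hmem
      apply hxU₁
      have := U₁.add_mem hmem (U₁.smul_mem (Q x * (polar (⇑Q) u₁ x)⁻¹) hu₁U)
      rwa [sub_add_cancel] at this
    · rw [Q_sub', QuadraticMap.map_smul, hQu₁, polar_smul_right, polar_comm (⇑Q) x u₁]
      simp only [smul_eq_mul, mul_zero, add_zero]
      rw [mul_assoc, inv_mul_cancel₀ hxu₁, mul_one, sub_self]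
    · rw [polar_sub_right, polar_smul_right, polar_self_of_singular Q hQu₁, smul_zero, sub_zero]
      exact hxu₁
  -- the second maximal totally singular subspace
  obtain ⟨U₂, hU₂, hU₂k, hadj, hx'U₂, hU₂mem⟩ := exists_adjacent hQ hV hU₁ hU₁k hQx' hx'U₁
  have hWU₂ : W ≤ U₂ := by
    intro w hw
    apply hU₂mem w (hWU₁ hw)
    rw [polar_comm]
    exact hx'Wp w hw
  -- maximal totally singular subspaces containing W
  have hclass : ∀ T : Submodule F (ι → F), IsTS Q T → finrank F T = k → W ≤ T →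
      T = U₁ ∨ finrank F ↥(U₁ ⊓ T) + 1 = k := by
    intro T hT hTk hWT
    have h1 := adjacent_inter hQ hV hU₁ hU₁k hU₂ hU₂k hT hTk hadj
    have h2 : finrank F W ≤ finrank F ↥(U₁ ⊓ T) := Submodule.finrank_mono (le_inf hWU₁ hWT)
    have h3 : finrank F W ≤ finrank F ↥(U₂ ⊓ T) := Submodule.finrank_mono (le_inf hWU₂ hWT)
    have h4 : finrank F ↥(U₁ ⊓ T) ≤ k := by
      rw [← hU₁k]; exact Submodule.finrank_mono inf_le_left
    have h5 : finrank F ↥(U₂ ⊓ T) ≤ k := by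
      rw [← hU₂k]; exact Submodule.finrank_mono inf_le_left
    by_cases h6 : finrank F ↥(U₁ ⊓ T) = k
    · left
      have e1 : U₁ ⊓ T = U₁ := Submodule.eq_of_le_of_finrank_eq inf_le_left (by rw [h6, hU₁k])
      have e2 : U₁ ⊓ T = T := Submodule.eq_of_le_of_finrank_eq inf_le_right (by rw [h6, hTk])
      rw [← e2, e1]
    · right
      omega
  -- the parity character
  obtain ⟨χ, hχ⟩ : ∃ χ : ↥(Cfsg.isometryGroup F ⇑Q) →* ℤˣ,
      χ = parityChar Q hQ hV U₁ hU₁ hU₁k := ⟨_, rfl⟩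
  have hχΩ : ∀ g ∈ Cfsg.Omega F ⇑Q, χ g = 1 := by
    intro g hg
    exact MonoidHom.mem_ker.mp (Abelianization.commutator_subset_ker χ hg)
  have hle : Cfsg.Geo.subspaceStabilizer W ⊓ Cfsg.Geo.omegaGL ⇑Q ≤
      Cfsg.Geo.subspaceStabilizer U₁ ⊓ Cfsg.Geo.omegaGL ⇑Q := by
    rintro g ⟨hg1, hg2⟩
    refine ⟨?_, hg2⟩
    obtain ⟨h, hhΩ, rfl⟩ := Subgroup.mem_map.mp hg2
    have h1 := hχΩ h hhΩ
    rw [hχ, parityChar_eq_one_iff] at h1
    have h3 : ((isometryGroup F ⇑Q).subtype h : GL ι F) = (h : GL ι F) := rfl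
    rw [h3] at hg1 ⊢
    set T := U₁.map (Matrix.mulVecLin ((h : GL ι F) : Matrix ι ι F)) with hT
    have hTeq : T = U₁.map ((actEquiv (⇑Q) h : (ι → F) ≃ₗ[F] (ι → F)) : (ι → F) →ₗ[F] (ι → F)) := by
      rw [actEquiv_coe]
    have hTTS : IsTS Q T := by
      rw [hTeq]
      exact hU₁.map _ (Q_actEquiv Q h)
    have hTk : finrank F T = k := by
      rw [hTeq, ← hU₁k]
      exact (LinearEquiv.finrank_eq (Submodule.equivMapOfInjective _
        (actEquiv (⇑Q) h).injective U₁)).symm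
    have hWT : W ≤ T := by
      intro w hw
      have h4 : ((h⁻¹ : ↥(Cfsg.isometryGroup F ⇑Q)) : GL ι F) = ((h : GL ι F))⁻¹ := rfl
      have h5 : ((h : GL ι F) : Matrix ι ι F) *ᵥ
          ((((h : GL ι F))⁻¹ : GL ι F) : Matrix ι ι F) *ᵥ w = w := by
        rw [Matrix.mulVec_mulVec, ← Units.val_mul, mul_inv_cancel, Units.val_one,
          Matrix.one_mulVec]
      have h6 : ((((h : GL ι F))⁻¹ : GL ι F) : Matrix ι ι F) *ᵥ w ∈ W := by
        rw [(mem_stab_iff W _).mp hg1, h5]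
        exact hw
      exact ⟨_, hWU₁ h6, by rw [Matrix.mulVecLin_apply]; exact h5⟩
    rcases hclass T hTTS hTk hWT with h7 | h7
    · apply mem_stab_of_map_eq
      rw [Matrix.toLin'_apply']
      exact h7
    · exfalso
      have : k - finrank F ↥(U₁ ⊓ T) = 1 := by omega
      rw [this] at h1
      exact absurd h1 (by decide)
  -- auxiliary vectors
  obtain ⟨w₀, hw₀W, hw₀0⟩ : ∃ w₀ ∈ W, w₀ ≠ 0 := by
    have : W ≠ ⊥ := by
      intro h
      rw [h, finrank_bot] at hWk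
      omega
    exact Submodule.exists_mem_ne_zero_of_ne_bot this
  obtain ⟨y, hy⟩ : ∃ y, polar (⇑Q) y w₀ = 1 := by
    have : ∃ y, polar (⇑Q) w₀ y ≠ 0 := by
      by_contra hcon
      push_neg at hcon
      exact hw₀0 (hQ.1 w₀ (fun y => by simpa using hcon y))
    obtain ⟨y, hy⟩ := this
    refine ⟨(polar (⇑Q) w₀ y)⁻¹ • y, ?_⟩
    rw [polar_smul_left, polar_comm (⇑Q) y w₀, smul_eq_mul, inv_mul_cancel₀ hy]
  have hu₁w₀ : polar (⇑Q) u₁ w₀ = 0 := hU₁.polar_zero hu₁U (hWU₁ hw₀W)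
  have hx'w₀ : polar (⇑Q) x' w₀ = 0 := by
    rw [polar_comm]; exact hx'Wp w₀ hw₀W
  -- a Siegel element stabilising U₁ and moving W
  obtain ⟨u, hu, huw₀⟩ : ∃ u, polar (⇑Q) u₁ u = 0 ∧ polar (⇑Q) u w₀ = 1 := by
    refine ⟨y - (polar (⇑Q) u₁ y * (polar (⇑Q) u₁ x')⁻¹) • x', ?_, ?_⟩
    · rw [polar_sub_right, polar_smul_right, smul_eq_mul, mul_assoc, inv_mul_cancel₀ hx'u₁,
        mul_one, sub_self]
    · rw [polar_sub_left, polar_smul_left, hx'w₀, smul_zero, sub_zero, hy]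
  obtain ⟨g₀, hg₀⟩ : ∃ g : ↥(Cfsg.isometryGroup F ⇑Q), g = siegel Q hQ u₁ u hQu₁ hu := ⟨_, rfl⟩
  have hg₀Ω : g₀ ∈ Cfsg.Omega F ⇑Q := by
    rw [hg₀]; exact siegel_mem_Omega Q hQ hn _ _ _ _
  have hg₀U₁ : ∀ v ∈ U₁, act g₀ v = v + polar (⇑Q) u v • u₁ := by
    intro v hv
    rw [hg₀, act_siegel, hU₁.polar_zero hu₁U hv]
    simp
  have hg₀map : U₁.map (Matrix.toLin' ((g₀ : GL ι F) : Matrix ι ι F)) = U₁ := by
    apply Submodule.eq_of_le_of_finrank_eq
    · rintro _ ⟨v, hv, rfl⟩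
      rw [Matrix.toLin'_apply]
      have := hg₀U₁ v hv
      rw [act_def] at this
      rw [this]
      exact U₁.add_mem hv (U₁.smul_mem _ hu₁U)
    · have hinj : Function.Injective (Matrix.toLin' ((g₀ : GL ι F) : Matrix ι ι F)) := by
        intro a b hab
        rw [Matrix.toLin'_apply, Matrix.toLin'_apply] at hab
        have h2 : ∀ z : ι → F, z = ((((g₀ : GL ι F))⁻¹ : GL ι F) : Matrix ι ι F) *ᵥ
            (((g₀ : GL ι F) : Matrix ι ι F) *ᵥ z) := by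
          intro z
          rw [Matrix.mulVec_mulVec, ← Units.val_mul, inv_mul_cancel, Units.val_one,
            Matrix.one_mulVec]
        rw [h2 a, hab, ← h2 b]
      exact (LinearEquiv.finrank_eq (Submodule.equivMapOfInjective _ hinj U₁)).symm
  have hg₀K : (g₀ : GL ι F) ∈ Cfsg.Geo.subspaceStabilizer U₁ ⊓ Cfsg.Geo.omegaGL ⇑Q :=
    ⟨mem_stab_of_map_eq _ _ hg₀map, mem_omegaGL_of_mem_Omega g₀ hg₀Ω⟩
  have hg₀W : (g₀ : GL ι F) ∉ Cfsg.Geo.subspaceStabilizer W := by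
    intro hmem
    have h1 := ((mem_stab_iff W _).mp hmem w₀).mp hw₀W
    have h2 : ((g₀ : GL ι F) : Matrix ι ι F) *ᵥ w₀ = act g₀ w₀ := rfl
    rw [h2, hg₀U₁ w₀ (hWU₁ hw₀W), huw₀, one_smul] at h1
    apply hu₁W
    have := W.sub_mem h1 hw₀W
    rwa [add_sub_cancel_left] at this
  -- a Siegel element moving U₁
  obtain ⟨u', hu', hu'w₀⟩ : ∃ u', polar (⇑Q) x' u' = 0 ∧ polar (⇑Q) u' w₀ = 1 := by
    refine ⟨y - (polar (⇑Q) x' y * (polar (⇑Q) x' u₁)⁻¹) • u₁, ?_, ?_⟩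
    · have hne : polar (⇑Q) x' u₁ ≠ 0 := by rw [polar_comm]; exact hx'u₁
      rw [polar_sub_right, polar_smul_right, smul_eq_mul, mul_assoc, inv_mul_cancel₀ hne,
        mul_one, sub_self]
    · rw [polar_sub_left, polar_smul_left, hu₁w₀, smul_zero, sub_zero, hy]
  obtain ⟨g₁, hg₁⟩ : ∃ g : ↥(Cfsg.isometryGroup F ⇑Q), g = siegel Q hQ x' u' hQx' hu' := ⟨_, rfl⟩
  have hg₁Ω : g₁ ∈ Cfsg.Omega F ⇑Q := by
    rw [hg₁]; exact siegel_mem_Omega Q hQ hn _ _ _ _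
  have hg₁K : (g₁ : GL ι F) ∉ Cfsg.Geo.subspaceStabilizer U₁ := by
    intro hmem
    have h1 := ((mem_stab_iff U₁ _).mp hmem w₀).mp (hWU₁ hw₀W)
    have h2 : ((g₁ : GL ι F) : Matrix ι ι F) *ᵥ w₀ = act g₁ w₀ := rfl
    rw [h2, hg₁, act_siegel, hu'w₀, hx'w₀] at h1
    simp only [one_smul, zero_smul, smul_zero, sub_zero] at h1
    apply hx'U₁
    have := U₁.sub_mem h1 (hWU₁ hw₀W)
    rwa [add_sub_cancel_left] at this
  refine ⟨Cfsg.Geo.subspaceStabilizer U₁ ⊓ Cfsg.Geo.omegaGL ⇑Q, ?_, ?_⟩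
  · refine lt_of_le_of_ne hle ?_
    intro heq
    have := hg₀K
    rw [← heq] at this
    exact hg₀W this.1
  · refine lt_of_le_of_ne inf_le_right ?_
    intro heq
    have := mem_omegaGL_of_mem_Omega g₁ hg₁Ω
    rw [← heq] at this
    exact hg₁K this.1

end Cfsg.Agent.Lib.Helper27.OrthSubmax
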