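import Mathlib
import Cfsg.Prelude.Def_GeometricClasses
import Cfsg.Agent.Lib.Helper27.SpTensor
import Cfsg.Agent.Lib.Helper27.SympStab

set_option autoImplicit false

/-!
The stabiliser in `Sp_{2m}(3)` of a tensor decomposition `Sp_{n₁}(3) ⊗ O₃(3)` is not maximal:
it lies strictly inside the stabiliser of the set of pure tensors `v ⊗ w` with `w` in the frame.
-/

namespace Cfsg.Agent.Lib.Helper27.SpTensor

open Cfsg Matrix Cfsg.Agent.Lib.Helper27.TensorForm
open scoped Kronecker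

variable {F : Type*} [Field F] [Fintype F]

/-- The multiplier of a similitude of a non-degenerate symmetric form on the three-dimensional
space over the field with three elements is one. -/
theorem multiplier_eq_one (hF : Fintype.card F = 3) {f : (Fin 3 → F) → (Fin 3 → F) → F}
    (h : Cfsg.Geo.IsSymmetricForm f) (b : GL (Fin 3) F) (lam : F) (hlam : lam ≠ 0)
    (hb : ∀ w w' : Fin 3 → F, f ((b : Matrix (Fin 3) (Fin 3) F) *ᵥ w)
      ((b : Matrix (Fin 3) (Fin 3) F) *ᵥ w') = lam * f w w') : lam = 1 := by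
  classical
  have hS := sesq_of_bilinear h.bilinear
  set G := Cfsg.Geo.gramMatrix f with hG
  set Bm : Matrix (Fin 3) (Fin 3) F := (b : Matrix (Fin 3) (Fin 3) F) with hBm
  have hform : ∀ x y : Fin 3 → F, f x y = ∑ a, ∑ c, x a * G a c * y c := by
    intro x y
    rw [hS.eq_formOfGram]
    rfl
  -- the Gram matrix transforms by the multiplier
  have hmat : Bmᵀ * G * Bm = lam • G := by
    ext i j
    have h1 := hb (Pi.single i 1) (Pi.single j 1)
    rw [hform, Matrix.mulVec_single_one, Matrix.mulVec_single_one] at h1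
    have h2 : f (Pi.single i 1) (Pi.single j 1) = G i j := rfl
    rw [h2] at h1
    rw [Matrix.smul_apply, smul_eq_mul, ← h1, Matrix.mul_apply]
    simp only [Matrix.mul_apply, Matrix.transpose_apply, Matrix.col_apply, Finset.sum_mul]
    rw [Finset.sum_comm]
  -- the Gram matrix is invertible
  have hdet : G.det ≠ 0 := by
    intro h0
    obtain ⟨v, hv0, hv⟩ := Matrix.exists_mulVec_eq_zero_iff.mpr h0
    obtain ⟨⟨x, hx⟩, _⟩ := h.nondegenerate v hv0
    apply hx
    rw [hform]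
    apply Finset.sum_eq_zero
    intro a _
    have h1 : ∑ c, x a * G a c * v c = x a * (G *ᵥ v) a := by
      rw [Matrix.mulVec, dotProduct, Finset.mul_sum]
      exact Finset.sum_congr rfl fun c _ => mul_assoc _ _ _
    rw [h1, hv, Pi.zero_apply, mul_zero]
  have h2 := congrArg Matrix.det hmat
  rw [Matrix.det_mul, Matrix.det_mul, Matrix.det_transpose, Matrix.det_smul, Fintype.card_fin] at h2
  have hbdet : Bm.det ≠ 0 := by
    have := (Matrix.isUnit_iff_isUnit_det Bm).mp ⟨b, rfl⟩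
    exact this.ne_zero
  have h3 : Bm.det ^ 2 = lam ^ 3 := by
    have : (Bm.det ^ 2 - lam ^ 3) * G.det = 0 := by linear_combination h2
    rcases mul_eq_zero.mp this with h4 | h4
    · exact sub_eq_zero.mp h4
    · exact absurd h4 hdet
  have h4 : lam ^ 3 = lam := by
    have := FiniteField.pow_card lam
    rwa [hF] at this
  rw [sq_eq_one hF hbdet, h4] at h3
  exact h3.symm

/-- The set of (images of) pure tensors whose second factor has norm `δ`. -/
def goodSet {m n₁ : ℕ} (e : (Fin m ⊕ Fin m) ≃ Fin n₁ × Fin 3) (P : GL (Fin m ⊕ Fin m) F)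
    (f₂ : (Fin 3 → F) → (Fin 3 → F) → F) (δ : F) : Set (Fin m ⊕ Fin m → F) :=
  {s | ∃ (v : Fin n₁ → F) (w : Fin 3 → F), f₂ w w = δ ∧ s = theta e P (tens v w)}

/-- The stabiliser of `goodSet` inside the symplectic group. -/
def goodStab {m n₁ : ℕ} (e : (Fin m ⊕ Fin m) ≃ Fin n₁ × Fin 3) (P : GL (Fin m ⊕ Fin m) F)
    (f₂ : (Fin 3 → F) → (Fin 3 → F) → F) (δ : F) : Subgroup (GL (Fin m ⊕ Fin m) F) where
  carrier := {g | g ∈ Cfsg.spGL m F ∧
    ∀ s ∈ goodSet e P f₂ δ, (g : Matrix _ _ F) *ᵥ s ∈ goodSet e P f₂ δ ∧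
      ((g⁻¹ : GL (Fin m ⊕ Fin m) F) : Matrix _ _ F) *ᵥ s ∈ goodSet e P f₂ δ}
  one_mem' := by
    refine ⟨one_mem _, fun s hs => ?_⟩
    rw [inv_one, Units.val_one, Matrix.one_mulVec]
    exact ⟨hs, hs⟩
  mul_mem' := by
    rintro g h ⟨hg, hg2⟩ ⟨hh, hh2⟩
    refine ⟨mul_mem hg hh, fun s hs => ?_⟩
    rw [_root_.mul_inv_rev, Units.val_mul, Units.val_mul, ← Matrix.mulVec_mulVec,
      ← Matrix.mulVec_mulVec]
    exact ⟨(hg2 _ (hh2 s hs).1).1, (hh2 _ (hg2 s hs).2).2⟩
  inv_mem' := by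
    rintro g ⟨hg, hg2⟩
    refine ⟨inv_mem hg, fun s hs => ?_⟩
    rw [inv_inv]
    exact ⟨(hg2 s hs).2, (hg2 s hs).1⟩

open Cfsg.Agent.Lib.Helper27.SympTransv in
theorem exists_between (m : ℕ) (hm : 7 ≤ m) (hq : Fintype.card F = 3) (n₁ : ℕ)
    (e : (Fin m ⊕ Fin m) ≃ Fin n₁ × Fin 3) (P : Matrix.GeneralLinearGroup (Fin m ⊕ Fin m) F)
    (f₁ : (Fin n₁ → F) → (Fin n₁ → F) → F) (f₂ : (Fin 3 → F) → (Fin 3 → F) → F)
    (hf₁ : Cfsg.Geo.IsSymplecticForm f₁) (hf₂ : Cfsg.Geo.IsSymmetricForm f₂)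
    (hT : Cfsg.Geo.IsTensorFormStructure id (Cfsg.sympForm m F) f₁ f₂ e P) :
    ∃ K : Subgroup (Matrix.GeneralLinearGroup (Fin m ⊕ Fin m) F),
      Cfsg.Geo.tensorProductSubgroup n₁ 3 e P ⊓ Cfsg.spGL m F < K ∧ K < Cfsg.spGL m F := by
  classical
  have hcard : 2 * m = n₁ * 3 := by
    have h := Fintype.card_congr e
    simp only [Fintype.card_sum, Fintype.card_fin, Fintype.card_prod] at h
    omega
  have hn₁ : 0 < n₁ := by omega
  obtain ⟨c, hc0, hc⟩ := hT
  have hS₁ := sesq_of_bilinear hf₁.bilinear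
  have hS₂ := sesq_of_bilinear hf₂.bilinear
  have hσ : ∀ a b : F, (id : F → F) (a * b) = id a * id b := fun _ _ => rfl
  have key : ∀ (v v' : Fin n₁ → F) (w w' : Fin 3 → F),
      sympForm m F (theta e P (tens v w)) (theta e P (tens v' w')) = c * (f₁ v v' * f₂ w w') :=
    fun v v' w w' => form_theta_tens hσ hS₁ hS₂ hc v v' w w'
  -- the frame of the second factor
  obtain ⟨δ, W, hδ, hW, hWcl⟩ := frame3 hq hf₂
  have hW00 : f₂ (W 0) (W 0) = δ := by rw [hW]; simp
  have hW11 : f₂ (W 1) (W 1) = δ := by rw [hW]; simp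
  have hW01 : f₂ (W 0) (W 1) = 0 := by rw [hW]; simp
  have hW10 : f₂ (W 1) (W 0) = 0 := by rw [hW]; simp
  -- vectors of the first factor
  let v₀ : Fin n₁ → F := Pi.single ⟨0, hn₁⟩ 1
  have hv₀ : v₀ ≠ 0 := by
    intro hz
    have := congrFun hz ⟨0, hn₁⟩
    simp [v₀] at this
  obtain ⟨⟨vp, hvp⟩, _⟩ := hf₁.nondegenerate v₀ hv₀
  -- the symplectic transvections, as elements of GL
  have htv : ∀ (p : Fin m ⊕ Fin m → F) (κ : F) (x : Fin m ⊕ Fin m → F),
      ((spHom (tv p κ) : GL (Fin m ⊕ Fin m) F) : Matrix _ _ F) *ᵥ x =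
        x + (κ * sympForm m F x p) • p := by
    intro p κ x
    rw [spHom_coe]
    exact transv_mulVec p κ x
  -- the tensor subgroup preserves the good set
  have hpres : ∀ g ∈ Cfsg.Geo.tensorProductSubgroup n₁ 3 e P ⊓ Cfsg.spGL m F,
      ∀ s ∈ goodSet e P f₂ δ, (g : Matrix _ _ F) *ᵥ s ∈ goodSet e P f₂ δ := by
    rintro g ⟨hg1, hg2⟩ s ⟨v, w, hw, rfl⟩
    obtain ⟨a, b, hab⟩ := mem_tensor_imp hg1
    refine ⟨(a : Matrix (Fin n₁) (Fin n₁) F) *ᵥ v, (b : Matrix (Fin 3) (Fin 3) F) *ᵥ w, ?_, ?_⟩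
    · -- b is a similitude
      have hsim : ∀ x x' : Fin 3 → F,
          f₁ ((a : Matrix (Fin n₁) (Fin n₁) F) *ᵥ vp) ((a : Matrix (Fin n₁) (Fin n₁) F) *ᵥ v₀) *
            f₂ ((b : Matrix (Fin 3) (Fin 3) F) *ᵥ x) ((b : Matrix (Fin 3) (Fin 3) F) *ᵥ x') =
          f₁ vp v₀ * f₂ x x' := by
        intro x x'
        have h1 := hg2 (theta e P (tens vp x)) (theta e P (tens v₀ x'))
        have h2 : (Cfsg.glToMat (Fin m ⊕ Fin m) F g) = (g : Matrix _ _ F) := rfl
        rw [h2, hab, hab, kron_mulVec_tens, kron_mulVec_tens, key, key] at h1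
        exact mul_left_cancel₀ hc0 h1
      set μ := f₁ ((a : Matrix (Fin n₁) (Fin n₁) F) *ᵥ vp)
        ((a : Matrix (Fin n₁) (Fin n₁) F) *ᵥ v₀) with hμ
      have hμ0 : μ ≠ 0 := by
        intro hz
        have := hsim (W 0) (W 0)
        rw [hz, zero_mul, hW00] at this
        exact mul_ne_zero hvp hδ this.symm
      have hlam : f₁ vp v₀ * μ⁻¹ = 1 := by
        apply multiplier_eq_one hq hf₂ b (f₁ vp v₀ * μ⁻¹) (mul_ne_zero hvp (inv_ne_zero hμ0))
        intro x x'
        have := hsim x x'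
        rw [mul_assoc, mul_comm μ⁻¹, ← mul_assoc, ← this, mul_comm μ, mul_assoc,
          mul_inv_cancel₀ hμ0, mul_one]
      have := hsim w w
      rw [hw] at this
      have hμ' : μ = f₁ vp v₀ := by
        field_simp at hlam
        exact hlam.symm
      rw [hμ'] at this
      exact mul_left_cancel₀ hvp this
    · rw [hab, kron_mulVec_tens]
  have hle : Cfsg.Geo.tensorProductSubgroup n₁ 3 e P ⊓ Cfsg.spGL m F ≤ goodStab e P f₂ δ := by
    intro g hg
    exact ⟨hg.2, fun s hs => ⟨hpres g hg s hs, hpres g⁻¹ (inv_mem hg) s hs⟩⟩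
  -- the transvection with centre v₀ ⊗ W 0
  have hg₀S : ∀ κ : F, ∀ s ∈ goodSet e P f₂ δ,
      ((spHom (tv (theta e P (tens v₀ (W 0))) κ) : GL (Fin m ⊕ Fin m) F) : Matrix _ _ F) *ᵥ s ∈
        goodSet e P f₂ δ := by
    rintro κ s ⟨v, w, hw, rfl⟩
    rw [htv, key]
    obtain ⟨i, ε, rfl⟩ := hWcl w hw
    by_cases hi : i = 0
    · subst hi
      refine ⟨ε • v + (κ * (c * (f₁ v v₀ * f₂ (ε • W 0) (W 0)))) • v₀, W 0, hW00, ?_⟩
      rw [tens_add_left, theta_add, tens_smul_left, tens_smul_left, tens_smul_right, theta_smul,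
        theta_smul]
    · refine ⟨v, ε • W i, hw, ?_⟩
      rw [hS₂.smul_left, hW, if_neg hi, mul_zero, mul_zero, mul_zero, mul_zero, zero_smul,
        add_zero]
  have hg₀K : spHom (tv (theta e P (tens v₀ (W 0))) 1) ∈ goodStab e P f₂ δ := by
    refine ⟨spHom_mem _, fun s hs => ⟨hg₀S 1 s hs, ?_⟩⟩
    have hinv : (spHom (tv (theta e P (tens v₀ (W 0))) (1 : F)))⁻¹ =
        spHom (tv (theta e P (tens v₀ (W 0))) (-1)) := by
      rw [inv_eq_iff_mul_eq_one]
      apply Units.ext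
      rw [Units.val_mul, Units.val_one, Matrix.ext_iff_mulVec]
      intro x
      rw [← Matrix.mulVec_mulVec, htv, htv, Matrix.one_mulVec, sf_add_left, sf_smul_left, sf_self,
        mul_zero, add_zero, add_assoc, ← add_smul]
      have : (-1 * sympForm m F x (theta e P (tens v₀ (W 0))) +
          1 * sympForm m F x (theta e P (tens v₀ (W 0)))) = 0 := by ring
      rw [this, zero_smul, add_zero]
    rw [hinv]
    exact hg₀S (-1) s hs
  have hg₀T : spHom (tv (theta e P (tens v₀ (W 0))) (1 : F)) ∉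
      Cfsg.Geo.tensorProductSubgroup n₁ 3 e P := by
    intro hmem
    obtain ⟨a, b, hab⟩ := mem_tensor_imp hmem
    have hA : ∀ v : Fin n₁ → F,
        tens ((a : Matrix (Fin n₁) (Fin n₁) F) *ᵥ v) ((b : Matrix (Fin 3) (Fin 3) F) *ᵥ W 1) =
          tens v (W 1) := by
      intro v
      have h1 := hab (tens v (W 1))
      rw [htv, key, hW10, mul_zero, mul_zero, mul_zero, zero_smul, add_zero,
        kron_mulVec_tens] at h1
      exact (theta_injective e P h1).symm
    have hB : ∀ v : Fin n₁ → F,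
        tens ((a : Matrix (Fin n₁) (Fin n₁) F) *ᵥ v) ((b : Matrix (Fin 3) (Fin 3) F) *ᵥ W 0) =
          tens (v + (c * (f₁ v v₀ * δ)) • v₀) (W 0) := by
      intro v
      have h1 := hab (tens v (W 0))
      rw [htv, key, hW00, one_mul, kron_mulVec_tens, ← theta_smul, ← theta_add,
        ← tens_smul_left, ← tens_add_left] at h1
      exact (theta_injective e P h1).symm
    have hA' : ∀ v : Fin n₁ → F,
        f₂ ((b : Matrix (Fin 3) (Fin 3) F) *ᵥ W 1) (W 1) •
          ((a : Matrix (Fin n₁) (Fin n₁) F) *ᵥ v) = δ • v := by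
      intro v
      have h1 := congrArg (contr₂ f₂ (W 1)) (hA v)
      rw [contr₂_tens hS₂.smul_left, contr₂_tens hS₂.smul_left, hW11] at h1
      exact h1
    have hB' : ∀ v : Fin n₁ → F,
        f₂ ((b : Matrix (Fin 3) (Fin 3) F) *ᵥ W 0) (W 0) •
          ((a : Matrix (Fin n₁) (Fin n₁) F) *ᵥ v) = δ • (v + (c * (f₁ v v₀ * δ)) • v₀) := by
      intro v
      have h1 := congrArg (contr₂ f₂ (W 0)) (hB v)
      rw [contr₂_tens hS₂.smul_left, contr₂_tens hS₂.smul_left, hW00] at h1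
      exact h1
    set lam := f₂ ((b : Matrix (Fin 3) (Fin 3) F) *ᵥ W 1) (W 1) with hlam
    set mu := f₂ ((b : Matrix (Fin 3) (Fin 3) F) *ᵥ W 0) (W 0) with hmu
    have hlam0 : lam ≠ 0 := by
      intro hz
      have := hA' v₀
      rw [hz, zero_smul] at this
      rcases smul_eq_zero.mp this.symm with h1 | h1
      · exact hδ h1
      · exact hv₀ h1
    have ha : ∀ v : Fin n₁ → F, (a : Matrix (Fin n₁) (Fin n₁) F) *ᵥ v = (lam⁻¹ * δ) • v := by
      intro v
      have := hA' v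
      rw [show (a : Matrix (Fin n₁) (Fin n₁) F) *ᵥ v =
        lam⁻¹ • (lam • ((a : Matrix (Fin n₁) (Fin n₁) F) *ᵥ v)) by
          rw [smul_smul, inv_mul_cancel₀ hlam0, one_smul], this, smul_smul]
    have h3 := hB' vp
    rw [ha, smul_smul, smul_add, smul_smul] at h3
    have hcz : δ * (c * (f₁ vp v₀ * δ)) ≠ 0 :=
      mul_ne_zero hδ (mul_ne_zero hc0 (mul_ne_zero hvp hδ))
    have h4 : v₀ = ((δ * (c * (f₁ vp v₀ * δ)))⁻¹ * (mu * (lam⁻¹ * δ) - δ)) • vp := by
      have h5 : (δ * (c * (f₁ vp v₀ * δ))) • v₀ = (mu * (lam⁻¹ * δ) - δ) • vp := by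
        rw [sub_smul, h3]; abel
      rw [← smul_smul, ← h5, smul_smul, inv_mul_cancel₀ hcz, one_smul]
    apply hvp
    conv_lhs => rw [h4]
    rw [hS₁.smul_right, hf₁.alternating, mul_zero]
  -- the transvection with centre v₀ ⊗ (W 0 + W 1)
  have hg₁ : spHom (tv (theta e P (tens v₀ (W 0 + W 1))) (1 : F)) ∉ goodStab e P f₂ δ := by
    rintro ⟨_, hmem⟩
    have hs : theta e P (tens vp (W 0)) ∈ goodSet e P f₂ δ := ⟨vp, W 0, hW00, rfl⟩
    obtain ⟨v, w, hw, hvw⟩ := (hmem _ hs).1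
    rw [htv, key, hS₂.add_right, hW00, hW01, add_zero, one_mul, ← theta_smul, ← theta_add] at hvw
    have h1 := theta_injective e P hvw
    set β := c * (f₁ vp v₀ * δ) with hβ
    have hβ0 : β ≠ 0 := mul_ne_zero hc0 (mul_ne_zero hvp hδ)
    have hC0 := congrArg (contr₂ f₂ (W 0)) h1
    have hC1 := congrArg (contr₂ f₂ (W 1)) h1
    rw [contr₂_add hS₂.add_left, contr₂_tens hS₂.smul_left, contr₂_tens hS₂.smul_left, hW00,
      ← tens_smul_left, contr₂_tens hS₂.smul_left, hS₂.add_left, hW00, hW10, add_zero] at hC0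
    rw [contr₂_add hS₂.add_left, contr₂_tens hS₂.smul_left, contr₂_tens hS₂.smul_left, hW01,
      zero_smul, zero_add, ← tens_smul_left, contr₂_tens hS₂.smul_left, hS₂.add_left, hW01, hW11,
      zero_add] at hC1
    obtain ⟨i, ε, rfl⟩ := hWcl w hw
    have hbad : δ • β • v₀ ≠ 0 := by
      intro hz
      rcases smul_eq_zero.mp hz with h2 | h2
      · exact hδ h2
      rcases smul_eq_zero.mp h2 with h3 | h3
      · exact hβ0 h3
      · exact hv₀ h3
    by_cases hi : i = 1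
    · subst hi
      rw [hS₂.smul_left, hW10, mul_zero, zero_smul] at hC0
      -- vp + β • v₀ = 0 contradicts f₁ vp v₀ ≠ 0
      have h2 : δ • (vp + β • v₀) = 0 := by rw [smul_add]; exact hC0
      rcases smul_eq_zero.mp h2 with h3 | h3
      · exact hδ h3
      · apply hvp
        have h4 : vp = (-β) • v₀ := by
          rw [neg_smul]; exact eq_neg_of_add_eq_zero_left h3
        rw [h4, hS₁.smul_left, hf₁.alternating, mul_zero]
    · rw [hS₂.smul_left, hW, if_neg hi, mul_zero, zero_smul] at hC1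
      exact hbad hC1
  have hg₁S : spHom (tv (theta e P (tens v₀ (W 0 + W 1))) (1 : F)) ∈ Cfsg.spGL m F :=
    spHom_mem _
  refine ⟨goodStab e P f₂ δ, ?_, ?_⟩
  · refine lt_of_le_of_ne hle ?_
    intro heq
    have := hg₀K
    rw [← heq] at this
    exact hg₀T this.1
  · have hle2 : goodStab e P f₂ δ ≤ Cfsg.spGL m F := fun g hg => hg.1
    refine lt_of_le_of_ne hle2 ?_
    intro heq
    apply hg₁
    rw [heq]
    exact hg₁S

end Cfsg.Agent.Lib.Helper27.SpTensor
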