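import Mathlib
import Cfsg.Prelude.Def_GeometricClasses
import Cfsg.Agent.Lib.Helper27.SpTensor2
import Cfsg.Agent.Lib.Helper19.OrthSiegel

set_option autoImplicit false

/-!
Orthogonal tensor decompositions `O₃(3) ⊗ O_{n₂}(3)`: the stabiliser in `Ω` is not maximal.
-/

namespace Cfsg.Agent.Lib.Helper27.OrthTensor

open Cfsg Matrix Cfsg.Agent.Lib.Helper27.TensorForm Cfsg.Agent.Lib.Helper27.SpTensor
open scoped Kronecker

variable {F : Type*} [Field F] [Fintype F]

/-- In dimension at least four over the field with three elements, a non-degenerate symmetric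
form has an anisotropic vector `x`, a non-zero isotropic vector `z` perpendicular to it, and a
vector `w` perpendicular to `x` but not to `z`. -/
theorem exists_xzw (hF : Fintype.card F = 3) {k : ℕ} (hk : 4 ≤ k)
    {f : (Fin k → F) → (Fin k → F) → F} (h : Cfsg.Geo.IsSymmetricForm f) :
    ∃ x z w : Fin k → F, f x x ≠ 0 ∧ z ≠ 0 ∧ f z z = 0 ∧ f z x = 0 ∧ f x w = 0 ∧ f z w ≠ 0 := by
  classical
  have hS := sesq_of_bilinear h.bilinear
  have h3 := three_eq_zero hF
  have : Invertible (2 : F) := by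
    refine invertibleOfNonzero ?_
    intro h2
    have h1 : (1 : F) = 0 := by linear_combination h3 - h2
    exact one_ne_zero h1
  let B : LinearMap.BilinForm F (Fin k → F) :=
    LinearMap.mk₂ F f h.bilinear.add_left h.bilinear.smul_left h.bilinear.add_right
      h.bilinear.smul_right
  have hBsymm : LinearMap.IsSymm B := ⟨fun x y => h.symm x y⟩
  have hBsep : B.SeparatingLeft := by
    intro x hx
    by_contra hx0
    obtain ⟨_, ⟨y, hy⟩⟩ := h.nondegenerate x hx0
    exact hy (hx y)
  obtain ⟨v, hv⟩ := LinearMap.BilinForm.exists_orthogonal_basis hBsymm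
  have hfr : Module.finrank F (Fin k → F) = k := Module.finrank_fin_fun F
  have hnz : ∀ i, f (v i) (v i) ≠ 0 := fun i =>
    hv.not_isOrtho_basis_self_of_separatingLeft hBsep i
  have horth : ∀ i j, i ≠ j → f (v i) (v j) = 0 := fun i j hij => hv hij
  let E : Fin k ≃ Fin (Module.finrank F (Fin k → F)) := finCongr hfr.symm
  obtain ⟨i0, hi0⟩ : ∃ i, i = E ⟨0, by omega⟩ := ⟨_, rfl⟩
  obtain ⟨i1, hi1⟩ : ∃ i, i = E ⟨1, by omega⟩ := ⟨_, rfl⟩
  obtain ⟨i2, hi2⟩ : ∃ i, i = E ⟨2, by omega⟩ := ⟨_, rfl⟩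
  obtain ⟨i3, hi3⟩ : ∃ i, i = E ⟨3, by omega⟩ := ⟨_, rfl⟩
  have hne : ∀ (a b : ℕ) (ha : a < k) (hb : b < k), a ≠ b → E ⟨a, ha⟩ ≠ E ⟨b, hb⟩ := by
    intro a b ha hb hab heq
    apply hab
    have := E.injective heq
    exact Fin.mk.inj_iff.mp this
  have h01 : i0 ≠ i1 := by rw [hi0, hi1]; exact hne 0 1 _ _ (by norm_num)
  have h02 : i0 ≠ i2 := by rw [hi0, hi2]; exact hne 0 2 _ _ (by norm_num)
  have h03 : i0 ≠ i3 := by rw [hi0, hi3]; exact hne 0 3 _ _ (by norm_num)
  have h12 : i1 ≠ i2 := by rw [hi1, hi2]; exact hne 1 2 _ _ (by norm_num)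
  have h13 : i1 ≠ i3 := by rw [hi1, hi3]; exact hne 1 3 _ _ (by norm_num)
  have h23 : i2 ≠ i3 := by rw [hi2, hi3]; exact hne 2 3 _ _ (by norm_num)
  have hval : ∀ i, f (v i) (v i) = 1 ∨ f (v i) (v i) = -1 := by
    intro i
    rcases cases3 hF (f (v i) (v i)) with h' | h' | h'
    · exact absurd h' (hnz i)
    · exact Or.inl h'
    · exact Or.inr h'
  -- the isotropic vector
  obtain ⟨z, hz0, hzz, hzx⟩ : ∃ z : Fin k → F, z ≠ 0 ∧ f z z = 0 ∧ f z (v i0) = 0 := by
    by_cases hA : f (v i1) (v i1) + f (v i2) (v i2) = 0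
    · refine ⟨v i1 + v i2, ?_, ?_, ?_⟩
      · intro hz
        have h1 : f (v i1 + v i2) (v i1) = 0 := by rw [hz, hS.zero_left]
        rw [hS.add_left, horth i2 i1 h12.symm, add_zero] at h1
        exact hnz i1 h1
      · rw [hS.add_left, hS.add_right, hS.add_right, horth i1 i2 h12, horth i2 i1 h12.symm]
        linear_combination hA
      · rw [hS.add_left, horth i1 i0 h01.symm, horth i2 i0 h02.symm, add_zero]
    by_cases hB' : f (v i1) (v i1) + f (v i3) (v i3) = 0
    · refine ⟨v i1 + v i3, ?_, ?_, ?_⟩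
      · intro hz
        have h1 : f (v i1 + v i3) (v i1) = 0 := by rw [hz, hS.zero_left]
        rw [hS.add_left, horth i3 i1 h13.symm, add_zero] at h1
        exact hnz i1 h1
      · rw [hS.add_left, hS.add_right, hS.add_right, horth i1 i3 h13, horth i3 i1 h13.symm]
        linear_combination hB'
      · rw [hS.add_left, horth i1 i0 h01.symm, horth i3 i0 h03.symm, add_zero]
    · refine ⟨v i1 + v i2 + v i3, ?_, ?_, ?_⟩
      · intro hz
        have h1 : f (v i1 + v i2 + v i3) (v i1) = 0 := by rw [hz, hS.zero_left]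
        rw [hS.add_left, hS.add_left, horth i3 i1 h13.symm, horth i2 i1 h12.symm, add_zero,
          add_zero] at h1
        exact hnz i1 h1
      · have e2 : f (v i2) (v i2) = f (v i1) (v i1) := by
          rcases hval i1 with a1 | a1 <;> rcases hval i2 with a2 | a2
          · rw [a1, a2]
          · exfalso; apply hA; rw [a1, a2]; ring
          · exfalso; apply hA; rw [a1, a2]; ring
          · rw [a1, a2]
        have e3 : f (v i3) (v i3) = f (v i1) (v i1) := by
          rcases hval i1 with a1 | a1 <;> rcases hval i3 with a2 | a2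
          · rw [a1, a2]
          · exfalso; apply hB'; rw [a1, a2]; ring
          · exfalso; apply hB'; rw [a1, a2]; ring
          · rw [a1, a2]
        simp only [hS.add_left, hS.add_right, horth i1 i2 h12, horth i2 i1 h12.symm,
          horth i1 i3 h13, horth i3 i1 h13.symm, horth i2 i3 h23, horth i3 i2 h23.symm, e2, e3,
          add_zero, zero_add]
        linear_combination (f (v i1) (v i1)) * h3
      · rw [hS.add_left, hS.add_left, horth i1 i0 h01.symm, horth i2 i0 h02.symm,
          horth i3 i0 h03.symm, add_zero, add_zero]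
  obtain ⟨_, ⟨w', hw'⟩⟩ := h.nondegenerate z hz0
  have hxz : f (v i0) z = 0 := by rw [h.symm, hzx]
  refine ⟨v i0, z, w' - (f (v i0) w' * (f (v i0) (v i0))⁻¹) • v i0, hnz i0, hz0, hzz, hzx, ?_, ?_⟩
  · rw [sub_eq_add_neg, hS.add_right, ← neg_smul, hS.smul_right]
    simp only [id]
    field_simp [hnz i0]
    ring
  · rw [sub_eq_add_neg, hS.add_right, ← neg_smul, hS.smul_right, hzx, mul_zero, add_zero]
    exact hw'

end Cfsg.Agent.Lib.Helper27.OrthTensor
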