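import Mathlib
import Cfsg.Prelude.Def_GeometricClasses
import Cfsg.Agent.Lib.Helper27.OrthTensor

set_option autoImplicit false

/-!
Orthogonal tensor decompositions `O₃(3) ⊗ O_{n₂}(3)`: the stabiliser in `Ω` is not maximal.
-/

namespace Cfsg.Agent.Lib.Helper27.OrthTensor

open Cfsg Matrix Cfsg.Agent.Lib.Helper27.TensorForm Cfsg.Agent.Lib.Helper27.SpTensor
open Cfsg.Agent.Lib.Helper19.OrthRefl
open scoped Kronecker

variable {F : Type*} [Field F] [Fintype F] {ι : Type} [Fintype ι] [DecidableEq ι]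

/-- The set of (images of) pure tensors whose first factor has norm `δ`. -/
def goodSet {n₂ : ℕ} (e : ι ≃ Fin 3 × Fin n₂) (P : GL ι F)
    (f₁ : (Fin 3 → F) → (Fin 3 → F) → F) (δ : F) : Set (ι → F) :=
  {s | ∃ (v : Fin 3 → F) (w : Fin n₂ → F), f₁ v v = δ ∧ s = theta e P (tens v w)}

/-- The stabiliser of `goodSet` inside `Ω`. -/
def goodStab {n₂ : ℕ} (Q : (ι → F) → F) (e : ι ≃ Fin 3 × Fin n₂) (P : GL ι F)
    (f₁ : (Fin 3 → F) → (Fin 3 → F) → F) (δ : F) : Subgroup (GL ι F) where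
  carrier := {g | g ∈ Cfsg.Geo.omegaGL Q ∧
    ∀ s ∈ goodSet e P f₁ δ, (g : Matrix _ _ F) *ᵥ s ∈ goodSet e P f₁ δ ∧
      ((g⁻¹ : GL ι F) : Matrix _ _ F) *ᵥ s ∈ goodSet e P f₁ δ}
  one_mem' := by
    refine ⟨one_mem _, fun s hs => ?_⟩
    rw [inv_one, Units.val_one, Matrix.one_mulVec]
    exact ⟨hs, hs⟩
  mul_mem' := by
    rintro g h ⟨hg, hg2⟩ ⟨hh, hh2⟩
    refine ⟨mul_mem hg hh, fun s hs => ?_⟩
    rw [_root_.mul_inv_rev, Units.val_mul, Units.val_mul, ← Matrix.mulVec_mulVec,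
      ← Matrix.mulVec_mulVec]
    exact ⟨(hg2 _ (hh2 s hs).1).1, (hh2 _ (hg2 s hs).2).2⟩
  inv_mem' := by
    rintro g ⟨hg, hg2⟩
    refine ⟨inv_mem hg, fun s hs => ?_⟩
    rw [inv_inv]
    exact ⟨(hg2 s hs).2, (hg2 s hs).1⟩

theorem mem_omegaGL_of_mem_Omega {Q : (ι → F) → F} (h : ↥(Cfsg.isometryGroup F Q))
    (hh : h ∈ Cfsg.Omega F Q) : (h : GL ι F) ∈ Cfsg.Geo.omegaGL Q :=
  Subgroup.mem_map.mpr ⟨h, hh, rfl⟩

theorem exists_between_orth3 (hq : Fintype.card F = 3)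
    (Q : QuadraticForm F (ι → F)) (hQ : (QuadraticMap.polarBilin Q).Nondegenerate)
    (n₂ : ℕ) (h2 : 4 ≤ n₂) (e : ι ≃ Fin 3 × Fin n₂) (P : GL ι F)
    (f₁ : (Fin 3 → F) → (Fin 3 → F) → F) (f₂ : (Fin n₂ → F) → (Fin n₂ → F) → F)
    (hf₁ : Cfsg.Geo.IsSymmetricForm f₁) (hf₂ : Cfsg.Geo.IsSymmetricForm f₂)
    (hT : Cfsg.Geo.IsTensorFormStructure id (QuadraticMap.polar ⇑Q) f₁ f₂ e P) :
    ∃ K : Subgroup (GL ι F),
      Cfsg.Geo.tensorProductSubgroup 3 n₂ e P ⊓ Cfsg.Geo.omegaGL ⇑Q < K ∧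
        K < Cfsg.Geo.omegaGL ⇑Q := by
  classical
  have hcard : Fintype.card ι = 3 * n₂ := by
    have h := Fintype.card_congr e
    simpa using h
  have hn5 : 5 ≤ Fintype.card ι := by omega
  have h3 := three_eq_zero hq
  have h20 : (2 : F) ≠ 0 := by
    intro h2'
    have h1 : (1 : F) = 0 := by linear_combination h3 - h2'
    exact one_ne_zero h1
  obtain ⟨c, hc0, hc⟩ := hT
  have hS₁ := sesq_of_bilinear hf₁.bilinear
  have hS₂ := sesq_of_bilinear hf₂.bilinear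
  have hσ : ∀ a b : F, (id : F → F) (a * b) = id a * id b := fun _ _ => rfl
  have key : ∀ (v v' : Fin 3 → F) (w w' : Fin n₂ → F),
      QuadraticMap.polar (⇑Q) (theta e P (tens v w)) (theta e P (tens v' w')) =
        c * (f₁ v v' * f₂ w w') :=
    fun v v' w w' => form_theta_tens hσ hS₁ hS₂ hc v v' w w'
  have hQ0 : ∀ s : ι → F, QuadraticMap.polar (⇑Q) s s = 0 → Q s = 0 := by
    intro s hs
    rw [polar_self'] at hs
    rcases mul_eq_zero.mp hs with h | h
    · exact absurd h h20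
    · exact h
  -- the frame of the first factor
  obtain ⟨δ, W, hδ, hW, hWcl⟩ := frame3 hq hf₁
  have hW00 : f₁ (W 0) (W 0) = δ := by rw [hW]; simp
  have hW11 : f₁ (W 1) (W 1) = δ := by rw [hW]; simp
  have hW01 : f₁ (W 0) (W 1) = 0 := by rw [hW]; simp
  have hW10 : f₁ (W 1) (W 0) = 0 := by rw [hW]; simp
  -- vectors of the second factor
  obtain ⟨x, z, w, hxx, hz0, hzz, hzx, hxw, hzw⟩ := exists_xzw hq h2 hf₂
  have hxz : f₂ x z = 0 := by rw [hf₂.symm, hzx]
  -- the tensor subgroup preserves the good set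
  have hpres : ∀ g ∈ Cfsg.Geo.tensorProductSubgroup 3 n₂ e P ⊓ Cfsg.Geo.omegaGL ⇑Q,
      ∀ s ∈ goodSet e P f₁ δ, (g : Matrix _ _ F) *ᵥ s ∈ goodSet e P f₁ δ := by
    rintro g ⟨hg1, hg2⟩ s ⟨v, w', hv, rfl⟩
    obtain ⟨a, b, hab⟩ := mem_tensor_imp hg1
    obtain ⟨h, _, rfl⟩ := Subgroup.mem_map.mp hg2
    refine ⟨(a : Matrix (Fin 3) (Fin 3) F) *ᵥ v, (b : Matrix (Fin n₂) (Fin n₂) F) *ᵥ w', ?_, ?_⟩
    · have hsim : ∀ y y' : Fin 3 → F,
          f₁ ((a : Matrix (Fin 3) (Fin 3) F) *ᵥ y) ((a : Matrix (Fin 3) (Fin 3) F) *ᵥ y') *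
            f₂ ((b : Matrix (Fin n₂) (Fin n₂) F) *ᵥ x) ((b : Matrix (Fin n₂) (Fin n₂) F) *ᵥ x) =
          f₁ y y' * f₂ x x := by
        intro y y'
        have h1 := polar_act h (theta e P (tens y x)) (theta e P (tens y' x))
        rw [act_def] at h1
        have h2' : ((isometryGroup F ⇑Q).subtype h : GL ι F) = (h : GL ι F) := rfl
        rw [h2'] at hab
        rw [act_def, hab, hab, kron_mulVec_tens, kron_mulVec_tens, key, key] at h1
        exact mul_left_cancel₀ hc0 h1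
      set μ := f₂ ((b : Matrix (Fin n₂) (Fin n₂) F) *ᵥ x)
        ((b : Matrix (Fin n₂) (Fin n₂) F) *ᵥ x) with hμ
      have hμ0 : μ ≠ 0 := by
        intro hz
        have := hsim (W 0) (W 0)
        rw [hz, mul_zero, hW00] at this
        exact mul_ne_zero hδ hxx this.symm
      have hlam : f₂ x x * μ⁻¹ = 1 := by
        apply multiplier_eq_one hq hf₁ a (f₂ x x * μ⁻¹) (mul_ne_zero hxx (inv_ne_zero hμ0))
        intro y y'
        have := hsim y y'
        have e1 : f₁ ((a : Matrix (Fin 3) (Fin 3) F) *ᵥ y) ((a : Matrix (Fin 3) (Fin 3) F) *ᵥ y') =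
            f₁ ((a : Matrix (Fin 3) (Fin 3) F) *ᵥ y) ((a : Matrix (Fin 3) (Fin 3) F) *ᵥ y') *
              μ * μ⁻¹ := by
          rw [mul_assoc, mul_inv_cancel₀ hμ0, mul_one]
        rw [e1, this]
        ring
      have hμ' : μ = f₂ x x := by
        field_simp at hlam
        exact hlam.symm
      have := hsim v v
      rw [hμ', hv] at this
      exact mul_right_cancel₀ hxx this
    · have h2' : ((isometryGroup F ⇑Q).subtype h : GL ι F) = (h : GL ι F) := rfl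
      rw [h2'] at hab ⊢
      rw [hab, kron_mulVec_tens]
  have hle : Cfsg.Geo.tensorProductSubgroup 3 n₂ e P ⊓ Cfsg.Geo.omegaGL ⇑Q ≤
      goodStab (⇑Q) e P f₁ δ := by
    intro g hg
    exact ⟨hg.2, fun s hs => ⟨hpres g hg s hs, hpres g⁻¹ (inv_mem hg) s hs⟩⟩
  -- Siegel elements with centre W 0 ⊗ z
  have hp₀ : Q (theta e P (tens (W 0) z)) = 0 := by
    apply hQ0
    rw [key, hzz, mul_zero, mul_zero]
  have hpy : ∀ y : Fin n₂ → F, f₂ z y = 0 →
      QuadraticMap.polar (⇑Q) (theta e P (tens (W 0) z)) (theta e P (tens (W 0) y)) = 0 := by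
    intro y hy
    rw [key, hy, mul_zero, mul_zero]
  have hSieg : ∀ (y : Fin n₂ → F) (hy : f₂ z y = 0), ∀ s ∈ goodSet e P f₁ δ,
      act (siegel Q hQ (theta e P (tens (W 0) z)) (theta e P (tens (W 0) y)) hp₀ (hpy y hy)) s ∈
        goodSet e P f₁ δ := by
    rintro y hy s ⟨v, w', hv, rfl⟩
    rw [act_siegel, key, key]
    obtain ⟨i, ε, rfl⟩ := hWcl v hv
    by_cases hi : i = 0
    · subst hi
      refine ⟨W 0, ε • w' + (c * (f₁ (W 0) (ε • W 0) * f₂ y w')) • z -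
        (c * (f₁ (W 0) (ε • W 0) * f₂ z w')) • y -
        (Q (theta e P (tens (W 0) y)) * (c * (f₁ (W 0) (ε • W 0) * f₂ z w'))) • z, hW00, ?_⟩
      have e1 : tens (W 0) (ε • w' + (c * (f₁ (W 0) (ε • W 0) * f₂ y w')) • z -
        (c * (f₁ (W 0) (ε • W 0) * f₂ z w')) • y -
        (Q (theta e P (tens (W 0) y)) * (c * (f₁ (W 0) (ε • W 0) * f₂ z w'))) • z) =
          ε • tens (W 0) w' + (c * (f₁ (W 0) (ε • W 0) * f₂ y w')) • tens (W 0) z +
            (-(c * (f₁ (W 0) (ε • W 0) * f₂ z w'))) • tens (W 0) y +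
            (-(Q (theta e P (tens (W 0) y)) * (c * (f₁ (W 0) (ε • W 0) * f₂ z w')))) •
              tens (W 0) z := by
        rw [sub_eq_add_neg, sub_eq_add_neg, ← neg_smul, ← neg_smul, tens_add_right, tens_add_right,
          tens_add_right, tens_smul_right, tens_smul_right, tens_smul_right, tens_smul_right]
      rw [e1, theta_add, theta_add, theta_add, theta_smul, theta_smul, theta_smul, theta_smul,
        tens_smul_left, theta_smul]
      module
    · refine ⟨ε • W i, w', hv, ?_⟩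
      rw [hS₁.smul_right, hW, if_neg (Ne.symm hi)]
      simp only [mul_zero, zero_mul, zero_smul, smul_zero, add_zero, sub_zero]
  have hy0 : f₂ z x = 0 := hzx
  have hy0' : f₂ z (-x) = 0 := by
    have := hS₂.smul_right (-1) z x
    rw [neg_one_smul] at this
    rw [this, hzx, mul_zero]
  obtain ⟨g₀, hg₀⟩ : ∃ g : ↥(Cfsg.isometryGroup F ⇑Q),
      g = siegel Q hQ (theta e P (tens (W 0) z)) (theta e P (tens (W 0) x)) hp₀ (hpy x hy0) :=
    ⟨_, rfl⟩
  have hg₀Ω : (g₀ : GL ι F) ∈ Cfsg.Geo.omegaGL ⇑Q := by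
    rw [hg₀]
    exact mem_omegaGL_of_mem_Omega _ (siegel_mem_Omega Q hQ hn5 _ _ _ _)
  have hg₀K : (g₀ : GL ι F) ∈ goodStab (⇑Q) e P f₁ δ := by
    refine ⟨hg₀Ω, fun s hs => ⟨?_, ?_⟩⟩
    · rw [hg₀]
      exact hSieg x hy0 s hs
    · have hneg : -theta e P (tens (W 0) x) = theta e P (tens (W 0) (-x)) := by
        rw [← neg_one_smul F x, tens_smul_right, theta_smul, neg_one_smul]
      have hpu' : QuadraticMap.polar (⇑Q) (theta e P (tens (W 0) z))
          (-theta e P (tens (W 0) x)) = 0 := by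
        rw [hneg]; exact hpy (-x) hy0'
      have hinv : g₀⁻¹ = siegel Q hQ (theta e P (tens (W 0) z)) (theta e P (tens (W 0) (-x)))
          hp₀ (hpy (-x) hy0') := by
        rw [hg₀, siegel_inv Q hQ _ _ hp₀ (hpy x hy0) hpu']
        exact siegel_congr Q hQ hp₀ hpu' hp₀ (hpy (-x) hy0') rfl hneg
      have h1 : (((g₀ : GL ι F)⁻¹ : GL ι F) : Matrix ι ι F) *ᵥ s = act g₀⁻¹ s := rfl
      rw [h1, hinv]
      exact hSieg (-x) hy0' s hs
  have hη : c * (δ * f₂ x x) ≠ 0 := mul_ne_zero hc0 (mul_ne_zero hδ hxx)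
  have hg₀T : (g₀ : GL ι F) ∉ Cfsg.Geo.tensorProductSubgroup 3 n₂ e P := by
    intro hmem
    obtain ⟨a, b, hab⟩ := mem_tensor_imp hmem
    have hact : ∀ s, ((g₀ : GL ι F) : Matrix ι ι F) *ᵥ s = act g₀ s := fun s => rfl
    have hA : ∀ w' : Fin n₂ → F,
        tens ((a : Matrix (Fin 3) (Fin 3) F) *ᵥ W 1) ((b : Matrix (Fin n₂) (Fin n₂) F) *ᵥ w') =
          tens (W 1) w' := by
      intro w'
      have h1 := hab (tens (W 1) w')
      rw [hact, hg₀, act_siegel, key, key, hW01] at h1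
      simp only [mul_zero, zero_mul, zero_smul, smul_zero, add_zero, sub_zero] at h1
      rw [kron_mulVec_tens] at h1
      exact (theta_injective e P h1).symm
    have hB : tens ((a : Matrix (Fin 3) (Fin 3) F) *ᵥ W 0) ((b : Matrix (Fin n₂) (Fin n₂) F) *ᵥ x) =
        tens (W 0) x + tens (W 0) ((c * (δ * f₂ x x)) • z) := by
      have h1 := hab (tens (W 0) x)
      rw [hact, hg₀, act_siegel, key, key, hW00, hzx] at h1
      simp only [mul_zero, zero_mul, zero_smul, smul_zero, add_zero, sub_zero] at h1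
      rw [kron_mulVec_tens, ← theta_smul, ← theta_add, ← tens_smul_right] at h1
      exact (theta_injective e P h1).symm
    have hA' : ∀ w' : Fin n₂ → F,
        f₁ ((a : Matrix (Fin 3) (Fin 3) F) *ᵥ W 1) (W 1) •
          ((b : Matrix (Fin n₂) (Fin n₂) F) *ᵥ w') = δ • w' := by
      intro w'
      have h1 := congrArg (contr₁ f₁ (W 1)) (hA w')
      rw [contr₁_tens hS₁.smul_left, contr₁_tens hS₁.smul_left, hW11] at h1
      exact h1
    have hB' : f₁ ((a : Matrix (Fin 3) (Fin 3) F) *ᵥ W 0) (W 0) •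
          ((b : Matrix (Fin n₂) (Fin n₂) F) *ᵥ x) = δ • x + δ • ((c * (δ * f₂ x x)) • z) := by
      have h1 := congrArg (contr₁ f₁ (W 0)) hB
      rw [contr₁_add hS₁.add_left, contr₁_tens hS₁.smul_left, contr₁_tens hS₁.smul_left,
        contr₁_tens hS₁.smul_left, hW00] at h1
      exact h1
    set lam := f₁ ((a : Matrix (Fin 3) (Fin 3) F) *ᵥ W 1) (W 1) with hlam
    set mu := f₁ ((a : Matrix (Fin 3) (Fin 3) F) *ᵥ W 0) (W 0) with hmu
    have hx0 : x ≠ 0 := by
      rintro rfl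
      exact hxx (hS₂.zero_left 0)
    have hlam0 : lam ≠ 0 := by
      intro hz
      have := hA' x
      rw [hz, zero_smul] at this
      rcases smul_eq_zero.mp this.symm with h1 | h1
      · exact hδ h1
      · exact hx0 h1
    have hb : ∀ w' : Fin n₂ → F,
        (b : Matrix (Fin n₂) (Fin n₂) F) *ᵥ w' = (lam⁻¹ * δ) • w' := by
      intro w'
      have := hA' w'
      rw [show (b : Matrix (Fin n₂) (Fin n₂) F) *ᵥ w' =
        lam⁻¹ • (lam • ((b : Matrix (Fin n₂) (Fin n₂) F) *ᵥ w')) by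
          rw [smul_smul, inv_mul_cancel₀ hlam0, one_smul], this, smul_smul]
    rw [hb, smul_smul, smul_smul] at hB'
    have hcz : δ * (c * (δ * f₂ x x)) ≠ 0 := mul_ne_zero hδ hη
    have h4 : z = ((δ * (c * (δ * f₂ x x)))⁻¹ * (mu * (lam⁻¹ * δ) - δ)) • x := by
      have h5 : (δ * (c * (δ * f₂ x x))) • z = (mu * (lam⁻¹ * δ) - δ) • x := by
        rw [sub_smul, hB']; abel
      rw [← smul_smul, ← h5, smul_smul, inv_mul_cancel₀ hcz, one_smul]
    set κ := (δ * (c * (δ * f₂ x x)))⁻¹ * (mu * (lam⁻¹ * δ) - δ) with hκ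
    have h6 : κ * f₂ x x = 0 := by
      have := hzx
      rw [h4, hS₂.smul_left] at this
      exact this
    rcases mul_eq_zero.mp h6 with h7 | h7
    · apply hz0
      rw [h4, h7, zero_smul]
    · exact hxx h7
  -- a Siegel element with centre (W 0 + W 1) ⊗ z
  have hp₁ : Q (theta e P (tens (W 0 + W 1) z)) = 0 := by
    apply hQ0
    rw [key, hzz, mul_zero, mul_zero]
  have hpu₁ : QuadraticMap.polar (⇑Q) (theta e P (tens (W 0 + W 1) z))
      (theta e P (tens (W 0) x)) = 0 := by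
    rw [key, hzx, mul_zero, mul_zero]
  obtain ⟨g₁, hg₁⟩ : ∃ g : ↥(Cfsg.isometryGroup F ⇑Q),
      g = siegel Q hQ (theta e P (tens (W 0 + W 1) z)) (theta e P (tens (W 0) x)) hp₁ hpu₁ :=
    ⟨_, rfl⟩
  have hg₁Ω : (g₁ : GL ι F) ∈ Cfsg.Geo.omegaGL ⇑Q := by
    rw [hg₁]
    exact mem_omegaGL_of_mem_Omega _ (siegel_mem_Omega Q hQ hn5 _ _ _ _)
  have hQu : Q (theta e P (tens (W 0) x)) ≠ 0 := by
    intro hz
    have := polar_self' Q (theta e P (tens (W 0) x))
    rw [hz, mul_zero, key, hW00] at this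
    exact hη this
  have hg₁K : (g₁ : GL ι F) ∉ goodStab (⇑Q) e P f₁ δ := by
    rintro ⟨_, hmem⟩
    have hs : theta e P (tens (W 0) w) ∈ goodSet e P f₁ δ := ⟨W 0, w, hW00, rfl⟩
    obtain ⟨v, w'', hv, hvw⟩ := (hmem _ hs).1
    have hact : ((g₁ : GL ι F) : Matrix ι ι F) *ᵥ theta e P (tens (W 0) w) =
        act g₁ (theta e P (tens (W 0) w)) := rfl
    rw [hact, hg₁, act_siegel, key, key, hW00, hxw, mul_zero, mul_zero, zero_smul, add_zero,
      hS₁.add_left, hW00, hW10, add_zero] at hvw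
    set β := c * (δ * f₂ z w) with hβ
    have hβ0 : β ≠ 0 := mul_ne_zero hc0 (mul_ne_zero hδ hzw)
    set γ := Q (theta e P (tens (W 0) x)) * β with hγ
    have hγ0 : γ ≠ 0 := mul_ne_zero hQu hβ0
    have hX : theta e P (tens (W 0) w) - β • theta e P (tens (W 0) x) -
        Q (theta e P (tens (W 0) x)) • β • theta e P (tens (W 0 + W 1) z) =
        theta e P (tens (W 0) w + tens (W 0) ((-β) • x) + tens (W 0 + W 1) ((-γ) • z)) := by
      rw [theta_add, theta_add, tens_smul_right, tens_smul_right, theta_smul, theta_smul, hγ]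
      module
    rw [hX] at hvw
    have h1 := theta_injective e P hvw
    have hC0 := congrArg (contr₁ f₁ (W 0)) h1
    have hC1 := congrArg (contr₁ f₁ (W 1)) h1
    rw [contr₁_add hS₁.add_left, contr₁_add hS₁.add_left, contr₁_tens hS₁.smul_left,
      contr₁_tens hS₁.smul_left, contr₁_tens hS₁.smul_left, contr₁_tens hS₁.smul_left,
      hS₁.add_left, hW00, hW10, add_zero] at hC0
    rw [contr₁_add hS₁.add_left, contr₁_add hS₁.add_left, contr₁_tens hS₁.smul_left,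
      contr₁_tens hS₁.smul_left, contr₁_tens hS₁.smul_left, contr₁_tens hS₁.smul_left,
      hS₁.add_left, hW01, hW11, zero_add, zero_smul, zero_smul, zero_add, zero_add] at hC1
    obtain ⟨i, ε, rfl⟩ := hWcl v hv
    by_cases hi : i = 1
    · subst hi
      rw [hS₁.smul_left, hW10, mul_zero, zero_smul] at hC0
      have h5 : f₂ x (δ • w + δ • -β • x + δ • -γ • z) = 0 := by rw [hC0, hS₂.zero_right]
      rw [hS₂.add_right, hS₂.add_right, hS₂.smul_right, hS₂.smul_right, hS₂.smul_right,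
        hS₂.smul_right, hS₂.smul_right, hxw, hxz] at h5
      simp only [id, mul_zero, zero_add, add_zero] at h5
      rcases mul_eq_zero.mp h5 with h6 | h6
      · exact hδ h6
      rcases mul_eq_zero.mp h6 with h7 | h7
      · exact hβ0 (neg_eq_zero.mp h7)
      · exact hxx h7
    · rw [hS₁.smul_left, hW, if_neg hi, mul_zero, zero_smul] at hC1
      rcases smul_eq_zero.mp hC1 with h6 | h6
      · exact hδ h6
      rcases smul_eq_zero.mp h6 with h7 | h7
      · exact hγ0 (neg_eq_zero.mp h7)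
      · exact hz0 h7
  refine ⟨goodStab (⇑Q) e P f₁ δ, ?_, ?_⟩
  · refine lt_of_le_of_ne hle ?_
    intro heq
    have := hg₀K
    rw [← heq] at this
    exact hg₀T this.1
  · have hle2 : goodStab (⇑Q) e P f₁ δ ≤ Cfsg.Geo.omegaGL ⇑Q := fun g hg => hg.1
    refine lt_of_le_of_ne hle2 ?_
    intro heq
    apply hg₁K
    rw [heq]
    exact hg₁Ω

end Cfsg.Agent.Lib.Helper27.OrthTensor
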