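import Cfsg.Agent.Lib.Helper28.RankOne
import Mathlib

set_option autoImplicit false
open Cfsg
open Cfsg.Agent.Lib.Helper28

namespace Cfsg.Agent.Lib.Helper27.RankOne

variable {G Ω : Type*} [Group G] [MulAction G Ω] {a : Ω} {t : G} {Q : Subgroup G}

/-- `Q` is in bijection with the points other than `a`. -/
noncomputable def equivQ (hS : IsRankOneSetup G Ω a t Q) : Q ≃ {b : Ω // b ≠ a} :=
  Equiv.ofBijective
    (fun q => ⟨(q : G) • t • a, by
      intro h
      have hq : (q : G) • a = a := MulAction.mem_stabilizer_iff.mp (hS.le q.2)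
      apply rk1_ta_ne hS
      have : (q : G) • t • a = (q : G) • a := by rw [h, hq]
      exact MulAction.injective (q : G) this⟩)
    ⟨by
      intro q r h
      have h' : (q : G) • t • a = (r : G) • t • a := congrArg Subtype.val h
      exact Subtype.ext (rk1_Q_unique hS (rk1_ta_ne hS) q.2 r.2 h'),
     by
      rintro ⟨b, hb⟩
      obtain ⟨q, hq, hqb⟩ := rk1_exists_Q_smul hS hb
      exact ⟨⟨q, hq⟩, Subtype.ext hqb⟩⟩

theorem finite_Omega [Finite G] (hS : IsRankOneSetup G Ω a t Q) : Finite Ω := by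
  classical
  have : Finite {b : Ω // b ≠ a} := Finite.of_equiv _ (equivQ hS)
  exact Finite.of_equiv _ (Equiv.optionSubtypeNe a)

theorem card_Omega [Finite G] (hS : IsRankOneSetup G Ω a t Q) :
    Nat.card Ω = Nat.card Q + 1 := by
  classical
  have : Finite {b : Ω // b ≠ a} := Finite.of_equiv _ (equivQ hS)
  rw [← Nat.card_congr (Equiv.optionSubtypeNe a), Finite.card_option,
    Nat.card_congr (equivQ hS)]

theorem pretransitive (hS : IsRankOneSetup G Ω a t Q) : MulAction.IsPretransitive G Ω := by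
  have key : ∀ b : Ω, ∃ g : G, g • a = b := by
    intro b
    by_cases hb : b = a
    · exact ⟨1, by rw [one_smul, hb]⟩
    · obtain ⟨q, -, hq⟩ := rk1_exists_Q_smul hS hb
      exact ⟨q * t, by rw [mul_smul, hq]⟩
  constructor
  intro x y
  obtain ⟨g, rfl⟩ := key x
  obtain ⟨h, rfl⟩ := key y
  exact ⟨h * g⁻¹, by rw [mul_smul, inv_smul_smul]⟩

/-- `Q × D ≃ G_a`. -/
noncomputable def equivStab (hS : IsRankOneSetup G Ω a t Q) :
    Q × ↥(MulAction.stabilizer G a ⊓ MulAction.stabilizer G (t • a)) ≃ MulAction.stabilizer G a :=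
  Equiv.ofBijective
    (fun p => ⟨(p.1 : G) * (p.2 : G), mul_mem (hS.le p.1.2) p.2.2.1⟩)
    ⟨by
      rintro ⟨q, d⟩ ⟨q', d'⟩ h
      have h' : (q : G) * (d : G) = (q' : G) * (d' : G) := congrArg Subtype.val h
      have h1 : (q' : G)⁻¹ * (q : G) = (d' : G) * (d : G)⁻¹ := by
        rw [inv_mul_eq_iff_eq_mul, ← mul_assoc, ← h', mul_assoc, mul_inv_cancel, mul_one]
      have h2 : (q' : G)⁻¹ * (q : G) ∈ Q ⊓ MulAction.stabilizer G (t • a) := by
        refine Subgroup.mem_inf.mpr ⟨mul_mem (inv_mem q'.2) q.2, ?_⟩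
        rw [h1]
        exact mul_mem d'.2.2 (inv_mem d.2.2)
      rw [hS.inf_eq_bot, Subgroup.mem_bot] at h2
      have hq : (q : G) = (q' : G) := by
        rw [inv_mul_eq_one] at h2; exact h2.symm
      have hd : (d : G) = (d' : G) := by
        rw [hq] at h'; exact mul_left_cancel h'
      exact Prod.ext (Subtype.ext hq) (Subtype.ext hd),
     by
      rintro ⟨g, hg⟩
      obtain ⟨q, hq, d, hd, rfl⟩ := rk1_stab_eq_mul hS hg
      exact ⟨(⟨q, hq⟩, ⟨d, hd⟩), rfl⟩⟩

theorem card_stab [Finite G] (hS : IsRankOneSetup G Ω a t Q) :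
    Nat.card (MulAction.stabilizer G a) =
      Nat.card Q * Nat.card ↥(MulAction.stabilizer G a ⊓ MulAction.stabilizer G (t • a)) := by
  rw [← Nat.card_congr (equivStab hS), Nat.card_prod]

theorem card_G [Finite G] (hS : IsRankOneSetup G Ω a t Q) :
    Nat.card G = Nat.card Q *
      Nat.card ↥(MulAction.stabilizer G a ⊓ MulAction.stabilizer G (t • a)) *
        (Nat.card Q + 1) := by
  have := pretransitive hS
  have h1 := MulAction.index_stabilizer_of_transitive G a
  have h2 := Subgroup.card_mul_index (MulAction.stabilizer G a)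
  rw [h1, card_stab hS, card_Omega hS] at h2
  exact h2.symm

/-- Some Sylow 2-subgroup of `G` lies in `Q`. -/
theorem exists_sylow_le [Finite G] (hS : IsRankOneSetup G Ω a t Q) :
    ∃ P : Sylow 2 G, (P : Subgroup G) ≤ Q := by
  obtain ⟨P0⟩ : Nonempty (Sylow 2 Q) := inferInstance
  have hcard0 : Nat.card P0 = 2 ^ (Nat.card Q).factorization 2 := P0.card_eq_multiplicity
  have hodd1 : Odd (Nat.card ↥(MulAction.stabilizer G a ⊓ MulAction.stabilizer G (t • a))) :=
    hS.odd_card
  have hodd2 : Odd (Nat.card Q + 1) := Even.add_one hS.even_card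
  have hQpos : Nat.card Q ≠ 0 := Nat.card_pos.ne'
  have hfac : (Nat.card G).factorization 2 = (Nat.card Q).factorization 2 := by
    rw [card_G hS, Nat.factorization_mul (mul_ne_zero hQpos hodd1.pos.ne') hodd2.pos.ne',
      Nat.factorization_mul hQpos hodd1.pos.ne']
    simp only [Finsupp.coe_add, Pi.add_apply]
    rw [Nat.factorization_eq_zero_of_not_dvd (n := Nat.card ↥(MulAction.stabilizer G a ⊓
      MulAction.stabilizer G (t • a))) (by rw [← even_iff_two_dvd, Nat.not_even_iff_odd]; exact hodd1),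
      Nat.factorization_eq_zero_of_not_dvd (n := Nat.card Q + 1)
        (by rw [← even_iff_two_dvd, Nat.not_even_iff_odd]; exact hodd2)]
    simp
  have hcard : Nat.card ((P0 : Subgroup Q).map Q.subtype) = 2 ^ (Nat.card G).factorization 2 := by
    rw [Subgroup.card_map_of_injective Q.subtype_injective, hfac]
    exact hcard0
  refine ⟨Sylow.ofCard _ hcard, ?_⟩
  rw [Sylow.coe_ofCard]
  exact Subgroup.map_subtype_le _

end Cfsg.Agent.Lib.Helper27.RankOne
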