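import Mathlib
import Cfsg.Agent.Lib.Helper27.SLTransv3
import Cfsg.Agent.Lib.Helper16.CharPBridge
import Cfsg.Agent.Lib.Helper16.PCore

set_option autoImplicit false

/-!
The centraliser of a transvection in `SL_N(k)`; over the field with two elements its generalised
Fitting subgroup is its `2`-core.
-/

namespace Cfsg.Agent.Lib.Helper27.SLTransv

open Matrix Cfsg
open scoped Classical

variable {k : Type*} [Field k] {N : ℕ}

/-- Equal transvections have proportional centres and axes. -/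
theorem tvl_eq_imp {a φ b ψ : Fin N → k} (hi : Inc a φ) (hi' : Inc b ψ)
    (heq : tvl b ψ 1 = tvl a φ 1) : ∃ l : k, l ≠ 0 ∧ b = l • a ∧ φ = l • ψ := by
  obtain ⟨l, hl⟩ := centre_of_tvl_eq hi.2.2 hi'.2.2 hi'.2.1 one_ne_zero heq
  have hl0 : l ≠ 0 := by
    rintro rfl
    rw [zero_smul] at hl
    exact hi'.1 hl
  refine ⟨l, hl0, hl, ?_⟩
  funext j
  have h3 : sact (tvl b ψ 1) (Pi.single j 1) = sact (tvl a φ 1) (Pi.single j 1) := by rw [heq]
  rw [sact_tvl hi.2.2, sact_tvl hi'.2.2, dotProduct_single_one, dotProduct_single_one, one_mul,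
    one_mul, hl, smul_smul] at h3
  have h4 : (ψ j * l) • a = φ j • a := add_left_cancel h3
  have h5 : (ψ j * l - φ j) • a = 0 := by rw [sub_smul, h4, sub_self]
  rcases smul_eq_zero.mp h5 with h6 | h6
  · rw [Pi.smul_apply, smul_eq_mul]
    linear_combination (-1 : k) * h6
  · exact (hi.1 h6).elim

/-- An element commuting with a transvection stabilises its centre and its axis. -/
theorem centralizer_tvl_imp {a φ : Fin N → k} (hi : Inc a φ)
    (g : Matrix.SpecialLinearGroup (Fin N) k) (hg : g * tvl a φ 1 = tvl a φ 1 * g) :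
    ∃ l : k, l ≠ 0 ∧ sact g a = l • a ∧ φ = l • ract φ g⁻¹ := by
  have h1 : g * tvl a φ 1 * g⁻¹ = tvl a φ 1 := by rw [hg, mul_inv_cancel_right]
  rw [conj_tvl g hi.2.2] at h1
  exact tvl_eq_imp hi (inc_conj g hi) h1

/-- Over the field with two elements. -/
theorem centralizer_tvl_F2 (hone : ∀ l : k, l ≠ 0 → l = 1) {a φ : Fin N → k} (hi : Inc a φ)
    (g : Matrix.SpecialLinearGroup (Fin N) k) (hg : g * tvl a φ 1 = tvl a φ 1 * g) :
    sact g a = a ∧ ract φ g = φ := by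
  obtain ⟨l, hl0, h1, h2⟩ := centralizer_tvl_imp hi g hg
  rw [hone l hl0, one_smul] at h1 h2
  refine ⟨h1, ?_⟩
  have h3 : ract (ract φ g⁻¹) g = φ := by rw [← ract_mul, inv_mul_cancel, ract_one]
  rw [← h2] at h3
  exact h3

/-- The unipotent radical of the stabiliser of the flag `⟨a⟩ < ker φ`. -/
def Urad (a φ : Fin N → k) : Subgroup (Matrix.SpecialLinearGroup (Fin N) k) where
  carrier := {g | sact g a = a ∧ ract φ g = φ ∧
    ∀ x, φ ⬝ᵥ x = 0 → ∃ c : k, sact g x = x + c • a}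
  one_mem' := ⟨sact_one a, ract_one φ, fun x _ => ⟨0, by rw [sact_one, zero_smul, add_zero]⟩⟩
  mul_mem' := by
    rintro g h ⟨hg1, hg2, hg3⟩ ⟨hh1, hh2, hh3⟩
    refine ⟨by rw [sact_mul, hh1, hg1], by rw [ract_mul, hg2, hh2], ?_⟩
    intro x hx
    obtain ⟨c, hc⟩ := hh3 x hx
    obtain ⟨d, hd⟩ := hg3 x hx
    refine ⟨d + c, ?_⟩
    rw [sact_mul, hc, sact_add, sact_smul, hg1, hd]
    module
  inv_mem' := by
    rintro g ⟨hg1, hg2, hg3⟩
    have h1 : sact g⁻¹ a = a := by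
      have := congrArg (sact g⁻¹) hg1
      rw [sact_inv_sact] at this
      exact this.symm
    have h2 : ract φ g⁻¹ = φ := by
      have h3 : ract (ract φ g) g⁻¹ = φ := by rw [← ract_mul, mul_inv_cancel, ract_one]
      rw [hg2] at h3
      exact h3
    refine ⟨h1, h2, ?_⟩
    intro x hx
    obtain ⟨c, hc⟩ := hg3 x hx
    refine ⟨-c, ?_⟩
    have h4 := congrArg (sact g⁻¹) hc
    rw [sact_inv_sact, sact_add, sact_smul, h1] at h4
    rw [neg_smul, ← sub_eq_add_neg, eq_sub_iff_add_eq]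
    exact h4.symm

theorem mem_Urad {a φ : Fin N → k} {g : Matrix.SpecialLinearGroup (Fin N) k} :
    g ∈ Urad a φ ↔ sact g a = a ∧ ract φ g = φ ∧
      ∀ x, φ ⬝ᵥ x = 0 → ∃ c : k, sact g x = x + c • a := Iff.rfl

theorem tvl_mem_Urad_axis {a φ : Fin N → k} (hi : Inc a φ) {b : Fin N → k} (hb : φ ⬝ᵥ b = 0) :
    tvl b φ 1 ∈ Urad a φ := by
  refine ⟨?_, ?_, ?_⟩
  · rw [sact_tvl hb, hi.2.2, mul_zero, zero_smul, add_zero]
  · rw [ract_tvl hb, hb, mul_zero, zero_smul, add_zero]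
  · intro x hx
    refine ⟨0, ?_⟩
    rw [sact_tvl hb, hx, mul_zero, zero_smul, zero_smul]

theorem Urad_le_centralizer {a φ : Fin N → k} (hi : Inc a φ) :
    Urad a φ ≤ Subgroup.centralizer
      ({tvl a φ 1} : Set (Matrix.SpecialLinearGroup (Fin N) k)) := by
  intro g hg
  have hginv := (Urad a φ).inv_mem hg
  rw [Subgroup.mem_centralizer_iff]
  intro h hh
  rw [Set.mem_singleton_iff] at hh
  rw [hh]
  have h1 : g * tvl a φ 1 * g⁻¹ = tvl a φ 1 := by
    rw [conj_tvl g hi.2.2, hg.1, hginv.2.1]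
  calc tvl a φ 1 * g = (g * tvl a φ 1 * g⁻¹) * g := by rw [h1]
    _ = g * tvl a φ 1 := by group

theorem Urad_conj_mem {a φ : Fin N → k} {g : Matrix.SpecialLinearGroup (Fin N) k}
    (hga : sact g a = a) (hgφ : ract φ g = φ) {u : Matrix.SpecialLinearGroup (Fin N) k}
    (hu : u ∈ Urad a φ) : g * u * g⁻¹ ∈ Urad a φ := by
  have h1 : sact g⁻¹ a = a := by
    have := congrArg (sact g⁻¹) hga
    rw [sact_inv_sact] at this
    exact this.symm
  have h2 : ract φ g⁻¹ = φ := by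
    have h3 : ract (ract φ g) g⁻¹ = φ := by rw [← ract_mul, mul_inv_cancel, ract_one]
    rw [hgφ] at h3
    exact h3
  obtain ⟨hu1, hu2, hu3⟩ := hu
  refine ⟨?_, ?_, ?_⟩
  · rw [sact_mul, sact_mul, h1, hu1, hga]
  · rw [ract_mul, ract_mul, hgφ, hu2, h2]
  · intro x hx
    have hx' : φ ⬝ᵥ sact g⁻¹ x = 0 := by rw [dot_sact, h2, hx]
    obtain ⟨c, hc⟩ := hu3 _ hx'
    refine ⟨c, ?_⟩
    rw [sact_mul, sact_mul, hc, sact_add, sact_sact_inv, sact_smul, hga]

theorem Urad_pow_four (h2 : (2 : k) = 0) {a φ : Fin N → k}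
    {g : Matrix.SpecialLinearGroup (Fin N) k} (hg : g ∈ Urad a φ) : g ^ 4 = 1 := by
  obtain ⟨hg1, hg2, hg3⟩ := hg
  have hsq : ∀ x, ∃ c : k, sact (g * g) x = x + c • a := by
    intro x
    obtain ⟨y, hy⟩ : ∃ y, y = sact g x - x := ⟨_, rfl⟩
    have hφy : φ ⬝ᵥ y = 0 := by
      rw [hy, dotProduct_sub, dot_sact, hg2, sub_self]
    obtain ⟨c, hc⟩ := hg3 y hφy
    have hgx : sact g x = x + y := by rw [hy]; abel
    have hyy : y + y = 0 := by rw [← two_smul k y, h2, zero_smul]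
    refine ⟨c, ?_⟩
    rw [sact_mul, hgx, sact_add, hgx, hc]
    calc x + y + (y + c • a) = x + (y + y) + c • a := by abel
      _ = x + c • a := by rw [hyy, add_zero]
  have hsqa : sact (g * g) a = a := by rw [sact_mul, hg1, hg1]
  have e : g ^ 4 = (g * g) * (g * g) := by
    simp only [pow_succ, pow_zero, one_mul, mul_assoc]
  rw [e]
  apply sact_ext
  intro x
  obtain ⟨c, hc⟩ := hsq x
  rw [sact_mul, hc, sact_add, sact_smul, hsqa, hc, sact_one]
  have : c • a + c • a = 0 := by rw [← two_smul k (c • a), h2, zero_smul]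
  rw [add_assoc, this, add_zero]

/-- `F*(C(t)) = O₂(C(t))` for a transvection `t` over the field with two elements. -/
theorem genFitting_centralizer_tvl [Fintype k] [DecidableEq k] (hone : ∀ l : k, l ≠ 0 → l = 1)
    (h2 : (2 : k) = 0) {a φ : Fin N → k} (hi : Inc a φ) :
    Cfsg.generalizedFittingSubgroup ↥(Subgroup.centralizer
        ({tvl a φ 1} : Set (Matrix.SpecialLinearGroup (Fin N) k))) =
      Cfsg.pCore 2 ↥(Subgroup.centralizer
        ({tvl a φ 1} : Set (Matrix.SpecialLinearGroup (Fin N) k))) := by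
  have : Fact (Nat.Prime 2) := ⟨Nat.prime_two⟩
  rw [Cfsg.Agent.Lib.Helper16.genFitting_eq_pCore_iff (p := 2)]
  obtain ⟨C, hC⟩ : ∃ C : Subgroup (Matrix.SpecialLinearGroup (Fin N) k),
    C = Subgroup.centralizer ({tvl a φ 1} : Set (Matrix.SpecialLinearGroup (Fin N) k)) :=
    ⟨_, rfl⟩
  rw [← hC]
  have hCcomm : ∀ g ∈ C, g * tvl a φ 1 = tvl a φ 1 * g := by
    intro g hg
    rw [hC, Subgroup.mem_centralizer_iff] at hg
    exact (hg _ (Set.mem_singleton _)).symm
  have hUC : Urad a φ ≤ C := by rw [hC]; exact Urad_le_centralizer hi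
  have hQn : ((Urad a φ).subgroupOf C).Normal := by
    constructor
    intro u hu g
    rw [Subgroup.mem_subgroupOf] at hu ⊢
    obtain ⟨hga, hgφ⟩ := centralizer_tvl_F2 hone hi g.1 (hCcomm g.1 g.2)
    exact Urad_conj_mem hga hgφ hu
  have hQp : IsPGroup 2 ((Urad a φ).subgroupOf C) := by
    intro u
    refine ⟨2, ?_⟩
    have hu : (u.1 : ↥C).1 ∈ Urad a φ := Subgroup.mem_subgroupOf.mp u.2
    have h4 := Urad_pow_four h2 hu
    apply Subtype.ext
    apply Subtype.ext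
    simpa using h4
  have hQle : (Urad a φ).subgroupOf C ≤ Cfsg.pCore 2 ↥C :=
    Cfsg.Agent.Lib.Helper16.le_pCore hQn hQp
  have hcent : Subgroup.centralizer (((Urad a φ).subgroupOf C : Subgroup ↥C) : Set ↥C) ≤
      (Urad a φ).subgroupOf C := by
    intro g hg
    rw [Subgroup.mem_centralizer_iff] at hg
    rw [Subgroup.mem_subgroupOf]
    obtain ⟨hga, hgφ⟩ := centralizer_tvl_F2 hone hi g.1 (hCcomm g.1 g.2)
    refine ⟨hga, hgφ, ?_⟩
    intro x hx
    refine ⟨0, ?_⟩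
    rw [zero_smul, add_zero]
    by_cases hx0 : x = 0
    · rw [hx0, sact_zero]
    · have hix : Inc x φ := ⟨hx0, hi.2.1, hx⟩
      have hu : tvl x φ 1 ∈ Urad a φ := tvl_mem_Urad_axis hi hx
      have huC : tvl x φ 1 ∈ C := hUC hu
      have hmem : (⟨tvl x φ 1, huC⟩ : ↥C) ∈ (Urad a φ).subgroupOf C :=
        Subgroup.mem_subgroupOf.mpr hu
      have hcomm := hg ⟨tvl x φ 1, huC⟩ hmem
      have hcomm' : g.1 * tvl x φ 1 = tvl x φ 1 * g.1 := (congrArg Subtype.val hcomm).symm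
      exact (centralizer_tvl_F2 hone hix g.1 hcomm').1
  exact (Subgroup.centralizer_le hQle).trans (hcent.trans hQle)

end Cfsg.Agent.Lib.Helper27.SLTransv
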