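import Mathlib
import Cfsg.Agent.Lib.Helper27.TvCentN
import Cfsg.Agent.S0256
import Cfsg.Agent.S0243

/-!
# Automorphisms of an elementary abelian 2-group of rank at most 4 embed in `A₈` (helper27)
-/

set_option autoImplicit false

namespace Cfsg.Agent.Lib.Helper27.SecRank

open Cfsg.Agent.Lib.Helper27.TvCent

/-- `GL₄(2) ≃ A₈`. -/
theorem nonempty_GL4_equiv_A8 :
    Nonempty (Matrix.GeneralLinearGroup (Fin 4) (ZMod 2) ≃* alternatingGroup (Fin 8)) := by
  classical
  have hF : Fintype.card (ZMod 2) = 2 := ZMod.card 2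
  obtain ⟨e⟩ := Cfsg.Agent.S0256.result (F := ZMod 2) hF
  have hcenter : Subgroup.center (Matrix.SpecialLinearGroup (Fin 4) (ZMod 2)) = ⊥ := by
    have h := Cfsg.Agent.S0243.card_center_SL (F := ZMod 2) 4 (by norm_num)
    rw [hF] at h
    simp at h
    rw [← Nat.card_eq_fintype_card] at h
    exact Subgroup.card_eq_one.mp h
  let e1 : Matrix.ProjectiveSpecialLinearGroup (Fin 4) (ZMod 2) ≃*
      Matrix.SpecialLinearGroup (Fin 4) (ZMod 2) :=
    (QuotientGroup.quotientMulEquivOfEq hcenter).trans QuotientGroup.quotientBot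
  exact ⟨((slEquivGL 4).symm.trans e1.symm).trans e⟩

theorem comm_of_sq {E : Type*} [Group E] (h2 : ∀ e : E, e ^ 2 = 1) (a b : E) : a * b = b * a := by
  have ha : a⁻¹ = a := by
    have := h2 a
    rw [pow_two] at this
    exact inv_eq_of_mul_eq_one_left this
  have hb : b⁻¹ = b := by
    have := h2 b
    rw [pow_two] at this
    exact inv_eq_of_mul_eq_one_left this
  have hab : (a * b)⁻¹ = a * b := by
    have := h2 (a * b)
    rw [pow_two] at this
    exact inv_eq_of_mul_eq_one_left this
  rw [_root_.mul_inv_rev, ha, hb] at hab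
  exact hab.symm

/-- Automorphisms of a group of exponent `2` and order `2^d`, `d ≤ 4`, embed in `A₈`. -/
theorem mulAut_embeds_A8 (V : Type*) [Group V] [Finite V] (h2 : ∀ v : V, v ^ 2 = 1) (d : ℕ)
    (hd : d ≤ 4) (hcard : Nat.card V = 2 ^ d) :
    ∃ f : MulAut V →* alternatingGroup (Fin 8), Function.Injective f := by
  classical
  obtain ⟨j4⟩ := nonempty_GL4_equiv_A8
  -- padding
  let C := Multiplicative (Fin (4 - d) → ZMod 2)
  let E := V × C
  have hC2 : ∀ c : C, c ^ 2 = 1 := by
    intro c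
    have h : (2 : ℕ) • (Multiplicative.toAdd c) = 0 := by
      funext i
      simp only [Pi.smul_apply, Pi.zero_apply, nsmul_eq_mul]
      have : ((2 : ℕ) : ZMod 2) = 0 := by decide
      rw [this, zero_mul]
    exact congrArg Multiplicative.ofAdd h
  have hE2 : ∀ e : E, e ^ 2 = 1 := by
    rintro ⟨v, c⟩
    show (v ^ 2, c ^ 2) = (1, 1)
    rw [h2, hC2]
  have hEcard : Nat.card E = 2 ^ (3 + 1) := by
    show Nat.card (V × C) = _
    rw [Nat.card_prod, hcard]
    have : Nat.card C = 2 ^ (4 - d) := by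
      show Nat.card (Multiplicative (Fin (4 - d) → ZMod 2)) = _
      rw [Nat.card_congr Multiplicative.toAdd, Nat.card_fun, Nat.card_eq_fintype_card,
        Nat.card_eq_fintype_card, ZMod.card, Fintype.card_fin]
    rw [this, ← pow_add]
    congr 1
    omega
  -- j1
  let j1 : MulAut V →* MulAut E :=
    { toFun := fun φ => MulEquiv.prodCongr φ (MulEquiv.refl C)
      map_one' := by ext x <;> rfl
      map_mul' := by intro φ ψ; ext x <;> rfl }
  have hj1 : Function.Injective j1 := by
    intro φ ψ h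
    ext v
    have := congrArg (fun α : MulAut E => (α (v, 1)).1) h
    exact this
  -- coordinates
  let U : Subgroup E := ⊤
  have hU : Cfsg.IsElementaryAbelian 2 U := by
    refine ⟨⟨⟨fun a b => ?_⟩⟩, fun a _ => hE2 a⟩
    exact comm_of_sq (fun e : ↥U => Subtype.ext (by rw [Subgroup.coe_pow]; exact hE2 e.1)) a b
  have hUcard : Nat.card ↥U = 2 ^ (3 + 1) := by
    rw [← hEcard]
    exact Nat.card_congr Subgroup.topEquiv.toEquiv
  have : Finite ↥U := Nat.finite_of_card_ne_zero (by rw [hUcard]; positivity)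
  have hnt : Nontrivial ↥U := by
    rw [← Finite.one_lt_card_iff_nontrivial, hUcard]; norm_num
  obtain ⟨z, hz⟩ := exists_ne (1 : ↥U)
  obtain ⟨b, hbij, hadd, _⟩ := exists_coords U 3 hU hUcard z hz
  let j2 : MulAut E ≃* MulAut ↥U := MulAut.congr Subgroup.topEquiv.symm
  have hanti : ∀ α β : MulAut ↥U,
      autGL U b hbij hadd α * autGL U b hbij hadd β = autGL U b hbij hadd (β * α) := by
    intro α β
    apply Units.ext
    show rowMat (autFun U b hbij α) * rowMat (autFun U b hbij β) = rowMat (autFun U b hbij (β * α))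
    rw [rowMat_mul _ _ (autFun_add U b hbij hadd α) (autFun_add U b hbij hadd β)]
    congr 1
    funext x
    unfold autFun
    rw [kapg_b U b hbij]
    rfl
  let j3 : MulAut ↥U →* Matrix.GeneralLinearGroup (Fin 4) (ZMod 2) :=
    MonoidHom.mk' (fun φ => autGL U b hbij hadd φ⁻¹) (by
      intro φ ψ
      rw [hanti, _root_.mul_inv_rev])
  have hj3 : Function.Injective j3 := by
    intro φ ψ h
    have h1 : autGL U b hbij hadd φ⁻¹ = autGL U b hbij hadd ψ⁻¹ := h
    exact inv_injective (autGL_injective U b hbij hadd h1)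
  refine ⟨j4.toMonoidHom.comp (j3.comp (j2.toMonoidHom.comp j1)), ?_⟩
  intro φ ψ h
  exact hj1 (j2.injective (hj3 (j4.injective h)))

end Cfsg.Agent.Lib.Helper27.SecRank
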