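import Mathlib
import Cfsg.Agent.Lib.Helper27.SecRankA
import Cfsg.Agent.Lib.Helper16.PCore
import Cfsg.Agent.Lib.Helper14.ExtCoprime
import Cfsg.Prelude.Def_Local
import Cfsg.Prelude.Def_CaseTheorems

/-!
# 2-constrained groups whose `O₂` has sectional rank at most 4 (helper27)
-/

set_option autoImplicit false

namespace Cfsg.Agent.Lib.Helper27.SecRank

open Cfsg.Agent.Lib.Helper14
open scoped commutatorElement

variable {X : Type*} [Group X] [Finite X]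

theorem comap_pCore_quot_bot {p : ℕ} [Fact p.Prime] (N : Subgroup X) [N.Normal] (hN : N = ⊥) :
    (Cfsg.pCore p (X ⧸ N)).comap (QuotientGroup.mk' N) = Cfsg.pCore p X := by
  subst hN
  have hinj : Function.Injective (QuotientGroup.mk' (⊥ : Subgroup X)) := by
    rw [← MonoidHom.ker_eq_bot_iff, QuotientGroup.ker_mk']
  let e : X ≃* X ⧸ (⊥ : Subgroup X) :=
    MulEquiv.ofBijective (QuotientGroup.mk' ⊥) ⟨hinj, QuotientGroup.mk'_surjective _⟩
  have h1 := Cfsg.Agent.Lib.Helper27.TvCent.pCore_map_mulEquiv (p := p) e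
  have h2 : e.toMonoidHom = QuotientGroup.mk' ⊥ := by ext x; rfl
  rw [← h1, h2]
  exact Subgroup.comap_map_eq_self_of_injective hinj _

theorem pPrimePCore_eq (hO : Cfsg.oddCore X = ⊥) : Cfsg.pPrimePCore 2 X = Cfsg.pCore 2 X := by
  have : Fact (Nat.Prime 2) := ⟨Nat.prime_two⟩
  unfold Cfsg.pPrimePCore
  exact comap_pCore_quot_bot _ hO

theorem centralizer_pCore_le (hc : Cfsg.IsPConstrained 2 X) (hO : Cfsg.oddCore X = ⊥) :
    Subgroup.centralizer (Cfsg.pCore 2 X : Set X) ≤ Cfsg.pCore 2 X := by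
  have : Fact (Nat.Prime 2) := ⟨Nat.prime_two⟩
  have hK := pPrimePCore_eq (X := X) hO
  have hpg : IsPGroup 2 ↥(Cfsg.pPrimePCore 2 X) := by
    rw [hK]; exact Cfsg.Agent.Lib.Helper16.pCore_isPGroup 2 X
  obtain ⟨P⟩ : Nonempty (Sylow 2 ↥(Cfsg.pPrimePCore 2 X)) := inferInstance
  have hP : (P : Subgroup ↥(Cfsg.pPrimePCore 2 X)) = ⊤ :=
    (P.3 (Q := ⊤) (hpg.to_subgroup ⊤) le_top).symm
  have h := hc P
  rw [hP, ← MonoidHom.range_eq_map, Subgroup.range_subtype, hK] at h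
  exact h

/-- The conjugation action on `O₂(X)`. -/
noncomputable def conjAct : MulDistribMulAction X ↥(Cfsg.pCore 2 X) :=
  MulDistribMulAction.compHom ↥(Cfsg.pCore 2 X) (MulAut.conjNormal : X →* MulAut ↥(Cfsg.pCore 2 X))

theorem conjAct_smul (x : X) (q : ↥(Cfsg.pCore 2 X)) :
    letI := conjAct (X := X)
    ((x • q : ↥(Cfsg.pCore 2 X)) : X) = x * q * x⁻¹ := rfl

theorem frattini_invariant (x : X) (q : ↥(Cfsg.pCore 2 X)) (hq : q ∈ frattini ↥(Cfsg.pCore 2 X)) :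
    letI := conjAct (X := X)
    (x • q : ↥(Cfsg.pCore 2 X)) ∈ frattini ↥(Cfsg.pCore 2 X) := by
  letI := conjAct (X := X)
  have h1 := (frattini_characteristic (G := ↥(Cfsg.pCore 2 X))).fixed
    (MulDistribMulAction.toMulAut X ↥(Cfsg.pCore 2 X) x)
  have h2 : q ∈ (frattini ↥(Cfsg.pCore 2 X)).comap
      (MulDistribMulAction.toMulAut X ↥(Cfsg.pCore 2 X) x).toMonoidHom := by
    rw [h1]; exact hq
  exact h2

/-- The action on the Frattini quotient of `O₂(X)`. -/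
noncomputable def quotAct :
    MulDistribMulAction X (↥(Cfsg.pCore 2 X) ⧸ frattini ↥(Cfsg.pCore 2 X)) :=
  letI := conjAct (X := X)
  quotMulDistribMulAction (frattini ↥(Cfsg.pCore 2 X)) (fun x q hq => frattini_invariant x q hq)

/-- The representation on the Frattini quotient. -/
noncomputable def rho : X →* MulAut (↥(Cfsg.pCore 2 X) ⧸ frattini ↥(Cfsg.pCore 2 X)) :=
  letI := quotAct (X := X)
  MulDistribMulAction.toMulAut X (↥(Cfsg.pCore 2 X) ⧸ frattini ↥(Cfsg.pCore 2 X))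

theorem rho_mk (x : X) (q : ↥(Cfsg.pCore 2 X)) :
    rho x (QuotientGroup.mk q) =
      QuotientGroup.mk (⟨x * q * x⁻¹, (Cfsg.pCore_normal 2 X).conj_mem q q.2 x⟩ : ↥(Cfsg.pCore 2 X)) :=
  rfl

theorem pCore_le_ker_rho : Cfsg.pCore 2 X ≤ (rho (X := X)).ker := by
  have : Fact (Nat.Prime 2) := ⟨Nat.prime_two⟩
  have hpg := Cfsg.Agent.Lib.Helper16.pCore_isPGroup 2 X
  intro x hx
  rw [MonoidHom.mem_ker]
  ext v
  induction v using QuotientGroup.induction_on with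
  | H q =>
    rw [rho_mk]
    show _ = (QuotientGroup.mk q : ↥(Cfsg.pCore 2 X) ⧸ frattini ↥(Cfsg.pCore 2 X))
    rw [QuotientGroup.eq]
    apply commutator_le_frattini_of_isPGroup' hpg
    have : (⟨x * q * x⁻¹, (Cfsg.pCore_normal 2 X).conj_mem q q.2 x⟩ : ↥(Cfsg.pCore 2 X))⁻¹ * q
        = ⁅(⟨x, hx⟩ : ↥(Cfsg.pCore 2 X)), q⁻¹⁆ := by
      apply Subtype.ext
      simp [commutatorElement_def, mul_assoc]
    rw [this]
    exact Subgroup.commutator_mem_commutator (Subgroup.mem_top _) (Subgroup.mem_top _)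

theorem ker_rho_le (hc : Cfsg.IsPConstrained 2 X) (hO : Cfsg.oddCore X = ⊥) :
    (rho (X := X)).ker ≤ Cfsg.pCore 2 X := by
  have : Fact (Nat.Prime 2) := ⟨Nat.prime_two⟩
  have hpg := Cfsg.Agent.Lib.Helper16.pCore_isPGroup 2 X
  have hcent := centralizer_pCore_le hc hO
  apply Cfsg.Agent.Lib.Helper16.le_pCore (MonoidHom.normal_ker _)
  -- the image in `MulAut Q`
  let A : Subgroup (MulAut ↥(Cfsg.pCore 2 X)) :=
    (rho (X := X)).ker.map (MulAut.conjNormal : X →* MulAut ↥(Cfsg.pCore 2 X))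
  have hA : ∀ α ∈ A, ∀ y : ↥(Cfsg.pCore 2 X), α y * y⁻¹ ∈ frattini ↥(Cfsg.pCore 2 X) := by
    rintro α ⟨k, hk, rfl⟩ y
    have h1 : rho k (QuotientGroup.mk y) = QuotientGroup.mk y := by
      rw [MonoidHom.mem_ker.mp hk]; rfl
    rw [rho_mk] at h1
    have h2 := QuotientGroup.eq.mp h1.symm
    -- y⁻¹ * (k y k⁻¹) ∈ Φ, conjugate by y
    have hn : (frattini ↥(Cfsg.pCore 2 X)).Normal := inferInstance
    have h3 := hn.conj_mem _ h2 y
    convert h3 using 1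
    apply Subtype.ext
    simp [MulAut.conjNormal_apply, mul_assoc]
  obtain ⟨r, hr⟩ : ∃ r, (frattini ↥(Cfsg.pCore 2 X)).index = 2 ^ r := by
    obtain ⟨n, hn⟩ := IsPGroup.iff_card.mp hpg
    have := Subgroup.index_dvd_card (frattini ↥(Cfsg.pCore 2 X))
    rw [hn] at this
    obtain ⟨r, _, hr⟩ := (Nat.dvd_prime_pow Nat.prime_two).mp this
    exact ⟨r, hr⟩
  have hAcard := card_dvd_of_trivial_on_frattini_quot hpg hr A hA
  have hApg : IsPGroup 2 A := by
    obtain ⟨m, hm⟩ := IsPGroup.iff_card.mp (hpg.to_subgroup (frattini ↥(Cfsg.pCore 2 X)))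
    rw [hm, ← pow_mul] at hAcard
    obtain ⟨s, _, hs⟩ := (Nat.dvd_prime_pow Nat.prime_two).mp hAcard
    exact IsPGroup.of_card hs
  intro k
  obtain ⟨a, ha⟩ := hApg ⟨MulAut.conjNormal (k : X), Subgroup.mem_map_of_mem _ k.2⟩
  have ha' : (MulAut.conjNormal ((k : X) ^ 2 ^ a) : MulAut ↥(Cfsg.pCore 2 X)) = 1 := by
    have := congrArg Subtype.val ha
    rw [Subgroup.coe_pow] at this
    rw [map_pow]
    exact this
  have hcen : (k : X) ^ 2 ^ a ∈ Subgroup.centralizer (Cfsg.pCore 2 X : Set X) := by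
    rw [Subgroup.mem_centralizer_iff]
    intro q hq
    have h1 := congrArg (fun α : MulAut ↥(Cfsg.pCore 2 X) => ((α ⟨q, hq⟩ : ↥(Cfsg.pCore 2 X)) : X)) ha'
    simp only [MulAut.conjNormal_apply, MulAut.one_apply] at h1
    -- h1 : k^.. * q * (k^..)⁻¹ = q
    calc q * (k : X) ^ 2 ^ a = ((k : X) ^ 2 ^ a * q * ((k : X) ^ 2 ^ a)⁻¹) * (k : X) ^ 2 ^ a := by rw [h1]
      _ = (k : X) ^ 2 ^ a * q := by group
  obtain ⟨c, hc'⟩ := hpg ⟨(k : X) ^ 2 ^ a, hcent hcen⟩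
  refine ⟨a + c, ?_⟩
  apply Subtype.ext
  have := congrArg Subtype.val hc'
  rw [Subgroup.coe_pow] at this
  rw [Subgroup.coe_pow, pow_add, pow_mul]
  exact this

end Cfsg.Agent.Lib.Helper27.SecRank
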