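import Mathlib
import Cfsg.Agent.Lib.Helper27.SecRankB

/-!
# 2-constrained groups whose `O₂` has sectional rank at most 4: embedding in `A₈` (helper27)
-/

set_option autoImplicit false

namespace Cfsg.Agent.Lib.Helper27.SecRank

open Cfsg.Agent.Lib.Helper14

variable {X : Type*} [Group X] [Finite X]

theorem sq_frattini_quot (v : ↥(Cfsg.pCore 2 X) ⧸ frattini ↥(Cfsg.pCore 2 X)) : v ^ 2 = 1 := by
  have : Fact (Nat.Prime 2) := ⟨Nat.prime_two⟩
  have hpg := Cfsg.Agent.Lib.Helper16.pCore_isPGroup 2 X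
  induction v using QuotientGroup.induction_on with
  | H x =>
    rw [← QuotientGroup.mk_pow, QuotientGroup.eq_one_iff]
    exact pow_mem_frattini_of_isPGroup' hpg x

theorem card_frattini_quot (h4 : Cfsg.SectionalPRankLE 2 4 ↥(Cfsg.pCore 2 X)) :
    ∃ d : ℕ, d ≤ 4 ∧ Nat.card (↥(Cfsg.pCore 2 X) ⧸ frattini ↥(Cfsg.pCore 2 X)) = 2 ^ d := by
  have : Fact (Nat.Prime 2) := ⟨Nat.prime_two⟩
  have hpg := Cfsg.Agent.Lib.Helper16.pCore_isPGroup 2 X
  obtain ⟨r, hr⟩ : ∃ r, (frattini ↥(Cfsg.pCore 2 X)).index = 2 ^ r := by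
    obtain ⟨n, hn⟩ := IsPGroup.iff_card.mp hpg
    have := Subgroup.index_dvd_card (frattini ↥(Cfsg.pCore 2 X))
    rw [hn] at this
    obtain ⟨r, _, hr⟩ := (Nat.dvd_prime_pow Nat.prime_two).mp this
    exact ⟨r, hr⟩
  refine ⟨r, ?_, by rw [← Subgroup.index_eq_card, hr]⟩
  -- the section ⊤ / Φ
  let H : Subgroup ↥(Cfsg.pCore 2 X) := ⊤
  let N : Subgroup ↥H := (frattini ↥(Cfsg.pCore 2 X)).comap H.subtype
  have hNn : N.Normal := inferInstance
  have hrank := h4 H N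
  have hsq : ∀ a : ↥H ⧸ N, a ^ 2 = 1 := by
    intro a
    induction a using QuotientGroup.induction_on with
    | H y =>
      rw [← QuotientGroup.mk_pow, QuotientGroup.eq_one_iff]
      show ((y ^ 2 : ↥H) : ↥(Cfsg.pCore 2 X)) ∈ frattini ↥(Cfsg.pCore 2 X)
      rw [Subgroup.coe_pow]
      exact pow_mem_frattini_of_isPGroup' hpg _
  have hcomm : IsMulCommutative ↥(⊤ : Subgroup (↥H ⧸ N)) := by
    refine ⟨⟨fun a b => ?_⟩⟩
    exact comm_of_sq (fun e : ↥(⊤ : Subgroup (↥H ⧸ N)) =>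
      Subtype.ext (by rw [Subgroup.coe_pow]; exact hsq e.1)) a b
  have h1 := hrank ⊤ hcomm (fun a _ => hsq a)
  have h2 : Nat.card ↥(⊤ : Subgroup (↥H ⧸ N)) = 2 ^ r := by
    rw [Subgroup.card_top, ← Subgroup.index_eq_card,
      Subgroup.index_comap_of_surjective _ (by
        intro y; exact ⟨⟨y, Subgroup.mem_top y⟩, rfl⟩), hr]
  rw [h2] at h1
  by_contra hcon
  push Not at hcon
  have : 2 ^ 5 ≤ 2 ^ r := Nat.pow_le_pow_right (by norm_num) hcon
  omega

theorem embeds (hc : Cfsg.IsPConstrained 2 X) (hO : Cfsg.oddCore X = ⊥)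
    (h4 : Cfsg.SectionalPRankLE 2 4 ↥(Cfsg.pCore 2 X)) :
    ∃ f : X ⧸ Cfsg.pCore 2 X →* ↥(alternatingGroup (Fin 8)), Function.Injective f := by
  obtain ⟨d, hd, hcard⟩ := card_frattini_quot h4
  have : Finite (↥(Cfsg.pCore 2 X) ⧸ frattini ↥(Cfsg.pCore 2 X)) := inferInstance
  obtain ⟨f0, hf0⟩ := mulAut_embeds_A8 (↥(Cfsg.pCore 2 X) ⧸ frattini ↥(Cfsg.pCore 2 X))
    sq_frattini_quot d hd hcard
  have hle : Cfsg.pCore 2 X ≤ (f0.comp (rho (X := X))).ker := by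
    intro x hx
    rw [MonoidHom.mem_ker, MonoidHom.comp_apply, MonoidHom.mem_ker.mp (pCore_le_ker_rho hx), map_one]
  refine ⟨QuotientGroup.lift (Cfsg.pCore 2 X) (f0.comp rho) hle, ?_⟩
  rw [injective_iff_map_eq_one]
  intro y hy
  induction y using QuotientGroup.induction_on with
  | H x =>
    rw [QuotientGroup.lift_mk, MonoidHom.comp_apply] at hy
    have h1 : rho x = 1 := hf0 (hy.trans (map_one f0).symm)
    have h2 : x ∈ Cfsg.pCore 2 X := ker_rho_le hc hO (MonoidHom.mem_ker.mpr h1)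
    exact (QuotientGroup.eq_one_iff x).mpr h2

end Cfsg.Agent.Lib.Helper27.SecRank
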