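import Mathlib
import Cfsg.Agent.Lib.Helper27.SympTransv3
import Cfsg.Agent.S0270

set_option autoImplicit false

/-!
The diagonal torus of `Sp_{2m}(q)` and its normaliser, the monomial subgroup.
-/

namespace Cfsg.Agent.Lib.Helper27.SpTorus

open Matrix Cfsg Cfsg.Agent.Lib.Helper27.SympTransv

variable {F : Type*} [Field F] {m : ℕ}

/-- The index set. -/
abbrev Ix (m : ℕ) : Type := Fin m ⊕ Fin m

/-- The basis vectors. -/
def ev (a : Ix m) : Ix m → F := Pi.single a 1

theorem ev_apply (a b : Ix m) : (ev a : Ix m → F) b = if b = a then 1 else 0 := by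
  unfold ev
  rw [Pi.single_apply]

theorem ev_ne_zero (a : Ix m) : (ev a : Ix m → F) ≠ 0 := by
  intro h
  have := congrFun h a
  rw [ev_apply, if_pos rfl] at this
  exact one_ne_zero this

theorem act_ev_apply (A : symplecticGroup (Fin m) F) (a b : Ix m) :
    act A (ev a) b = (A : Matrix (Ix m) (Ix m) F) b a := by
  unfold act ev
  rw [Matrix.mulVec_single_one]
  rfl

theorem act_sub' (A : symplecticGroup (Fin m) F) (x y : Ix m → F) :
    act A (x - y) = act A x - act A y := Matrix.mulVec_sub _ _ _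

theorem act_ne_zero (A : symplecticGroup (Fin m) F) {v : Ix m → F} (hv : v ≠ 0) :
    act A v ≠ 0 := by
  intro h
  apply hv
  have := congrArg (act A⁻¹) h
  rwa [act_inv_act, act_zero] at this

/-- The torus: the joint stabiliser of the coordinate axes. -/
def torus (m : ℕ) (F : Type*) [Field F] : Subgroup (symplecticGroup (Fin m) F) :=
  ⨅ i : Ix m, Cfsg.stabilizing (Cfsg.spToMat m F)
    ((Submodule.span F {(Pi.single i (1 : F) : Ix m → F)} : Submodule F (Ix m → F)) :
      Set (Ix m → F))

theorem mem_stab_iff (A : symplecticGroup (Fin m) F) (S : Set (Ix m → F)) :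
    A ∈ Cfsg.stabilizing (Cfsg.spToMat m F) S ↔ ∀ v, v ∈ S ↔ act A v ∈ S := Iff.rfl

theorem smul_ev_of_act {A : symplecticGroup (Fin m) F} {a b : Ix m}
    (h : act A (ev a) ∈ Submodule.span F {(ev b : Ix m → F)}) :
    ∃ c : F, c ≠ 0 ∧ act A (ev a) = c • ev b := by
  obtain ⟨c, hc⟩ := Submodule.mem_span_singleton.mp h
  refine ⟨c, ?_, hc.symm⟩
  rintro rfl
  rw [zero_smul] at hc
  exact act_ne_zero A (ev_ne_zero a) hc.symm

/-- Membership in the torus: diagonal matrices. -/
theorem mem_torus_iff (A : symplecticGroup (Fin m) F) :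
    A ∈ torus m F ↔ ∀ a : Ix m, ∃ c : F, act A (ev a) = c • ev a := by
  unfold torus
  rw [Subgroup.mem_iInf]
  constructor
  · intro h a
    have h1 := (h a (ev a)).mp (Submodule.mem_span_singleton_self _)
    obtain ⟨c, -, hc⟩ := smul_ev_of_act (A := A) (a := a) (b := a) h1
    exact ⟨c, hc⟩
  · intro h a v
    obtain ⟨c, hc⟩ := h a
    have hc0 : c ≠ 0 := by
      rintro rfl
      rw [zero_smul] at hc
      exact act_ne_zero A (ev_ne_zero a) hc
    change v ∈ Submodule.span F {(ev a : Ix m → F)} ↔ act A v ∈ Submodule.span F {(ev a : Ix m → F)}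
    constructor
    · intro hv
      obtain ⟨r, rfl⟩ := Submodule.mem_span_singleton.mp hv
      rw [act_smul, hc, smul_smul]
      exact Submodule.smul_mem _ _ (Submodule.mem_span_singleton_self _)
    · intro hv
      obtain ⟨r, hr⟩ := Submodule.mem_span_singleton.mp hv
      have h1 : act A⁻¹ (ev a) = c⁻¹ • ev a := by
        have h3 := congrArg (act A⁻¹) hc
        rw [act_inv_act, act_smul] at h3
        rw [← smul_right_inj hc0, ← h3, smul_smul, mul_inv_cancel₀ hc0, one_smul]
      have h2 : v = act A⁻¹ (r • ev a) := by rw [hr, act_inv_act]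
      rw [h2, act_smul, h1, smul_smul]
      exact Submodule.smul_mem _ _ (Submodule.mem_span_singleton_self _)

/-! ### Monomial elements -/

/-- `A` maps every coordinate axis to a coordinate axis. -/
def IsMono (A : symplecticGroup (Fin m) F) : Prop :=
  ∀ a : Ix m, ∃ b : Ix m, ∃ c : F, act A (ev a) = c • ev b

theorem coef_ne_zero {A : symplecticGroup (Fin m) F} {a b : Ix m} {c : F}
    (h : act A (ev a) = c • ev b) : c ≠ 0 := by
  rintro rfl
  rw [zero_smul] at h
  exact act_ne_zero A (ev_ne_zero a) h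

theorem axis_unique {A : symplecticGroup (Fin m) F} {a b b' : Ix m} {c c' : F}
    (h : act A (ev a) = c • ev b) (h' : act A (ev a) = c' • ev b') : b = b' := by
  by_contra hne
  have h1 := congrFun (h.symm.trans h') b
  simp only [Pi.smul_apply, ev_apply, if_true, smul_eq_mul, mul_one, if_neg hne, mul_zero] at h1
  exact coef_ne_zero h h1

theorem IsMono.one : IsMono (1 : symplecticGroup (Fin m) F) := by
  intro a
  exact ⟨a, 1, by rw [act_one, one_smul]⟩

theorem IsMono.mul {A B : symplecticGroup (Fin m) F} (hA : IsMono A) (hB : IsMono B) :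
    IsMono (A * B) := by
  intro a
  obtain ⟨b, c, hb⟩ := hB a
  obtain ⟨b', c', hb'⟩ := hA b
  exact ⟨b', c * c', by rw [act_mul, hb, act_smul, hb', smul_smul]⟩

/-- The axis map of a monomial element. -/
noncomputable def ax {A : symplecticGroup (Fin m) F} (hA : IsMono A) (a : Ix m) : Ix m :=
  Classical.choose (hA a)

theorem ax_spec {A : symplecticGroup (Fin m) F} (hA : IsMono A) (a : Ix m) :
    ∃ c : F, act A (ev a) = c • ev (ax hA a) := Classical.choose_spec (hA a)

theorem ax_eq {A : symplecticGroup (Fin m) F} (hA : IsMono A) {a b : Ix m} {c : F}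
    (h : act A (ev a) = c • ev b) : ax hA a = b := by
  obtain ⟨c', hc'⟩ := ax_spec hA a
  exact axis_unique hc' h

theorem ax_injective {A : symplecticGroup (Fin m) F} (hA : IsMono A) :
    Function.Injective (ax hA) := by
  intro a a' h
  obtain ⟨c, hc⟩ := ax_spec hA a
  obtain ⟨c', hc'⟩ := ax_spec hA a'
  rw [← h] at hc'
  by_contra hne
  have h1 : act A (c' • ev a - c • ev a') = 0 := by
    rw [act_sub', act_smul, act_smul, hc, hc', smul_smul, smul_smul, mul_comm, sub_self]
  have h2 : c' • ev a - c • ev a' = (0 : Ix m → F) := by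
    by_contra h0
    exact act_ne_zero A h0 h1
  have h3 := congrFun h2 a
  simp only [Pi.sub_apply, Pi.smul_apply, ev_apply, if_true, smul_eq_mul, mul_one, if_neg hne,
    mul_zero, sub_zero, Pi.zero_apply] at h3
  exact coef_ne_zero hc' h3

theorem ax_surjective {A : symplecticGroup (Fin m) F} (hA : IsMono A) :
    Function.Surjective (ax hA) :=
  Finite.injective_iff_surjective.mp (ax_injective hA)

theorem IsMono.inv {A : symplecticGroup (Fin m) F} (hA : IsMono A) : IsMono A⁻¹ := by
  intro b
  obtain ⟨a, rfl⟩ := ax_surjective hA b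
  obtain ⟨c, hc⟩ := ax_spec hA a
  have hc0 := coef_ne_zero hc
  refine ⟨a, c⁻¹, ?_⟩
  have h3 := congrArg (act A⁻¹) hc
  rw [act_inv_act, act_smul] at h3
  rw [← smul_right_inj hc0, ← h3, smul_smul, mul_inv_cancel₀ hc0, one_smul]

/-- The monomial subgroup. -/
def mono (m : ℕ) (F : Type*) [Field F] : Subgroup (symplecticGroup (Fin m) F) where
  carrier := {A | IsMono A}
  one_mem' := IsMono.one
  mul_mem' := IsMono.mul
  inv_mem' := IsMono.inv

theorem mem_mono {A : symplecticGroup (Fin m) F} : A ∈ mono m F ↔ IsMono A := Iff.rfl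

theorem torus_le_mono : torus m F ≤ mono m F := by
  intro A hA a
  obtain ⟨c, hc⟩ := (mem_torus_iff A).mp hA a
  exact ⟨a, c, hc⟩

/-- Conjugating a diagonal element by a monomial one gives a diagonal element. -/
theorem conj_mem_torus {A t : symplecticGroup (Fin m) F} (hA : IsMono A) (ht : t ∈ torus m F) :
    A * t * A⁻¹ ∈ torus m F := by
  rw [mem_torus_iff]
  intro b
  obtain ⟨a, rfl⟩ := ax_surjective hA b
  obtain ⟨c, hc⟩ := ax_spec hA a
  have hc0 := coef_ne_zero hc
  obtain ⟨d, hd⟩ := (mem_torus_iff t).mp ht a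
  have h1 : act A⁻¹ (ev (ax hA a)) = c⁻¹ • ev a := by
    have h3 := congrArg (act A⁻¹) hc
    rw [act_inv_act, act_smul] at h3
    rw [← smul_right_inj hc0, ← h3, smul_smul, mul_inv_cancel₀ hc0, one_smul]
  refine ⟨d, ?_⟩
  rw [act_mul, act_mul, h1, act_smul, hd, act_smul, act_smul, hc, smul_smul, smul_smul]
  congr 1
  field_simp

theorem mono_le_normalizer : mono m F ≤ Subgroup.normalizer (torus m F : Set _) := by
  intro A hA
  rw [Subgroup.mem_normalizer_iff]
  intro t
  constructor
  · intro ht
    exact conj_mem_torus hA ht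
  · intro ht
    have := conj_mem_torus (IsMono.inv hA) ht
    have e : A⁻¹ * (A * t * A⁻¹) * A⁻¹⁻¹ = t := by group
    rwa [e] at this

/-! ### Diagonal elements -/

/-- The diagonal entries attached to a family of units. -/
def dvec (l : Fin m → Fˣ) : Ix m → F :=
  Sum.elim (fun j => (l j : F)) (fun j => ((l j)⁻¹ : Fˣ))

theorem dvec_mul (l : Fin m → Fˣ) (j : Fin m) :
    dvec l (Sum.inl j) * dvec l (Sum.inr j) = 1 := by
  simp [dvec]

/-- The diagonal symplectic matrix. -/
def diagSp (l : Fin m → Fˣ) : symplecticGroup (Fin m) F :=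
  ⟨Matrix.diagonal (dvec l), by
    apply Cfsg.Agent.S0270.mem_symplectic_of_preserves
    intro u v
    rw [sf_apply, sf_apply]
    apply Finset.sum_congr rfl
    intro i _
    simp only [Matrix.mulVec_diagonal]
    have h := dvec_mul l i
    linear_combination (u (Sum.inr i) * v (Sum.inl i) - u (Sum.inl i) * v (Sum.inr i)) * h⟩

theorem act_diagSp (l : Fin m → Fˣ) (v : Ix m → F) (a : Ix m) :
    act (diagSp l) v a = dvec l a * v a := by
  unfold act diagSp
  exact Matrix.mulVec_diagonal _ _ _

theorem act_diagSp_ev (l : Fin m → Fˣ) (a : Ix m) :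
    act (diagSp l) (ev a : Ix m → F) = dvec l a • ev a := by
  funext b
  rw [act_diagSp, Pi.smul_apply, smul_eq_mul, ev_apply]
  split_ifs with h
  · rw [h]
  · simp

theorem diagSp_mem_torus (l : Fin m → Fˣ) : diagSp l ∈ torus m F := by
  rw [mem_torus_iff]
  intro a
  exact ⟨dvec l a, act_diagSp_ev l a⟩

/-- Separating two coordinates by a diagonal element. -/
theorem exists_sep [DecidableEq (Fin m)] (g : Fˣ) (hg : g * g ≠ 1) {b b' : Ix m} (hbb : b ≠ b') :
    ∃ l : Fin m → Fˣ, dvec l b ≠ (dvec l b' : F) := by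
  have hg1 : g ≠ 1 := by
    rintro rfl
    exact hg (one_mul 1)
  have hgi : (g : F) ≠ ((g⁻¹ : Fˣ) : F) := by
    intro h
    apply hg
    have h' : g = g⁻¹ := Units.ext h
    calc g * g = g * g⁻¹ := by rw [← h']
      _ = 1 := mul_inv_cancel g
  have hg1' : (g : F) ≠ 1 := fun h => hg1 (Units.ext h)
  have hgi1 : ((g⁻¹ : Fˣ) : F) ≠ 1 := by
    intro h
    apply hg1
    have : g⁻¹ = 1 := Units.ext h
    rwa [inv_eq_one] at this
  rcases b with j | j <;> rcases b' with k | k
  · have hjk : k ≠ j := fun h => hbb (by rw [h])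
    refine ⟨Function.update 1 j g, ?_⟩
    simp [dvec, Function.update_of_ne hjk, hg1']
  · refine ⟨Function.update 1 j g, ?_⟩
    by_cases hjk : k = j
    · subst hjk
      simpa [dvec] using hgi
    · simp [dvec, Function.update_of_ne hjk, hg1']
  · refine ⟨Function.update 1 j g, ?_⟩
    by_cases hjk : k = j
    · subst hjk
      simpa [dvec] using hgi.symm
    · simpa [dvec, Function.update_of_ne hjk] using hgi1
  · have hjk : k ≠ j := fun h => hbb (by rw [h])
    refine ⟨Function.update 1 j g, ?_⟩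
    simpa [dvec, Function.update_of_ne hjk] using hgi1

theorem exists_unit_sq_ne_one [Fintype F] (hq : 4 ≤ Fintype.card F) : ∃ g : Fˣ, g * g ≠ 1 := by
  classical
  obtain ⟨g, hg⟩ := IsCyclic.exists_generator (α := Fˣ)
  refine ⟨g, ?_⟩
  intro h
  have h1 : orderOf g = Fintype.card Fˣ := by
    rw [← Nat.card_eq_fintype_card]
    exact orderOf_eq_card_of_forall_mem_zpowers hg
  rw [Fintype.card_units] at h1
  have h2 : orderOf g ∣ 2 := orderOf_dvd_of_pow_eq_one (by rw [pow_two, h])
  have h3 := Nat.le_of_dvd (by norm_num) h2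
  omega

theorem normalizer_le_mono [Fintype F] (hq : 4 ≤ Fintype.card F) :
    Subgroup.normalizer (torus m F : Set _) ≤ mono m F := by
  classical
  obtain ⟨g, hg⟩ := exists_unit_sq_ne_one (F := F) hq
  intro A hA a
  have hv0 : act A (ev a) ≠ 0 := act_ne_zero A (ev_ne_zero a)
  obtain ⟨b, hb⟩ : ∃ b, act A (ev a) b ≠ 0 := by
    by_contra hne
    apply hv0
    funext b
    by_contra hb
    exact hne ⟨b, hb⟩
  have hzero : ∀ b', b' ≠ b → act A (ev a) b' = 0 := by
    intro b' hb'
    by_contra hne
    obtain ⟨l, hl⟩ := exists_sep g hg hb'.symm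
    have ht : A⁻¹ * diagSp l * A ∈ torus m F := by
      have h1 := (Subgroup.mem_normalizer_iff.mp hA (A⁻¹ * diagSp l * A))
      rw [h1]
      have e : A * (A⁻¹ * diagSp l * A) * A⁻¹ = diagSp l := by group
      rw [e]
      exact diagSp_mem_torus l
    obtain ⟨c, hc⟩ := (mem_torus_iff _).mp ht a
    have h2 : act (diagSp l) (act A (ev a)) = c • act A (ev a) := by
      have := congrArg (act A) hc
      rw [act_mul, act_mul, act_act_inv, act_smul] at this
      exact this
    have h3 := congrFun h2 b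
    have h4 := congrFun h2 b'
    rw [act_diagSp, Pi.smul_apply, smul_eq_mul] at h3 h4
    have h5 : dvec l b = c := mul_right_cancel₀ hb h3
    have h6 : dvec l b' = c := mul_right_cancel₀ hne h4
    exact hl (h5.trans h6.symm)
  refine ⟨b, act A (ev a) b, ?_⟩
  funext b'
  rw [Pi.smul_apply, smul_eq_mul, ev_apply]
  split_ifs with h
  · rw [h, mul_one]
  · rw [hzero b' h, mul_zero]

theorem normalizer_eq_mono [Fintype F] (hq : 4 ≤ Fintype.card F) :
    Subgroup.normalizer (torus m F : Set _) = mono m F :=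
  le_antisymm (normalizer_le_mono hq) mono_le_normalizer

/-! ### The permutation of the axes -/

open Equiv in
theorem card_centralizer_swap (m : ℕ) :
    Nat.card (Subgroup.centralizer ({Equiv.sumComm (Fin m) (Fin m)} : Set (Perm (Fin m ⊕ Fin m)))) =
      2 ^ m * Nat.factorial m := by
  classical
  rcases Nat.eq_zero_or_pos m with rfl | hm
  · rw [pow_zero, Nat.factorial_zero, mul_one, Nat.card_eq_one_iff_unique]
    exact ⟨inferInstance, ⟨1⟩⟩
  obtain ⟨ι, hι⟩ : ∃ ι : Perm (Fin m ⊕ Fin m), ι = Equiv.sumComm (Fin m) (Fin m) := ⟨_, rfl⟩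
  rw [← hι]
  have hsq : ι ^ 2 = 1 := by
    ext x
    rcases x with x | x <;> simp [hι, pow_two]
  have hsupp : ι.support = Finset.univ := by
    ext x
    simp only [Perm.mem_support, Finset.mem_univ, iff_true]
    rcases x with x | x <;> simp [hι]
  have hne : ι ≠ 1 := by
    intro h
    have h1 : ι.support = ∅ := by rw [h]; simp
    rw [hsupp] at h1
    have hx : (Sum.inl ⟨0, hm⟩ : Fin m ⊕ Fin m) ∈ (Finset.univ : Finset (Fin m ⊕ Fin m)) :=
      Finset.mem_univ _
    rw [h1] at hx
    simp at hx
  have : Fact (Nat.Prime 2) := ⟨Nat.prime_two⟩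
  have hord : orderOf ι = 2 := orderOf_eq_prime hsq hne
  obtain ⟨n, hn⟩ := Perm.cycleType_prime_order (σ := ι) (by rw [hord]; exact Nat.prime_two)
  rw [hord] at hn
  have hsum := Perm.sum_cycleType ι
  rw [hn, hsupp, Multiset.sum_replicate, Finset.card_univ, Fintype.card_sum, Fintype.card_fin,
    smul_eq_mul] at hsum
  have hnm : n + 1 = m := by omega
  rw [hnm] at hn
  rw [Perm.nat_card_centralizer, hn, Multiset.sum_replicate, Multiset.prod_replicate,
    Multiset.toFinset_replicate, if_neg hm.ne', Finset.prod_singleton, Multiset.count_replicate_self,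
    Fintype.card_sum, Fintype.card_fin, smul_eq_mul]
  have : m + m - m * 2 = 0 := by omega
  rw [this, Nat.factorial_zero, one_mul]

noncomputable instance instMulActionMono : MulAction ↥(mono m F) (Ix m) where
  smul A a := ax A.2 a
  one_smul a := by
    change ax (1 : ↥(mono m F)).2 a = a
    apply ax_eq (c := 1)
    change act (1 : symplecticGroup (Fin m) F) (ev a) = _
    rw [act_one, one_smul]
  mul_smul A B a := by
    change ax (A * B).2 a = ax A.2 (ax B.2 a)
    obtain ⟨c, hc⟩ := ax_spec B.2 a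
    obtain ⟨c', hc'⟩ := ax_spec A.2 (ax B.2 a)
    apply ax_eq (c := c * c')
    change act (A.1 * B.1) (ev a) = _
    rw [act_mul, hc, act_smul, hc', smul_smul]

theorem smul_def (A : ↥(mono m F)) (a : Ix m) : A • a = ax A.2 a := rfl

/-- The action on the axes as a homomorphism. -/
noncomputable def rho (m : ℕ) (F : Type*) [Field F] : ↥(mono m F) →* Equiv.Perm (Ix m) :=
  MulAction.toPermHom ↥(mono m F) (Ix m)

theorem rho_apply (A : ↥(mono m F)) (a : Ix m) : rho m F A a = ax A.2 a := rfl

theorem ker_rho : (rho m F).ker = (torus m F).subgroupOf (mono m F) := by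
  ext A
  rw [MonoidHom.mem_ker, Subgroup.mem_subgroupOf, mem_torus_iff]
  constructor
  · intro h a
    obtain ⟨c, hc⟩ := ax_spec A.2 a
    have : ax A.2 a = a := by
      rw [← rho_apply, h]
      rfl
    rw [this] at hc
    exact ⟨c, hc⟩
  · intro h
    ext a
    obtain ⟨c, hc⟩ := h a
    rw [rho_apply, ax_eq A.2 hc]
    rfl

/-! ### The order of the torus -/

theorem act_ext_ev {A B : symplecticGroup (Fin m) F} (h : ∀ a, act A (ev a) = act B (ev a)) :
    A = B := by
  apply Subtype.ext
  ext a b
  have := congrFun (h b) a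
  rw [act_ev_apply, act_ev_apply] at this
  exact this

theorem sf_ev_ev (x y : Ix m) :
    sympForm m F (ev x) (ev y) =
      if y = Sum.swap x then (Sum.elim (fun _ => (-1 : F)) (fun _ => 1) x) else 0 := by
  rcases y with i | i
  · unfold ev
    rw [sf_single_inl, Pi.single_apply]
    rcases x with j | j
    · simp
    · simp only [Sum.inr.injEq, Sum.swap_inr, Sum.inl.injEq, Sum.elim_inr]
  · unfold ev
    rw [sf_single_inr, Pi.single_apply]
    rcases x with j | j
    · simp only [Sum.inl.injEq, Sum.swap_inl, Sum.inr.injEq, Sum.elim_inl]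
      simp only [eq_comm]
      split_ifs <;> simp
    · simp

theorem card_torus [Fintype F] {q : ℕ} (hF : Fintype.card F = q) :
    Nat.card ↥(torus m F) = (q - 1) ^ m := by
  classical
  have hcard : Nat.card (Fin m → Fˣ) = (q - 1) ^ m := by
    rw [Nat.card_fun, Nat.card_fin, Nat.card_eq_fintype_card, Fintype.card_units, hF]
  rw [← hcard]
  symm
  refine Nat.card_congr (Equiv.ofBijective
    (fun l : Fin m → Fˣ => (⟨diagSp l, diagSp_mem_torus l⟩ : ↥(torus m F))) ⟨?_, ?_⟩)
  · intro l l' h
    funext j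
    have h1 : diagSp l = diagSp l' := congrArg Subtype.val h
    have h2 := congrFun (congrArg (fun A => act A (ev (Sum.inl j : Ix m))) h1) (Sum.inl j)
    simp only [act_diagSp, ev_apply, if_true, mul_one, dvec, Sum.elim_inl] at h2
    exact Units.ext h2
  · intro A
    have hA := (mem_torus_iff A.1).mp A.2
    choose c hc using hA
    have hc0 : ∀ a, c a ≠ 0 := fun a => coef_ne_zero (hc a)
    have hprod : ∀ j : Fin m, c (Sum.inl j) * c (Sum.inr j) = 1 := by
      intro j
      have h1 := act_preserves A.1 (ev (Sum.inr j)) (ev (Sum.inl j))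
      rw [hc, hc, sf_smul_left, sf_smul_right, sf_ev_ev] at h1
      simp only [Sum.swap_inr, if_true, Sum.elim_inr, mul_one] at h1
      rw [mul_comm]
      exact h1
    refine ⟨fun j => Units.mk0 (c (Sum.inl j)) (hc0 _), ?_⟩
    apply Subtype.ext
    apply act_ext_ev
    intro a
    change act (diagSp _) (ev a) = act A.1 (ev a)
    rw [act_diagSp_ev, hc]
    congr 1
    rcases a with j | j
    · simp [dvec]
    · simp only [dvec, Sum.elim_inr, Units.val_inv_eq_inv_val, Units.val_mk0]
      exact inv_eq_of_mul_eq_one_right (hprod j)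

/-! ### The image of `rho` -/

/-- The sign of a coordinate. -/
def sgnv (x : Ix m) : F := Sum.elim (fun _ => (-1 : F)) (fun _ => 1) x

theorem sgnv_sq (x : Ix m) : (sgnv x : F) * sgnv x = 1 := by
  rcases x with j | j <;> simp [sgnv]

theorem sgnv_swap (x : Ix m) : (sgnv (Sum.swap x) : F) = - sgnv x := by
  rcases x with j | j <;> simp [sgnv]

theorem sgnv_ne_zero (x : Ix m) : (sgnv x : F) ≠ 0 := by
  intro h
  have := sgnv_sq (F := F) x
  rw [h, mul_zero] at this
  exact zero_ne_one this

theorem sf_ev_ev' (x y : Ix m) :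
    sympForm m F (ev x) (ev y) = if y = Sum.swap x then sgnv x else 0 := sf_ev_ev x y

/-- Monomial symplectic elements commute with the pairing of the axes. -/
theorem ax_swap {A : symplecticGroup (Fin m) F} (hA : IsMono A) (a : Ix m) :
    ax hA (Sum.swap a) = Sum.swap (ax hA a) := by
  obtain ⟨c, hc⟩ := ax_spec hA a
  obtain ⟨c', hc'⟩ := ax_spec hA (Sum.swap a)
  have h1 := act_preserves A (ev a) (ev (Sum.swap a))
  rw [hc, hc', sf_smul_left, sf_smul_right, sf_ev_ev', sf_ev_ev', if_pos rfl] at h1
  by_contra hne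
  rw [if_neg hne, mul_zero, mul_zero] at h1
  exact sgnv_ne_zero a h1.symm

theorem rho_mem_centralizer (A : ↥(mono m F)) :
    rho m F A ∈ Subgroup.centralizer ({Equiv.sumComm (Fin m) (Fin m)} : Set (Equiv.Perm (Ix m))) := by
  rw [Subgroup.mem_centralizer_singleton_iff]
  ext a
  simp only [Equiv.Perm.coe_mul, Function.comp_apply, rho_apply, Equiv.sumComm_apply]
  exact ax_swap A.2 a

theorem mem_symplectic_of_basis (M : Matrix (Ix m) (Ix m) F)
    (h : ∀ i j : Ix m, sympForm m F (M *ᵥ ev i) (M *ᵥ ev j) = sympForm m F (ev i) (ev j)) :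
    M ∈ Matrix.symplecticGroup (Fin m) F := by
  rw [SymplecticGroup.mem_iff']
  ext i j
  have h1 := h i j
  unfold ev at h1
  rw [sf_def, sf_def] at h1
  have e1 : (M *ᵥ Pi.single i 1) ⬝ᵥ (Matrix.J (Fin m) F *ᵥ (M *ᵥ Pi.single j 1)) =
      (Pi.single i 1) ⬝ᵥ (Mᵀ *ᵥ (Matrix.J (Fin m) F *ᵥ (M *ᵥ Pi.single j 1))) := by
    rw [dotProduct_comm]
    exact (Matrix.dotProduct_transpose_mulVec M (Pi.single i 1) _).symm
  rw [e1, Matrix.mulVec_mulVec, Matrix.mulVec_mulVec, Matrix.mulVec_single_one,
    Matrix.mulVec_single_one, single_one_dotProduct, single_one_dotProduct] at h1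
  exact h1

/-- The coefficients of the signed permutation matrix. -/
def wcoef (π : Equiv.Perm (Ix m)) (a : Ix m) : F :=
  Sum.elim (fun _ => (1 : F)) (fun j => - sgnv (π (Sum.inl j))) a

/-- The signed permutation matrix. -/
def wmat (π : Equiv.Perm (Ix m)) : Matrix (Ix m) (Ix m) F :=
  Matrix.of fun x a => if x = π a then wcoef π a else 0

theorem wmat_mulVec_ev (π : Equiv.Perm (Ix m)) (a : Ix m) :
    wmat π *ᵥ (ev a : Ix m → F) = (wcoef π a : F) • (ev (π a) : Ix m → F) := by
  unfold ev
  rw [Matrix.mulVec_single_one]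
  funext x
  simp only [wmat, Matrix.col_apply, Matrix.of_apply, Pi.smul_apply, Pi.single_apply,
    smul_eq_mul, mul_ite, mul_one, mul_zero]

theorem wmat_mem (π : Equiv.Perm (Ix m))
    (hπ : ∀ a, π (Sum.swap a) = Sum.swap (π a)) :
    wmat π ∈ symplecticGroup (Fin m) F := by
  apply mem_symplectic_of_basis
  intro a b
  rw [wmat_mulVec_ev, wmat_mulVec_ev, sf_smul_left, sf_smul_right, sf_ev_ev', sf_ev_ev']
  by_cases hb : b = Sum.swap a
  · subst hb
    rw [if_pos rfl, if_pos (hπ a)]
    rcases a with j | j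
    · simp only [wcoef, Sum.elim_inl, Sum.swap_inl, Sum.elim_inr, one_mul]
      have h1 := sgnv_sq (F := F) (π (Sum.inl j))
      have h2 : (sgnv (Sum.inl j : Ix m) : F) = -1 := by simp [sgnv]
      rw [h2]
      linear_combination -h1
    · simp only [wcoef, Sum.elim_inl, Sum.swap_inr, Sum.elim_inr, one_mul]
      have h0 : π (Sum.inr j) = Sum.swap (π (Sum.inl j)) := by
        rw [← hπ]
        rfl
      rw [h0, sgnv_swap]
      have h1 := sgnv_sq (F := F) (π (Sum.inl j))
      have h2 : (sgnv (Sum.inr j : Ix m) : F) = 1 := by simp [sgnv]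
      rw [h2]
      linear_combination h1
  · rw [if_neg hb, if_neg]
    · simp
    · intro h
      apply hb
      rw [← hπ] at h
      exact π.injective h

theorem rho_range :
    (rho m F).range =
      Subgroup.centralizer ({Equiv.sumComm (Fin m) (Fin m)} : Set (Equiv.Perm (Ix m))) := by
  ext π
  constructor
  · rintro ⟨A, rfl⟩
    exact rho_mem_centralizer A
  · intro hπ
    rw [Subgroup.mem_centralizer_singleton_iff] at hπ
    have hπ' : ∀ a, π (Sum.swap a) = Sum.swap (π a) := by
      intro a
      have := congrArg (fun σ : Equiv.Perm (Ix m) => σ a) hπ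
      simp only [Equiv.Perm.coe_mul, Function.comp_apply, Equiv.sumComm_apply] at this
      exact this
    have hact : ∀ a, act (⟨wmat π, wmat_mem π hπ'⟩ : symplecticGroup (Fin m) F) (ev a) =
        wcoef π a • ev (π a) := fun a => wmat_mulVec_ev π a
    have hmono : IsMono (⟨wmat π, wmat_mem π hπ'⟩ : symplecticGroup (Fin m) F) :=
      fun a => ⟨π a, wcoef π a, hact a⟩
    refine ⟨⟨_, hmono⟩, ?_⟩
    ext a
    rw [rho_apply]
    exact ax_eq hmono (hact a)

/-- The order of the monomial subgroup. -/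
theorem card_mono [Fintype F] {q : ℕ} (hF : Fintype.card F = q) :
    Nat.card ↥(mono m F) = 2 ^ m * Nat.factorial m * (q - 1) ^ m := by
  have h1 := (rho m F).ker.card_mul_index
  rw [Subgroup.index_ker, rho_range, card_centralizer_swap, ker_rho,
    Nat.card_congr (Subgroup.subgroupOfEquivOfLe torus_le_mono).toEquiv, card_torus hF] at h1
  rw [← h1]
  ring

end Cfsg.Agent.Lib.Helper27.SpTorus
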