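import Mathlib
import Cfsg.Prelude.Def_Transfer
import Cfsg.Agent.Lib.Helper14.FrattiniQuot

/-!
# An abstract lemma on `2`-groups of order `512` with a self-centralizing `2^6` (helper27)
-/

set_option autoImplicit false

namespace Cfsg.Agent.Lib.Helper27.SylM24

/-- The three-part property of `S3171`. -/
def P3 (S : Type*) [Group S] : Prop :=
  (∀ M : Subgroup S, IsCoatom M → Nat.card ↥(Subgroup.center ↥M) ≤ 8) ∧
  (∃ A : Subgroup S, Cfsg.IsElementaryAbelian 2 A ∧ Nat.card ↥A = 64) ∧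
  ∀ A B : Subgroup S, IsMulCommutative ↥A → Nat.card ↥A = 64 → IsMulCommutative ↥B →
    Nat.card ↥B = 64 → A = B

theorem isMulCommutative_of_equiv {A B : Type*} [Group A] [Group B] (f : A ≃* B)
    (h : IsMulCommutative A) : IsMulCommutative B := by
  refine ⟨⟨fun x y => ?_⟩⟩
  apply f.symm.injective
  rw [map_mul, map_mul]
  exact mul_comm' _ _

theorem P3.of_equiv {S S' : Type*} [Group S] [Group S'] (e : S ≃* S') (h : P3 S) : P3 S' := by
  obtain ⟨h1, ⟨A, hA, hAc⟩, h3⟩ := h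
  refine ⟨?_, ?_, ?_⟩
  · intro M' hM'
    have hco : IsCoatom (M'.map e.symm.toMonoidHom) := by
      have := (e.symm.mapSubgroup.isCoatom_iff M').mpr hM'
      exact this
    have hle := h1 _ hco
    have f : ↥M' ≃* ↥(M'.map e.symm.toMonoidHom) := e.symm.subgroupMap M'
    rw [Nat.card_congr (Subgroup.centerCongr f).toEquiv]
    exact hle
  · refine ⟨A.map e.toMonoidHom, ⟨?_, ?_⟩, ?_⟩
    · exact isMulCommutative_of_equiv (e.subgroupMap A) hA.1
    · rintro _ ⟨a, ha, rfl⟩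
      show e a ^ 2 = 1
      rw [← map_pow, hA.2 a ha, map_one]
    · rw [← hAc]
      exact (Nat.card_congr (e.subgroupMap A).toEquiv).symm
  · intro A' B' hA' hA'c hB' hB'c
    have key := h3 (A'.map e.symm.toMonoidHom) (B'.map e.symm.toMonoidHom)
      (isMulCommutative_of_equiv (e.symm.subgroupMap A') hA')
      (by rw [← hA'c]; exact (Nat.card_congr (e.symm.subgroupMap A').toEquiv).symm)
      (isMulCommutative_of_equiv (e.symm.subgroupMap B') hB')
      (by rw [← hB'c]; exact (Nat.card_congr (e.symm.subgroupMap B').toEquiv).symm)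
    exact Subgroup.map_injective e.symm.injective key

section AL

variable {S : Type*} [Group S] [Finite S] (V : Subgroup S) [V.Normal]

/-- `|A| = |A ∩ V| · r` with `r ∣ |S : V|`. -/
theorem card_eq_inf_mul (A : Subgroup S) :
    ∃ r : ℕ, r ∣ V.index ∧ Nat.card ↥A = Nat.card ↥(A ⊓ V) * r := by
  refine ⟨V.relIndex A, Subgroup.relIndex_dvd_index_of_normal V A, ?_⟩
  have h1 := Subgroup.card_mul_index ((A ⊓ V).subgroupOf A)
  have h2 : Nat.card ↥((A ⊓ V).subgroupOf A) = Nat.card ↥(A ⊓ V) :=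
    Nat.card_congr (Subgroup.subgroupOfEquivOfLe inf_le_left).toEquiv
  have h3 : ((A ⊓ V).subgroupOf A).index = V.relIndex A := by
    show (A ⊓ V).relIndex A = V.relIndex A
    exact Subgroup.inf_relIndex_left A V
  rw [h2, h3] at h1
  exact h1.symm

/-- If `|A| > 2 |A ∩ V|`, then `A` meets at least three cosets of `V`. -/
theorem exists_third_coset (A : Subgroup S) (g : S) (hgA : g ∈ A)
    (hcard : 2 * Nat.card ↥(A ⊓ V) < Nat.card ↥A) :
    ∃ g2 ∈ A, g2 ∉ V ∧ g⁻¹ * g2 ∉ V := by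
  classical
  by_contra hcon
  push Not at hcon
  have hmem : ∀ a : ↥A, (a : S) ∉ V → g⁻¹ * (a : S) ∈ A ⊓ V := fun a ha =>
    ⟨A.mul_mem (A.inv_mem hgA) a.2, hcon a a.2 ha⟩
  let f : ↥A → Bool × ↥(A ⊓ V) := fun a =>
    if h : (a : S) ∈ V then (false, ⟨a, a.2, h⟩) else (true, ⟨g⁻¹ * a, hmem a h⟩)
  have hf : Function.Injective f := by
    intro a b hab
    by_cases ha : (a : S) ∈ V <;> by_cases hb : (b : S) ∈ V
    · simp only [f, dif_pos ha, dif_pos hb, Prod.mk.injEq, true_and] at hab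
      exact Subtype.ext (congrArg (fun x : ↥(A ⊓ V) => (x : S)) hab)
    · simp [f, dif_pos ha, dif_neg hb] at hab
    · simp [f, dif_neg ha, dif_pos hb] at hab
    · simp only [f, dif_neg ha, dif_neg hb, Prod.mk.injEq, true_and] at hab
      have := congrArg (fun x : ↥(A ⊓ V) => (x : S)) hab
      exact Subtype.ext (mul_left_cancel this)
  have := Nat.card_le_card_of_injective f hf
  rw [Nat.card_prod, Nat.card_eq_fintype_card (α := Bool), Fintype.card_bool] at this
  omega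

variable (hS : Nat.card S = 512) (hV : Cfsg.IsElementaryAbelian 2 V) (hVc : Nat.card ↥V = 64)
  (F1 : ∀ g : S, g ∉ V → Nat.card ↥(V ⊓ Subgroup.centralizer ({g} : Set S)) ≤ 16)
  (F2 : ∀ g1 g2 : S, g1 ∉ V → g2 ∉ V → g1⁻¹ * g2 ∉ V →
    Nat.card ↥(V ⊓ Subgroup.centralizer ({g1} : Set S) ⊓ Subgroup.centralizer ({g2} : Set S)) ≤ 8)
  (F3 : Nat.card ↥(V ⊓ Subgroup.center S) ≤ 4)

include hS hVc in
theorem index_V : V.index = 8 := by
  have := Subgroup.card_mul_index V
  rw [hS, hVc] at this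
  omega

include hS hV hVc F1 F2 F3 in
theorem unique_abelian (A : Subgroup S) (hA : IsMulCommutative ↥A) (hAc : Nat.card ↥A = 64) :
    A = V := by
  classical
  by_contra hne
  have hnle : ¬ A ≤ V := by
    intro hle
    exact hne (Subgroup.eq_of_le_of_card_ge hle (by rw [hAc, hVc]))
  obtain ⟨g, hgA, hgV⟩ := SetLike.not_le_iff_exists.mp hnle
  have hcomm : ∀ a ∈ A, ∀ b ∈ A, a * b = b * a := by
    intro a ha b hb
    have := mul_comm' (⟨a, ha⟩ : ↥A) ⟨b, hb⟩
    exact congrArg Subtype.val this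
  obtain ⟨r, hr, hcard⟩ := card_eq_inf_mul V A
  rw [index_V V hS hVc] at hr
  rw [hAc] at hcard
  -- first bound
  have hle1 : A ⊓ V ≤ V ⊓ Subgroup.centralizer ({g} : Set S) := by
    intro w hw
    exact Subgroup.mem_inf.mpr ⟨hw.2, Subgroup.mem_centralizer_singleton_iff.mpr
      (hcomm w hw.1 g hgA)⟩
  have hb1 : Nat.card ↥(A ⊓ V) ≤ 16 := (Subgroup.card_le_of_le hle1).trans (F1 g hgV)
  obtain ⟨g2, hg2A, hg2V, hgg2⟩ := exists_third_coset V A g hgA (by rw [hAc]; omega)
  have hle2 : A ⊓ V ≤ V ⊓ Subgroup.centralizer ({g} : Set S) ⊓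
      Subgroup.centralizer ({g2} : Set S) := by
    intro w hw
    exact Subgroup.mem_inf.mpr ⟨hle1 hw, Subgroup.mem_centralizer_singleton_iff.mpr
      (hcomm w hw.1 g2 hg2A)⟩
  have hb2 : Nat.card ↥(A ⊓ V) ≤ 8 := (Subgroup.card_le_of_le hle2).trans (F2 g g2 hgV hg2V hgg2)
  have hr8 : r ≤ 8 := Nat.le_of_dvd (by norm_num) hr
  have hr8' : r = 8 := by nlinarith
  have hinf8 : Nat.card ↥(A ⊓ V) = 8 := by
    rw [hr8'] at hcard; omega
  -- `A ⊔ V = ⊤`
  have hrel : V.relIndex A = 8 := by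
    have h1 := Subgroup.card_mul_index ((A ⊓ V).subgroupOf A)
    have h2 : Nat.card ↥((A ⊓ V).subgroupOf A) = Nat.card ↥(A ⊓ V) :=
      Nat.card_congr (Subgroup.subgroupOfEquivOfLe inf_le_left).toEquiv
    have h3 : ((A ⊓ V).subgroupOf A).index = V.relIndex A := by
      show (A ⊓ V).relIndex A = V.relIndex A
      exact Subgroup.inf_relIndex_left A V
    rw [h2, h3, hinf8, hAc] at h1
    omega
  have htop : V ⊔ A = ⊤ := by
    have h1 : V.relIndex (V ⊔ A) = 8 := by rw [Subgroup.relIndex_sup_left, hrel]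
    have h2 := Subgroup.card_mul_index (V.subgroupOf (V ⊔ A))
    have h3 : Nat.card ↥(V.subgroupOf (V ⊔ A)) = Nat.card ↥V :=
      Nat.card_congr (Subgroup.subgroupOfEquivOfLe le_sup_left).toEquiv
    have h4 : (V.subgroupOf (V ⊔ A)).index = 8 := h1
    rw [h3, h4, hVc] at h2
    apply (Subgroup.card_eq_iff_eq_top _).mp
    rw [hS, ← h2]
  have hVcomm : ∀ a ∈ V, ∀ b ∈ V, a * b = b * a := by
    intro a ha b hb
    have := @mul_comm' _ _ hV.1 (⟨a, ha⟩ : ↥V) ⟨b, hb⟩
    exact congrArg Subtype.val this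
  have hle3 : A ⊓ V ≤ V ⊓ Subgroup.center S := by
    intro w hw
    refine Subgroup.mem_inf.mpr ⟨hw.2, ?_⟩
    rw [Subgroup.mem_center_iff]
    have hall : V ⊔ A ≤ Subgroup.centralizer ({w} : Set S) := by
      apply sup_le
      · intro v hv
        exact Subgroup.mem_centralizer_singleton_iff.mpr (hVcomm v hv w hw.2)
      · intro a ha
        exact Subgroup.mem_centralizer_singleton_iff.mpr (hcomm a ha w hw.1)
    intro s
    have hs : s ∈ Subgroup.centralizer ({w} : Set S) := hall (by rw [htop]; trivial)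
    rw [Subgroup.mem_centralizer_singleton_iff] at hs
    exact hs
  have hb3 : Nat.card ↥(A ⊓ V) ≤ 4 := (Subgroup.card_le_of_le hle3).trans F3
  omega

include hS hV hVc F1 F2 in
theorem center_coatom_le (M : Subgroup S) (hM : IsCoatom M) :
    Nat.card ↥(Subgroup.center ↥M) ≤ 8 := by
  classical
  have : Fact (Nat.Prime 2) := ⟨Nat.prime_two⟩
  have hpg : IsPGroup 2 S := IsPGroup.of_card (n := 9) (by rw [hS]; norm_num)
  have hidx := Cfsg.Agent.Lib.Helper14.index_of_isCoatom_of_isPGroup' hpg hM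
  have hMc : Nat.card ↥M = 256 := by
    have := Subgroup.card_mul_index M
    rw [hidx, hS] at this
    omega
  obtain ⟨r, hr, hcard⟩ := card_eq_inf_mul V M
  rw [index_V V hS hVc] at hr
  rw [hMc] at hcard
  have hr8 : r ≤ 8 := Nat.le_of_dvd (by norm_num) hr
  have hinf32 : 32 ≤ Nat.card ↥(M ⊓ V) := by nlinarith
  have hinf64 : Nat.card ↥(M ⊓ V) ≤ 64 := by
    rw [← hVc]; exact Subgroup.card_le_of_le inf_le_right
  -- the centre as a subgroup of `S`
  set Z : Subgroup S := (Subgroup.center ↥M).map M.subtype with hZ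
  have hZcard : Nat.card ↥Z = Nat.card ↥(Subgroup.center ↥M) :=
    (Nat.card_congr ((Subgroup.center ↥M).equivMapOfInjective M.subtype
      M.subtype_injective).toEquiv).symm
  have hZcomm : ∀ z ∈ Z, ∀ m ∈ M, m * z = z * m := by
    rintro _ ⟨z, hz, rfl⟩ m hm
    have := Subgroup.mem_center_iff.mp hz ⟨m, hm⟩
    exact congrArg Subtype.val this
  have hZM : Z ≤ M := by
    rintro _ ⟨z, _, rfl⟩
    exact z.2
  have hZV : Z ≤ V := by
    intro z hz
    by_contra hzV
    have hle1 : M ⊓ V ≤ V ⊓ Subgroup.centralizer ({z} : Set S) := by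
      intro w hw
      exact Subgroup.mem_inf.mpr ⟨hw.2, Subgroup.mem_centralizer_singleton_iff.mpr
        (hZcomm z hz w hw.1)⟩
    have := (Subgroup.card_le_of_le hle1).trans (F1 z hzV)
    omega
  have hnle : ¬ M ≤ V := by
    intro hle
    have := Subgroup.card_le_of_le hle
    rw [hMc, hVc] at this
    omega
  obtain ⟨g1, hg1M, hg1V⟩ := SetLike.not_le_iff_exists.mp hnle
  obtain ⟨g2, hg2M, hg2V, hgg2⟩ := exists_third_coset V M g1 hg1M (by rw [hMc]; omega)
  have hle2 : Z ≤ V ⊓ Subgroup.centralizer ({g1} : Set S) ⊓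
      Subgroup.centralizer ({g2} : Set S) := by
    intro z hz
    exact Subgroup.mem_inf.mpr ⟨Subgroup.mem_inf.mpr ⟨hZV hz,
      Subgroup.mem_centralizer_singleton_iff.mpr (hZcomm z hz g1 hg1M).symm⟩,
      Subgroup.mem_centralizer_singleton_iff.mpr (hZcomm z hz g2 hg2M).symm⟩
  rw [← hZcard]
  exact (Subgroup.card_le_of_le hle2).trans (F2 g1 g2 hg1V hg2V hgg2)

include hS hV hVc F1 F2 F3 in
theorem P3_of_structure : P3 S := by
  refine ⟨fun M hM => center_coatom_le V hS hV hVc F1 F2 M hM, ⟨V, hV, hVc⟩, ?_⟩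
  intro A B hA hAc hB hBc
  rw [unique_abelian V hS hV hVc F1 F2 F3 A hA hAc, unique_abelian V hS hV hVc F1 F2 F3 B hB hBc]

end AL

end Cfsg.Agent.Lib.Helper27.SylM24
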