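import Mathlib
import Cfsg.Agent.Lib.Helper27.SylM24A
import Cfsg.Agent.Lib.Helper27.TvCentG

/-!
# The unitriangular Sylow `2`-subgroup of the transvection centralizer in `SL₅(2)` (helper27)
-/

set_option autoImplicit false
set_option linter.unusedSectionVars false

namespace Cfsg.Agent.Lib.Helper27.SylM24

open Matrix Cfsg.Agent.Lib.Helper27.TvCent

/-- Upper unitriangular `3 × 3` matrices. -/
def utM (p q r : ZMod 2) : Matrix (Fin 3) (Fin 3) (ZMod 2) := !![1, p, r; 0, 1, q; 0, 0, 1]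

theorem det_utM (p q r : ZMod 2) : (utM p q r).det = 1 := by
  simp [utM, Matrix.det_fin_three]

/-- as elements of `SL₃(2)` -/
def ut (p q r : ZMod 2) : LL 3 := ⟨utM p q r, det_utM p q r⟩

theorem ut_zero : ut 0 0 0 = 1 := by
  apply Subtype.ext
  show utM 0 0 0 = 1
  ext i j
  fin_cases i <;> fin_cases j <;> simp [utM]

/-- The upper triangular subgroup of `SL₃(2)`. -/
def UT : Subgroup (LL 3) where
  carrier := {M | M.1 1 0 = 0 ∧ M.1 2 0 = 0 ∧ M.1 2 1 = 0}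
  one_mem' := by
    refine ⟨?_, ?_, ?_⟩ <;> simp
  mul_mem' := by
    rintro M M' ⟨h1, h2, h3⟩ ⟨h1', h2', h3'⟩
    refine ⟨?_, ?_, ?_⟩ <;>
    simp [Matrix.SpecialLinearGroup.coe_mul, Matrix.mul_apply, Fin.sum_univ_three, h1, h2, h3,
      h1', h2', h3']
  inv_mem' := by
    rintro M ⟨h1, h2, h3⟩
    refine ⟨?_, ?_, ?_⟩ <;>
    simp [Matrix.SpecialLinearGroup.coe_inv, Matrix.adjugate_fin_three, h1, h2, h3]

theorem mem_UT_iff (M : LL 3) : M ∈ UT ↔ M.1 1 0 = 0 ∧ M.1 2 0 = 0 ∧ M.1 2 1 = 0 := Iff.rfl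

theorem ut_mem (p q r : ZMod 2) : ut p q r ∈ UT := by
  refine ⟨?_, ?_, ?_⟩ <;> simp [ut, utM]

theorem zmod2_mul3 : ∀ a b c : ZMod 2, a * b * c = 1 → a = 1 ∧ b = 1 ∧ c = 1 := by decide

theorem eq_ut_of_mem {M : LL 3} (hM : M ∈ UT) : M = ut (M.1 0 1) (M.1 1 2) (M.1 0 2) := by
  obtain ⟨h1, h2, h3⟩ := hM
  have hdet := M.2
  rw [Matrix.det_fin_three, h1, h2, h3] at hdet
  simp only [mul_zero, zero_mul, sub_zero, add_zero] at hdet
  obtain ⟨d0, d1, d2⟩ := zmod2_mul3 _ _ _ hdet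
  apply Subtype.ext
  ext i j
  fin_cases i <;> fin_cases j <;> simp [ut, utM, h1, h2, h3, d0, d1, d2]

theorem ut_inj {p q r p' q' r' : ZMod 2} (h : ut p q r = ut p' q' r') : p = p' ∧ q = q' ∧ r = r' := by
  have h1 : utM p q r = utM p' q' r' := congrArg Subtype.val h
  refine ⟨?_, ?_, ?_⟩
  · simpa [utM] using congrFun (congrFun h1 0) 1
  · simpa [utM] using congrFun (congrFun h1 1) 2
  · simpa [utM] using congrFun (congrFun h1 0) 2

theorem card_UT : Nat.card ↥UT = 8 := by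
  let f : ZMod 2 × ZMod 2 × ZMod 2 → ↥UT := fun t => ⟨ut t.1 t.2.1 t.2.2, ut_mem _ _ _⟩
  have hf : Function.Bijective f := by
    constructor
    · rintro ⟨p, q, r⟩ ⟨p', q', r'⟩ h
      have h1 : ut p q r = ut p' q' r' := congrArg Subtype.val h
      obtain ⟨rfl, rfl, rfl⟩ := ut_inj h1
      rfl
    · rintro ⟨M, hM⟩
      exact ⟨(M.1 0 1, M.1 1 2, M.1 0 2), Subtype.ext (eq_ut_of_mem hM).symm⟩
  rw [← Nat.card_congr (Equiv.ofBijective f hf), Nat.card_prod, Nat.card_prod, Nat.card_zmod]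

/-- The unitriangular subgroup of the transvection centralizer. -/
def T0 : Subgroup (GG 3) := (UT.comap (midHom 3)).map (CC 3).subtype

theorem T0_le_CC : T0 ≤ CC 3 := by
  rintro _ ⟨g, _, rfl⟩
  exact g.2

theorem mkSL_ut_mem (p q r : ZMod 2) (a b : Fin 3 → ZMod 2) (c : ZMod 2) :
    mkSL (ut p q r) a b c ∈ T0 := by
  refine ⟨⟨mkSL (ut p q r) a b c, mkSL_mem _ _ _ _⟩, ?_, rfl⟩
  show midHom 3 _ ∈ UT
  have : midHom 3 ⟨mkSL (ut p q r) a b c, mkSL_mem _ _ _ _⟩ = ut p q r := Subtype.ext rfl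
  rw [this]
  exact ut_mem p q r

theorem exists_of_mem_T0 {g : GG 3} (hg : g ∈ T0) :
    ∃ p q r a b c, g = mkSL (ut p q r) a b c := by
  obtain ⟨g', hg', rfl⟩ := hg
  have h1 : midHom 3 g' ∈ UT := hg'
  have h2 := exists_mkSL_of_mem g'.2
  have h3 := eq_ut_of_mem h1
  refine ⟨(midHom 3 g').1 0 1, (midHom 3 g').1 1 2, (midHom 3 g').1 0 2,
    rowA g'.1.1, colB g'.1.1, cor g'.1.1, ?_⟩
  show (g' : GG 3) = _
  rw [← h3]
  exact h2

theorem mkSL_one_mem_T0 (a b : Fin 3 → ZMod 2) (c : ZMod 2) : mkSL (1 : LL 3) a b c ∈ T0 := by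
  rw [← ut_zero]; exact mkSL_ut_mem 0 0 0 a b c

theorem card_T0 : Nat.card ↥T0 = 1024 := by
  let f : (ZMod 2 × ZMod 2 × ZMod 2) × (Fin 3 → ZMod 2) × (Fin 3 → ZMod 2) × ZMod 2 → ↥T0 :=
    fun t => ⟨mkSL (ut t.1.1 t.1.2.1 t.1.2.2) t.2.1 t.2.2.1 t.2.2.2, mkSL_ut_mem _ _ _ _ _ _⟩
  have hf : Function.Bijective f := by
    constructor
    · rintro ⟨⟨p, q, r⟩, a, b, c⟩ ⟨⟨p', q', r'⟩, a', b', c'⟩ h
      have h1 : mkSL (ut p q r) a b c = mkSL (ut p' q' r') a' b' c' := congrArg Subtype.val h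
      obtain ⟨hM, rfl, rfl, rfl⟩ := mkSL_inj h1
      obtain ⟨rfl, rfl, rfl⟩ := ut_inj hM
      rfl
    · rintro ⟨g, hg⟩
      obtain ⟨p, q, r, a, b, c, rfl⟩ := exists_of_mem_T0 hg
      exact ⟨((p, q, r), a, b, c), rfl⟩
  rw [← Nat.card_congr (Equiv.ofBijective f hf)]
  simp only [Nat.card_prod, Nat.card_zmod, Nat.card_fun, Nat.card_fin]
  norm_num

end Cfsg.Agent.Lib.Helper27.SylM24
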