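import Mathlib
import Cfsg.Agent.Lib.Helper27.SylM24B

/-!
# The quotient of the unitriangular Sylow subgroup by its centre (helper27)
-/

set_option autoImplicit false
set_option linter.unusedSectionVars false

namespace Cfsg.Agent.Lib.Helper27.SylM24

open Matrix Cfsg.Agent.Lib.Helper27.TvCent

/-- coordinates modulo the corner entry -/
def co (g : GG 3) : Matrix (Fin 3) (Fin 3) (ZMod 2) × (Fin 3 → ZMod 2) × (Fin 3 → ZMod 2) :=
  (mid g.1, rowA g.1, colB g.1)

theorem co_mkSL (M : LL 3) (a b : Fin 3 → ZMod 2) (c : ZMod 2) : co (mkSL M a b c) = (M.1, a, b) :=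
  rfl

theorem mkSL_mul_center (M : LL 3) (a b : Fin 3 → ZMod 2) (c c' : ZMod 2) :
    mkSL M a b c * mkSL 1 0 0 c' = mkSL M a b (c + c') := by
  rw [mkSL_mul]
  simp

theorem center_mul_mkSL (M : LL 3) (a b : Fin 3 → ZMod 2) (c c' : ZMod 2) :
    mkSL 1 0 0 c' * mkSL M a b c = mkSL M a b (c' + c) := by
  rw [mkSL_mul]
  simp

theorem ut_fix_dec : ∀ p q r : ZMod 2, (∀ x : Fin 3 → ZMod 2, x ᵥ* utM p q r = x) →
    p = 0 ∧ q = 0 ∧ r = 0 := by decide

theorem dot_zero_dec : ∀ a : Fin 3 → ZMod 2, (∀ y : Fin 3 → ZMod 2, a ⬝ᵥ y = 0) → a = 0 := by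
  decide

theorem mem_center_T0_iff (t : ↥T0) :
    t ∈ Subgroup.center ↥T0 ↔ ∃ c, (t : GG 3) = mkSL 1 0 0 c := by
  constructor
  · intro ht
    obtain ⟨p, q, r, a, b, c, htt⟩ := exists_of_mem_T0 t.2
    have hcomm : ∀ x y : Fin 3 → ZMod 2,
        mkSL (1 : LL 3) x y 0 * mkSL (ut p q r) a b c = mkSL (ut p q r) a b c * mkSL 1 x y 0 := by
      intro x y
      have := Subgroup.mem_center_iff.mp ht ⟨mkSL 1 x y 0, mkSL_one_mem_T0 x y 0⟩
      have h2 := congrArg Subtype.val this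
      rw [Subgroup.coe_mul, Subgroup.coe_mul, htt] at h2
      exact h2
    have hxy : ∀ x y : Fin 3 → ZMod 2, a + x ᵥ* utM p q r = x + a ∧
        0 + c + x ⬝ᵥ b = c + 0 + a ⬝ᵥ y := by
      intro x y
      have h := hcomm x y
      rw [mkSL_mul, mkSL_mul] at h
      obtain ⟨_, h2, _, h4⟩ := mkSL_inj h
      refine ⟨?_, h4⟩
      have : (ut p q r).1 = utM p q r := rfl
      rw [this] at h2
      simpa using h2
    obtain ⟨rfl, rfl, rfl⟩ := ut_fix_dec p q r (fun x => by
      have := (hxy x 0).1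
      rw [add_comm] at this
      exact add_right_cancel this)
    have ha : a = 0 := dot_zero_dec a (fun y => by
      have := (hxy 0 y).2
      simp at this
      exact this)
    have hb : b = 0 := dot_zero_dec b (fun x => by
      have := (hxy x 0).2
      simp at this
      rw [dotProduct_comm]
      exact this)
    refine ⟨c, ?_⟩
    rw [htt, ha, hb, ut_zero]
  · rintro ⟨c, hc⟩
    rw [Subgroup.mem_center_iff]
    intro s
    apply Subtype.ext
    rw [Subgroup.coe_mul, Subgroup.coe_mul, hc]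
    obtain ⟨p, q, r, a, b, c', hs⟩ := exists_of_mem_T0 s.2
    rw [hs, mkSL_mul_center, center_mul_mkSL, add_comm]

/-- The quotient by the centre. -/
abbrev S0 : Type := ↥T0 ⧸ Subgroup.center ↥T0

theorem mk_eq_iff (t t' : ↥T0) :
    (QuotientGroup.mk t : S0) = QuotientGroup.mk t' ↔ co t.1 = co t'.1 := by
  obtain ⟨p, q, r, a, b, c, ht⟩ := exists_of_mem_T0 t.2
  obtain ⟨p', q', r', a', b', c', ht'⟩ := exists_of_mem_T0 t'.2
  rw [QuotientGroup.eq, mem_center_T0_iff]
  constructor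
  · rintro ⟨c0, hc0⟩
    have h1 : (t' : GG 3) = t.1 * mkSL 1 0 0 c0 := by
      rw [← hc0, Subgroup.coe_mul, Subgroup.coe_inv, mul_inv_cancel_left]
    rw [h1, ht, mkSL_mul_center, co_mkSL, co_mkSL]
  · intro h
    rw [ht, ht', co_mkSL, co_mkSL] at h
    have hM : ut p q r = ut p' q' r' := Subtype.ext (congrArg Prod.fst h)
    have ha : a = a' := congrArg (fun z => z.2.1) h
    have hb : b = b' := congrArg (fun z => z.2.2) h
    refine ⟨c + c', ?_⟩
    rw [Subgroup.coe_mul, Subgroup.coe_inv, inv_mul_eq_iff_eq_mul, ht, ht', mkSL_mul_center, hM, ha,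
      hb, ← add_assoc, zmod2_add_self, zero_add]

/-- coordinates on the quotient -/
noncomputable def coS (s : S0) : Matrix (Fin 3) (Fin 3) (ZMod 2) × (Fin 3 → ZMod 2) × (Fin 3 → ZMod 2) :=
  co (Quotient.out s : ↥T0).1

theorem coS_mk (t : ↥T0) : coS (QuotientGroup.mk t) = co t.1 :=
  (mk_eq_iff _ _).1 (QuotientGroup.out_eq' _)

theorem coS_injective : Function.Injective coS := by
  intro s s' h
  rw [← QuotientGroup.out_eq' s, ← QuotientGroup.out_eq' s']
  exact (mk_eq_iff _ _).2 h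

theorem exists_rep (s : S0) : ∃ p q r a b c,
    s = QuotientGroup.mk (⟨mkSL (ut p q r) a b c, mkSL_ut_mem p q r a b c⟩ : ↥T0) := by
  obtain ⟨t, rfl⟩ := QuotientGroup.mk_surjective s
  obtain ⟨p, q, r, a, b, c, ht⟩ := exists_of_mem_T0 t.2
  exact ⟨p, q, r, a, b, c, congrArg _ (Subtype.ext ht)⟩

theorem coS_mul (s s' : S0) : coS (s * s') =
    ((coS s).1 * (coS s').1, (coS s').2.1 + (coS s).2.1 ᵥ* (coS s').1,
      (coS s).1 *ᵥ (coS s').2.2 + (coS s).2.2) := by
  obtain ⟨p, q, r, a, b, c, rfl⟩ := exists_rep s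
  obtain ⟨p', q', r', a', b', c', rfl⟩ := exists_rep s'
  rw [← QuotientGroup.mk_mul, coS_mk, coS_mk, coS_mk]
  show co (mkSL (ut p q r) a b c * mkSL (ut p' q' r') a' b' c') = _
  rw [mkSL_mul, co_mkSL, co_mkSL, co_mkSL]
  rfl

theorem coS_one : coS (1 : S0) = (1, 0, 0) := by
  have h1 : (1 : S0) = QuotientGroup.mk (⟨mkSL 1 0 0 0, mkSL_one_mem_T0 0 0 0⟩ : ↥T0) := by
    rw [← QuotientGroup.mk_one]
    congr 1
    apply Subtype.ext
    exact mkSL_one.symm
  rw [h1, coS_mk, co_mkSL]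
  rfl

/-- The middle block homomorphism on `T0`. -/
def midT : ↥T0 →* LL 3 := (midHom 3).comp (Subgroup.inclusion T0_le_CC)

theorem midT_val (t : ↥T0) : (midT t).1 = (co t.1).1 := rfl

theorem center_le_ker : Subgroup.center ↥T0 ≤ midT.ker := by
  intro t ht
  obtain ⟨c, hc⟩ := (mem_center_T0_iff t).1 ht
  rw [MonoidHom.mem_ker]
  apply Subtype.ext
  rw [midT_val, hc, co_mkSL]

/-- The middle block on the quotient. -/
def mbar : S0 →* LL 3 := QuotientGroup.lift _ midT center_le_ker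

theorem mbar_val (s : S0) : (mbar s).1 = (coS s).1 := by
  obtain ⟨t, rfl⟩ := QuotientGroup.mk_surjective s
  rw [coS_mk]
  rfl

theorem mbar_mem_UT (s : S0) : mbar s ∈ UT := by
  obtain ⟨p, q, r, a, b, c, rfl⟩ := exists_rep s
  have : mbar (QuotientGroup.mk (⟨mkSL (ut p q r) a b c, mkSL_ut_mem p q r a b c⟩ : ↥T0)) = ut p q r :=
    Subtype.ext rfl
  rw [this]
  exact ut_mem p q r

/-- The image of the extraspecial radical. -/
def V0 : Subgroup S0 := mbar.ker

instance : V0.Normal := MonoidHom.normal_ker _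

theorem mem_V0_iff (s : S0) : s ∈ V0 ↔ (coS s).1 = 1 := by
  show s ∈ mbar.ker ↔ _
  rw [MonoidHom.mem_ker, ← mbar_val]
  constructor
  · intro h; rw [h]; rfl
  · intro h; exact Subtype.ext h

/-- parametrization of `V0` -/
noncomputable def paramV (t : (Fin 3 → ZMod 2) × (Fin 3 → ZMod 2)) : ↥V0 :=
  ⟨QuotientGroup.mk (⟨mkSL 1 t.1 t.2 0, mkSL_one_mem_T0 t.1 t.2 0⟩ : ↥T0), by
    rw [mem_V0_iff, coS_mk, co_mkSL]; rfl⟩

theorem paramV_bijective : Function.Bijective paramV := by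
  constructor
  · rintro ⟨x, y⟩ ⟨x', y'⟩ h
    have h1 := congrArg (fun v : ↥V0 => coS v.1) h
    simp only [paramV, coS_mk, co_mkSL] at h1
    have hx : x = x' := congrArg (fun z => z.2.1) h1
    have hy : y = y' := congrArg (fun z => z.2.2) h1
    rw [hx, hy]
  · rintro ⟨s, hs⟩
    refine ⟨((coS s).2.1, (coS s).2.2), ?_⟩
    apply Subtype.ext
    apply coS_injective
    show coS (QuotientGroup.mk _) = coS s
    rw [coS_mk, co_mkSL]
    rw [mem_V0_iff] at hs
    ext : 1
    · exact hs.symm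
    · rfl

theorem card_V0 : Nat.card ↥V0 = 64 := by
  rw [← Nat.card_congr (Equiv.ofBijective _ paramV_bijective)]
  simp only [Nat.card_prod, Nat.card_fun, Nat.card_zmod, Nat.card_fin]
  norm_num

theorem card_center_T0 : Nat.card ↥(Subgroup.center ↥T0) = 2 := by
  let f : ZMod 2 → ↥(Subgroup.center ↥T0) := fun c =>
    ⟨⟨mkSL 1 0 0 c, mkSL_one_mem_T0 0 0 c⟩, (mem_center_T0_iff _).2 ⟨c, rfl⟩⟩
  have hf : Function.Bijective f := by
    constructor
    · intro c c' h
      have h1 : mkSL (1 : LL 3) 0 0 c = mkSL 1 0 0 c' :=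
        congrArg (fun z : ↥(Subgroup.center ↥T0) => ((z : ↥T0) : GG 3)) h
      exact (mkSL_inj h1).2.2.2
    · rintro ⟨t, ht⟩
      obtain ⟨c, hc⟩ := (mem_center_T0_iff t).1 ht
      exact ⟨c, Subtype.ext (Subtype.ext hc.symm)⟩
  rw [← Nat.card_congr (Equiv.ofBijective f hf), Nat.card_zmod]

theorem card_S0 : Nat.card S0 = 512 := by
  have h : Nat.card ↥T0 = Nat.card S0 * Nat.card ↥(Subgroup.center ↥T0) :=
    Subgroup.card_eq_card_quotient_mul_card_subgroup (Subgroup.center ↥T0)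
  rw [card_T0, card_center_T0] at h
  omega

theorem V0_elementary : Cfsg.IsElementaryAbelian 2 V0 := by
  refine ⟨⟨⟨fun v w => ?_⟩⟩, fun v hv => ?_⟩
  · apply Subtype.ext
    apply coS_injective
    have hv := (mem_V0_iff v.1).1 v.2
    have hw := (mem_V0_iff w.1).1 w.2
    show coS (v.1 * w.1) = coS (w.1 * v.1)
    rw [coS_mul, coS_mul, hv, hw]
    simp [add_comm]
  · apply coS_injective
    have hv' := (mem_V0_iff v).1 hv
    rw [pow_two, coS_mul, coS_one, hv']
    simp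
    constructor <;> funext i <;> exact zmod2_add_self _

end Cfsg.Agent.Lib.Helper27.SylM24
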