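import Mathlib
import Cfsg.Agent.Lib.Helper27.SylM24A
import Cfsg.Agent.Lib.Helper27.SylM24C

/-!
# The three-part property for the model Sylow quotient (helper27)
-/

set_option autoImplicit false
set_option linter.unusedSectionVars false

namespace Cfsg.Agent.Lib.Helper27.SylM24

open Matrix Cfsg.Agent.Lib.Helper27.TvCent

/-- general cardinality bound for subgroups of `V0` cut out by coordinate conditions -/
theorem card_le_fix (K : Subgroup S0) (Rx Ry : (Fin 3 → ZMod 2) → Prop)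
    [DecidablePred Rx] [DecidablePred Ry]
    (h : ∀ w ∈ K, (coS w).1 = 1 ∧ Rx (coS w).2.1 ∧ Ry (coS w).2.2) :
    Nat.card ↥K ≤ (Finset.univ.filter Rx).card * (Finset.univ.filter Ry).card := by
  classical
  let f : ↥K → (↥(Finset.univ.filter Rx) × ↥(Finset.univ.filter Ry)) := fun w =>
    (⟨(coS w.1).2.1, by simp [(h w.1 w.2).2.1]⟩, ⟨(coS w.1).2.2, by simp [(h w.1 w.2).2.2]⟩)
  have hf : Function.Injective f := by
    intro w w' hww
    apply Subtype.ext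
    apply coS_injective
    have h1 : (coS w.1).2.1 = (coS w'.1).2.1 :=
      congrArg (fun z : (↥(Finset.univ.filter Rx) × ↥(Finset.univ.filter Ry)) =>
        (z.1 : Fin 3 → ZMod 2)) hww
    have h2 : (coS w.1).2.2 = (coS w'.1).2.2 :=
      congrArg (fun z : (↥(Finset.univ.filter Rx) × ↥(Finset.univ.filter Ry)) =>
        (z.2 : Fin 3 → ZMod 2)) hww
    apply Prod.ext
    · rw [(h w.1 w.2).1, (h w'.1 w'.2).1]
    · exact Prod.ext h1 h2
  have := Nat.card_le_card_of_injective f hf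
  rwa [Nat.card_prod, Nat.card_eq_finsetCard, Nat.card_eq_finsetCard] at this

theorem fix_of_comm (w s : S0) (hw : (coS w).1 = 1) (h : w * s = s * w) :
    (coS w).2.1 ᵥ* (coS s).1 = (coS w).2.1 ∧ (coS s).1 *ᵥ (coS w).2.2 = (coS w).2.2 := by
  have h1 := congrArg coS h
  rw [coS_mul, coS_mul, hw] at h1
  simp only [Prod.mk.injEq, Matrix.one_mulVec, Matrix.vecMul_one] at h1
  obtain ⟨_, h2, h3⟩ := h1
  constructor
  · rw [add_comm] at h2
    exact add_right_cancel h2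
  · rw [add_comm] at h3
    exact (add_right_cancel h3).symm

set_option maxRecDepth 100000 in
theorem F1dec : ∀ p q r : ZMod 2, ¬(p = 0 ∧ q = 0 ∧ r = 0) →
    (Finset.univ.filter (fun x : Fin 3 → ZMod 2 => x ᵥ* utM p q r = x)).card *
      (Finset.univ.filter (fun y : Fin 3 → ZMod 2 => utM p q r *ᵥ y = y)).card ≤ 16 := by
  decide

set_option maxRecDepth 100000 in
theorem F2dec : ∀ p q r p' q' r' : ZMod 2, ¬(p = 0 ∧ q = 0 ∧ r = 0) →
    ¬(p' = 0 ∧ q' = 0 ∧ r' = 0) → ¬(p = p' ∧ q = q' ∧ r = r') →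
    (Finset.univ.filter (fun x : Fin 3 → ZMod 2 =>
        x ᵥ* utM p q r = x ∧ x ᵥ* utM p' q' r' = x)).card *
      (Finset.univ.filter (fun y : Fin 3 → ZMod 2 =>
        utM p q r *ᵥ y = y ∧ utM p' q' r' *ᵥ y = y)).card ≤ 8 := by
  decide

set_option maxRecDepth 100000 in
theorem F3dec :
    (Finset.univ.filter (fun x : Fin 3 → ZMod 2 =>
        x ᵥ* utM 1 0 0 = x ∧ x ᵥ* utM 0 1 0 = x)).card *
      (Finset.univ.filter (fun y : Fin 3 → ZMod 2 =>
        utM 1 0 0 *ᵥ y = y ∧ utM 0 1 0 *ᵥ y = y)).card ≤ 4 := by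
  decide

/-- the element of `S0` with given coordinates -/
noncomputable def mkS (p q r : ZMod 2) (a b : Fin 3 → ZMod 2) : S0 :=
  QuotientGroup.mk (⟨mkSL (ut p q r) a b 0, mkSL_ut_mem p q r a b 0⟩ : ↥T0)

theorem coS_mkS (p q r : ZMod 2) (a b : Fin 3 → ZMod 2) : coS (mkS p q r a b) = (utM p q r, a, b) := by
  unfold mkS
  rw [coS_mk, co_mkSL]
  rfl

theorem exists_coords_S0 (s : S0) : ∃ p q r a b, coS s = (utM p q r, a, b) := by
  obtain ⟨p, q, r, a, b, c, rfl⟩ := exists_rep s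
  refine ⟨p, q, r, a, b, ?_⟩
  rw [coS_mk, co_mkSL]
  rfl

theorem utM_zero : utM 0 0 0 = 1 := congrArg Subtype.val ut_zero

theorem not_mem_V0 (s : S0) (hs : s ∉ V0) (p q r : ZMod 2) (h : (coS s).1 = utM p q r) :
    ¬(p = 0 ∧ q = 0 ∧ r = 0) := by
  rintro ⟨rfl, rfl, rfl⟩
  apply hs
  rw [mem_V0_iff, h, utM_zero]

theorem F1_S0 (g : S0) (hg : g ∉ V0) :
    Nat.card ↥(V0 ⊓ Subgroup.centralizer ({g} : Set S0)) ≤ 16 := by
  obtain ⟨p, q, r, a, b, hco⟩ := exists_coords_S0 g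
  have hM : (coS g).1 = utM p q r := by rw [hco]
  have hne := not_mem_V0 g hg p q r hM
  refine (card_le_fix _ (fun x => x ᵥ* utM p q r = x) (fun y => utM p q r *ᵥ y = y) ?_).trans
    (F1dec p q r hne)
  intro w hw
  have hwV := (mem_V0_iff w).1 hw.1
  have hc := Subgroup.mem_centralizer_singleton_iff.mp hw.2
  have := fix_of_comm w g hwV hc
  rw [hM] at this
  exact ⟨hwV, this.1, this.2⟩

theorem F2_S0 (g1 g2 : S0) (hg1 : g1 ∉ V0) (hg2 : g2 ∉ V0) (hgg : g1⁻¹ * g2 ∉ V0) :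
    Nat.card ↥(V0 ⊓ Subgroup.centralizer ({g1} : Set S0) ⊓
      Subgroup.centralizer ({g2} : Set S0)) ≤ 8 := by
  obtain ⟨p, q, r, a, b, hco⟩ := exists_coords_S0 g1
  obtain ⟨p', q', r', a', b', hco'⟩ := exists_coords_S0 g2
  have hM : (coS g1).1 = utM p q r := by rw [hco]
  have hM' : (coS g2).1 = utM p' q' r' := by rw [hco']
  have hne := not_mem_V0 g1 hg1 p q r hM
  have hne' := not_mem_V0 g2 hg2 p' q' r' hM'
  have hdiff : ¬(p = p' ∧ q = q' ∧ r = r') := by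
    rintro ⟨rfl, rfl, rfl⟩
    apply hgg
    show g1⁻¹ * g2 ∈ mbar.ker
    rw [MonoidHom.mem_ker, map_mul, map_inv, inv_mul_eq_one]
    apply Subtype.ext
    rw [mbar_val, mbar_val, hM, hM']
  refine (card_le_fix _ (fun x => x ᵥ* utM p q r = x ∧ x ᵥ* utM p' q' r' = x)
    (fun y => utM p q r *ᵥ y = y ∧ utM p' q' r' *ᵥ y = y) ?_).trans
    (F2dec p q r p' q' r' hne hne' hdiff)
  intro w hw
  have hwV := (mem_V0_iff w).1 hw.1.1
  have hc := Subgroup.mem_centralizer_singleton_iff.mp hw.1.2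
  have hc' := Subgroup.mem_centralizer_singleton_iff.mp hw.2
  have h1 := fix_of_comm w g1 hwV hc
  have h2 := fix_of_comm w g2 hwV hc'
  rw [hM] at h1
  rw [hM'] at h2
  exact ⟨hwV, ⟨h1.1, h2.1⟩, ⟨h1.2, h2.2⟩⟩

theorem F3_S0 : Nat.card ↥(V0 ⊓ Subgroup.center S0) ≤ 4 := by
  refine (card_le_fix _ (fun x => x ᵥ* utM 1 0 0 = x ∧ x ᵥ* utM 0 1 0 = x)
    (fun y => utM 1 0 0 *ᵥ y = y ∧ utM 0 1 0 *ᵥ y = y) ?_).trans F3dec
  intro w hw
  have hwV := (mem_V0_iff w).1 hw.1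
  have hc := Subgroup.mem_center_iff.mp hw.2
  have h1 := fix_of_comm w (mkS 1 0 0 0 0) hwV (hc _).symm
  have h2 := fix_of_comm w (mkS 0 1 0 0 0) hwV (hc _).symm
  rw [coS_mkS] at h1 h2
  exact ⟨hwV, ⟨h1.1, h2.1⟩, ⟨h1.2, h2.2⟩⟩

theorem P3_S0 : P3 S0 :=
  P3_of_structure V0 card_S0 V0_elementary card_V0 F1_S0 F2_S0 F3_S0

end Cfsg.Agent.Lib.Helper27.SylM24
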