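import Mathlib
import Cfsg.Agent.Lib.Helper27.SylM24D
import Cfsg.Agent.Lib.Helper27.M24OctC

/-!
# Sylow 2-subgroups of `M24` modulo their centre (helper27)
-/

set_option autoImplicit false
set_option linter.unusedSectionVars false
set_option linter.style.haveILetI false

namespace Cfsg.Agent.Lib.Helper27.SylM24

open Cfsg Cfsg.Agent.Lib.Helper21 Cfsg.Agent.Lib.Helper27.M24Oct Cfsg.Agent.Lib.Helper27.TvCent

/-- an involution whose fixed points form an octad -/
theorem exists_octad_involution : ∃ z : ↥Cfsg.M24, orderOf z = 2 ∧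
    (Finset.univ.filter fun p : Cfsg.GolayPt => (z : Equiv.Perm Cfsg.GolayPt) p = p) ∈
      Cfsg.octads := by
  classical
  have hcard := U1_card oct0 oct0_mem
  haveI : Finite ↥(U1 oct0) := Nat.finite_of_card_ne_zero (by rw [hcard]; norm_num)
  have hnt : Nontrivial ↥(U1 oct0) := by
    rw [← Finite.one_lt_card_iff_nontrivial, hcard]; norm_num
  obtain ⟨u, hu⟩ := exists_ne (1 : ↥(U1 oct0))
  have hinj : Function.Injective (Subgroup.inclusion (inf_le_left : H0 oct0 ≤ M24)) :=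
    Subgroup.inclusion_injective _
  set z : ↥M24 := Subgroup.inclusion (inf_le_left : H0 oct0 ≤ M24) u.1 with hzdef
  have hz1 : z ≠ 1 := by
    intro h
    apply hu
    apply Subtype.ext
    apply hinj
    rw [← hzdef, h, Subgroup.coe_one, map_one]
  have hzsq : z * z = 1 := by
    rw [hzdef, ← map_mul, U1_sq oct0 oct0_mem u.1 u.2, map_one]
  have hfixo : ∀ x ∈ oct0, (z : Equiv.Perm GolayPt) x = x := (mem_U1_iff _ _).1 u.2
  refine ⟨z, orderOf_eq_prime (by rw [pow_two]; exact hzsq) hz1, ?_⟩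
  have : (Finset.univ.filter fun p : GolayPt => (z : Equiv.Perm GolayPt) p = p) = oct0 := by
    ext q
    simp only [Finset.mem_filter, Finset.mem_univ, true_and]
    constructor
    · intro hq
      by_contra hqo
      apply hz1
      apply Subtype.ext
      exact eq_one_of_fix_octad_pt oct0 oct0_mem q hqo _ z.2 hfixo hq
    · intro hq
      exact hfixo q hq
  rw [this]
  exact oct0_mem

/-- a copy of the unitriangular group `T0` inside `M24` -/
theorem exists_T0_in_M24 : ∃ T : Subgroup ↥Cfsg.M24, Nonempty (↥T ≃* ↥T0) := by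
  obtain ⟨z, hz, hfix⟩ := exists_octad_involution
  obtain ⟨e⟩ := (M24Oct.main z hz hfix _ rfl).2
  set C : Subgroup ↥Cfsg.M24 := Subgroup.centralizer ({z} : Set ↥Cfsg.M24) with hC
  set T1 : Subgroup ↥(CC 3) := T0.subgroupOf (CC 3) with hT1
  set T2 : Subgroup ↥C := T1.map e.symm.toMonoidHom with hT2
  refine ⟨T2.map C.subtype, ⟨?_⟩⟩
  have e1 : ↥T2 ≃* ↥(T2.map C.subtype) := T2.equivMapOfInjective C.subtype C.subtype_injective
  have e2 : ↥T1 ≃* ↥T2 := T1.equivMapOfInjective e.symm.toMonoidHom e.symm.injective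
  have e3 : ↥T1 ≃* ↥T0 := Subgroup.subgroupOfEquivOfLe T0_le_CC
  exact e1.symm.trans (e2.symm.trans e3)

theorem fact2_M24 : (Nat.card ↥Cfsg.M24).factorization 2 = 10 := by
  have h : Nat.card ↥Cfsg.M24 = 2 ^ 10 * 239085 := by rw [card_M24]; norm_num
  rw [h, Nat.factorization_mul (by norm_num) (by norm_num), Finsupp.add_apply,
    Nat.Prime.factorization_pow Nat.prime_two,
    Nat.factorization_eq_zero_of_not_dvd (by norm_num)]
  simp

theorem sylow_equiv_T0 (P : Sylow 2 ↥Cfsg.M24) : Nonempty (↥(P : Subgroup ↥Cfsg.M24) ≃* ↥T0) := by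
  classical
  haveI : Fact (Nat.Prime 2) := ⟨Nat.prime_two⟩
  haveI : Finite ↥Cfsg.M24 := Nat.finite_of_card_ne_zero (by rw [card_M24]; norm_num)
  obtain ⟨T, ⟨eT⟩⟩ := exists_T0_in_M24
  have hTc : Nat.card ↥T = 2 ^ 10 := by
    rw [Nat.card_congr eT.toEquiv, card_T0]; norm_num
  have hTp : IsPGroup 2 ↥T := IsPGroup.of_card hTc
  obtain ⟨Q, hQ⟩ := hTp.exists_le_sylow
  have hQc : Nat.card ↥(Q : Subgroup ↥Cfsg.M24) = 2 ^ 10 := by
    rw [Q.card_eq_multiplicity, fact2_M24]
  have hTQ : T = (Q : Subgroup ↥Cfsg.M24) :=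
    Subgroup.eq_of_le_of_card_ge hQ (by rw [hQc, hTc])
  have e1 : ↥(P : Subgroup ↥Cfsg.M24) ≃* ↥(Q : Subgroup ↥Cfsg.M24) := Sylow.equiv P Q
  have e2 : ↥(Q : Subgroup ↥Cfsg.M24) ≃* ↥T := MulEquiv.subgroupCongr hTQ.symm
  exact ⟨e1.trans (e2.trans eT)⟩

/-- Quotients by the centre of isomorphic groups are isomorphic. -/
theorem quot_center_equiv {A B : Type*} [Group A] [Group B] (e : A ≃* B) :
    Nonempty (A ⧸ Subgroup.center A ≃* B ⧸ Subgroup.center B) := by
  refine ⟨QuotientGroup.congr (Subgroup.center A) (Subgroup.center B) e ?_⟩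
  ext b
  constructor
  · rintro ⟨a, ha, rfl⟩
    have ha : a ∈ Subgroup.center A := ha
    rw [Subgroup.mem_center_iff] at ha ⊢
    intro b'
    have := ha (e.symm b')
    have h2 := congrArg e this
    rw [map_mul, map_mul, e.apply_symm_apply] at h2
    exact h2
  · intro hb
    refine ⟨e.symm b, ?_, e.apply_symm_apply b⟩
    show e.symm b ∈ Subgroup.center A
    rw [Subgroup.mem_center_iff] at hb ⊢
    intro a
    apply e.injective
    rw [map_mul, map_mul, e.apply_symm_apply]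
    exact hb (e a)

theorem P3_sylow (P : Sylow 2 ↥Cfsg.M24) :
    P3 (↥(P : Subgroup ↥Cfsg.M24) ⧸ Subgroup.center ↥(P : Subgroup ↥Cfsg.M24)) := by
  obtain ⟨e⟩ := sylow_equiv_T0 P
  obtain ⟨e'⟩ := quot_center_equiv e
  exact P3.of_equiv e'.symm P3_S0

end Cfsg.Agent.Lib.Helper27.SylM24
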