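import Mathlib

set_option autoImplicit false

/-!
The embedding of the symmetric group on `2m + 2` points into `Sp_{2m}(2)`, through the heart of
the permutation module over the field of two elements.
-/

namespace Cfsg.Agent.Lib.Helper27.SymEmbed

open Matrix Sum

variable {m : ℕ}

/-- The point set: `m` pairs and two extra points. -/
abbrev Pt (m : ℕ) : Type := (Fin m ⊕ Fin m) ⊕ Fin 2

/-- The dot product. -/
def B (v w : Pt m → ZMod 2) : ZMod 2 := ∑ p, v p * w p

theorem B_expand (v w : Pt m → ZMod 2) :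
    B v w = ∑ k : Fin m, (v (inl (inl k)) * w (inl (inl k)) + v (inl (inr k)) * w (inl (inr k)))
      + v (inr 0) * w (inr 0) + v (inr 1) * w (inr 1) := by
  unfold B
  rw [Fintype.sum_sum_type, Fintype.sum_sum_type, Fin.sum_univ_two, Finset.sum_add_distrib]
  ring

theorem B_comm (v w : Pt m → ZMod 2) : B v w = B w v := by
  unfold B
  exact Finset.sum_congr rfl (fun p _ => mul_comm _ _)

theorem B_add_left (v v' w : Pt m → ZMod 2) : B (v + v') w = B v w + B v' w := by
  unfold B
  rw [← Finset.sum_add_distrib]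
  exact Finset.sum_congr rfl (fun p _ => by simp only [Pi.add_apply]; ring)

theorem B_add_right (v w w' : Pt m → ZMod 2) : B v (w + w') = B v w + B v w' := by
  rw [B_comm, B_add_left, B_comm w, B_comm w']

theorem B_smul_left (a : ZMod 2) (v w : Pt m → ZMod 2) : B (a • v) w = a * B v w := by
  unfold B
  rw [Finset.mul_sum]
  exact Finset.sum_congr rfl (fun p _ => by simp only [Pi.smul_apply, smul_eq_mul]; ring)

theorem B_smul_right (a : ZMod 2) (v w : Pt m → ZMod 2) : B v (a • w) = a * B v w := by
  rw [B_comm, B_smul_left, B_comm]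

theorem B_sum_left {ι : Type*} (s : Finset ι) (f : ι → (Pt m → ZMod 2)) (w : Pt m → ZMod 2) :
    B (∑ i ∈ s, f i) w = ∑ i ∈ s, B (f i) w := by
  classical
  induction s using Finset.induction_on with
  | empty =>
    simp [B]
  | insert a s ha ih =>
    rw [Finset.sum_insert ha, Finset.sum_insert ha, B_add_left, ih]

theorem B_sum_right {ι : Type*} (s : Finset ι) (f : ι → (Pt m → ZMod 2)) (v : Pt m → ZMod 2) :
    B v (∑ i ∈ s, f i) = ∑ i ∈ s, B v (f i) := by
  rw [B_comm, B_sum_left]
  exact Finset.sum_congr rfl (fun i _ => B_comm _ _)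

/-- The permutation action on vectors. -/
def act (σ : Equiv.Perm (Pt m)) (v : Pt m → ZMod 2) : Pt m → ZMod 2 := fun p => v (σ⁻¹ p)

theorem act_one (v : Pt m → ZMod 2) : act 1 v = v := rfl

theorem act_mul (σ τ : Equiv.Perm (Pt m)) (v : Pt m → ZMod 2) :
    act (σ * τ) v = act σ (act τ v) := by
  funext p
  simp [act, _root_.mul_inv_rev]

theorem act_add (σ : Equiv.Perm (Pt m)) (v w : Pt m → ZMod 2) :
    act σ (v + w) = act σ v + act σ w := rfl

theorem act_smul (σ : Equiv.Perm (Pt m)) (a : ZMod 2) (v : Pt m → ZMod 2) :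
    act σ (a • v) = a • act σ v := rfl

theorem act_sum {ι : Type*} (σ : Equiv.Perm (Pt m)) (s : Finset ι) (f : ι → (Pt m → ZMod 2)) :
    act σ (∑ i ∈ s, f i) = ∑ i ∈ s, act σ (f i) := by
  funext p
  simp [act, Finset.sum_apply]

theorem B_act (σ : Equiv.Perm (Pt m)) (v w : Pt m → ZMod 2) : B (act σ v) (act σ w) = B v w := by
  unfold B act
  exact Equiv.sum_comp σ⁻¹ (fun p => v p * w p)

/-- The all-ones vector. -/
def one1 : Pt m → ZMod 2 := fun _ => 1

theorem act_one1 (σ : Equiv.Perm (Pt m)) : act σ (one1 : Pt m → ZMod 2) = one1 := rfl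

theorem B_one1 (v : Pt m → ZMod 2) : B v one1 = ∑ p, v p := by
  unfold B one1
  simp

theorem sum_act (σ : Equiv.Perm (Pt m)) (v : Pt m → ZMod 2) : ∑ p, act σ v p = ∑ p, v p := by
  unfold act
  exact Equiv.sum_comp σ⁻¹ v

theorem B_one1_one1 : B (one1 : Pt m → ZMod 2) one1 = 0 := by
  rw [B_expand]
  simp only [one1, mul_one, Finset.sum_const, Finset.card_univ, Fintype.card_fin, smul_add]
  have : (1 : ZMod 2) + 1 = 0 := by decide
  rw [← smul_add, this, smul_zero, zero_add, this]

/-! ### The symplectic basis -/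

/-- `a_i`: the `i`-th pair. -/
def bA (i : Fin m) : Pt m → ZMod 2 :=
  Sum.elim (Sum.elim (fun k => if k = i then 1 else 0) (fun k => if k = i then 1 else 0))
    (fun _ => 0)

/-- `b_i`: the second point of the `i`-th pair, all later pairs, and the first extra point. -/
def bB (i : Fin m) : Pt m → ZMod 2 :=
  Sum.elim (Sum.elim (fun k => if i < k then 1 else 0) (fun k => if i ≤ k then 1 else 0))
    (fun j => if j = 0 then 1 else 0)

theorem two_zero : (1 : ZMod 2) + 1 = 0 := by decide

theorem add_self2 (x : ZMod 2) : x + x = 0 := by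
  have : x + x = x * (1 + 1) := by ring
  rw [this, two_zero, mul_zero]

theorem B_bA_bA (i j : Fin m) : B (bA i) (bA j) = 0 := by
  rw [B_expand]
  simp only [bA, Sum.elim_inl, Sum.elim_inr, mul_zero, add_zero, add_self2,
    Finset.sum_const_zero]

theorem B_bA_bB (i j : Fin m) : B (bA i) (bB j) = if i = j then 1 else 0 := by
  rw [B_expand]
  simp only [bA, bB, Sum.elim_inl, Sum.elim_inr, zero_mul, add_zero, ite_mul, one_mul,
    Finset.sum_add_distrib, Finset.sum_ite_eq', Finset.mem_univ, if_true]
  rcases lt_trichotomy i j with h | h | h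
  · rw [if_neg (not_lt.mpr h.le), if_neg (not_le.mpr h), if_neg h.ne, add_zero]
  · subst h
    simp
  · rw [if_pos h, if_pos h.le, if_neg h.ne', two_zero]

theorem B_bB_bA (i j : Fin m) : B (bB i) (bA j) = if i = j then 1 else 0 := by
  rw [B_comm, B_bA_bB]
  simp only [eq_comm]

theorem B_bB_bB (i j : Fin m) : B (bB i) (bB j) = 0 := by
  rw [B_expand]
  simp only [bB, Sum.elim_inl, Sum.elim_inr, if_true, mul_one, one_ne_zero, if_false,
    mul_zero, add_zero]
  have hterm : ∀ k : Fin m, (if i < k then (1 : ZMod 2) else 0) * (if j < k then 1 else 0) +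
      (if i ≤ k then 1 else 0) * (if j ≤ k then 1 else 0) = if k = max i j then 1 else 0 := by
    intro k
    rcases lt_trichotomy k (max i j) with h | h | h
    · rw [if_neg h.ne]
      rcases lt_max_iff.mp h with h' | h'
      · rw [if_neg (not_lt.mpr h'.le), if_neg (not_le.mpr h')]
        simp
      · rw [if_neg (not_lt.mpr h'.le), if_neg (not_le.mpr h')]
        simp
    · rw [if_pos h]
      have h1 : i ≤ k := h ▸ le_max_left i j
      have h2 : j ≤ k := h ▸ le_max_right i j
      rw [if_pos h1, if_pos h2]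
      rcases le_total i j with h' | h'
      · have : k = j := by rw [h, max_eq_right h']
        rw [if_neg (by rw [this]; exact lt_irrefl j : ¬ j < k)]
        simp
      · have : k = i := by rw [h, max_eq_left h']
        rw [if_neg (by rw [this]; exact lt_irrefl i : ¬ i < k)]
        simp
    · rw [if_neg h.ne']
      have h1 : i < k := lt_of_le_of_lt (le_max_left i j) h
      have h2 : j < k := lt_of_le_of_lt (le_max_right i j) h
      rw [if_pos h1, if_pos h2, if_pos h1.le, if_pos h2.le]
      simp [two_zero]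
  simp only [hterm, Finset.sum_ite_eq', Finset.mem_univ, if_true, two_zero]

/-- The basis. -/
def β : Fin m ⊕ Fin m → (Pt m → ZMod 2) := Sum.elim bA bB

/-- The dual basis. -/
def βd : Fin m ⊕ Fin m → (Pt m → ZMod 2) := Sum.elim bB bA

theorem B_β_βd (r s : Fin m ⊕ Fin m) : B (β r) (βd s) = if r = s then 1 else 0 := by
  rcases r with i | i <;> rcases s with j | j
  · simp only [β, βd, Sum.elim_inl, B_bA_bB, Sum.inl.injEq]
  · simp only [β, βd, Sum.elim_inl, Sum.elim_inr, B_bA_bA, reduceCtorEq, if_false]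
  · simp only [β, βd, Sum.elim_inl, Sum.elim_inr, B_bB_bB, reduceCtorEq, if_false]
  · simp only [β, βd, Sum.elim_inr, B_bB_bA, Sum.inr.injEq]

theorem B_β_β (r s : Fin m ⊕ Fin m) : B (β r) (β s) = J (Fin m) (ZMod 2) r s := by
  rcases r with i | i <;> rcases s with j | j
  · simp [β, B_bA_bA, J]
  · have hneg : ∀ x : ZMod 2, -x = x := by decide
    simp only [β, Sum.elim_inl, Sum.elim_inr, B_bA_bB, J, fromBlocks_apply₁₂, Matrix.neg_apply,
      Matrix.one_apply, hneg]
  · simp only [β, Sum.elim_inl, Sum.elim_inr, B_bB_bA, J, fromBlocks_apply₂₁, one_apply]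
  · simp [β, B_bB_bB, J]

theorem B_sub_left (v v' w : Pt m → ZMod 2) : B (v - v') w = B v w - B v' w := by
  unfold B
  rw [← Finset.sum_sub_distrib]
  exact Finset.sum_congr rfl (fun p _ => by simp only [Pi.sub_apply]; ring)

theorem B_sub_right (v w w' : Pt m → ZMod 2) : B v (w - w') = B v w - B v w' := by
  rw [B_comm, B_sub_left, B_comm w, B_comm w']

theorem eq_of_add_eq_zero2 {x y : ZMod 2} (h : x + y = 0) : x = y := by
  have : x = x + (y + y) := by rw [add_self2, add_zero]
  rw [this, ← add_assoc, h, zero_add]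

theorem sum_bA (i : Fin m) : B (bA i) one1 = 0 := by
  rw [B_expand]
  simp only [bA, one1, Sum.elim_inl, Sum.elim_inr, mul_one, add_self2, Finset.sum_const_zero,
    add_zero]

theorem ite_lt_add_ite_le (i k : Fin m) :
    (if i < k then (1 : ZMod 2) else 0) + (if i ≤ k then 1 else 0) = if k = i then 1 else 0 := by
  rcases lt_trichotomy i k with h | h | h
  · rw [if_pos h, if_pos h.le, if_neg h.ne', two_zero]
  · subst h
    simp
  · rw [if_neg (not_lt.mpr h.le), if_neg (not_le.mpr h), if_neg h.ne, add_zero]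

theorem sum_bB (i : Fin m) : B (bB i) one1 = 0 := by
  rw [B_expand]
  simp only [bB, one1, Sum.elim_inl, Sum.elim_inr, mul_one, ite_lt_add_ite_le,
    Finset.sum_ite_eq', Finset.mem_univ, if_true, two_zero, one_ne_zero, if_false, add_zero]

theorem sum_β (s : Fin m ⊕ Fin m) : B (β s) one1 = 0 := by
  rcases s with i | i
  · exact sum_bA i
  · exact sum_bB i

theorem sum_βd (s : Fin m ⊕ Fin m) : B (βd s) one1 = 0 := by
  rcases s with i | i
  · exact sum_bB i
  · exact sum_bA i

theorem β_last (s : Fin m ⊕ Fin m) : β s (inr 1) = 0 := by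
  rcases s with i | i
  · simp [β, bA]
  · simp [β, bB]

/-- The only vector of the complement `U` orthogonal to the dual basis is zero. -/
theorem eq_zero_of_perp (y : Pt m → ZMod 2) (hsum : B y one1 = 0) (hlast : y (inr 1) = 0)
    (hperp : ∀ r, B y (βd r) = 0) : y = 0 := by
  have hA : ∀ i : Fin m, y (inl (inl i)) = y (inl (inr i)) := by
    intro i
    have h := hperp (inr i)
    rw [B_expand] at h
    simp only [βd, bA, Sum.elim_inr, Sum.elim_inl, mul_ite, mul_one, mul_zero,
      Finset.sum_add_distrib, Finset.sum_ite_eq', Finset.mem_univ, if_true, add_zero] at h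
    exact eq_of_add_eq_zero2 h
  have hB : ∀ i : Fin m, y (inl (inr i)) = y (inr 0) := by
    intro i
    have h := hperp (inl i)
    rw [B_expand] at h
    simp only [βd, bB, Sum.elim_inr, Sum.elim_inl, if_true, mul_one, one_ne_zero, if_false,
      mul_zero, add_zero, hA] at h
    have hterm : ∀ k : Fin m, y (inl (inr k)) * (if i < k then (1 : ZMod 2) else 0) +
        y (inl (inr k)) * (if i ≤ k then 1 else 0) = if k = i then y (inl (inr k)) else 0 := by
      intro k
      rw [← mul_add, ite_lt_add_ite_le]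
      split_ifs <;> simp
    simp only [hterm, Finset.sum_ite_eq', Finset.mem_univ, if_true] at h
    exact eq_of_add_eq_zero2 h
  have h0 : y (inr 0) = 0 := by
    have h := hsum
    rw [B_expand] at h
    simp only [one1, mul_one, hA, add_self2, Finset.sum_const_zero, zero_add, hlast,
      add_zero] at h
    exact h
  funext p
  rcases p with (k | k) | j
  · rw [hA, hB, h0]; rfl
  · rw [hB, h0]; rfl
  · fin_cases j
    · exact h0
    · exact hlast

/-- The projection of a vector to the span of the basis. -/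
def proj (v : Pt m → ZMod 2) : Pt m → ZMod 2 := ∑ s, B v (βd s) • β s

theorem B_proj_βd (v : Pt m → ZMod 2) (r : Fin m ⊕ Fin m) : B (proj v) (βd r) = B v (βd r) := by
  unfold proj
  rw [B_sum_left]
  simp only [B_smul_left, B_β_βd, mul_ite, mul_one, mul_zero, Finset.sum_ite_eq',
    Finset.mem_univ, if_true]

theorem B_proj_one1 (v : Pt m → ZMod 2) : B (proj v) one1 = 0 := by
  unfold proj
  rw [B_sum_left]
  simp only [B_smul_left, sum_β, mul_zero, Finset.sum_const_zero]

theorem proj_last (v : Pt m → ZMod 2) : proj v (inr 1) = 0 := by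
  unfold proj
  simp only [Finset.sum_apply, Pi.smul_apply, β_last, smul_zero, Finset.sum_const_zero]

/-- The expansion of a vector of even weight. -/
theorem proj_eq (v : Pt m → ZMod 2) (hv : B v one1 = 0) :
    proj v = v - v (inr 1) • one1 := by
  have h : v - v (inr 1) • one1 - proj v = 0 := by
    apply eq_zero_of_perp
    · rw [B_sub_left, B_sub_left, B_smul_left, hv, B_one1_one1, B_proj_one1]
      simp
    · simp only [Pi.sub_apply, Pi.smul_apply, one1, smul_eq_mul, mul_one, proj_last]
      simp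
    · intro r
      rw [B_sub_left, B_sub_left, B_smul_left, B_proj_βd, B_comm one1, sum_βd]
      simp
  exact (sub_eq_zero.mp h).symm

theorem B_act_one1 (σ : Equiv.Perm (Pt m)) (v : Pt m → ZMod 2) : B (act σ v) one1 = B v one1 := by
  rw [B_one1, B_one1, sum_act]

/-! ### The matrices -/

/-- The matrix of a permutation on the heart of the permutation module. -/
def M (σ : Equiv.Perm (Pt m)) : Matrix (Fin m ⊕ Fin m) (Fin m ⊕ Fin m) (ZMod 2) :=
  fun r c => B (act σ (β c)) (βd r)

theorem M_one : M (1 : Equiv.Perm (Pt m)) = 1 := by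
  ext r c
  unfold M
  rw [act_one, B_β_βd, Matrix.one_apply]
  simp only [eq_comm]

theorem proj_act_β (σ : Equiv.Perm (Pt m)) (c : Fin m ⊕ Fin m) :
    proj (act σ (β c)) = ∑ s, M σ s c • β s := rfl

theorem B_act_proj (σ : Equiv.Perm (Pt m)) (v : Pt m → ZMod 2) (hv : B v one1 = 0)
    (r : Fin m ⊕ Fin m) : B (act σ (proj v)) (βd r) = B (act σ v) (βd r) := by
  rw [proj_eq v hv]
  have : act σ (v - v (inr 1) • one1) = act σ v - v (inr 1) • one1 := rfl
  rw [this, B_sub_left, B_smul_left, B_comm one1, sum_βd]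
  simp

theorem M_mul (σ τ : Equiv.Perm (Pt m)) : M (σ * τ) = M σ * M τ := by
  ext r c
  rw [Matrix.mul_apply]
  have h1 : B (act σ (proj (act τ (β c)))) (βd r) = ∑ s, M σ r s * M τ s c := by
    rw [proj_act_β, act_sum, B_sum_left]
    apply Finset.sum_congr rfl
    intro s _
    rw [act_smul, B_smul_left, mul_comm]
    rfl
  rw [← h1, B_act_proj σ _ (by rw [B_act_one1, sum_β]), ← act_mul]
  rfl

theorem B_proj_proj (v w : Pt m → ZMod 2) (hv : B v one1 = 0) (hw : B w one1 = 0) :
    B (proj v) (proj w) = B v w := by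
  rw [proj_eq v hv, proj_eq w hw, B_sub_left, B_sub_right, B_sub_right, B_smul_left, B_smul_left,
    B_smul_right, B_smul_right, B_one1_one1, hv, B_comm one1, hw]
  simp

theorem M_mem (σ : Equiv.Perm (Pt m)) : M σ ∈ symplecticGroup (Fin m) (ZMod 2) := by
  rw [SymplecticGroup.mem_iff']
  ext c d
  have h1 : B (proj (act σ (β c))) (proj (act σ (β d))) =
      ((M σ)ᵀ * J (Fin m) (ZMod 2) * M σ) c d := by
    rw [proj_act_β, proj_act_β, B_sum_left, Matrix.mul_apply]
    simp only [B_smul_left, B_sum_right, B_smul_right, B_β_β, Matrix.mul_apply,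
      Matrix.transpose_apply, Finset.sum_mul, Finset.mul_sum]
    rw [Finset.sum_comm]
    apply Finset.sum_congr rfl
    intro s _
    apply Finset.sum_congr rfl
    intro r _
    ring
  rw [← h1, B_proj_proj _ _ (by rw [B_act_one1, sum_β]) (by rw [B_act_one1, sum_β]), B_act,
    B_β_β]

/-- The homomorphism from the symmetric group to the symplectic group. -/
def embHom (m : ℕ) : Equiv.Perm (Pt m) →* symplecticGroup (Fin m) (ZMod 2) where
  toFun σ := ⟨M σ, M_mem σ⟩
  map_one' := Subtype.ext M_one
  map_mul' σ τ := Subtype.ext (M_mul σ τ)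

/-! ### Injectivity -/

/-- If `M σ = 1` then `σ` fixes every basis vector modulo the all-ones vector. -/
theorem act_β_of_M_one {σ : Equiv.Perm (Pt m)} (h : M σ = 1) (c : Fin m ⊕ Fin m) :
    ∃ t : ZMod 2, act σ (β c) = β c + t • one1 := by
  have h1 := proj_eq (act σ (β c)) (by rw [B_act_one1, sum_β])
  rw [proj_act_β, h] at h1
  simp only [Matrix.one_apply, ite_smul, one_smul, zero_smul, Finset.sum_ite_eq',
    Finset.mem_univ, if_true] at h1
  exact ⟨act σ (β c) (inr 1), eq_add_of_sub_eq h1.symm⟩

theorem act_of_M_one {σ : Equiv.Perm (Pt m)} (h : M σ = 1) (v : Pt m → ZMod 2)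
    (hv : B v one1 = 0) : ∃ t : ZMod 2, act σ v = v + t • one1 := by
  choose t ht using act_β_of_M_one h
  have h1 := proj_eq v hv
  have h2 : v = proj v + v (inr 1) • one1 := by rw [h1]; abel
  obtain ⟨T, hT⟩ : ∃ T : ZMod 2, T = ∑ s, B v (βd s) * t s := ⟨_, rfl⟩
  refine ⟨T, ?_⟩
  have h3 : act σ (proj v) = proj v + T • one1 := by
    rw [hT]
    unfold proj
    rw [act_sum, Finset.sum_smul, ← Finset.sum_add_distrib]
    apply Finset.sum_congr rfl
    intro s _
    rw [act_smul, ht, smul_add, smul_smul]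
  have h4 : act σ v = act σ (proj v) + v (inr 1) • one1 := by
    conv_lhs => rw [h2]
    rfl
  calc act σ v = act σ (proj v) + v (inr 1) • one1 := h4
    _ = proj v + T • one1 + v (inr 1) • one1 := by rw [h3]
    _ = (proj v + v (inr 1) • one1) + T • one1 := by abel
    _ = v + T • one1 := by rw [← h2]

theorem B_act_of_M_one {σ : Equiv.Perm (Pt m)} (h : M σ = 1) (v w : Pt m → ZMod 2)
    (hv : B v one1 = 0) (hw : B w one1 = 0) : B (act σ v) w = B v w := by
  obtain ⟨t, ht⟩ := act_of_M_one h v hv
  rw [ht, B_add_left, B_smul_left, B_comm one1, hw, mul_zero, add_zero]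

/-- The indicator vector of a point. -/
def ev (p : Pt m) : Pt m → ZMod 2 := fun x => if x = p then 1 else 0

theorem act_ev (σ : Equiv.Perm (Pt m)) (p : Pt m) : act σ (ev p) = ev (σ p) := by
  funext x
  unfold act ev
  congr 1
  rw [eq_iff_iff]
  constructor
  · intro hx
    rw [← hx]
    simp
  · intro hx
    rw [hx]
    simp

theorem B_ev_ev (p p' : Pt m) : B (ev p) (ev p') = if p = p' then 1 else 0 := by
  unfold B ev
  simp only [mul_ite, mul_one, mul_zero, Finset.sum_ite_eq', Finset.mem_univ, if_true]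
  by_cases h : p = p'
  · rw [if_pos h, if_pos h.symm]
  · rw [if_neg h, if_neg (Ne.symm h)]

theorem B_ev_one1 (p : Pt m) : B (ev p) one1 = 1 := by
  rw [B_one1]
  unfold ev
  simp

theorem card_Pt (m : ℕ) : Fintype.card (Pt m) = 2 * m + 2 := by
  simp only [Fintype.card_sum, Fintype.card_fin]
  ring

theorem eq_one_of_M_one (hm : 2 ≤ m) {σ : Equiv.Perm (Pt m)} (h : M σ = 1) : σ = 1 := by
  classical
  ext p
  by_contra hne
  change σ p ≠ p at hne
  have hcard : 6 ≤ (Finset.univ : Finset (Pt m)).card := by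
    rw [Finset.card_univ, card_Pt]; omega
  obtain ⟨p', -, hp'⟩ := Finset.exists_mem_notMem_of_card_lt_card
    (s := ({p, σ p} : Finset (Pt m))) (t := Finset.univ)
    (lt_of_le_of_lt (Finset.card_insert_le _ _) (by simp; omega))
  obtain ⟨q, -, hq⟩ := Finset.exists_mem_notMem_of_card_lt_card
    (s := ({p, p', σ p, σ p'} : Finset (Pt m))) (t := Finset.univ)
    (lt_of_le_of_lt (Finset.card_le_four) (by omega))
  simp only [Finset.mem_insert, Finset.mem_singleton, not_or] at hp' hq
  have hv : B (ev p + ev p') one1 = 0 := by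
    rw [B_add_left, B_ev_one1, B_ev_one1, two_zero]
  have hw : B (ev (σ p) + ev q) one1 = 0 := by
    rw [B_add_left, B_ev_one1, B_ev_one1, two_zero]
  have key := B_act_of_M_one h _ _ hv hw
  rw [act_add, act_ev, act_ev] at key
  simp only [B_add_left, B_add_right, B_ev_ev] at key
  have e1 : σ p' ≠ σ p := fun h' => hp'.1 (σ.injective h')
  have f2 : ¬ σ p = q := Ne.symm hq.2.2.1
  have f3 : ¬ σ p' = q := Ne.symm hq.2.2.2
  have f4 : ¬ p = σ p := Ne.symm hne
  have f5 : ¬ p' = σ p := hp'.2
  have f6 : ¬ p = q := Ne.symm hq.1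
  have f7 : ¬ p' = q := Ne.symm hq.2.1
  simp only [e1, f2, f3, f4, f5, f6, f7, if_true, if_false, add_zero] at key
  exact one_ne_zero key

theorem embHom_injective (hm : 2 ≤ m) : Function.Injective (embHom m) := by
  rw [injective_iff_map_eq_one]
  intro σ hσ
  apply eq_one_of_M_one hm
  exact congrArg Subtype.val hσ

end Cfsg.Agent.Lib.Helper27.SymEmbed
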