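import Mathlib

/-!
Involutions whose centralizer contains at most three involutions (basic toolkit).
-/

namespace Cfsg.Agent.Lib.Helper27.ThreeInv

open Subgroup

variable {G : Type*} [Group G]

theorem sq_one {u : G} (h : orderOf u = 2) : u * u = 1 := by
  have := pow_orderOf_eq_one u
  rw [h, pow_two] at this
  exact this

theorem ne_one {u : G} (h : orderOf u = 2) : u ≠ 1 := by
  rintro rfl
  simp at h

theorem inv_self {u : G} (h : orderOf u = 2) : u⁻¹ = u :=
  inv_eq_of_mul_eq_one_left (sq_one h)

theorem order_two {u : G} (h1 : u ≠ 1) (h2 : u * u = 1) : orderOf u = 2 :=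
  orderOf_eq_prime (by rwa [pow_two]) h1

theorem order_conj (g u : G) : orderOf (g * u * g⁻¹) = orderOf u := by
  have := MulEquiv.orderOf_eq (MulAut.conj g) u
  simpa [MulAut.conj_apply] using this

theorem conj_inj {g u v : G} (h : g * u * g⁻¹ = g * v * g⁻¹) : u = v := by
  have := congrArg (fun t => g⁻¹ * t * g) h
  simpa [mul_assoc] using this

/-- product of two distinct commuting involutions is an involution -/
theorem order_mul {u v : G} (hu : orderOf u = 2) (hv : orderOf v = 2) (hc : u * v = v * u)
    (hne : u ≠ v) : orderOf (u * v) = 2 := by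
  apply order_two
  · intro h
    apply hne
    have : u = v⁻¹ := eq_inv_of_mul_eq_one_left h
    rw [this, inv_self hv]
  · calc u * v * (u * v) = u * (v * u) * v := by group
      _ = u * (u * v) * v := by rw [hc]
      _ = (u * u) * (v * v) := by group
      _ = 1 := by rw [sq_one hu, sq_one hv, one_mul]

/-- `u` is an involution of the centralizer of `x`. -/
def IsInv (x u : G) : Prop := u * x = x * u ∧ orderOf u = 2

theorem isInv_conj {x u c : G} (hc : c * x = x * c) (hu : IsInv x u) : IsInv x (c * u * c⁻¹) := by
  refine ⟨?_, by rw [order_conj]; exact hu.2⟩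
  have hc' : c⁻¹ * x = x * c⁻¹ := by
    have := congrArg (fun t => c⁻¹ * t * c⁻¹) hc
    simpa [mul_assoc] using this.symm
  calc c * u * c⁻¹ * x = c * u * (c⁻¹ * x) := by group
    _ = c * u * (x * c⁻¹) := by rw [hc']
    _ = c * (u * x) * c⁻¹ := by group
    _ = c * (x * u) * c⁻¹ := by rw [hu.1]
    _ = (c * x) * u * c⁻¹ := by group
    _ = (x * c) * u * c⁻¹ := by rw [hc]
    _ = x * (c * u * c⁻¹) := by group

variable [Finite G]

/-- With at most three involutions in `C(x)`, three distinct ones exhaust them. -/
theorem tri {x : G}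
    (h3 : Nat.card {u : ↥(Subgroup.centralizer ({x} : Set G)) // orderOf u = 2} ≤ 3)
    {a b c u : G} (ha : IsInv x a) (hb : IsInv x b) (hc : IsInv x c) (hu : IsInv x u)
    (hab : a ≠ b) (hac : a ≠ c) (hbc : b ≠ c) : u = a ∨ u = b ∨ u = c := by
  by_contra hcon
  have hua : u ≠ a := fun h => hcon (Or.inl h)
  have hub : u ≠ b := fun h => hcon (Or.inr (Or.inl h))
  have huc : u ≠ c := fun h => hcon (Or.inr (Or.inr h))
  let f : Fin 4 → G := ![a, b, c, u]
  have hf : ∀ i, IsInv x (f i) := by
    intro i
    fin_cases i
    · exact ha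
    · exact hb
    · exact hc
    · exact hu
  let F : Fin 4 → {u : ↥(Subgroup.centralizer ({x} : Set G)) // orderOf u = 2} := fun i =>
    ⟨⟨f i, by rw [mem_centralizer_singleton_iff]; exact (hf i).1⟩, by
      rw [← Subgroup.orderOf_coe]; exact (hf i).2⟩
  have hinj : Function.Injective F := by
    intro i j hij
    have h1 : f i = f j := by
      have h0 : (F i).1.1 = (F j).1.1 := by rw [hij]
      exact h0
    fin_cases i <;> fin_cases j <;> simp [f] at h1 ⊢ <;> first | exact absurd h1 hab | exact absurd h1 hac | exact absurd h1 hbc | exact absurd h1.symm hab | exact absurd h1.symm hac | exact absurd h1.symm hbc | exact absurd h1 hua | exact absurd h1 hub | exact absurd h1 huc | exact absurd h1.symm hua | exact absurd h1.symm hub | exact absurd h1.symm huc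
  have := Nat.card_le_card_of_injective F hinj
  rw [Nat.card_fin] at this
  omega

end Cfsg.Agent.Lib.Helper27.ThreeInv
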