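import Mathlib
import Cfsg.Agent.Lib.Helper27.ThreeInvA

/-!
Local configuration when `C(x)` (with at most three involutions) contains no Sylow 2-subgroup.
-/

namespace Cfsg.Agent.Lib.Helper27.ThreeInv

open Subgroup

variable {G : Type*} [Group G]

theorem conj_mul (g u v : G) : g * (u * v) * g⁻¹ = (g * u * g⁻¹) * (g * v * g⁻¹) := by group

theorem conj_eq_iff_comm {g u : G} : g * u * g⁻¹ = u ↔ g * u = u * g := mul_inv_eq_iff_eq_mul

/-- a `2`-element whose cube centralizes `x` centralizes `x` -/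
theorem comm_of_cube {g x : G} {k : ℕ} (hk : orderOf g = 2 ^ k) (h : g ^ 3 * x = x * g ^ 3) :
    g * x = x * g := by
  have hcop : Nat.Coprime 3 (orderOf g) := by
    rw [hk]; exact Nat.Coprime.pow_right k (by decide)
  obtain ⟨m, hm⟩ := exists_pow_eq_self_of_coprime hcop
  have hmem : g ^ 3 ∈ Subgroup.centralizer ({x} : Set G) := by
    rw [mem_centralizer_singleton_iff]; exact h
  have := Subgroup.pow_mem _ hmem m
  rw [hm, mem_centralizer_singleton_iff] at this
  exact this

theorem cyc {g x a b : G} {k : ℕ} (hk : orderOf g = 2 ^ k) (h1 : g * x * g⁻¹ = a)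
    (h2 : g * a * g⁻¹ = b) (h3 : g * b * g⁻¹ = x) : a = x := by
  have h : g ^ 3 * x * (g ^ 3)⁻¹ = x := by
    have e : g ^ 3 = g * g * g := by rw [pow_succ, pow_two]
    have : g ^ 3 * x * (g ^ 3)⁻¹ = g * (g * (g * x * g⁻¹) * g⁻¹) * g⁻¹ := by
      rw [e]; group
    rw [this, h1, h2, h3]
  have := comm_of_cube hk (conj_eq_iff_comm.mp h)
  rw [← h1]; exact conj_eq_iff_comm.mpr this

variable [Finite G]

theorem local_config {x : G} (hx : orderOf x = 2)
    (h3 : Nat.card {u : ↥(Subgroup.centralizer ({x} : Set G)) // orderOf u = 2} ≤ 3)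
    (hno : ∀ S : Sylow 2 G, ¬ (S : Subgroup G) ≤ Subgroup.centralizer ({x} : Set G)) :
    ∃ s : G, IsInv x (s * x * s⁻¹) ∧ s * x * s⁻¹ ≠ x ∧
      s * (x * (s * x * s⁻¹)) * s⁻¹ = x * (s * x * s⁻¹) ∧
      ∀ c : G, c * x = x * c → c * (x * (s * x * s⁻¹)) * c⁻¹ = x * (s * x * s⁻¹) := by
  have : Fact (Nat.Prime 2) := ⟨Nat.prime_two⟩
  have hxC : x ∈ Subgroup.centralizer ({x} : Set G) := by
    rw [mem_centralizer_singleton_iff]
  have hzp : IsPGroup 2 (Subgroup.zpowers (⟨x, hxC⟩ : ↥(Subgroup.centralizer ({x} : Set G)))) := by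
    apply IsPGroup.of_card (n := 1)
    rw [Nat.card_zpowers, ← Subgroup.orderOf_coe]
    simpa using hx
  obtain ⟨SC, hSC⟩ := hzp.exists_le_sylow
  have hxSC : (⟨x, hxC⟩ : ↥(Subgroup.centralizer ({x} : Set G))) ∈ SC :=
    hSC (Subgroup.mem_zpowers _)
  have hS'p : IsPGroup 2 ((SC : Subgroup _).map (Subgroup.centralizer ({x} : Set G)).subtype) :=
    SC.isPGroup'.map _
  obtain ⟨T, hT⟩ := hS'p.exists_le_sylow
  have hS'C : ∀ a ∈ (SC : Subgroup _).map (Subgroup.centralizer ({x} : Set G)).subtype,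
      a * x = x * a := by
    rintro _ ⟨a, _, rfl⟩
    exact mem_centralizer_singleton_iff.mp a.2
  have hxS' : x ∈ (SC : Subgroup _).map (Subgroup.centralizer ({x} : Set G)).subtype :=
    ⟨⟨x, hxC⟩, hxSC, rfl⟩
  -- T ∩ C = S'
  have hTC : ∀ g : G, g ∈ T → g * x = x * g →
      g ∈ (SC : Subgroup _).map (Subgroup.centralizer ({x} : Set G)).subtype := by
    intro g hgT hgC
    have hgC' : g ∈ Subgroup.centralizer ({x} : Set G) := mem_centralizer_singleton_iff.mpr hgC
    have hQ : IsPGroup 2 ((T : Subgroup G).subgroupOf (Subgroup.centralizer ({x} : Set G))) := by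
      rw [← Subgroup.comap_subtype]; exact T.isPGroup'.comap_subtype
    have hle : (SC : Subgroup _) ≤
        (T : Subgroup G).subgroupOf (Subgroup.centralizer ({x} : Set G)) := by
      intro a ha
      rw [Subgroup.mem_subgroupOf]
      exact hT ⟨a, ha, rfl⟩
    have hmax := SC.is_maximal' hQ hle
    have hg : (⟨g, hgC'⟩ : ↥(Subgroup.centralizer ({x} : Set G))) ∈
        (T : Subgroup G).subgroupOf (Subgroup.centralizer ({x} : Set G)) := by
      rw [Subgroup.mem_subgroupOf]; exact hgT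
    rw [hmax] at hg
    exact ⟨⟨g, hgC'⟩, hg, rfl⟩
  -- 2-power orders in T
  have hTpow : ∀ g : G, g ∈ T → ∃ k : ℕ, orderOf g = 2 ^ k := by
    intro g hg
    obtain ⟨k, hk⟩ := (IsPGroup.iff_orderOf.mp T.isPGroup') ⟨g, hg⟩
    exact ⟨k, by rw [← hk, ← Subgroup.orderOf_coe]⟩
  -- normalizer condition
  have hnil : Group.IsNilpotent (T : Subgroup G) := T.isPGroup'.isNilpotent
  have hlt : ((SC : Subgroup _).map (Subgroup.centralizer ({x} : Set G)).subtype).subgroupOf
      (T : Subgroup G) < ⊤ := by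
    rw [lt_top_iff_ne_top]
    intro htop
    apply hno T
    intro g hg
    have : (⟨g, hg⟩ : (T : Subgroup G)) ∈
        ((SC : Subgroup _).map (Subgroup.centralizer ({x} : Set G)).subtype).subgroupOf
          (T : Subgroup G) := by rw [htop]; trivial
    rw [Subgroup.mem_subgroupOf] at this
    exact mem_centralizer_singleton_iff.mpr (hS'C _ this)
  have hnc := Group.normalizerCondition_of_isNilpotent (G := (T : Subgroup G)) _ hlt
  obtain ⟨s', hs'N, hs'S⟩ := SetLike.exists_of_lt hnc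
  rw [Subgroup.mem_normalizer_iff] at hs'N
  have hsT : (s' : G) ∈ T := s'.2
  have hsS : (s' : G) ∉ (SC : Subgroup _).map (Subgroup.centralizer ({x} : Set G)).subtype := by
    intro h; apply hs'S; rw [Subgroup.mem_subgroupOf]; exact h
  have hnorm : ∀ a ∈ (SC : Subgroup _).map (Subgroup.centralizer ({x} : Set G)).subtype,
      (s' : G) * a * (s' : G)⁻¹ ∈
        (SC : Subgroup _).map (Subgroup.centralizer ({x} : Set G)).subtype := by
    intro a ha
    have h1 := (hs'N ⟨a, hT ha⟩).mp (by rw [Subgroup.mem_subgroupOf]; exact ha)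
    rw [Subgroup.mem_subgroupOf] at h1
    simpa using h1
  refine ⟨(s' : G), ?_⟩
  set s : G := (s' : G) with hs
  set S' := (SC : Subgroup _).map (Subgroup.centralizer ({x} : Set G)).subtype with hS'
  have hsC : ¬ (s * x = x * s) := fun h => hsS (hTC s hsT h)
  set x1 := s * x * s⁻¹ with hx1
  have hx1S : x1 ∈ S' := hnorm x hxS'
  have hx1c : x1 * x = x * x1 := hS'C x1 hx1S
  have hx1I : IsInv x x1 := ⟨hx1c, by rw [hx1, order_conj]; exact hx⟩
  have hx1ne : x1 ≠ x := fun h => hsC (conj_eq_iff_comm.mp h)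
  have hxI : IsInv x x := ⟨rfl, hx⟩
  set z := x * x1 with hz
  have hzI : IsInv x z := by
    refine ⟨?_, order_mul hx hx1I.2 hx1c.symm (Ne.symm hx1ne)⟩
    rw [hz, mul_assoc, hx1c]
  have hzx : z ≠ x := by
    intro h
    have : x1 = 1 := by
      have := congrArg (fun t => x⁻¹ * t) h
      simpa [hz] using this
    exact ne_one hx1I.2 this
  have hzx1 : z ≠ x1 := by
    intro h
    have : x = 1 := by
      have := congrArg (fun t => t * x1⁻¹) h
      simpa [hz] using this
    exact ne_one hx this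
  have hzS : z ∈ S' := Subgroup.mul_mem _ hxS' hx1S
  have hx1x1 : x1 * x1 = 1 := sq_one hx1I.2
  have hxx : x * x = 1 := sq_one hx
  have htri : ∀ u, IsInv x u → u = x ∨ u = x1 ∨ u = z := fun u hu =>
    tri h3 hxI hx1I hzI hu (Ne.symm hx1ne) (Ne.symm hzx) (Ne.symm hzx1)
  obtain ⟨ks, hks⟩ := hTpow s hsT
  -- (1') s x1 s⁻¹ = x
  have hsx1 : s * x1 * s⁻¹ = x := by
    have h2S : s * x1 * s⁻¹ ∈ S' := hnorm x1 hx1S
    have h2I : IsInv x (s * x1 * s⁻¹) := ⟨hS'C _ h2S, by rw [order_conj]; exact hx1I.2⟩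
    rcases htri _ h2I with h | h | h
    · exact h
    · exact absurd (conj_inj (h.trans hx1)) hx1ne
    · exfalso
      have h3' : s * z * s⁻¹ = x := by
        rw [hz, conj_mul, ← hx1, h, hz]
        calc x1 * (x * x1) = (x1 * x) * x1 := by group
          _ = (x * x1) * x1 := by rw [hx1c]
          _ = x * (x1 * x1) := by group
          _ = x := by rw [hx1x1, mul_one]
      exact hx1ne (cyc hks hx1.symm h h3')
  have hsz : s * z * s⁻¹ = z := by
    rw [hz, conj_mul, ← hx1, hsx1, hx1c]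
  refine ⟨hx1I, hx1ne, hsz, ?_⟩
  -- (2') elements of S' fix z
  have hS'z : ∀ a ∈ S', a * z * a⁻¹ = z := by
    intro a ha
    have hac : a * x = x * a := hS'C a ha
    have hax : a * x * a⁻¹ = x := conj_eq_iff_comm.mpr hac
    have hyI : IsInv x (a * x1 * a⁻¹) := isInv_conj hac hx1I
    rcases htri _ hyI with h | h | h
    · exact absurd (conj_inj (h.trans hax.symm)) hx1ne
    · rw [hz, conj_mul, hax, h]
    · exfalso
      have haz : a * z * a⁻¹ = x1 := by
        rw [hz, conj_mul, hax, h, hz]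
        calc x * (x * x1) = (x * x) * x1 := by group
          _ = x1 := by rw [hxx, one_mul]
      have hgT : s * a ∈ T := Subgroup.mul_mem _ hsT (hT ha)
      obtain ⟨kg, hkg⟩ := hTpow _ hgT
      have e1 : (s * a) * x * (s * a)⁻¹ = x1 := by
        have : (s * a) * x * (s * a)⁻¹ = s * (a * x * a⁻¹) * s⁻¹ := by group
        rw [this, hax]
      have e2 : (s * a) * x1 * (s * a)⁻¹ = z := by
        have : (s * a) * x1 * (s * a)⁻¹ = s * (a * x1 * a⁻¹) * s⁻¹ := by group
        rw [this, h, hsz]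
      have e3 : (s * a) * z * (s * a)⁻¹ = x := by
        have : (s * a) * z * (s * a)⁻¹ = s * (a * z * a⁻¹) * s⁻¹ := by group
        rw [this, haz, hsx1]
      exact hx1ne (cyc hkg e1 e2 e3)
  -- (2) all of C(x) fixes z
  have key : ∀ b : G, b * x = x * b →
      (b * z * b⁻¹ = z ∧ b * x1 * b⁻¹ = x1) ∨ (b * z * b⁻¹ = x1 ∧ b * x1 * b⁻¹ = z) := by
    intro b hb
    have hbx : b * x * b⁻¹ = x := conj_eq_iff_comm.mpr hb
    have h1 : b * z * b⁻¹ = x1 ∨ b * z * b⁻¹ = z := by
      rcases htri _ (isInv_conj hb hzI) with h | h | h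
      · exact absurd (conj_inj (h.trans hbx.symm)) hzx
      · exact Or.inl h
      · exact Or.inr h
    have h2 : b * x1 * b⁻¹ = x1 ∨ b * x1 * b⁻¹ = z := by
      rcases htri _ (isInv_conj hb hx1I) with h | h | h
      · exact absurd (conj_inj (h.trans hbx.symm)) hx1ne
      · exact Or.inl h
      · exact Or.inr h
    rcases h1 with h1 | h1 <;> rcases h2 with h2 | h2
    · exact absurd (conj_inj (h1.trans h2.symm)) hzx1
    · exact Or.inr ⟨h1, h2⟩
    · exact Or.inl ⟨h1, h2⟩
    · exact absurd (conj_inj (h1.trans h2.symm)) hzx1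
  intro c hc
  by_contra hcz
  have hc2 : c * z * c⁻¹ = x1 ∧ c * x1 * c⁻¹ = z := by
    rcases key c hc with h | h
    · exact absurd h.1 hcz
    · exact h
  have hcC : c ∈ Subgroup.centralizer ({x} : Set G) := mem_centralizer_singleton_iff.mpr hc
  have hidx : ((Subgroup.centralizer ({z} : Set G)).subgroupOf
      (Subgroup.centralizer ({x} : Set G))).index = 2 := by
    rw [Subgroup.index_eq_two_iff]
    refine ⟨⟨c, hcC⟩, ?_⟩
    intro b
    have hb : (b : G) * x = x * (b : G) := mem_centralizer_singleton_iff.mp b.2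
    have hmem1 : b ∈ (Subgroup.centralizer ({z} : Set G)).subgroupOf
        (Subgroup.centralizer ({x} : Set G)) ↔ (b : G) * z * (b : G)⁻¹ = z := by
      rw [Subgroup.mem_subgroupOf, mem_centralizer_singleton_iff, conj_eq_iff_comm]
    have hmem2 : b * ⟨c, hcC⟩ ∈ (Subgroup.centralizer ({z} : Set G)).subgroupOf
        (Subgroup.centralizer ({x} : Set G)) ↔ (b : G) * x1 * (b : G)⁻¹ = z := by
      rw [Subgroup.mem_subgroupOf, mem_centralizer_singleton_iff, ← conj_eq_iff_comm]
      have : ((b * ⟨c, hcC⟩ : ↥(Subgroup.centralizer ({x} : Set G))) : G) * z *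
          ((b * ⟨c, hcC⟩ : ↥(Subgroup.centralizer ({x} : Set G))) : G)⁻¹ =
          (b : G) * (c * z * c⁻¹) * (b : G)⁻¹ := by
        simp only [Subgroup.coe_mul]; group
      rw [this, hc2.1]
    rw [hmem1, hmem2]
    rcases key b hb with h | h
    · right
      exact ⟨h.1, fun h' => hzx1 (h'.symm.trans h.2)⟩
    · left
      exact ⟨h.2, fun h' => hzx1 (h'.symm.trans h.1)⟩
  have hle : (SC : Subgroup _) ≤ (Subgroup.centralizer ({z} : Set G)).subgroupOf
      (Subgroup.centralizer ({x} : Set G)) := by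
    intro a ha
    rw [Subgroup.mem_subgroupOf, mem_centralizer_singleton_iff, ← conj_eq_iff_comm]
    exact hS'z _ ⟨a, ha, rfl⟩
  have hdvd := Subgroup.index_dvd_of_le hle
  rw [hidx] at hdvd
  exact SC.not_dvd_index hdvd

end Cfsg.Agent.Lib.Helper27.ThreeInv
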