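import Mathlib
import Cfsg.Agent.Lib.Helper27.ThreeInvB

/-!
Dihedral lemmas and the main theorems for involutions with at most three involutions in the
centralizer, in a simple group.
-/

namespace Cfsg.Agent.Lib.Helper27.ThreeInv

open Subgroup
open scoped Pointwise

variable {G : Type*} [Group G]

/-- Two involutions with product of odd order are conjugate. -/
theorem conj_of_odd {s σ : G} (hs : s * s = 1) (hσ : σ * σ = 1)
    (hodd : Odd (orderOf (s * σ))) : ∃ w : G, w * σ * w⁻¹ = s := by
  obtain ⟨m, hm⟩ := hodd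
  set r := s * σ with hr
  have hrinv : σ * r * σ = r⁻¹ := by
    rw [hr, eq_inv_iff_mul_eq_one]
    calc σ * (s * σ) * σ * (s * σ) = σ * s * (σ * σ) * s * σ := by group
      _ = σ * (s * s) * σ := by rw [hσ]; group
      _ = 1 := by rw [hs, mul_one, hσ]
  have hσinv : σ⁻¹ = σ := inv_eq_of_mul_eq_one_left hσ
  have hpow : ∀ j : ℕ, σ * r ^ j * σ = (r ^ j)⁻¹ := by
    intro j
    have : σ * r ^ j * σ = (σ * r * σ) ^ j := by
      have := map_pow (MulAut.conj σ) r j
      simp only [MulAut.conj_apply, hσinv] at this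
      exact this
    rw [this, hrinv, inv_pow]
  have hord : r ^ (2 * m + 1) = 1 := by rw [← hm]; exact pow_orderOf_eq_one r
  have hww : r ^ (m + 1) * σ * (r ^ (m + 1) * σ) = 1 := by
    calc r ^ (m + 1) * σ * (r ^ (m + 1) * σ) = r ^ (m + 1) * (σ * r ^ (m + 1) * σ) := by group
      _ = 1 := by rw [hpow, mul_inv_cancel]
  refine ⟨r ^ (m + 1) * σ, ?_⟩
  rw [inv_eq_of_mul_eq_one_left hww]
  calc r ^ (m + 1) * σ * σ * (r ^ (m + 1) * σ)
      = r ^ (m + 1) * (σ * σ) * r ^ (m + 1) * σ := by group
    _ = r ^ (2 * m + 1) * r * σ := by rw [hσ, mul_one, ← pow_add, ← pow_succ]; congr 2; ring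
    _ = s := by rw [hord, one_mul, hr, mul_assoc, hσ, mul_one]

/-- Two involutions with product of even order commute with a common involution in the
cyclic group generated by their product. -/
theorem central_of_even [Finite G] {s u : G} (hs2 : s * s = 1) (hu2 : u * u = 1)
    (heven : Even (orderOf (s * u))) :
    ∃ z : G, orderOf z = 2 ∧ z * s = s * z ∧ z * u = u * z := by
  obtain ⟨m, hm⟩ := heven
  set r := s * u with hr
  have hpos : 0 < orderOf r := orderOf_pos r
  have hm0 : 0 < m := by omega
  have hsinv : s⁻¹ = s := inv_eq_of_mul_eq_one_left hs2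
  have huinv : u⁻¹ = u := inv_eq_of_mul_eq_one_left hu2
  have hrinv : r⁻¹ = u * s := by rw [hr, mul_inv_rev, hsinv, huinv]
  set z := r ^ m with hz
  have hz1 : z ≠ 1 := by
    intro h
    have := orderOf_dvd_of_pow_eq_one h
    have := Nat.le_of_dvd hm0 this
    omega
  have hz2 : z * z = 1 := by
    rw [hz, ← pow_add, ← hm]; exact pow_orderOf_eq_one r
  have hzinv : z⁻¹ = z := inv_eq_of_mul_eq_one_left hz2
  have hsz : s * z * s = z := by
    have h1 : s * z * s = (s * r * s) ^ m := by
      have := map_pow (MulAut.conj s) r m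
      simp only [MulAut.conj_apply, hsinv] at this
      exact this
    have h2 : s * r * s = r⁻¹ := by
      rw [hrinv, hr]
      calc s * (s * u) * s = (s * s) * u * s := by group
        _ = u * s := by rw [hs2, one_mul]
    rw [h1, h2, inv_pow, ← hz, hzinv]
  have huz : u * z * u = z := by
    have h1 : u * z * u = (u * r * u) ^ m := by
      have := map_pow (MulAut.conj u) r m
      simp only [MulAut.conj_apply, huinv] at this
      exact this
    have h2 : u * r * u = r⁻¹ := by
      rw [hrinv, hr]
      calc u * (s * u) * u = u * s * (u * u) := by group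
        _ = u * s := by rw [hu2, mul_one]
    rw [h1, h2, inv_pow, ← hz, hzinv]
  refine ⟨z, order_two hz1 hz2, ?_, ?_⟩
  · calc z * s = (s * s) * z * s := by rw [hs2, one_mul]
      _ = s * (s * z * s) := by group
      _ = s * z := by rw [hsz]
  · calc z * u = (u * u) * z * u := by rw [hu2, one_mul]
      _ = u * (u * z * u) := by group
      _ = u * z := by rw [huz]

/-- Part 1: in a simple group, `C(x)` contains a Sylow 2-subgroup. -/
theorem exists_sylow_le [Finite G] [IsSimpleGroup G] {x : G} (hx : orderOf x = 2)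
    (h3 : Nat.card {u : ↥(Subgroup.centralizer ({x} : Set G)) // orderOf u = 2} ≤ 3) :
    ∃ S : Sylow 2 G, (S : Subgroup G) ≤ Subgroup.centralizer ({x} : Set G) := by
  by_contra hcon
  have hno : ∀ S : Sylow 2 G, ¬ (S : Subgroup G) ≤ Subgroup.centralizer ({x} : Set G) :=
    fun S hS => hcon ⟨S, hS⟩
  obtain ⟨s, hx1I, hx1ne, hsz, hC⟩ := local_config hx h3 hno
  set x1 := s * x * s⁻¹ with hx1
  set z := x * x1 with hz
  have hx1c : x1 * x = x * x1 := hx1I.1
  have hxx : x * x = 1 := sq_one hx
  have hx1x1 : x1 * x1 = 1 := sq_one hx1I.2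
  have hxI : IsInv x x := ⟨rfl, hx⟩
  have hzI : IsInv x z := by
    refine ⟨?_, order_mul hx hx1I.2 hx1c.symm (Ne.symm hx1ne)⟩
    rw [hz, mul_assoc, hx1c]
  have hzx : z ≠ x := by
    intro h
    have : x1 = 1 := by
      have := congrArg (fun t => x⁻¹ * t) h
      simpa [hz] using this
    exact ne_one hx1I.2 this
  have hzx1 : z ≠ x1 := by
    intro h
    have : x = 1 := by
      have := congrArg (fun t => t * x1⁻¹) h
      simpa [hz] using this
    exact ne_one hx this
  have htri : ∀ u, IsInv x u → u = x ∨ u = x1 ∨ u = z := fun u hu =>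
    tri h3 hxI hx1I hzI hu (Ne.symm hx1ne) (Ne.symm hzx) (Ne.symm hzx1)
  have hzz : z * z = 1 := sq_one hzI.2
  -- s x1 s⁻¹ = x
  have hx1z : x1 = x * z := by
    rw [hz, ← mul_assoc, hxx, one_mul]
  have hsx1 : s * x1 * s⁻¹ = x := by
    have : s * x1 * s⁻¹ = (s * x * s⁻¹) * (s * z * s⁻¹) := by
      conv_lhs => rw [hx1z]
      group
    rw [this, hsz, ← hx1, hz, ← mul_assoc, hx1c, mul_assoc, hx1x1, mul_one]
  -- every element of C(x) fixes x, x1, z
  have hCfix : ∀ c u : G, c * x = x * c → IsInv x u → c * u * c⁻¹ = u := by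
    intro c u hc hu
    have hcx : c * x * c⁻¹ = x := conj_eq_iff_comm.mpr hc
    have hcz : c * z * c⁻¹ = z := hC c hc
    have hcx1 : c * x1 * c⁻¹ = x1 := by
      rw [hx1z, conj_mul, hcx, hcz]
    rcases htri u hu with h | h | h <;> rw [h]
    · exact hcx
    · exact hcx1
    · exact hcz
  -- (iii) x is not conjugate to z
  have hnc : ∀ g : G, g * x * g⁻¹ ≠ z := by
    intro g hg
    set c := g⁻¹ * s * g with hc
    have hcx : c * x * c⁻¹ = x := by
      have : c * x * c⁻¹ = g⁻¹ * (s * (g * x * g⁻¹) * s⁻¹) * g := by rw [hc]; group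
      rw [this, hg, hsz, ← hg]; group
    have hcc : c * x = x * c := conj_eq_iff_comm.mp hcx
    set u := g⁻¹ * x * g with hu
    have huI : IsInv x u := by
      refine ⟨?_, ?_⟩
      · -- x commutes with z = g x g⁻¹
        have h1 : z * x = x * z := hzI.1
        rw [← hg] at h1
        have h2 : g⁻¹ * (g * x * g⁻¹ * x) * g = g⁻¹ * (x * (g * x * g⁻¹)) * g := by rw [h1]
        have e1 : g⁻¹ * (g * x * g⁻¹ * x) * g = x * (g⁻¹ * x * g) := by group
        have e2 : g⁻¹ * (x * (g * x * g⁻¹)) * g = (g⁻¹ * x * g) * x := by group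
        rw [e1, e2] at h2
        exact h2.symm
      · have := order_conj g⁻¹ x
        rw [inv_inv] at this
        rw [hu, this]; exact hx
    have h1 := hCfix c u hcc huI
    have h2 : c * u * c⁻¹ = g⁻¹ * (s * x * s⁻¹) * g := by rw [hc, hu]; group
    rw [h2, ← hx1, hu] at h1
    have h3' : x1 = x := by
      have := congrArg (fun t => g * t * g⁻¹) h1
      simpa [mul_assoc] using this
    exact hx1ne h3'
  -- helper: a conjugate of z is not a conjugate of x
  have hnc2 : ∀ h g : G, h * z * h⁻¹ ≠ g * x * g⁻¹ := by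
    intro h g he
    apply hnc (h⁻¹ * g)
    have : (h⁻¹ * g) * x * (h⁻¹ * g)⁻¹ = h⁻¹ * (g * x * g⁻¹) * h := by group
    rw [this, ← he]; group
  -- (iv) z commutes with all its conjugates
  have hcomm : ∀ h : G, (h * z * h⁻¹) * z = z * (h * z * h⁻¹) := by
    intro h
    set z1 := h * z * h⁻¹ with hz1
    have hz1o : orderOf z1 = 2 := by rw [hz1, order_conj]; exact hzI.2
    have hz1z1 : z1 * z1 = 1 := sq_one hz1o
    rcases Nat.even_or_odd (orderOf (z1 * x)) with hev | hodd
    · obtain ⟨w, hwo, hwz1, hwx⟩ := central_of_even hz1z1 hxx hev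
      have hwI : IsInv x w := ⟨hwx, hwo⟩
      rcases htri w hwI with hw | hw | hw
      · -- w = x : z1 commutes with x
        rw [hw] at hwz1
        have hz1I : IsInv x z1 := ⟨hwz1.symm, hz1o⟩
        rcases htri z1 hz1I with e | e | e
        · exact absurd (e.trans (by group : x = 1 * x * 1⁻¹)) (hnc2 h 1)
        · exact absurd e (hnc2 h s)
        · rw [e]
      · -- w = x1
        rw [hw] at hwz1
        set z2 := s⁻¹ * z1 * s with hz2
        have hz2o : orderOf z2 = 2 := by
          have := order_conj s⁻¹ z1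
          rw [inv_inv] at this
          rw [hz2, this]; exact hz1o
        have hz2c : z2 * x = x * z2 := by
          have hxs : x = s⁻¹ * x1 * s := by rw [hx1]; group
          have e1 : z2 * x = s⁻¹ * (z1 * x1) * s := by
            rw [hz2]; conv_lhs => rw [hxs]
            group
          have e2 : x * z2 = s⁻¹ * (x1 * z1) * s := by
            rw [hz2]; conv_lhs => rw [hxs]
            group
          rw [e1, e2, hwz1]
        have hz1s : z1 = s * z2 * s⁻¹ := by rw [hz2]; group
        rcases htri z2 ⟨hz2c, hz2o⟩ with e | e | e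
        · exfalso
          rw [e] at hz1s
          exact hnc2 h s hz1s
        · exfalso
          rw [e, hsx1] at hz1s
          exact hnc2 h 1 (hz1s.trans (by group))
        · rw [e, hsz] at hz1s
          rw [hz1s]
      · rw [hw] at hwz1
        exact hwz1.symm
    · exfalso
      obtain ⟨w, hw⟩ := conj_of_odd hz1z1 hxx hodd
      -- w x w⁻¹ = z1 = h z h⁻¹
      exact hnc2 h w hw.symm
  -- (v) normal closure of z is central
  have hz1 : z ≠ 1 := ne_one hzI.2
  have hle : Subgroup.normalClosure ({z} : Set G) ≤ Subgroup.centralizer ({z} : Set G) := by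
    rw [Subgroup.normalClosure, Subgroup.closure_le]
    intro a ha
    rw [Group.mem_conjugatesOfSet_iff] at ha
    obtain ⟨b, hb, hba⟩ := ha
    rw [Set.mem_singleton_iff] at hb
    rw [hb, isConj_iff] at hba
    obtain ⟨c, hc⟩ := hba
    rw [SetLike.mem_coe, mem_centralizer_singleton_iff, ← hc]
    exact hcomm c
  have htop : Subgroup.normalClosure ({z} : Set G) = ⊤ := by
    rcases (Subgroup.normalClosure_normal (s := ({z} : Set G))).eq_bot_or_eq_top with h | h
    · exfalso
      have : z ∈ Subgroup.normalClosure ({z} : Set G) :=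
        Subgroup.subset_normalClosure (Set.mem_singleton z)
      rw [h, Subgroup.mem_bot] at this
      exact hz1 this
    · exact h
  have hzcent : ∀ g : G, g * z = z * g := by
    intro g
    have : g ∈ Subgroup.centralizer ({z} : Set G) := hle (by rw [htop]; trivial)
    exact mem_centralizer_singleton_iff.mp this
  have hzc : z ∈ Subgroup.center G := by
    rw [Subgroup.mem_center_iff]
    intro g; exact hzcent g
  have hctop : Subgroup.center G = ⊤ := by
    rcases (inferInstance : (Subgroup.center G).Normal).eq_bot_or_eq_top with h | h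
    · exfalso
      rw [h, Subgroup.mem_bot] at hzc
      exact hz1 hzc
    · exact h
  have hsc : s ∈ Subgroup.center G := by rw [hctop]; trivial
  rw [Subgroup.mem_center_iff] at hsc
  apply hx1ne
  rw [hx1, ← hsc x]; group

end Cfsg.Agent.Lib.Helper27.ThreeInv
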