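import Mathlib
import Cfsg.Agent.Lib.Helper27.ThreeInvC

/-!
Part 2: all involutions conjugate (uses the Z*-theorem as a hypothesis).
-/

namespace Cfsg.Agent.Lib.Helper27.ThreeInv

open Subgroup
open scoped Pointwise

variable {G : Type*} [Group G] [Finite G]

/-- The shape of the statement of Glauberman's Z*-theorem. -/
def ZStarHyp (G : Type*) [Group G] : Prop :=
  ∀ (P : Sylow 2 G) (u : G), orderOf u = 2 → u ∈ P →
    (∀ g : G, g * u * g⁻¹ ∈ P → g * u * g⁻¹ = u) →
    ∃ N : Subgroup G, N.Normal ∧ Odd (Nat.card N) ∧ ∀ g : G, (u * g * u⁻¹ * g⁻¹) ∈ N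

/-- Every involution is conjugate into a given Sylow 2-subgroup. -/
theorem conj_mem_sylow (S : Sylow 2 G) {u : G} (hu : orderOf u = 2) :
    ∃ g : G, g * u * g⁻¹ ∈ S := by
  classical
  have : Fact (Nat.Prime 2) := ⟨Nat.prime_two⟩
  have hpg : IsPGroup 2 (Subgroup.zpowers u) := by
    apply IsPGroup.of_card (n := 1)
    rw [Nat.card_zpowers, hu, pow_one]
  obtain ⟨P', hP'⟩ := hpg.exists_le_sylow
  obtain ⟨g, hg⟩ := MulAction.exists_smul_eq G P' S
  refine ⟨g, ?_⟩
  have hmem : g * u * g⁻¹ ∈ ((g • P' : Sylow 2 G) : Subgroup G) := by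
    rw [Sylow.coe_subgroup_smul]
    have h1 : u ∈ (P' : Subgroup G) := hP' (Subgroup.mem_zpowers u)
    have h2 := Subgroup.smul_mem_pointwise_smul u (MulAut.conj g) (P' : Subgroup G) h1
    simpa [MulAut.smul_def] using h2
  rw [hg] at hmem
  exact hmem

omit [Finite G] in
theorem comm_of_center_top (h : Subgroup.center G = ⊤) : ∀ a b : G, a * b = b * a := by
  intro a b
  have : b ∈ Subgroup.center G := by rw [h]; trivial
  rw [Subgroup.mem_center_iff] at this
  exact this a

omit [Finite G] in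
theorem comm_or_moved [IsSimpleGroup G] (hZ : ZStarHyp G) (S : Sylow 2 G) {u : G}
    (hu : orderOf u = 2) (huS : u ∈ S) :
    (∀ a b : G, a * b = b * a) ∨ ∃ g : G, g * u * g⁻¹ ∈ S ∧ g * u * g⁻¹ ≠ u := by
  by_cases h : ∃ g : G, g * u * g⁻¹ ∈ S ∧ g * u * g⁻¹ ≠ u
  · exact Or.inr h
  · left
    have h' : ∀ g : G, g * u * g⁻¹ ∈ S → g * u * g⁻¹ = u := by
      intro g hg
      by_contra hne
      exact h ⟨g, hg, hne⟩
    obtain ⟨N, hN, hodd, hcomm⟩ := hZ S u hu huS h'
    rcases hN.eq_bot_or_eq_top with hb | ht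
    · -- u is central
      have huc : u ∈ Subgroup.center G := by
        rw [Subgroup.mem_center_iff]
        intro g
        have := hcomm g
        rw [hb, Subgroup.mem_bot] at this
        have h2 : u * g = g * u := by
          have := congrArg (fun t => t * g * u) this
          simpa [mul_assoc] using this
        exact h2.symm
      have hctop : Subgroup.center G = ⊤ := by
        rcases (inferInstance : (Subgroup.center G).Normal).eq_bot_or_eq_top with h0 | h0
        · exfalso
          rw [h0, Subgroup.mem_bot] at huc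
          exact ne_one hu huc
        · exact h0
      exact comm_of_center_top hctop
    · exfalso
      rw [ht, Subgroup.card_top] at hodd
      have hdvd : 2 ∣ Nat.card G := by
        rw [← hu]; exact orderOf_dvd_natCard u
      obtain ⟨k, hk⟩ := hodd
      omega

omit [Finite G] in
theorem eq_of_comm [IsSimpleGroup G] (hc : ∀ a b : G, a * b = b * a) {u v : G}
    (hu : orderOf u = 2) (hv : orderOf v = 2) : u = v := by
  have hnorm : (Subgroup.zpowers u).Normal := by
    refine ⟨fun n hn g => ?_⟩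
    have : g * n * g⁻¹ = n := by rw [hc g n, mul_assoc, mul_inv_cancel, mul_one]
    rw [this]; exact hn
  have htop : Subgroup.zpowers u = ⊤ := by
    rcases hnorm.eq_bot_or_eq_top with h | h
    · exfalso
      have : u ∈ Subgroup.zpowers u := Subgroup.mem_zpowers u
      rw [h, Subgroup.mem_bot] at this
      exact ne_one hu this
    · exact h
  have hcard : Nat.card G = 2 := by
    rw [← Subgroup.card_top (G := G), ← htop, Nat.card_zpowers, hu]
  obtain ⟨y, -, hy⟩ := (Nat.card_eq_two_iff' (1 : G)).mp hcard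
  rw [hy u (ne_one hu), hy v (ne_one hv)]

/-- Part 2. -/
theorem all_conj [IsSimpleGroup G] (hZ : ZStarHyp G) {x : G} (hx : orderOf x = 2)
    (h3 : Nat.card {u : ↥(Subgroup.centralizer ({x} : Set G)) // orderOf u = 2} ≤ 3) :
    ∀ u v : G, orderOf u = 2 → orderOf v = 2 → IsConj u v := by
  obtain ⟨S, hS⟩ := exists_sylow_le hx h3
  intro u v hu hv
  by_cases hcomm : ∀ a b : G, a * b = b * a
  · rw [eq_of_comm hcomm hu hv]
  -- reduce to involutions inside S
  have key : ∀ u' v' : G, orderOf u' = 2 → orderOf v' = 2 → u' ∈ S → v' ∈ S → IsConj u' v' := by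
    intro u' v' hu' hv' huS hvS
    have hinv : ∀ w : G, orderOf w = 2 → w ∈ S → IsInv x w := fun w hw hwS =>
      ⟨mem_centralizer_singleton_iff.mp (hS hwS), hw⟩
    by_cases huv : u' = v'
    · rw [huv]
    rcases comm_or_moved hZ S hu' huS with hc | ⟨g, hgS, hgne⟩
    · exact absurd hc hcomm
    have hu''o : orderOf (g * u' * g⁻¹) = 2 := by rw [order_conj]; exact hu'
    have h1 : IsConj u' (g * u' * g⁻¹) := isConj_iff.mpr ⟨g, rfl⟩
    by_cases huv' : g * u' * g⁻¹ = v'
    · rw [← huv']; exact h1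
    rcases comm_or_moved hZ S hv' hvS with hc | ⟨k, hkS, hkne⟩
    · exact absurd hc hcomm
    have hv''o : orderOf (k * v' * k⁻¹) = 2 := by rw [order_conj]; exact hv'
    have h2 : IsConj v' (k * v' * k⁻¹) := isConj_iff.mpr ⟨k, rfl⟩
    rcases tri h3 (hinv _ hu' huS) (hinv _ hv' hvS) (hinv _ hu''o hgS) (hinv _ hv''o hkS)
      huv (Ne.symm hgne) (Ne.symm huv') with e | e | e
    · rw [e] at h2; exact h2.symm
    · exact absurd e hkne
    · rw [e] at h2; exact h1.trans h2.symm
  obtain ⟨gu, hgu⟩ := conj_mem_sylow S hu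
  obtain ⟨gv, hgv⟩ := conj_mem_sylow S hv
  have e1 : IsConj u (gu * u * gu⁻¹) := isConj_iff.mpr ⟨gu, rfl⟩
  have e2 : IsConj v (gv * v * gv⁻¹) := isConj_iff.mpr ⟨gv, rfl⟩
  have e3 := key _ _ (by rw [order_conj]; exact hu) (by rw [order_conj]; exact hv) hgu hgv
  exact e1.trans (e3.trans e2.symm)

end Cfsg.Agent.Lib.Helper27.ThreeInv
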