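import Mathlib
import Cfsg.Agent.Lib.Helper27.UIso
import Cfsg.Agent.S5653

set_option autoImplicit false

/-!
Unitary involutions in characteristic two: normal form `y ↦ y + Σ h(y, e_i) e_i` for a
totally isotropic frame `(e_i)` with a dual system, and conjugacy in `SU_n` of involutions of the
same rank.
-/

namespace Cfsg.Agent.Lib.Helper27.Unitary

open Cfsg Matrix Cfsg.Agent.Lib.Helper27.GLStab Cfsg.Agent.S5653

variable {F : Type*} [Field F] [Fintype F] {q n : ℕ}

/-- Self-adjoint linear maps for the Hermitian form. -/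
def SelfAdj (q : ℕ) (N : (Fin n → F) →ₗ[F] (Fin n → F)) : Prop :=
  ∀ x y, hermForm n F q (N x) y = hermForm n F q x (N y)

/-- Orthonormal systems for the form `h(N x, y)`. -/
def IsSys (q : ℕ) (N : (Fin n → F) →ₗ[F] (Fin n → F)) {k : ℕ} (x : Fin k → (Fin n → F)) :
    Prop :=
  ∀ i j, hermForm n F q (N (x i)) (x j) = if i = j then 1 else 0

theorem polar (hF : Fintype.card F = q ^ 2) {N : (Fin n → F) →ₗ[F] (Fin n → F)}
    (hN : SelfAdj q N) (S : Submodule F (Fin n → F))
    (h : ∀ z ∈ S, hermForm n F q (N z) z = 0) :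
    ∀ z ∈ S, ∀ w ∈ S, hermForm n F q (N z) w = 0 := by
  intro z hz w hw
  obtain ⟨t, ht⟩ : ∃ t, t = hermForm n F q (N z) w := ⟨_, rfl⟩
  have hwz : hermForm n F q (N w) z = t ^ q := by
    rw [hN w z, hf_swap hF (N z) w, ← ht]
  have key : ∀ l : F, l ^ q * t + l * t ^ q = 0 := by
    intro l
    have := h (z + l • w) (S.add_mem hz (S.smul_mem l hw))
    simp only [map_add, map_smul, hf_add_left, hf_add_right hF, hf_smul_left, hf_smul_right]
      at this
    rw [h z hz, h w hw, ← ht, hwz] at this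
    linear_combination this
  have h1 := key 1
  obtain ⟨l, hl⟩ := exists_not_fixed hF
  have h2 := key l
  rw [one_pow] at h1
  have h3 : (l ^ q - l) * t = 0 := by linear_combination h2 - l * h1
  rcases mul_eq_zero.mp h3 with h4 | h4
  · exact absurd (sub_eq_zero.mp h4) hl
  · rw [← ht]; exact h4

theorem sys_step (hF : Fintype.card F = q ^ 2) {N : (Fin n → F) →ₗ[F] (Fin n → F)}
    (hN : SelfAdj q N) {k : ℕ} (x : Fin k → (Fin n → F)) (hx : IsSys q N x) :
    (∃ z, (∀ i, hermForm n F q (N z) (x i) = 0) ∧ hermForm n F q (N z) z = 1) ∨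
    (∀ y, N y = ∑ i, hermForm n F q (N y) (x i) • N (x i)) := by
  classical
  let S : Submodule F (Fin n → F) :=
    { carrier := {z | ∀ i, hermForm n F q (N z) (x i) = 0}
      add_mem' := by
        intro a b ha hb i
        rw [map_add, hf_add_left, ha i, hb i, add_zero]
      zero_mem' := by
        intro i
        rw [map_zero, hf_zero_left]
      smul_mem' := by
        intro c a ha i
        rw [map_smul, hf_smul_left, ha i, mul_zero] }
  have hS : ∀ z, z ∈ S ↔ ∀ i, hermForm n F q (N z) (x i) = 0 := fun z => Iff.rfl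
  by_cases h : ∃ z ∈ S, hermForm n F q (N z) z ≠ 0
  · left
    obtain ⟨z, hzS, hz⟩ := h
    have hfix : (hermForm n F q (N z) z) ^ q = hermForm n F q (N z) z := by
      rw [← hf_swap hF (N z) z, ← hN z z]
    obtain ⟨c, hc⟩ := nm_surj hF _ hfix
    have hc0 : c ≠ 0 := by
      rintro rfl
      rw [zero_mul] at hc
      exact hz hc.symm
    refine ⟨c⁻¹ • z, fun i => ?_, ?_⟩
    · rw [map_smul, hf_smul_left, (hS z).mp hzS i, mul_zero]
    · rw [map_smul, hf_smul_left, hf_smul_right, ← hc]
      have : c ^ q ≠ 0 := pow_ne_zero _ hc0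
      rw [inv_pow]
      field_simp
  · right
    push Not at h
    have hpol := polar hF hN S h
    have hP : ∀ y, y - ∑ i, hermForm n F q (N y) (x i) • x i ∈ S := by
      intro y
      rw [hS]
      intro j
      rw [map_sub, map_sum, hf_sub_left, hf_sum_left]
      have : ∀ i, hermForm n F q (N (hermForm n F q (N y) (x i) • x i)) (x j) =
          if i = j then hermForm n F q (N y) (x i) else 0 := by
        intro i
        rw [map_smul, hf_smul_left, hx i j]
        split_ifs <;> simp
      rw [Finset.sum_congr rfl (fun i _ => this i), Finset.sum_ite_eq' Finset.univ j]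
      simp
    intro y
    have hNP : N (y - ∑ i, hermForm n F q (N y) (x i) • x i) = 0 := by
      apply hf_nondeg hF
      intro w
      have hw : w = (w - ∑ j, hermForm n F q (N w) (x j) • x j) +
          ∑ j, hermForm n F q (N w) (x j) • x j := by abel
      calc hermForm n F q (N (y - ∑ i, hermForm n F q (N y) (x i) • x i)) w
          = hermForm n F q (N (y - ∑ i, hermForm n F q (N y) (x i) • x i))
              ((w - ∑ j, hermForm n F q (N w) (x j) • x j) +
                ∑ j, hermForm n F q (N w) (x j) • x j) := by rw [← hw]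
        _ = 0 := by
          rw [hf_add_right hF, hpol _ (hP y) _ (hP w), hf_sum_right hF, zero_add]
          apply Finset.sum_eq_zero
          intro j _
          rw [hf_smul_right, (hS _).mp (hP y) j, mul_zero]
    rw [map_sub, sub_eq_zero, map_sum] at hNP
    refine hNP.trans ?_
    apply Finset.sum_congr rfl
    intro i _
    rw [map_smul]

theorem sys_snoc (hF : Fintype.card F = q ^ 2) {N : (Fin n → F) →ₗ[F] (Fin n → F)}
    (hN : SelfAdj q N) {k : ℕ} (x : Fin k → (Fin n → F)) (hx : IsSys q N x) (z : Fin n → F)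
    (hz : ∀ i, hermForm n F q (N z) (x i) = 0) (hzz : hermForm n F q (N z) z = 1) :
    IsSys q N (Fin.snoc (α := fun _ => Fin n → F) x z : Fin (k + 1) → (Fin n → F)) := by
  intro i j
  refine Fin.lastCases ?_ (fun i' => ?_) i <;> refine Fin.lastCases ?_ (fun j' => ?_) j
  · rw [Fin.snoc_last, if_pos rfl]
    exact hzz
  · rw [Fin.snoc_last, Fin.snoc_castSucc, hz j', if_neg]
    exact (Fin.castSucc_lt_last j').ne'
  · rw [Fin.snoc_last, Fin.snoc_castSucc, hN, hf_swap hF (N z) (x i'), hz i', cj_zero hF, if_neg]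
    exact (Fin.castSucc_lt_last i').ne
  · rw [Fin.snoc_castSucc, Fin.snoc_castSucc, hx i' j']
    by_cases h : i' = j'
    · rw [if_pos h, if_pos (by rw [h])]
    · rw [if_neg h, if_neg (fun h' => h (Fin.castSucc_injective _ h'))]

theorem sys_li {N : (Fin n → F) →ₗ[F] (Fin n → F)}
    {k : ℕ} (x : Fin k → (Fin n → F)) (hx : IsSys q N x) :
    LinearIndependent F (fun i => N (x i)) := by
  classical
  rw [Fintype.linearIndependent_iff]
  intro c hc j
  have h1 := congrArg (fun v => hermForm n F q v (x j)) hc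
  simp only [hf_sum_left, hf_zero_left] at h1
  have : ∀ i, hermForm n F q (c i • N (x i)) (x j) = if i = j then c i else 0 := by
    intro i
    rw [hf_smul_left, hx i j]
    split_ifs <;> simp
  rw [Finset.sum_congr rfl (fun i _ => this i), Finset.sum_ite_eq' Finset.univ j] at h1
  simpa using h1

theorem sys_card_le {N : (Fin n → F) →ₗ[F] (Fin n → F)}
    {k : ℕ} (x : Fin k → (Fin n → F)) (hx : IsSys q N x) :
    k ≤ Module.finrank F (LinearMap.range N) := by
  have hli := sys_li x hx
  have h1 := finrank_span_eq_card hli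
  rw [Fintype.card_fin] at h1
  rw [← h1]
  apply Submodule.finrank_mono
  rw [Submodule.span_le]
  rintro _ ⟨i, rfl⟩
  exact LinearMap.mem_range_self N (x i)

theorem exists_sys (hF : Fintype.card F = q ^ 2) {N : (Fin n → F) →ₗ[F] (Fin n → F)}
    (hN : SelfAdj q N) :
    ∀ k, k ≤ Module.finrank F (LinearMap.range N) → ∃ x : Fin k → (Fin n → F), IsSys q N x := by
  intro k
  induction k with
  | zero =>
    intro _
    exact ⟨fun _ => 0, fun i => i.elim0⟩
  | succ k ih =>
    intro hk
    obtain ⟨x, hx⟩ := ih (by omega)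
    rcases sys_step hF hN x hx with ⟨z, hz, hzz⟩ | hform
    · exact ⟨_, sys_snoc hF hN x hx z hz hzz⟩
    · exfalso
      have h1 : LinearMap.range N ≤ Submodule.span F (Set.range (fun i => N (x i))) := by
        rintro _ ⟨y, rfl⟩
        rw [hform y]
        exact Submodule.sum_mem _
          (fun i _ => Submodule.smul_mem _ _ (Submodule.subset_span ⟨i, rfl⟩))
      have h2 := Submodule.finrank_mono h1
      have h3 : Module.finrank F (Submodule.span F (Set.range (fun i => N (x i)))) ≤
          Fintype.card (Fin k) := finrank_range_le_card (R := F) (fun i => N (x i))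
      rw [Fintype.card_fin] at h3
      omega

/-- Normal form of a self-adjoint map of rank `r`. -/
theorem exists_normal (hF : Fintype.card F = q ^ 2) {N : (Fin n → F) →ₗ[F] (Fin n → F)}
    (hN : SelfAdj q N) (r : ℕ) (hr : Module.finrank F (LinearMap.range N) = r) :
    ∃ x : Fin r → (Fin n → F), IsSys q N x ∧
      ∀ y, N y = ∑ i, hermForm n F q y (N (x i)) • N (x i) := by
  obtain ⟨x, hx⟩ := exists_sys hF hN r (by omega)
  refine ⟨x, hx, ?_⟩
  rcases sys_step hF hN x hx with ⟨z, hz, hzz⟩ | hform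
  · exfalso
    have := sys_card_le _ (sys_snoc hF hN x hx z hz hzz)
    omega
  · intro y
    rw [hform y]
    apply Finset.sum_congr rfl
    intro i _
    rw [hN y (x i)]


/-- Normal form of a unitary involution in characteristic two. -/
theorem invol_normal (hF : Fintype.card F = q ^ 2) [CharP F 2] (g : GL (Fin n) F)
    (hg : g ∈ GU n F q) (hgg : g * g = 1) (r : ℕ)
    (hr : ((g : Matrix (Fin n) (Fin n) F) - 1).rank = r) :
    ∃ e x : Fin r → (Fin n → F),
      (∀ i j, hermForm n F q (e i) (e j) = 0) ∧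
      (∀ i j, hermForm n F q (e i) (x j) = if i = j then 1 else 0) ∧
      ∀ y, gact g y = y + ∑ i, hermForm n F q y (e i) • e i := by
  obtain ⟨N, hNdef⟩ : ∃ N : (Fin n → F) →ₗ[F] (Fin n → F),
      N = ((g : Matrix (Fin n) (Fin n) F) - 1).mulVecLin := ⟨_, rfl⟩
  have hNx : ∀ y, N y = gact g y - y := by
    intro y
    rw [hNdef, Matrix.mulVecLin_apply, Matrix.sub_mulVec, Matrix.one_mulVec]
    rfl
  have hginv : g⁻¹ = g := inv_eq_of_mul_eq_one_left hgg
  have hN : SelfAdj q N := by
    intro x y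
    rw [hNx, hNx, hf_sub_left, hf_sub_right hF, GU_adjoint hg, hginv]
  have hNN : ∀ y, N (N y) = 0 := by
    intro y
    rw [hNx, hNx, gact_sub, ← gact_mul, hgg, gact_one]
    have h2 : (2 : F) = 0 := CharP.cast_eq_zero F 2
    have : y - gact g y - (gact g y - y) = (2 : F) • (y - gact g y) := by
      rw [two_smul]; abel
    rw [this, h2, zero_smul]
  have hrank : Module.finrank F (LinearMap.range N) = r := by
    rw [hNdef]
    exact hr
  obtain ⟨x, hx, hform⟩ := exists_normal hF hN r hrank
  refine ⟨fun i => N (x i), x, ?_, hx, ?_⟩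
  · intro i j
    rw [hN, hNN, hf_zero_right hF]
  · intro y
    rw [← hform y, hNx]
    abel

theorem gact_sum_smul {ι : Type*} (s : Finset ι) (g : GL (Fin n) F) (c : ι → F)
    (v : ι → Fin n → F) : gact g (∑ i ∈ s, c i • v i) = ∑ i ∈ s, c i • gact g (v i) := by
  have h := map_sum (gactL g) (fun i => c i • v i) s
  have h1 : ∀ y, gactL g y = gact g y := fun y => rfl
  rw [h1] at h
  rw [h]
  apply Finset.sum_congr rfl
  intro i _
  rw [h1, gact_smul]

/-- Conjugacy from a frame move. -/
theorem conj_of_move {r : ℕ} (a b s : GL (Fin n) F) (hs : s ∈ GU n F q)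
    (e e' : Fin r → (Fin n → F))
    (ha : ∀ y, gact a y = y + ∑ i, hermForm n F q y (e i) • e i)
    (hb : ∀ y, gact b y = y + ∑ i, hermForm n F q y (e' i) • e' i)
    (hmove : ∀ i, ∃ μ : F, μ * μ ^ q = 1 ∧ gact s (e i) = μ • e' i) : s * a * s⁻¹ = b := by
  rw [mul_inv_eq_iff_eq_mul]
  apply gact_ext
  intro y
  rw [gact_mul, gact_mul, ha, hb, gact_add, gact_sum_smul]
  congr 1
  apply Finset.sum_congr rfl
  intro i _
  obtain ⟨μ, hμ, hsi⟩ := hmove i
  have h1 : hermForm n F q y (e i) = μ ^ q * hermForm n F q (gact s y) (e' i) := by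
    rw [← GU_preserves hs y (e i), hsi, hf_smul_right]
  rw [hsi, smul_smul, h1]
  congr 1
  linear_combination (hermForm n F q (gact s y) (e' i)) * hμ

/-- A torus element acting as a scalar of norm one on a hyperbolic plane. -/
theorem exists_torus_norm (hF : Fintype.card F = q ^ 2) {e f : Fin n → F} (hp : HypPair q e f)
    (l : F) (hl : l * l ^ q = 1) :
    ∃ d : GL (Fin n) F, d ∈ GU n F q ∧ (d : Matrix (Fin n) (Fin n) F).det = l * l ∧
      ∀ v, gact d v = v + ((l - 1) * hermForm n F q v f) • e +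
        ((l - 1) * hermForm n F q v e) • f := by
  have hl0 : l ≠ 0 := by
    rintro rfl
    rw [zero_mul] at hl
    exact zero_ne_one hl
  have h1 : 1 + (l - 1) * hermForm n F q e f ≠ 0 := by
    rw [hp.ef, mul_one, add_sub_cancel]
    exact hl0
  have h2 : 1 + (l - 1) * hermForm n F q f e ≠ 0 := by
    rw [hp.fe hF, mul_one, add_sub_cancel]
    exact hl0
  have hact : ∀ v, gact (rk q e f (l - 1) h1 * rk q f e (l - 1) h2) v =
      v + ((l - 1) * hermForm n F q v f) • e + ((l - 1) * hermForm n F q v e) • f := by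
    intro v
    rw [gact_mul, rk_gact, rk_gact, hf_add_left, hf_smul_left, hp.ff, mul_zero, add_zero]
    abel
  refine ⟨rk q e f (l - 1) h1 * rk q f e (l - 1) h2, ?_, ?_, hact⟩
  · rw [mem_GU_iff]
    intro u v
    change hermForm n F q (gact _ u) (gact _ v) = _
    rw [hact u, hact v]
    have e1 : hermForm n F q e v = (hermForm n F q v e) ^ q := hf_swap hF v e
    have e2 : hermForm n F q f v = (hermForm n F q v f) ^ q := hf_swap hF v f
    simp only [hf_add_left, hf_add_right hF, hf_smul_left, hf_smul_right, hp.ee, hp.ff, hp.ef,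
      hp.fe hF, e1, e2, mul_pow, cj_sub hF, one_pow]
    linear_combination (hermForm n F q u f * (hermForm n F q v e) ^ q) * hl +
      (hermForm n F q u e * (hermForm n F q v f) ^ q) * hl
  · rw [Units.val_mul, Matrix.det_mul, det_rk, det_rk, hp.ef, hp.fe hF]
    ring

theorem ti_span {k : ℕ} (hF : Fintype.card F = q ^ 2) (v : Fin k → (Fin n → F))
    (h : ∀ i j, hermForm n F q (v i) (v j) = 0) :
    ∀ u ∈ Submodule.span F (Set.range v), ∀ u' ∈ Submodule.span F (Set.range v),
      hermForm n F q u u' = 0 := by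
  intro u hu u' hu'
  obtain ⟨c, rfl⟩ := (Submodule.mem_span_range_iff_exists_fun F).mp hu
  obtain ⟨c', rfl⟩ := (Submodule.mem_span_range_iff_exists_fun F).mp hu'
  rw [hf_sum_left]
  apply Finset.sum_eq_zero
  intro i _
  rw [hf_sum_right hF]
  apply Finset.sum_eq_zero
  intro j _
  rw [hf_smul_left, hf_smul_right, h i j, mul_zero, mul_zero]

theorem even_q_of_char_two (hF : Fintype.card F = q ^ 2) [CharP F 2] : ∃ m, q = 2 * m := by
  have h1 : ((Fintype.card F : ℕ) : F) = 0 := Nat.cast_card_eq_zero F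
  rw [hF] at h1
  have h2 : 2 ∣ q ^ 2 := (CharP.cast_eq_zero_iff F 2 (q ^ 2)).mp h1
  exact Nat.Prime.dvd_of_dvd_pow Nat.prime_two h2

/-- Moving one totally isotropic frame with a dual system to another, up to scalars of norm one,
by an element of `SU_n` (characteristic two). -/
theorem frames_move (hF : Fintype.card F = q ^ 2) [CharP F 2] {k : ℕ}
    (e x e' x' : Fin (k + 1) → (Fin n → F))
    (hee : ∀ i j, hermForm n F q (e i) (e j) = 0)
    (hex : ∀ i j, hermForm n F q (e i) (x j) = if i = j then 1 else 0)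
    (hee' : ∀ i j, hermForm n F q (e' i) (e' j) = 0)
    (hex' : ∀ i j, hermForm n F q (e' i) (x' j) = if i = j then 1 else 0) :
    ∃ s : GL (Fin n) F, s ∈ GU n F q ⊓ Cfsg.Geo.specialLinear (Fin n) F ∧
      ∀ i, ∃ μ : F, μ * μ ^ q = 1 ∧ gact s (e i) = μ • e' i := by
  classical
  obtain ⟨f, hfdef⟩ : ∃ f : (Fin n → F) →ₗ[F] (Fin n → F),
      f = ∑ i, (hermB hF n (x i)).smulRight (e' i) := ⟨_, rfl⟩
  have hfy : ∀ y, f y = ∑ i, hermForm n F q y (x i) • e' i := by
    intro y
    rw [hfdef, LinearMap.sum_apply]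
    apply Finset.sum_congr rfl
    intro i _
    rw [LinearMap.smulRight_apply, hermB_apply]
  have hsum_x : ∀ (c : Fin (k + 1) → F) j, hermForm n F q (∑ i, c i • e i) (x j) = c j := by
    intro c j
    rw [hf_sum_left]
    have : ∀ i, hermForm n F q (c i • e i) (x j) = if i = j then c i else 0 := by
      intro i
      rw [hf_smul_left, hex i j]
      split_ifs <;> simp
    rw [Finset.sum_congr rfl (fun i _ => this i), Finset.sum_ite_eq' Finset.univ j]
    simp
  have hsum_x' : ∀ (c : Fin (k + 1) → F) j, hermForm n F q (∑ i, c i • e' i) (x' j) = c j := by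
    intro c j
    rw [hf_sum_left]
    have : ∀ i, hermForm n F q (c i • e' i) (x' j) = if i = j then c i else 0 := by
      intro i
      rw [hf_smul_left, hex' i j]
      split_ifs <;> simp
    rw [Finset.sum_congr rfl (fun i _ => this i), Finset.sum_ite_eq' Finset.univ j]
    simp
  have hf_comb : ∀ c : Fin (k + 1) → F, f (∑ i, c i • e i) = ∑ i, c i • e' i := by
    intro c
    rw [hfy]
    apply Finset.sum_congr rfl
    intro j _
    rw [hsum_x]
  have hfmem : ∀ y, f y ∈ Submodule.span F (Set.range e') := by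
    intro y
    rw [hfy]
    exact Submodule.sum_mem _
      (fun i _ => Submodule.smul_mem _ _ (Submodule.subset_span ⟨i, rfl⟩))
  obtain ⟨g₀, hg₀, hg₀X⟩ := witt_gu_submodule hF (Submodule.span F (Set.range e)) f
    (by
      intro u hu u' hu'
      rw [ti_span hF e' hee' _ (hfmem u) _ (hfmem u'), ti_span hF e hee u hu u' hu'])
    (by
      intro u hu hfu
      obtain ⟨c, rfl⟩ := (Submodule.mem_span_range_iff_exists_fun F).mp hu
      rw [hf_comb] at hfu
      have hc : ∀ j, c j = 0 := by
        intro j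
        rw [← hsum_x' c j, hfu, hf_zero_left]
      apply Finset.sum_eq_zero
      intro i _
      rw [hc i, zero_smul])
  have hg₀e : ∀ i, gact g₀ (e i) = e' i := by
    intro i
    rw [hg₀X (e i) (Submodule.subset_span ⟨i, rfl⟩), hfy]
    have : ∀ j, hermForm n F q (e i) (x j) • e' j = if i = j then e' j else 0 := by
      intro j
      rw [hex i j]
      split_ifs <;> simp
    rw [Finset.sum_congr rfl (fun j _ => this j), Finset.sum_ite_eq Finset.univ i]
    simp
  -- determinant correction
  obtain ⟨δ, hδ⟩ : ∃ δ : F, δ = (g₀ : Matrix (Fin n) (Fin n) F).det := ⟨_, rfl⟩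
  have hδN : δ * δ ^ q = 1 := by rw [hδ]; exact GU_det hF hg₀
  have hδ0 : δ ≠ 0 := by
    rintro rfl
    rw [zero_mul] at hδN
    exact zero_ne_one hδN
  have hδinv : δ⁻¹ * (δ⁻¹) ^ q = 1 := by
    rw [cj_inv, ← mul_inv, hδN, inv_one]
  obtain ⟨m, hm⟩ := even_q_of_char_two hF
  obtain ⟨l, hldef⟩ : ∃ l : F, l = (δ⁻¹) ^ (m + 1) := ⟨_, rfl⟩
  have hl : l * l ^ q = 1 := by
    rw [hldef, ← pow_mul, mul_comm (m + 1) q, pow_mul, ← mul_pow, hδinv, one_pow]
  have hll : l * l = δ⁻¹ := by
    rw [hldef, ← pow_add]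
    have : m + 1 + (m + 1) = q + 1 + 1 := by omega
    rw [this, pow_succ, pow_succ, mul_comm ((δ⁻¹) ^ q) δ⁻¹, hδinv, one_mul]
  -- isotropic partner of `e' 0`
  have hfix : (-hermForm n F q (x' 0) (x' 0)) ^ q = -hermForm n F q (x' 0) (x' 0) := by
    rw [cj_neg hF, hf_self_fixed hF]
  obtain ⟨c, hc⟩ := tr_surj hF _ hfix
  have hxe : hermForm n F q (x' 0) (e' 0) = 1 := by
    rw [hf_swap hF (e' 0) (x' 0), hex' 0 0, if_pos rfl, one_pow]
  have hp : HypPair q (e' 0) (x' 0 + c • e' 0) := by
    refine ⟨hee' 0 0, ?_, ?_⟩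
    · rw [hf_add_left, hf_add_right hF, hf_add_right hF, hf_smul_left, hf_smul_right,
        hf_smul_left, hf_smul_right, hee' 0 0, hxe, hex' 0 0, if_pos rfl]
      linear_combination hc
    · rw [hf_add_right hF, hf_smul_right, hee' 0 0, hex' 0 0, if_pos rfl, mul_zero, add_zero]
  obtain ⟨d, hd, hddet, hdact⟩ := exists_torus_norm hF hp l hl
  refine ⟨d * g₀, ?_, ?_⟩
  · rw [mem_SUg_iff]
    refine ⟨mul_mem hd hg₀, ?_⟩
    rw [Units.val_mul, Matrix.det_mul, hddet, ← hδ, hll, inv_mul_cancel₀ hδ0]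
  · intro i
    have h1 : hermForm n F q (e' i) (x' 0 + c • e' 0) = if i = 0 then 1 else 0 := by
      rw [hf_add_right hF, hf_smul_right, hee' i 0, hex' i 0, mul_zero, add_zero]
    by_cases hi : i = 0
    · refine ⟨l, hl, ?_⟩
      rw [gact_mul, hg₀e, hdact, h1, if_pos hi, hee' i 0, mul_zero, zero_smul, add_zero, mul_one,
        hi]
      rw [sub_smul, one_smul]
      abel
    · refine ⟨1, by rw [one_pow, one_mul], ?_⟩
      rw [gact_mul, hg₀e, hdact, h1, if_neg hi, hee' i 0, mul_zero, zero_smul, zero_smul,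
        add_zero, add_zero, one_smul]

/-- Involutions of `GU_n(q)`, `q` even, with `rank (a - 1) = rank (b - 1)` are conjugate under
`SU_n(q)`. -/
theorem invol_conj (hF : Fintype.card F = q ^ 2) [CharP F 2] (a b : GL (Fin n) F)
    (ha : a ∈ GU n F q) (hb : b ∈ GU n F q) (haa : a * a = 1) (hbb : b * b = 1)
    (hrank : ((a : Matrix (Fin n) (Fin n) F) - 1).rank =
      ((b : Matrix (Fin n) (Fin n) F) - 1).rank) :
    ∃ s : GL (Fin n) F, s ∈ GU n F q ⊓ Cfsg.Geo.specialLinear (Fin n) F ∧ s * a * s⁻¹ = b := by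
  obtain ⟨r, hr⟩ : ∃ r, ((a : Matrix (Fin n) (Fin n) F) - 1).rank = r := ⟨_, rfl⟩
  obtain ⟨e, x, hee, hex, hform⟩ := invol_normal hF a ha haa r hr
  obtain ⟨e', x', hee', hex', hform'⟩ := invol_normal hF b hb hbb r (by rw [← hrank, hr])
  rcases r with _ | k
  · refine ⟨1, one_mem _, ?_⟩
    rw [one_mul, inv_one, mul_one]
    apply gact_ext
    intro y
    rw [hform, hform']
    simp
  · obtain ⟨s, hs, hmove⟩ := frames_move hF e x e' x' hee hex hee' hex'
    exact ⟨s, hs, conj_of_move a b s ((mem_SUg_iff s).mp hs).1 e e' hform hform' hmove⟩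

end Cfsg.Agent.Lib.Helper27.Unitary
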