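import Mathlib
import Cfsg.Agent.Lib.Helper27.UInvol
import Cfsg.Agent.Lib.Helper27.UCenter

set_option autoImplicit false

/-!
Unitary reflections and involutions in odd characteristic: the reflection `s_v`, the involution
`x_v = - s_v`, eigenvectors of unitary involutions, and the structure of the involutions of
`SU_3(q)`, `q` odd.
-/

namespace Cfsg.Agent.Lib.Helper27.Unitary

open Cfsg Matrix Cfsg.Agent.Lib.Helper27.GLStab

variable {F : Type*} [Field F] [Fintype F] {q n : ℕ}

theorem two_ne_zero_of_odd (hF : Fintype.card F = q ^ 2) (hq : Odd q) : (2 : F) ≠ 0 := by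
  intro h2
  have : CharP F 2 := CharTwo.of_one_ne_zero_of_two_eq_zero one_ne_zero h2
  obtain ⟨m, hm⟩ := even_q_of_char_two hF
  obtain ⟨k, hk⟩ := hq
  omega

theorem cj_two (hF : Fintype.card F = q ^ 2) : (2 : F) ^ q = 2 := by
  have : (2 : F) = 1 + 1 := by norm_num
  rw [this, cj_add hF, one_pow]

/-- The unitary reflection in an anisotropic vector. -/
noncomputable def sv (q : ℕ) (v : Fin n → F) (hv : hermForm n F q v v ≠ 0) : GL (Fin n) F :=
  ru q v (-2 / hermForm n F q v v) (by rw [div_mul_cancel₀ _ hv]; norm_num)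

theorem sv_gact (v : Fin n → F) (hv : hermForm n F q v v ≠ 0) (y : Fin n → F) :
    gact (sv q v hv) y = y - (2 * hermForm n F q y v / hermForm n F q v v) • v := by
  unfold sv
  rw [ru_gact, sub_eq_add_neg, ← neg_smul]
  congr 2
  ring

theorem sv_mem_GU (hF : Fintype.card F = q ^ 2) (v : Fin n → F) (hv : hermForm n F q v v ≠ 0) :
    sv q v hv ∈ GU n F q := by
  unfold sv
  apply ru_mem_GU hF
  have ha : (hermForm n F q v v) ^ q = hermForm n F q v v := hf_self_fixed hF v
  rw [cj_div, cj_neg hF, cj_two hF, ha]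
  field_simp
  ring

theorem det_sv (v : Fin n → F) (hv : hermForm n F q v v ≠ 0) :
    (sv q v hv : Matrix (Fin n) (Fin n) F).det = -1 := by
  unfold sv
  rw [det_ru, div_mul_cancel₀ _ hv]
  norm_num

theorem sv_self (v : Fin n → F) (hv : hermForm n F q v v ≠ 0) : gact (sv q v hv) v = -v := by
  rw [sv_gact, mul_div_assoc, div_self hv, mul_one, two_smul]
  abel

theorem sv_perp (v : Fin n → F) (hv : hermForm n F q v v ≠ 0) {y : Fin n → F}
    (hy : hermForm n F q y v = 0) : gact (sv q v hv) y = y := by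
  rw [sv_gact, hy, mul_zero, zero_div, zero_smul, sub_zero]

theorem sv_sq (v : Fin n → F) (hv : hermForm n F q v v ≠ 0) : sv q v hv * sv q v hv = 1 := by
  apply gact_ext
  intro y
  rw [gact_mul, gact_one, sv_gact v hv (gact (sv q v hv) y), sv_gact, hf_sub_left, hf_smul_left]
  have : 2 * (hermForm n F q y v - 2 * hermForm n F q y v / hermForm n F q v v *
      hermForm n F q v v) / hermForm n F q v v = -(2 * hermForm n F q y v / hermForm n F q v v) := by
    field_simp
    ring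
  rw [this, neg_smul]
  abel

/-- Negation of an element of `GL_n`. -/
theorem gact_neg_left (g : GL (Fin n) F) (y : Fin n → F) : gact (-g) y = -gact g y := by
  unfold gact
  rw [Units.val_neg, Matrix.neg_mulVec]

theorem neg_mem_GU (hF : Fintype.card F = q ^ 2) {g : GL (Fin n) F} (hg : g ∈ GU n F q) :
    -g ∈ GU n F q := by
  rw [mem_GU_iff]
  intro u v
  rw [gact_neg_left, gact_neg_left, hf_neg_left, hf_neg_right hF, neg_neg, GU_preserves hg]

theorem det_neg_three (g : GL (Fin 3) F) :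
    ((-g : GL (Fin 3) F) : Matrix (Fin 3) (Fin 3) F).det = -(g : Matrix (Fin 3) (Fin 3) F).det := by
  rw [Units.val_neg, Matrix.det_neg, Fintype.card_fin]
  ring

/-- A unitary involution different from `1` has an anisotropic `(-1)`-eigenvector. -/
theorem exists_neg_eigen (hF : Fintype.card F = q ^ 2) (h2 : (2 : F) ≠ 0) (x : GL (Fin n) F)
    (hx : x ∈ GU n F q) (hxx : x * x = 1) (hx1 : x ≠ 1) :
    ∃ v, hermForm n F q v v ≠ 0 ∧ gact x v = -v := by
  let W : Submodule F (Fin n → F) :=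
    { carrier := {u | gact x u = -u}
      add_mem' := by
        intro a b ha hb
        show gact x (a + b) = -(a + b)
        rw [gact_add, ha, hb]; abel
      zero_mem' := by
        show gact x 0 = -0
        rw [gact_zero, neg_zero]
      smul_mem' := by
        intro c a ha
        show gact x (c • a) = -(c • a)
        rw [gact_smul, ha, smul_neg] }
  have hW : ∀ u, u ∈ W ↔ gact x u = -u := fun u => Iff.rfl
  have hinv : x⁻¹ = x := inv_eq_of_mul_eq_one_left hxx
  have hmem : ∀ z, z - gact x z ∈ W := by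
    intro z
    rw [hW, gact_sub, ← gact_mul, hxx, gact_one]
    abel
  have hnd : UNondeg q W := by
    intro u hu h
    apply hf_nondeg hF
    intro z
    have h1 := h (z - gact x z) (hmem z)
    rw [hf_sub_right hF] at h1
    have h3 : hermForm n F q u (gact x z) = - hermForm n F q u z := by
      rw [← GU_preserves hx u (gact x z), ← gact_mul, hxx, gact_one, (hW u).mp hu, hf_neg_left]
    rw [h3] at h1
    have h4 : (2 : F) * hermForm n F q u z = 0 := by linear_combination h1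
    rcases mul_eq_zero.mp h4 with h5 | h5
    · exact absurd h5 h2
    · exact h5
  have hW0 : W ≠ ⊥ := by
    intro hbot
    apply hx1
    apply gact_ext
    intro z
    have := hmem z
    rw [hbot, Submodule.mem_bot, sub_eq_zero] at this
    rw [gact_one, ← this]
  obtain ⟨v, hvW, hv⟩ := exists_aniso hF hnd hW0
  exact ⟨v, hv, (hW v).mp hvW⟩

/-- Eigenvectors of a unitary map for the eigenvalues `1` and `-1` are orthogonal. -/
theorem eigen_orth (hF : Fintype.card F = q ^ 2) (h2 : (2 : F) ≠ 0) {x : GL (Fin n) F}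
    (hx : x ∈ GU n F q) {u w : Fin n → F} (hu : gact x u = u) (hw : gact x w = -w) :
    hermForm n F q u w = 0 := by
  have h := GU_preserves hx u w
  rw [hu, hw, hf_neg_right hF] at h
  have h4 : (2 : F) * hermForm n F q u w = 0 := by linear_combination -h
  rcases mul_eq_zero.mp h4 with h5 | h5
  · exact absurd h5 h2
  · exact h5

/-- Three pairwise orthogonal anisotropic vectors span `F^3`. -/
theorem expand_three (hF : Fintype.card F = q ^ 2) (v₁ v₂ v₃ : Fin 3 → F)
    (h1 : hermForm 3 F q v₁ v₁ ≠ 0) (h2 : hermForm 3 F q v₂ v₂ ≠ 0)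
    (h3 : hermForm 3 F q v₃ v₃ ≠ 0) (h12 : hermForm 3 F q v₁ v₂ = 0)
    (h13 : hermForm 3 F q v₁ v₃ = 0) (h23 : hermForm 3 F q v₂ v₃ = 0) (y : Fin 3 → F) :
    y = (hermForm 3 F q y v₁ / hermForm 3 F q v₁ v₁) • v₁ +
      (hermForm 3 F q y v₂ / hermForm 3 F q v₂ v₂) • v₂ +
      (hermForm 3 F q y v₃ / hermForm 3 F q v₃ v₃) • v₃ := by
  have h21 := hf_eq_zero_swap hF h12
  have h31 := hf_eq_zero_swap hF h13
  have h32 := hf_eq_zero_swap hF h23
  have hli : LinearIndependent F ![v₁, v₂, v₃] := by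
    rw [Fintype.linearIndependent_iff]
    intro c hc
    rw [Fin.sum_univ_three] at hc
    simp only [Matrix.cons_val_zero, Matrix.cons_val_one, Matrix.cons_val_two,
      Matrix.head_cons, Matrix.tail_cons] at hc
    have e1 := congrArg (fun u => hermForm 3 F q u v₁) hc
    have e2 := congrArg (fun u => hermForm 3 F q u v₂) hc
    have e3 := congrArg (fun u => hermForm 3 F q u v₃) hc
    simp only [hf_add_left, hf_smul_left, hf_zero_left, h12, h13, h23, h21, h31, h32, mul_zero,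
      add_zero, zero_add] at e1 e2 e3
    intro i
    fin_cases i
    · exact (mul_eq_zero.mp e1).resolve_right h1
    · exact (mul_eq_zero.mp e2).resolve_right h2
    · exact (mul_eq_zero.mp e3).resolve_right h3
  have hspan : Submodule.span F (Set.range ![v₁, v₂, v₃]) = ⊤ := by
    apply hli.span_eq_top_of_card_eq_finrank'
    rw [Module.finrank_fin_fun, Fintype.card_fin]
  have hy : y ∈ Submodule.span F (Set.range ![v₁, v₂, v₃]) := by rw [hspan]; trivial
  obtain ⟨c, hc⟩ := (Submodule.mem_span_range_iff_exists_fun F).mp hy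
  rw [Fin.sum_univ_three] at hc
  simp only [Matrix.cons_val_zero, Matrix.cons_val_one, Matrix.cons_val_two,
    Matrix.head_cons, Matrix.tail_cons] at hc
  have e1 : hermForm 3 F q y v₁ = c 0 * hermForm 3 F q v₁ v₁ := by
    rw [← hc]
    simp only [hf_add_left, hf_smul_left, h21, h31, mul_zero, add_zero]
  have e2 : hermForm 3 F q y v₂ = c 1 * hermForm 3 F q v₂ v₂ := by
    rw [← hc]
    simp only [hf_add_left, hf_smul_left, h12, h32, mul_zero, add_zero, zero_add]
  have e3 : hermForm 3 F q y v₃ = c 2 * hermForm 3 F q v₃ v₃ := by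
    rw [← hc]
    simp only [hf_add_left, hf_smul_left, h13, h23, mul_zero, zero_add]
  rw [e1, e2, e3, mul_div_assoc, mul_div_assoc, mul_div_assoc, div_self h1, div_self h2,
    div_self h3, mul_one, mul_one, mul_one]
  exact hc.symm

/-- The involution `x_v = - s_v`: `+1` on `v`, `-1` on its orthogonal complement. -/
noncomputable def xv (q : ℕ) (v : Fin n → F) (hv : hermForm n F q v v ≠ 0) : GL (Fin n) F :=
  -(sv q v hv)

theorem xv_gact (v : Fin n → F) (hv : hermForm n F q v v ≠ 0) (y : Fin n → F) :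
    gact (xv q v hv) y = -y + (2 * hermForm n F q y v / hermForm n F q v v) • v := by
  unfold xv
  rw [gact_neg_left, sv_gact]
  abel

theorem xv_mem_GU (hF : Fintype.card F = q ^ 2) (v : Fin n → F) (hv : hermForm n F q v v ≠ 0) :
    xv q v hv ∈ GU n F q := neg_mem_GU hF (sv_mem_GU hF v hv)

theorem det_xv (v : Fin 3 → F) (hv : hermForm 3 F q v v ≠ 0) :
    (xv q v hv : Matrix (Fin 3) (Fin 3) F).det = 1 := by
  unfold xv
  rw [det_neg_three, det_sv, neg_neg]

theorem xv_sq (v : Fin n → F) (hv : hermForm n F q v v ≠ 0) : xv q v hv * xv q v hv = 1 := by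
  unfold xv
  rw [neg_mul_neg, sv_sq]

theorem xv_self (v : Fin n → F) (hv : hermForm n F q v v ≠ 0) : gact (xv q v hv) v = v := by
  unfold xv
  rw [gact_neg_left, sv_self, neg_neg]

theorem xv_perp (v : Fin n → F) (hv : hermForm n F q v v ≠ 0) {y : Fin n → F}
    (hy : hermForm n F q y v = 0) : gact (xv q v hv) y = -y := by
  unfold xv
  rw [gact_neg_left, sv_perp v hv hy]

/-- A unitary involution commutes with the reflection in a `(-1)`-eigenvector. -/
theorem sv_comm (hF : Fintype.card F = q ^ 2) {x : GL (Fin n) F} (hx : x ∈ GU n F q)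
    (hxx : x * x = 1) (v : Fin n → F) (hv : hermForm n F q v v ≠ 0) (hxv : gact x v = -v) :
    x * sv q v hv = sv q v hv * x := by
  apply gact_ext
  intro y
  rw [gact_mul, gact_mul, sv_gact, sv_gact, gact_sub, gact_smul, hxv]
  have h1 : hermForm n F q (gact x y) v = - hermForm n F q y v := by
    rw [← GU_preserves hx (gact x y) v, ← gact_mul, hxx, gact_one, hxv, hf_neg_right hF]
  rw [h1, smul_neg, mul_neg, neg_div, neg_smul]

/-- The involutions of `SU_3(q)`, `q` odd, are the `x_v`. -/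
theorem invol_eq_xv (hF : Fintype.card F = q ^ 2) (h2 : (2 : F) ≠ 0) (x : GL (Fin 3) F)
    (hx : x ∈ GU 3 F q) (hdet : (x : Matrix (Fin 3) (Fin 3) F).det = 1) (hxx : x * x = 1)
    (hx1 : x ≠ 1) : ∃ (v : Fin 3 → F) (hv : hermForm 3 F q v v ≠ 0), x = xv q v hv := by
  have hm1 : (-1 : F) ≠ 1 := by
    intro h
    apply h2
    linear_combination -h
  -- a (+1)-eigenvector
  have hnx1 : -x ≠ 1 := by
    intro h
    have h1 := det_neg_three x
    rw [h, Units.val_one, Matrix.det_one, hdet] at h1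
    exact hm1 h1.symm
  obtain ⟨v₃, hv₃, hxv₃⟩ := exists_neg_eigen hF h2 (-x) (neg_mem_GU hF hx)
    (by rw [neg_mul_neg, hxx]) hnx1
  rw [gact_neg_left, neg_inj] at hxv₃
  -- a (-1)-eigenvector
  obtain ⟨v₁, hv₁, hxv₁⟩ := exists_neg_eigen hF h2 x hx hxx hx1
  have h31 : hermForm 3 F q v₃ v₁ = 0 := eigen_orth hF h2 hx hxv₃ hxv₁
  -- peel
  obtain ⟨x₁, hx₁def⟩ : ∃ x₁, x₁ = sv q v₁ hv₁ * x := ⟨_, rfl⟩
  have hx₁U : x₁ ∈ GU 3 F q := by
    rw [hx₁def]
    exact mul_mem (sv_mem_GU hF v₁ hv₁) hx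
  have hx₁sq : x₁ * x₁ = 1 := by
    rw [hx₁def, mul_assoc, ← mul_assoc x, sv_comm hF hx hxx v₁ hv₁ hxv₁, mul_assoc, hxx, mul_one,
      sv_sq]
  have hx₁ne : x₁ ≠ 1 := by
    intro h
    have h1 : (x₁ : Matrix (Fin 3) (Fin 3) F).det = -1 := by
      rw [hx₁def, Units.val_mul, Matrix.det_mul, det_sv, hdet, mul_one]
    rw [h, Units.val_one, Matrix.det_one] at h1
    exact hm1 h1.symm
  have hx₁v₁ : gact x₁ v₁ = v₁ := by
    rw [hx₁def, gact_mul, hxv₁, gact_neg, sv_self, neg_neg]
  have hx₁v₃ : gact x₁ v₃ = v₃ := by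
    rw [hx₁def, gact_mul, hxv₃, sv_perp v₁ hv₁ h31]
  obtain ⟨v₂, hv₂, hx₁v₂⟩ := exists_neg_eigen hF h2 x₁ hx₁U hx₁sq hx₁ne
  have h12 : hermForm 3 F q v₁ v₂ = 0 := eigen_orth hF h2 hx₁U hx₁v₁ hx₁v₂
  have h32 : hermForm 3 F q v₃ v₂ = 0 := eigen_orth hF h2 hx₁U hx₁v₃ hx₁v₂
  have h21 := hf_eq_zero_swap hF h12
  have h13 := hf_eq_zero_swap hF h31
  have h23 := hf_eq_zero_swap hF h32
  have hxeq : x = sv q v₁ hv₁ * x₁ := by
    rw [hx₁def, ← mul_assoc, sv_sq, one_mul]
  have hxv₂ : gact x v₂ = -v₂ := by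
    rw [hxeq, gact_mul, hx₁v₂, gact_neg, sv_perp v₁ hv₁ h21]
  refine ⟨v₃, hv₃, ?_⟩
  apply gact_ext
  intro y
  have hy := expand_three hF v₁ v₂ v₃ hv₁ hv₂ hv₃ h12 h13 h23 y
  obtain ⟨a, ha⟩ : ∃ a, a = hermForm 3 F q y v₁ / hermForm 3 F q v₁ v₁ := ⟨_, rfl⟩
  obtain ⟨b, hb⟩ : ∃ b, b = hermForm 3 F q y v₂ / hermForm 3 F q v₂ v₂ := ⟨_, rfl⟩
  obtain ⟨c, hc⟩ : ∃ c, c = hermForm 3 F q y v₃ / hermForm 3 F q v₃ v₃ := ⟨_, rfl⟩
  rw [← ha, ← hb, ← hc] at hy
  rw [hy, gact_add, gact_add, gact_smul, gact_smul, gact_smul, gact_add, gact_add, gact_smul,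
    gact_smul, gact_smul, hxv₁, hxv₂, hxv₃, xv_self, xv_perp v₃ hv₃ h13, xv_perp v₃ hv₃ h23]

/-- Conjugating `x_v` by a unitary element. -/
theorem conj_xv (hF : Fintype.card F = q ^ 2) {g : GL (Fin n) F} (hg : g ∈ GU n F q)
    (v : Fin n → F) (hv : hermForm n F q v v ≠ 0) :
    g * xv q v hv * g⁻¹ = xv q (gact g v) (by rw [GU_preserves hg]; exact hv) := by
  apply gact_ext
  intro y
  rw [gact_mul, gact_mul, xv_gact, xv_gact, gact_add, gact_neg, gact_gact_inv, gact_smul,
    GU_preserves hg, ← GU_preserves hg (gact g⁻¹ y) v, gact_gact_inv]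

/-- `x_v` only depends on the point spanned by `v`. -/
theorem xv_smul (c : F) (hc : c ≠ 0) (v : Fin n → F) (hv : hermForm n F q v v ≠ 0)
    (hcv : hermForm n F q (c • v) (c • v) ≠ 0) : xv q (c • v) hcv = xv q v hv := by
  apply gact_ext
  intro y
  rw [xv_gact, xv_gact, hf_smul_right, hf_smul_self, smul_smul]
  congr 2
  have hcq : c ^ q ≠ 0 := pow_ne_zero _ hc
  field_simp

/-- The fibres of `v ↦ x_v`. -/
theorem xv_eq_imp (h2 : (2 : F) ≠ 0) (v w : Fin n → F) (hv : hermForm n F q v v ≠ 0)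
    (hw : hermForm n F q w w ≠ 0) (h : xv q v hv = xv q w hw) :
    w = (hermForm n F q w v / hermForm n F q v v) • v := by
  have h1 : gact (xv q v hv) w = w := by rw [h, xv_self]
  rw [xv_gact] at h1
  have h3 : (2 : F) • w = (2 : F) • ((hermForm n F q w v / hermForm n F q v v) • v) := by
    rw [smul_smul, two_smul]
    have : 2 * (hermForm n F q w v / hermForm n F q v v) =
        2 * hermForm n F q w v / hermForm n F q v v := by ring
    rw [this]
    nth_rewrite 2 [← h1]
    abel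
  have h4 := congrArg (fun u => (2 : F)⁻¹ • u) h3
  simp only [smul_smul, inv_mul_cancel₀ h2, one_smul] at h4
  rw [← mul_assoc, inv_mul_cancel₀ h2, one_mul] at h4
  exact h4

/-- `SU_n` is transitive on anisotropic points. -/
theorem su_trans_aniso (hF : Fintype.card F = q ^ 2) (v w : Fin n → F)
    (hv : hermForm n F q v v ≠ 0) (hw : hermForm n F q w w ≠ 0) :
    ∃ g : GL (Fin n) F, g ∈ GU n F q ⊓ Cfsg.Geo.specialLinear (Fin n) F ∧
      ∃ c : F, c ≠ 0 ∧ gact g v = c • w := by
  have hfix : (hermForm n F q v v / hermForm n F q w w) ^ q =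
      hermForm n F q v v / hermForm n F q w w := by
    rw [cj_div, hf_self_fixed hF, hf_self_fixed hF]
  obtain ⟨c₀, hc₀⟩ := nm_surj hF _ hfix
  have hc₀0 : c₀ ≠ 0 := by
    rintro rfl
    rw [zero_mul] at hc₀
    exact div_ne_zero hv hw hc₀.symm
  obtain ⟨w', hw'def⟩ : ∃ w', w' = c₀ • w := ⟨_, rfl⟩
  have hw'w' : hermForm n F q w' w' = hermForm n F q v v := by
    rw [hw'def, hf_smul_self, hc₀, div_mul_cancel₀ _ hw]
  have hw'0 : hermForm n F q w' w' ≠ 0 := by rw [hw'w']; exact hv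
  have hfx : ∀ a : F, ((hermB hF n v).smulRight ((hermForm n F q v v)⁻¹ • w')) (a • v) =
      a • w' := by
    intro a
    rw [LinearMap.smulRight_apply, hermB_apply, hf_smul_left, smul_smul, mul_assoc,
      mul_inv_cancel₀ hv, mul_one]
  obtain ⟨g₀, hg₀, hg₀X⟩ := witt_gu_submodule hF (Submodule.span F {v})
    ((hermB hF n v).smulRight ((hermForm n F q v v)⁻¹ • w'))
    (by
      intro x hx x' hx'
      obtain ⟨a, rfl⟩ := Submodule.mem_span_singleton.mp hx
      obtain ⟨a', rfl⟩ := Submodule.mem_span_singleton.mp hx'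
      rw [hfx, hfx, hf_smul_left, hf_smul_right, hf_smul_left, hf_smul_right, hw'w'])
    (by
      intro x hx hx0
      obtain ⟨a, rfl⟩ := Submodule.mem_span_singleton.mp hx
      rw [hfx] at hx0
      rcases smul_eq_zero.mp hx0 with h0 | h0
      · rw [h0, zero_smul]
      · exfalso
        apply hw'0
        rw [h0, hf_zero_left])
  have hg₀v : gact g₀ v = w' := by
    rw [hg₀X v (Submodule.mem_span_singleton_self v)]
    have := hfx 1
    rw [one_smul, one_smul] at this
    exact this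
  obtain ⟨δ, hδ⟩ : ∃ δ : F, δ = (g₀ : Matrix (Fin n) (Fin n) F).det := ⟨_, rfl⟩
  have hδN : δ * δ ^ q = 1 := by rw [hδ]; exact GU_det hF hg₀
  have hδ0 : δ ≠ 0 := by
    rintro rfl
    rw [zero_mul] at hδN
    exact zero_ne_one hδN
  have hδinv : δ⁻¹ * (δ⁻¹) ^ q = 1 := by
    rw [cj_inv, ← mul_inv, hδN, inv_one]
  obtain ⟨r, hr, hrdet, hrx⟩ := exists_qr hF w' hw'0 δ⁻¹ hδinv
  refine ⟨r * g₀, ?_, δ⁻¹ * c₀, mul_ne_zero (inv_ne_zero hδ0) hc₀0, ?_⟩
  · rw [mem_SUg_iff]
    refine ⟨mul_mem hr hg₀, ?_⟩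
    rw [Units.val_mul, Matrix.det_mul, hrdet, ← hδ, inv_mul_cancel₀ hδ0]
  · rw [gact_mul, hg₀v, hrx, div_mul_cancel₀ _ hw'0, hw'def, ← smul_smul]
    rw [sub_smul, one_smul]
    abel

end Cfsg.Agent.Lib.Helper27.Unitary
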