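import Mathlib
import Cfsg.Agent.Lib.Helper27.UGeom2
import Cfsg.Agent.S0755

set_option autoImplicit false

/-!
Orthonormal frames of non-degenerate subspaces and the associated coordinate maps.
-/

namespace Cfsg.Agent.Lib.Helper27.Unitary

open Cfsg Matrix

variable {F : Type*} [Field F] [Fintype F] {q n : ℕ}

/-- An orthonormal frame of a subspace. -/
structure Frame (q : ℕ) (S : Submodule F (Fin n → F)) (m : ℕ) where
  b : Fin m → (Fin n → F)
  mem : ∀ i, b i ∈ S
  orth : ∀ i j, hermForm n F q (b i) (b j) = if i = j then 1 else 0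
  expand : ∀ v ∈ S, v = ∑ i, hermForm n F q v (b i) • b i

theorem exists_frame (hF : Fintype.card F = q ^ 2) (S : Submodule F (Fin n → F))
    (hS : UNondeg q S) (m : ℕ) (hm : Module.finrank F S = m) : Nonempty (Frame q S m) := by
  subst hm
  have hsymm : ((hermB hF n).domRestrict₁₂ S S).IsSymm := by
    constructor
    intro x y
    exact (hermB_isSymm hF).eq x.1 y.1
  have hnd : ((hermB hF n).domRestrict₁₂ S S).Nondegenerate := by
    constructor
    · intro x hx
      apply Subtype.ext
      apply hS x.1 x.2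
      intro w hw
      have := hx ⟨w, hw⟩
      rw [LinearMap.domRestrict₁₂_apply, hermB_apply] at this
      exact hf_eq_zero_swap hF this
    · intro y hy
      apply Subtype.ext
      apply hS y.1 y.2
      intro w hw
      have := hy ⟨w, hw⟩
      rw [LinearMap.domRestrict₁₂_apply, hermB_apply] at this
      exact this
  obtain ⟨b, hb⟩ := Cfsg.Agent.S0755.result (conjHom hF) (conjHom_ne_id hF) (conjHom_conjHom hF)
    ((hermB hF n).domRestrict₁₂ S S) hsymm hnd
  have horth : ∀ i j, hermForm n F q (b i : Fin n → F) (b j : Fin n → F) =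
      if i = j then 1 else 0 := by
    intro i j
    have := hb j i
    rw [LinearMap.domRestrict₁₂_apply, hermB_apply] at this
    rw [this]
    by_cases h : i = j
    · rw [if_pos h, if_pos h.symm]
    · rw [if_neg h, if_neg (Ne.symm h)]
  refine ⟨⟨fun i => (b i : Fin n → F), fun i => (b i).2, horth, ?_⟩⟩
  intro v hv
  have h1 : (⟨v, hv⟩ : ↥S) = ∑ i, b.repr ⟨v, hv⟩ i • b i := (b.sum_repr ⟨v, hv⟩).symm
  have h2 : v = ∑ i, b.repr ⟨v, hv⟩ i • (b i : Fin n → F) := by
    have := congrArg (S.subtype) h1
    rw [map_sum] at this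
    simp only [map_smul, Submodule.subtype_apply] at this
    exact this
  have h3 : ∀ j, hermForm n F q v (b j : Fin n → F) = b.repr ⟨v, hv⟩ j := by
    intro j
    conv_lhs => rw [h2]
    rw [hf_sum_left]
    rw [Finset.sum_eq_single j]
    · rw [hf_smul_left, horth, if_pos rfl, mul_one]
    · intro i _ hij
      rw [hf_smul_left, horth, if_neg hij, mul_zero]
    · intro h
      exact absurd (Finset.mem_univ j) h
  conv_lhs => rw [h2]
  apply Finset.sum_congr rfl
  intro i _
  rw [h3]

namespace Frame

variable {S : Submodule F (Fin n → F)} {m : ℕ}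

/-- The embedding `F^m → F^n` attached to a frame. -/
noncomputable def E (fr : Frame q S m) : (Fin m → F) →ₗ[F] (Fin n → F) :=
  Fintype.linearCombination F fr.b

/-- The coordinate map `F^n → F^m` attached to a frame. -/
noncomputable def D (hF : Fintype.card F = q ^ 2) (fr : Frame q S m) :
    (Fin n → F) →ₗ[F] (Fin m → F) :=
  LinearMap.pi (fun i => hermB hF n (fr.b i))

theorem E_apply (fr : Frame q S m) (x : Fin m → F) : fr.E x = ∑ i, x i • fr.b i :=
  Fintype.linearCombination_apply F fr.b x

theorem D_apply (hF : Fintype.card F = q ^ 2) (fr : Frame q S m) (v : Fin n → F) (i : Fin m) :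
    fr.D hF v i = hermForm n F q v (fr.b i) := rfl

theorem E_mem (fr : Frame q S m) (x : Fin m → F) : fr.E x ∈ S := by
  rw [E_apply]
  exact S.sum_mem (fun i _ => S.smul_mem _ (fr.mem i))

theorem D_E (hF : Fintype.card F = q ^ 2) (fr : Frame q S m) (x : Fin m → F) :
    fr.D hF (fr.E x) = x := by
  ext j
  rw [D_apply, E_apply, hf_sum_left, Finset.sum_eq_single j]
  · rw [hf_smul_left, fr.orth, if_pos rfl, mul_one]
  · intro i _ hij
    rw [hf_smul_left, fr.orth, if_neg hij, mul_zero]
  · intro h
    exact absurd (Finset.mem_univ j) h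

theorem E_D (hF : Fintype.card F = q ^ 2) (fr : Frame q S m) {v : Fin n → F} (hv : v ∈ S) :
    fr.E (fr.D hF v) = v := by
  rw [E_apply]
  exact (fr.expand v hv).symm

theorem D_perp (hF : Fintype.card F = q ^ 2) (fr : Frame q S m) {v : Fin n → F}
    (hv : v ∈ uperp q S) : fr.D hF v = 0 := by
  ext j
  rw [D_apply]
  exact hv _ (fr.mem j)

theorem hf_E (hF : Fintype.card F = q ^ 2) (fr : Frame q S m) (x y : Fin m → F) :
    hermForm n F q (fr.E x) (fr.E y) = hermForm m F q x y := by
  rw [E_apply, E_apply, hf_sum_left, hf_def]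
  apply Finset.sum_congr rfl
  intro i _
  rw [hf_smul_left, hf_sum_right hF, Finset.sum_eq_single i]
  · rw [hf_smul_right, fr.orth, if_pos rfl, mul_one]
  · intro j _ hji
    rw [hf_smul_right, fr.orth, if_neg (Ne.symm hji), mul_zero]
  · intro h
    exact absurd (Finset.mem_univ i) h

theorem E_injective (hF : Fintype.card F = q ^ 2) (fr : Frame q S m) :
    Function.Injective fr.E := by
  intro x y h
  rw [← fr.D_E hF x, ← fr.D_E hF y, h]

end Frame

end Cfsg.Agent.Lib.Helper27.Unitary
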