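import Mathlib
import Cfsg.Agent.Lib.Helper27.URoot
import Cfsg.Agent.Lib.Helper27.UGroup
import Cfsg.Agent.S0780

set_option autoImplicit false

/-!
Unitary transvection subgroups `Tu p` of `SU_n(q)`: abstract root subgroup properties.
-/

namespace Cfsg.Agent.Lib.Helper27.URoot

open Matrix Cfsg Cfsg.Agent.Lib.Helper27.Unitary Cfsg.Agent.S0780

variable {F : Type*} [Field F] [Fintype F] {q n : ℕ}

theorem phi_GU (A : ↥(Cfsg.SU n F q)) : phi n F q A ∈ GU n F q :=
  ((mem_SUg_iff _).mp (phi_mem A)).1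

theorem tv_of_not_iso {p : Fin n → F} (hp : hermForm n F q p p ≠ 0) (c : F) : tv q p c = 1 := by
  unfold tv
  rw [dif_neg hp]

theorem tz_zero (hF : Fintype.card F = q ^ 2) : (0 : F) + (0 : F) ^ q = 0 := by
  rw [cj_zero hF, add_zero]

theorem tz_add (hF : Fintype.card F = q ^ 2) {c d : F} (hc : c + c ^ q = 0) (hd : d + d ^ q = 0) :
    (c + d) + (c + d) ^ q = 0 := by
  rw [cj_add hF]
  linear_combination hc + hd

theorem tz_neg (hF : Fintype.card F = q ^ 2) {c : F} (hc : c + c ^ q = 0) :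
    (-c) + (-c) ^ q = 0 := by
  rw [cj_neg hF]
  linear_combination (-1 : F) * hc

theorem tz_mul_fixed {a c : F} (ha : a ^ q = a) (hc : c + c ^ q = 0) :
    a * c + (a * c) ^ q = 0 := by
  rw [mul_pow, ha]
  linear_combination a * hc

/-- The transvection subgroup with centre `p` in `SU`. -/
def Tu (hF : Fintype.card F = q ^ 2) (p : Fin n → F) : Subgroup ↥(Cfsg.SU n F q) where
  carrier := {x | ∃ c : F, c + c ^ q = 0 ∧ phi n F q x = tv q p c}
  one_mem' := ⟨0, tz_zero hF, by rw [map_one, tv_zero_right]⟩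
  mul_mem' := by
    rintro x y ⟨c, hc, hx⟩ ⟨d, hd, hy⟩
    refine ⟨c + d, tz_add hF hc hd, ?_⟩
    rw [map_mul, hx, hy]
    by_cases hp : hermForm n F q p p = 0
    · exact tv_mul hF hp c d
    · rw [tv_of_not_iso hp, tv_of_not_iso hp, tv_of_not_iso hp, one_mul]
  inv_mem' := by
    rintro x ⟨c, hc, hx⟩
    refine ⟨-c, tz_neg hF hc, ?_⟩
    rw [map_inv, hx]
    by_cases hp : hermForm n F q p p = 0
    · exact tv_inv hF hp c
    · rw [tv_of_not_iso hp, tv_of_not_iso hp, inv_one]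

theorem mem_Tu (hF : Fintype.card F = q ^ 2) {p : Fin n → F} {x : ↥(Cfsg.SU n F q)} :
    x ∈ Tu hF p ↔ ∃ c : F, c + c ^ q = 0 ∧ phi n F q x = tv q p c := Iff.rfl

open scoped Classical in
/-- The element of `SU` lifting a unitary transvection. -/
noncomputable def lt (hF : Fintype.card F = q ^ 2) (p : Fin n → F) (c : F) : ↥(Cfsg.SU n F q) :=
  if h : c + c ^ q = 0 then Classical.choose (exists_lift (tv_mem_SUg hF p h)) else 1

theorem phi_lt (hF : Fintype.card F = q ^ 2) (p : Fin n → F) {c : F} (hc : c + c ^ q = 0) :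
    phi n F q (lt hF p c) = tv q p c := by
  unfold lt
  rw [dif_pos hc]
  exact Classical.choose_spec (exists_lift (tv_mem_SUg hF p hc))

theorem lt_mem_Tu (hF : Fintype.card F = q ^ 2) (p : Fin n → F) {c : F} (hc : c + c ^ q = 0) :
    lt hF p c ∈ Tu hF p := ⟨c, hc, phi_lt hF p hc⟩

theorem conj_Tu (hF : Fintype.card F = q ^ 2) (x : ↥(Cfsg.SU n F q)) {p : Fin n → F}
    (hp : hermForm n F q p p = 0) :
    conjBy (Tu hF p) x = Tu hF (gact (phi n F q x) p) := by
  ext y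
  rw [mem_conjBy]
  constructor
  · rintro ⟨z, ⟨c, hc, hz⟩, rfl⟩
    refine ⟨c, hc, ?_⟩
    rw [map_mul, map_mul, map_inv, hz, conj_tv hF (phi_GU x) hp]
  · rintro ⟨c, hc, hy⟩
    refine ⟨lt hF p c, lt_mem_Tu hF p hc, ?_⟩
    apply phi_injective
    rw [map_mul, map_mul, map_inv, phi_lt hF p hc, conj_tv hF (phi_GU x) hp, hy]

theorem Tu_smul (hF : Fintype.card F = q ^ 2) {p : Fin n → F} (hp : hermForm n F q p p = 0)
    {a : F} (ha : a ≠ 0) : Tu hF (a • p) = Tu hF p := by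
  have hN : (a * a ^ q) ^ q = a * a ^ q := nm_fixed hF a
  have hN0 : a * a ^ q ≠ 0 := mul_ne_zero ha (fun h => ha ((cj_eq_zero hF).mp h))
  ext x
  constructor
  · rintro ⟨c, hc, hx⟩
    exact ⟨a * a ^ q * c, tz_mul_fixed hN hc, by rw [hx, tv_smul hF hp]⟩
  · rintro ⟨c, hc, hx⟩
    refine ⟨(a * a ^ q)⁻¹ * c, tz_mul_fixed (by rw [inv_pow, hN]) hc, ?_⟩
    rw [hx, tv_smul hF hp, ← mul_assoc, mul_inv_cancel₀ hN0, one_mul]

theorem exists_hf_ne_zero (hF : Fintype.card F = q ^ 2) {v : Fin n → F} (hv0 : v ≠ 0) :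
    ∃ x, hermForm n F q x v ≠ 0 := by
  by_contra hne
  apply hv0
  apply hf_nondeg' hF
  intro x
  by_contra hx
  exact hne ⟨x, hx⟩

theorem tv_ne_one' (hF : Fintype.card F = q ^ 2) {v : Fin n → F} (hv0 : v ≠ 0)
    (hv : hermForm n F q v v = 0) {c : F} (hc : c ≠ 0) : tv q v c ≠ 1 := by
  intro h1
  obtain ⟨x, hx⟩ := exists_hf_ne_zero hF hv0
  have h2 : gact (tv q v c) x = gact 1 x := by rw [h1]
  rw [tv_gact hv, gact_one] at h2
  have h3 : (c * hermForm n F q x v) • v = 0 := by rwa [add_eq_left] at h2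
  rcases smul_eq_zero.mp h3 with h4 | h4
  · exact mul_ne_zero hc hx h4
  · exact hv0 h4

theorem lt_ne_one (hF : Fintype.card F = q ^ 2) {p : Fin n → F} (hp0 : p ≠ 0)
    (hp : hermForm n F q p p = 0) {c : F} (hc0 : c ≠ 0) (hc : c + c ^ q = 0) :
    lt hF p c ≠ 1 := by
  intro h1
  have h2 := congrArg (phi n F q) h1
  rw [phi_lt hF p hc, map_one] at h2
  exact tv_ne_one' hF hp0 hp hc0 h2

theorem Tu_ne_bot (hF : Fintype.card F = q ^ 2) {p : Fin n → F} (hp0 : p ≠ 0)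
    (hp : hermForm n F q p p = 0) : Tu hF p ≠ ⊥ := by
  obtain ⟨θ, hθ0, hθ⟩ := exists_theta hF
  intro h
  have h1 : lt hF p θ ∈ Tu hF p := lt_mem_Tu hF p hθ
  rw [h, Subgroup.mem_bot] at h1
  exact lt_ne_one hF hp0 hp hθ0 hθ h1

theorem Tu_comm (hF : Fintype.card F = q ^ 2) {p : Fin n → F} (hp : hermForm n F q p p = 0) :
    IsMulCommutative ↥(Tu hF p) := by
  refine ⟨⟨?_⟩⟩
  rintro ⟨x, c, hc, hx⟩ ⟨y, d, hd, hy⟩
  apply Subtype.ext
  apply phi_injective
  show phi n F q (x * y) = phi n F q (y * x)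
  rw [map_mul, map_mul, hx, hy, tv_mul hF hp, tv_mul hF hp, add_comm]

theorem tv_comm_of_perp (hF : Fintype.card F = q ^ 2) {u w : Fin n → F}
    (hu : hermForm n F q u u = 0) (hw : hermForm n F q w w = 0)
    (h0 : hermForm n F q u w = 0) (c d : F) :
    tv q u c * tv q w d = tv q w d * tv q u c := by
  have h0' : hermForm n F q w u = 0 := hf_eq_zero_swap hF h0
  apply gact_ext
  intro x
  rw [gact_mul, gact_mul, tv_gact hw, tv_gact hu, tv_gact hu, tv_gact hw, hf_add_left,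
    hf_add_left, hf_smul_left, hf_smul_left, h0, h0']
  module

theorem Tu_commute_of_perp (hF : Fintype.card F = q ^ 2) {p p' : Fin n → F}
    (hp : hermForm n F q p p = 0) (hp' : hermForm n F q p' p' = 0)
    (h0 : hermForm n F q p p' = 0) :
    ∀ x ∈ Tu hF p, ∀ y ∈ Tu hF p', x * y = y * x := by
  rintro x ⟨c, hc, hx⟩ y ⟨d, hd, hy⟩
  apply phi_injective
  rw [map_mul, map_mul, hx, hy]
  exact tv_comm_of_perp hF hp hp' h0 c d

theorem gact_tv_inv (hF : Fintype.card F = q ^ 2) {v : Fin n → F}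
    (hv : hermForm n F q v v = 0) (c : F) (x : Fin n → F) :
    gact (tv q v c)⁻¹ x = x - (c * hermForm n F q x v) • v := by
  rw [tv_inv hF hv, tv_gact hv, neg_mul, neg_smul, sub_eq_add_neg]

theorem rankOneCondition_Tu (hF : Fintype.card F = q ^ 2) {p p' : Fin n → F} (hp'0 : p' ≠ 0)
    (hp : hermForm n F q p p = 0) (hp' : hermForm n F q p' p' = 0)
    (hγ : hermForm n F q p p' ≠ 0) : RankOneCondition (Tu hF p) (Tu hF p') := by
  rintro a ⟨c, hc, ha⟩ hne
  have hc0 : c ≠ 0 := by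
    rintro rfl
    apply hne
    apply phi_injective
    rw [ha, tv_zero_right, map_one]
  obtain ⟨γ, hγd⟩ : ∃ γ, γ = hermForm n F q p p' := ⟨_, rfl⟩
  have hγ0 : γ ≠ 0 := by rw [hγd]; exact hγ
  have hγ' : hermForm n F q p' p = γ ^ q := by rw [hγd]; exact hf_swap hF p p'
  have hγq0 : γ ^ q ≠ 0 := fun h => hγ0 ((cj_eq_zero hF).mp h)
  obtain ⟨d, hdd⟩ : ∃ d, d = (c * γ * γ ^ q)⁻¹ := ⟨_, rfl⟩
  have hd0 : d ≠ 0 := by
    rw [hdd]
    exact inv_ne_zero (mul_ne_zero (mul_ne_zero hc0 hγ0) hγq0)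
  have hcq : c ^ q = -c := by linear_combination hc
  have hd : d + d ^ q = 0 := by
    rw [hdd, inv_pow, mul_pow, mul_pow, cj_cj hF, hcq]
    field_simp
    ring
  refine ⟨lt hF p' d, lt_mem_Tu hF p' hd, lt_ne_one hF hp'0 hp' hd0 hd, ?_⟩
  rw [conj_Tu hF _ hp, conj_Tu hF _ hp', map_inv, map_inv, phi_lt hF p' hd, ha]
  have hiso : hermForm n F q (gact (tv q p c)⁻¹ p') (gact (tv q p c)⁻¹ p') = 0 := by
    rw [GU_preserves (inv_mem (tv_mem_GU hF p hc)), hp']
  have hvec : gact (tv q p' d)⁻¹ p = (-(c * γ ^ q)⁻¹) • gact (tv q p c)⁻¹ p' := by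
    rw [gact_tv_inv hF hp', gact_tv_inv hF hp, ← hγd, hγ']
    rw [smul_sub, smul_smul, neg_mul, inv_mul_cancel₀ (mul_ne_zero hc0 hγq0), neg_smul, neg_smul,
      one_smul, sub_neg_eq_add]
    have : d * γ = (c * γ ^ q)⁻¹ := by
      rw [hdd]
      field_simp
    rw [this]
    abel
  rw [hvec, Tu_smul hF hiso (neg_ne_zero.mpr (inv_ne_zero (mul_ne_zero hc0 hγq0)))]

theorem Tu_ne_of_hyp (hF : Fintype.card F = q ^ 2) {p p' : Fin n → F} (hp'0 : p' ≠ 0)
    (hp : hermForm n F q p p = 0) (hp' : hermForm n F q p' p' = 0)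
    (hγ : hermForm n F q p p' ≠ 0) : Tu hF p ≠ Tu hF p' := by
  intro heq
  obtain ⟨θ, hθ0, hθ⟩ := exists_theta hF
  have h1 : lt hF p' θ ∈ Tu hF p := by rw [heq]; exact lt_mem_Tu hF p' hθ
  obtain ⟨c, hc, hx⟩ := h1
  rw [phi_lt hF p' hθ] at hx
  have h2 : gact (tv q p' θ) p = gact (tv q p c) p := by rw [hx]
  rw [tv_gact hp', tv_gact hp, hp, mul_zero, zero_smul, add_zero] at h2
  have h3 : (θ * hermForm n F q p p') • p' = 0 := by rwa [add_eq_left] at h2
  rcases smul_eq_zero.mp h3 with h4 | h4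
  · exact mul_ne_zero hθ0 hγ h4
  · exact hp'0 h4

theorem hf_ne_zero_swap (hF : Fintype.card F = q ^ 2) {u v : Fin n → F}
    (h : hermForm n F q u v ≠ 0) : hermForm n F q v u ≠ 0 :=
  fun h0 => h (hf_eq_zero_swap hF h0)

theorem ne_zero_of_hf_left (hF : Fintype.card F = q ^ 2) {u v : Fin n → F}
    (h : hermForm n F q u v ≠ 0) : u ≠ 0 := by
  rintro rfl
  exact h (hf_zero_left v)

theorem ne_zero_of_hf_right (hF : Fintype.card F = q ^ 2) {u v : Fin n → F}
    (h : hermForm n F q u v ≠ 0) : v ≠ 0 := by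
  rintro rfl
  exact h (hf_zero_right hF u)

theorem rankOnePair_Tu (hF : Fintype.card F = q ^ 2) {p p' : Fin n → F}
    (hp : hermForm n F q p p = 0) (hp' : hermForm n F q p' p' = 0)
    (hγ : hermForm n F q p p' ≠ 0) : IsRankOnePair (Tu hF p) (Tu hF p') where
  ne := Tu_ne_of_hyp hF (ne_zero_of_hf_right hF hγ) hp hp' hγ
  nilpotent_left := isNilpotent_of_isMulCommutative (Tu_comm hF hp)
  nilpotent_right := isNilpotent_of_isMulCommutative (Tu_comm hF hp')
  cond_left := rankOneCondition_Tu hF (ne_zero_of_hf_right hF hγ) hp hp' hγ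
  cond_right := rankOneCondition_Tu hF (ne_zero_of_hf_left hF hγ) hp' hp (hf_ne_zero_swap hF hγ)

theorem tv_not_commute (hF : Fintype.card F = q ^ 2) {u w : Fin n → F}
    (hu : hermForm n F q u u = 0) (hw : hermForm n F q w w = 0)
    (h : hermForm n F q u w ≠ 0) {c d : F} (hc : c ≠ 0) (hd : d ≠ 0) :
    tv q u c * tv q w d ≠ tv q w d * tv q u c := by
  intro heq
  have hwu : hermForm n F q w u ≠ 0 := hf_ne_zero_swap hF h
  have e1 : gact (tv q u c * tv q w d) w = w + (c * hermForm n F q w u) • u := by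
    rw [gact_mul, tv_gact hw, hw, mul_zero, zero_smul, add_zero, tv_gact hu]
  have e2 : gact (tv q w d * tv q u c) w = w + (c * hermForm n F q w u) • u +
      (d * (c * hermForm n F q w u * hermForm n F q u w)) • w := by
    rw [gact_mul, tv_gact hu, tv_gact hw, hf_add_left, hf_smul_left, hw, zero_add]
  rw [heq, e2] at e1
  have h3 : (d * (c * hermForm n F q w u * hermForm n F q u w)) • w = 0 := by
    rwa [add_eq_left] at e1
  rcases smul_eq_zero.mp h3 with h4 | h4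
  · exact mul_ne_zero hd (mul_ne_zero (mul_ne_zero hc hwu) h) h4
  · exact ne_zero_of_hf_right hF h h4

/-- The commutator of two non-perpendicular transvection groups is not central. -/
theorem commutator_not_central (hF : Fintype.card F = q ^ 2) {p p' : Fin n → F}
    (hp : hermForm n F q p p = 0) (hp' : hermForm n F q p' p' = 0)
    (hγ : hermForm n F q p p' ≠ 0) :
    ∃ a ∈ Tu hF p, ∃ b ∈ Tu hF p',
      (a * b * a⁻¹ * b⁻¹) * a ≠ a * (a * b * a⁻¹ * b⁻¹) := by
  obtain ⟨θ, hθ0, hθ⟩ := exists_theta hF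
  refine ⟨lt hF p θ, lt_mem_Tu hF p hθ, lt hF p' θ, lt_mem_Tu hF p' hθ, ?_⟩
  intro heq
  obtain ⟨a, ha⟩ : ∃ a, a = lt hF p θ := ⟨_, rfl⟩
  obtain ⟨b, hb⟩ : ∃ b, b = lt hF p' θ := ⟨_, rfl⟩
  rw [← ha, ← hb] at heq
  have h1 : (b * a⁻¹ * b⁻¹) * a = a * (b * a⁻¹ * b⁻¹) := by
    have : a * ((b * a⁻¹ * b⁻¹) * a) = a * (a * (b * a⁻¹ * b⁻¹)) := by
      calc a * ((b * a⁻¹ * b⁻¹) * a) = (a * b * a⁻¹ * b⁻¹) * a := by group
        _ = a * (a * b * a⁻¹ * b⁻¹) := heq
        _ = a * (a * (b * a⁻¹ * b⁻¹)) := by group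
    exact mul_left_cancel this
  have h2 := congrArg (phi n F q) h1
  simp only [map_mul, map_inv] at h2
  rw [ha, hb, phi_lt hF p hθ, phi_lt hF p' hθ] at h2
  have h3 : tv q p' θ * (tv q p θ)⁻¹ * (tv q p' θ)⁻¹ = tv q (gact (tv q p' θ) p) (-θ) := by
    rw [tv_inv hF hp, conj_tv hF (tv_mem_GU hF p' hθ) hp]
  rw [h3] at h2
  have hiso : hermForm n F q (gact (tv q p' θ) p) (gact (tv q p' θ) p) = 0 := by
    rw [GU_preserves (tv_mem_GU hF p' hθ), hp]
  have hne : hermForm n F q p (gact (tv q p' θ) p) ≠ 0 := by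
    rw [tv_gact hp', hf_add_right hF, hf_smul_right, hp, zero_add]
    exact mul_ne_zero (fun h => (mul_ne_zero hθ0 hγ) ((cj_eq_zero hF).mp h)) hγ
  exact tv_not_commute hF hp hiso hne hθ0 (neg_ne_zero.mpr hθ0) h2.symm

/-- Two perpendicular isotropic vectors are joined through a third one. -/
theorem exists_connect_iso (hF : Fintype.card F = q ^ 2) {p p' : Fin n → F} (hp0 : p ≠ 0)
    (hp'0 : p' ≠ 0) (hp : hermForm n F q p p = 0)
    (h0 : hermForm n F q p p' = 0) :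
    ∃ z : Fin n → F, hermForm n F q z z = 0 ∧ hermForm n F q p z ≠ 0 ∧
      hermForm n F q z p' ≠ 0 := by
  obtain ⟨u, hup, hup'⟩ : ∃ u, hermForm n F q u p ≠ 0 ∧ hermForm n F q u p' ≠ 0 := by
    obtain ⟨u₁, h1⟩ := exists_hf_ne_zero hF hp0
    obtain ⟨u₂, h2⟩ := exists_hf_ne_zero hF hp'0
    by_cases h3 : hermForm n F q u₁ p' ≠ 0
    · exact ⟨u₁, h1, h3⟩
    by_cases h4 : hermForm n F q u₂ p ≠ 0
    · exact ⟨u₂, h4, h2⟩
    rw [not_not] at h3 h4
    refine ⟨u₁ + u₂, ?_, ?_⟩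
    · rw [hf_add_left, h4, add_zero]; exact h1
    · rw [hf_add_left, h3, zero_add]; exact h2
  have hpu : hermForm n F q p u ≠ 0 := hf_ne_zero_swap hF hup
  obtain ⟨x, hx⟩ := tr_surj hF (-(hermForm n F q u u))
    (by rw [cj_neg hF, hf_self_fixed hF])
  obtain ⟨l, hl⟩ : ∃ l, l = x / hermForm n F q p u := ⟨_, rfl⟩
  have hlx : l * hermForm n F q p u = x := by
    rw [hl]
    field_simp
  have hlx' : l ^ q * hermForm n F q u p = x ^ q := by
    rw [hf_swap hF p u, ← mul_pow, hlx]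
  refine ⟨u + l • p, ?_, ?_, ?_⟩
  · rw [hf_add_left, hf_add_right hF, hf_add_right hF, hf_smul_left, hf_smul_left, hf_smul_right,
      hf_smul_right, hp, hlx, hlx']
    linear_combination hx
  · rw [hf_add_right hF, hf_smul_right, hp, mul_zero, add_zero]
    exact hpu
  · rw [hf_add_left, hf_smul_left, h0, mul_zero, add_zero]
    exact hup'

/-- The description of the transvection group in the statement. -/
theorem closure_eq_Tu (hF : Fintype.card F = q ^ 2) {p : Fin n → F} (hp0 : p ≠ 0)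
    (hp : hermForm n F q p p = 0) :
    Subgroup.closure {g : ↥(Cfsg.SU n F q) |
      (∀ v : Fin n → F, ∃ c : F, ((g : Matrix.SpecialLinearGroup (Fin n) F) :
        Matrix (Fin n) (Fin n) F) *ᵥ v = v + c • p) ∧
      ∀ v : Fin n → F, Cfsg.hermForm n F q v p = 0 →
        ((g : Matrix.SpecialLinearGroup (Fin n) F) : Matrix (Fin n) (Fin n) F) *ᵥ v = v} =
    Tu hF p := by
  have h : {g : ↥(Cfsg.SU n F q) |
      (∀ v : Fin n → F, ∃ c : F, ((g : Matrix.SpecialLinearGroup (Fin n) F) :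
        Matrix (Fin n) (Fin n) F) *ᵥ v = v + c • p) ∧
      ∀ v : Fin n → F, Cfsg.hermForm n F q v p = 0 →
        ((g : Matrix.SpecialLinearGroup (Fin n) F) : Matrix (Fin n) (Fin n) F) *ᵥ v = v} =
      (Tu hF p : Set ↥(Cfsg.SU n F q)) := by
    ext g
    constructor
    · rintro ⟨h1, h2⟩
      have h1' : ∀ v : Fin n → F, ∃ c : F, gact (phi n F q g) v = v + c • p := h1
      have h2' : ∀ v : Fin n → F, hermForm n F q v p = 0 → gact (phi n F q g) v = v := h2
      obtain ⟨u, hu⟩ := exists_hf_ne_zero hF hp0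
      obtain ⟨u₀, hu₀d⟩ : ∃ u₀, u₀ = (hermForm n F q u p)⁻¹ • u := ⟨_, rfl⟩
      have hu₀ : hermForm n F q u₀ p = 1 := by
        rw [hu₀d, hf_smul_left, inv_mul_cancel₀ hu]
      obtain ⟨c₀, hc₀⟩ := h1' u₀
      have hgv : ∀ v, gact (phi n F q g) v = v + (c₀ * hermForm n F q v p) • p := by
        intro v
        have hw : hermForm n F q (v - hermForm n F q v p • u₀) p = 0 := by
          rw [hf_sub_left, hf_smul_left, hu₀, mul_one, sub_self]
        have h3 := h2' _ hw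
        rw [gact_sub, gact_smul, hc₀] at h3
        have h4 : gact (phi n F q g) v = v - hermForm n F q v p • u₀ +
            hermForm n F q v p • (u₀ + c₀ • p) := by
          rw [← h3]; abel
        rw [h4]
        module
      have hpu₀ : hermForm n F q p u₀ = 1 := by
        rw [hf_swap hF u₀ p, hu₀, one_pow]
      have hc : c₀ + c₀ ^ q = 0 := by
        have h5 := GU_preserves (phi_GU g) u₀ u₀
        rw [hc₀, hf_add_left, hf_add_right hF, hf_add_right hF, hf_smul_left, hf_smul_left,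
          hf_smul_right, hf_smul_right, hp, hu₀, hpu₀] at h5
        linear_combination h5
      refine ⟨c₀, hc, ?_⟩
      apply gact_ext
      intro v
      rw [hgv, tv_gact hp]
    · rintro ⟨c, hc, hx⟩
      constructor
      · intro v
        refine ⟨c * hermForm n F q v p, ?_⟩
        show gact (phi n F q g) v = _
        rw [hx, tv_gact hp]
      · intro v hv
        show gact (phi n F q g) v = _
        rw [hx, tv_gact hp, hv, mul_zero, zero_smul, add_zero]
  rw [h, Subgroup.closure_eq]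

end Cfsg.Agent.Lib.Helper27.URoot
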