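import Mathlib
import Cfsg.Agent.Lib.Helper27.URoot2
import Cfsg.Agent.Lib.Helper27.UIwasawa

set_option autoImplicit false

/-!
The unitary transvection subgroups form, inside the subgroup they generate, a degenerate class of
abstract root subgroups with connected graph of rank one pairs.
-/

namespace Cfsg.Agent.Lib.Helper27.URoot

open Matrix Cfsg Cfsg.Agent.Lib.Helper27.Unitary Cfsg.Agent.S0780
open scoped commutatorElement

variable {F : Type*} [Field F] [Fintype F] {q n : ℕ}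

/-- The set of transvection subgroups of `SU`. -/
def SigU (hF : Fintype.card F = q ^ 2) (n : ℕ) : Set (Subgroup ↥(Cfsg.SU n F q)) :=
  {A | ∃ p : Fin n → F, p ≠ 0 ∧ hermForm n F q p p = 0 ∧ A = Tu hF p}

/-- The subgroup generated by the transvection subgroups. -/
def G0 (hF : Fintype.card F = q ^ 2) (n : ℕ) : Subgroup ↥(Cfsg.SU n F q) :=
  ⨆ B ∈ SigU hF n, B

/-- The transvection subgroups as subgroups of `G0`. -/
def Sig0 (hF : Fintype.card F = q ^ 2) (n : ℕ) : Set (Subgroup ↥(G0 hF n)) :=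
  (fun A : Subgroup ↥(Cfsg.SU n F q) => A.subgroupOf (G0 hF n)) '' SigU hF n

theorem Tu_le_G0 (hF : Fintype.card F = q ^ 2) {p : Fin n → F} (hp0 : p ≠ 0)
    (hp : hermForm n F q p p = 0) : Tu hF p ≤ G0 hF n :=
  le_iSup₂ (f := fun B _ => B) (Tu hF p) ⟨p, hp0, hp, rfl⟩

theorem mem_Sig0 (hF : Fintype.card F = q ^ 2) {p : Fin n → F} (hp0 : p ≠ 0)
    (hp : hermForm n F q p p = 0) : (Tu hF p).subgroupOf (G0 hF n) ∈ Sig0 hF n :=
  ⟨Tu hF p, ⟨p, hp0, hp, rfl⟩, rfl⟩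

theorem Sig0_ne_bot (hF : Fintype.card F = q ^ 2) {p : Fin n → F} (hp0 : p ≠ 0)
    (hp : hermForm n F q p p = 0) : (Tu hF p).subgroupOf (G0 hF n) ≠ ⊥ := by
  obtain ⟨θ, hθ0, hθ⟩ := exists_theta hF
  intro h
  have h1 : (⟨lt hF p θ, Tu_le_G0 hF hp0 hp (lt_mem_Tu hF p hθ)⟩ : ↥(G0 hF n)) ∈
      (Tu hF p).subgroupOf (G0 hF n) := Subgroup.mem_subgroupOf.mpr (lt_mem_Tu hF p hθ)
  rw [h, Subgroup.mem_bot] at h1
  exact lt_ne_one hF hp0 hp hθ0 hθ (congrArg Subtype.val h1)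

theorem adj_of_hyp (hF : Fintype.card F = q ^ 2) {p p' : Fin n → F}
    (hp : hermForm n F q p p = 0) (hp' : hermForm n F q p' p' = 0)
    (hγ : hermForm n F q p p' ≠ 0) :
    FAdj (Sig0 hF n) ((Tu hF p).subgroupOf (G0 hF n)) ((Tu hF p').subgroupOf (G0 hF n)) := by
  have hp0 := ne_zero_of_hf_left hF hγ
  have hp'0 := ne_zero_of_hf_right hF hγ
  exact ⟨mem_Sig0 hF hp0 hp, mem_Sig0 hF hp'0 hp',
    isRankOnePair_subgroupOf (Tu_le_G0 hF hp0 hp) (Tu_le_G0 hF hp'0 hp') (Tu_comm hF hp)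
      (Tu_comm hF hp') (rankOnePair_Tu hF hp hp' hγ)⟩

theorem isRootSubgroupSet (hF : Fintype.card F = q ^ 2) : IsRootSubgroupSet (Sig0 hF n) where
  commutative := by
    rintro _ ⟨_, ⟨p, hp0, hp, rfl⟩, rfl⟩
    exact isMulCommutative_subgroupOf (Tu_comm hF hp)
  ne_bot := by
    rintro _ ⟨_, ⟨p, hp0, hp, rfl⟩, rfl⟩
    exact Sig0_ne_bot hF hp0 hp
  generates := iSup_subgroupOf_eq_top (SigU hF n)
  conj_mem := by
    rintro _ ⟨_, ⟨p, hp0, hp, rfl⟩, rfl⟩ g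
    rw [conjBy_subgroupOf, conj_Tu hF _ hp]
    apply mem_Sig0 hF
    · intro h
      exact hp0 ((gact_eq_zero _).mp h)
    · rw [GU_preserves (phi_GU _), hp]
  pair := by
    rintro _ ⟨_, ⟨p, hp0, hp, rfl⟩, rfl⟩ _ ⟨_, ⟨p', hp'0, hp', rfl⟩, rfl⟩
    by_cases hγ : hermForm n F q p p' = 0
    · exact Or.inl (commutator_subgroupOf_eq_bot (Tu_commute_of_perp hF hp hp' hγ))
    · exact Or.inr (Or.inl (adj_of_hyp hF hp hp' hγ).2.2)

theorem isConnected (hF : Fintype.card F = q ^ 2) :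
    IsConnectedFamily (FAdj (Sig0 hF n)) (Sig0 hF n) := by
  rintro _ ⟨_, ⟨p, hp0, hp, rfl⟩, rfl⟩ _ ⟨_, ⟨p', hp'0, hp', rfl⟩, rfl⟩
  by_cases hγ : hermForm n F q p p' = 0
  · obtain ⟨z, hz, hpz, hzp'⟩ := exists_connect_iso hF hp0 hp'0 hp hγ
    exact Relation.ReflTransGen.head (adj_of_hyp hF hp hz hpz)
      (Relation.ReflTransGen.single (adj_of_hyp hF hz hp' hzp'))
  · exact Relation.ReflTransGen.single (adj_of_hyp hF hp hp' hγ)

theorem isConjClass (hF : Fintype.card F = q ^ 2) (hn : 2 ≤ n) :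
    IsConjClassOfSubgroups (Sig0 hF n) := by
  apply isConjClass_of_connected
  · obtain ⟨e, he0, he⟩ := exists_isotropic hF hn
    exact ⟨_, mem_Sig0 hF he0 he⟩
  · rintro _ ⟨_, ⟨p, hp0, hp, rfl⟩, rfl⟩
    exact Sig0_ne_bot hF hp0 hp
  · exact isConnected hF

theorem isDegenerate (hF : Fintype.card F = q ^ 2) : IsDegenerateRootSet (Sig0 hF n) := by
  rintro _ ⟨_, ⟨p, hp0, hp, rfl⟩, rfl⟩ _ ⟨_, ⟨p', hp'0, hp', rfl⟩, rfl⟩ ⟨hmem, hcentral, -, -⟩
  by_cases hγ : hermForm n F q p p' = 0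
  · rw [commutator_subgroupOf_eq_bot (Tu_commute_of_perp hF hp hp' hγ)] at hmem
    obtain ⟨_, ⟨r, hr0, hr, rfl⟩, hbot⟩ := hmem
    exact Sig0_ne_bot hF hr0 hr hbot
  · obtain ⟨a, ha, b, hb, hne⟩ := commutator_not_central hF hp hp' hγ
    have haG : a ∈ G0 hF n := Tu_le_G0 hF hp0 hp ha
    have hbG : b ∈ G0 hF n := Tu_le_G0 hF hp'0 hp' hb
    have ha' : (⟨a, haG⟩ : ↥(G0 hF n)) ∈ (Tu hF p).subgroupOf (G0 hF n) :=
      Subgroup.mem_subgroupOf.mpr ha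
    have hb' : (⟨b, hbG⟩ : ↥(G0 hF n)) ∈ (Tu hF p').subgroupOf (G0 hF n) :=
      Subgroup.mem_subgroupOf.mpr hb
    have hk := Subgroup.commutator_mem_commutator ha' hb'
    have h1 := hcentral _ hk _ (Subgroup.mem_sup_left ha')
    rw [commutatorElement_def] at h1
    exact hne (congrArg Subtype.val h1)

/-- A rank one pair of transvection subgroups has non-perpendicular centres. -/
theorem hyp_of_rankOnePair (hF : Fintype.card F = q ^ 2) {p p' : Fin n → F} (hp0 : p ≠ 0)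
    (hp : hermForm n F q p p = 0) (hp' : hermForm n F q p' p' = 0)
    (h : IsRankOnePair ((Tu hF p).subgroupOf (G0 hF n)) ((Tu hF p').subgroupOf (G0 hF n))) :
    hermForm n F q p p' ≠ 0 := by
  intro hγ
  refine not_rankOnePair_of_commute (Sig0_ne_bot hF hp0 hp) ?_ h
  intro a ha b hb
  apply Subtype.ext
  exact Tu_commute_of_perp hF hp hp' hγ _ (Subgroup.mem_subgroupOf.mp ha) _
    (Subgroup.mem_subgroupOf.mp hb)

end Cfsg.Agent.Lib.Helper27.URoot
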