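import Mathlib
import Cfsg.Agent.Lib.Helper27.URoot3
import Cfsg.Agent.Lib.Helper27.SLTransv3
import Cfsg.Agent.Lib.Helper27.SpRoot3

set_option autoImplicit false

/-!
The fixed field of `x ↦ x ^ q` in a field with `q ^ 2` elements has `q` elements; a model `L` of it
living in `Type`; the homomorphism from `SL₂(L)` attached to a hyperbolic pair of isotropic
vectors, and the resulting `k`-root subgroup property of the unitary transvection subgroups.
-/

namespace Cfsg.Agent.Lib.Helper27.URoot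

open Matrix Cfsg Cfsg.Agent.Lib.Helper27.Unitary Cfsg.Agent.S0780
open scoped Classical

variable {F : Type*} [Field F] [Fintype F] {q n : ℕ}

/-! ### The fixed field -/

theorem card_roots_le (hF : Fintype.card F = q ^ 2) (a y : F) :
    (Finset.univ.filter fun x : F => x ^ q + a * x = y).card ≤ q := by
  classical
  have hq := two_le_q hF
  obtain ⟨P, hP⟩ : ∃ P : Polynomial F,
      P = Polynomial.X ^ q + Polynomial.C a * Polynomial.X - Polynomial.C y := ⟨_, rfl⟩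
  have hlt : (Polynomial.C a * Polynomial.X : Polynomial F).natDegree <
      (Polynomial.X ^ q : Polynomial F).natDegree := by
    rw [Polynomial.natDegree_X_pow]
    calc (Polynomial.C a * Polynomial.X : Polynomial F).natDegree
        ≤ (Polynomial.X : Polynomial F).natDegree := Polynomial.natDegree_C_mul_le _ _
      _ ≤ 1 := Polynomial.natDegree_X_le
      _ < q := by omega
  have hdeg : P.natDegree = q := by
    rw [hP, Polynomial.natDegree_sub_C, Polynomial.natDegree_add_eq_left_of_natDegree_lt hlt,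
      Polynomial.natDegree_X_pow]
  have hP0 : P ≠ 0 := by
    intro h
    rw [h, Polynomial.natDegree_zero] at hdeg
    omega
  have hsub : (Finset.univ.filter fun x : F => x ^ q + a * x = y) ⊆ P.roots.toFinset := by
    intro x hx
    rw [Finset.mem_filter] at hx
    rw [Multiset.mem_toFinset, Polynomial.mem_roots hP0, Polynomial.IsRoot.def, hP]
    simp [hx.2]
  calc (Finset.univ.filter fun x : F => x ^ q + a * x = y).card
      ≤ P.roots.toFinset.card := Finset.card_le_card hsub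
    _ ≤ Multiset.card P.roots := Multiset.toFinset_card_le _
    _ ≤ P.natDegree := Polynomial.card_roots' _
    _ = q := hdeg

theorem card_fixed (hF : Fintype.card F = q ^ 2) :
    (Finset.univ.filter fun x : F => x ^ q = x).card = q := by
  classical
  apply le_antisymm
  · have h := card_roots_le hF (-1) 0
    have he : (Finset.univ.filter fun x : F => x ^ q = x) =
        (Finset.univ.filter fun x : F => x ^ q + -1 * x = 0) := by
      ext x
      simp only [Finset.mem_filter, Finset.mem_univ, true_and]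
      constructor
      · intro hx
        rw [hx]
        ring
      · intro hx
        linear_combination hx
    rw [he]
    exact h
  · have h1 : (Finset.univ : Finset F).card =
        ∑ y ∈ (Finset.univ.filter fun x : F => x ^ q = x),
          ((Finset.univ : Finset F).filter fun x => x + x ^ q = y).card :=
      Finset.card_eq_sum_card_fiberwise (f := fun x : F => x + x ^ q) (fun x _ => by
        simp only [Finset.coe_filter, Finset.mem_univ, true_and, Set.mem_ofPred_eq]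
        exact tr_fixed hF x)
    have h2 : ∀ y : F, ((Finset.univ : Finset F).filter fun x => x + x ^ q = y).card ≤ q := by
      intro y
      have h := card_roots_le hF 1 y
      have he : ((Finset.univ : Finset F).filter fun x => x + x ^ q = y) =
          (Finset.univ.filter fun x : F => x ^ q + 1 * x = y) := by
        ext x
        simp only [Finset.mem_filter, Finset.mem_univ, true_and]
        rw [one_mul, add_comm]
      rw [he]
      exact h
    have h3 : (Finset.univ : Finset F).card ≤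
        (Finset.univ.filter fun x : F => x ^ q = x).card * q := by
      rw [h1]
      calc ∑ y ∈ (Finset.univ.filter fun x : F => x ^ q = x),
            ((Finset.univ : Finset F).filter fun x => x + x ^ q = y).card
          ≤ ∑ _y ∈ (Finset.univ.filter fun x : F => x ^ q = x), q :=
            Finset.sum_le_sum (fun y _ => h2 y)
        _ = (Finset.univ.filter fun x : F => x ^ q = x).card * q := by
            rw [Finset.sum_const, smul_eq_mul]
    rw [Finset.card_univ, hF, pow_two] at h3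
    have hq := two_le_q hF
    exact Nat.le_of_mul_le_mul_right h3 (by omega)

/-- The fixed field of `x ↦ x ^ q`. -/
def fixedSubfield (hF : Fintype.card F = q ^ 2) : Subfield F where
  carrier := {x | x ^ q = x}
  mul_mem' := by
    intro a b ha hb
    simp only [Set.mem_ofPred_eq] at ha hb ⊢
    rw [mul_pow, ha, hb]
  one_mem' := one_pow q
  add_mem' := by
    intro a b ha hb
    simp only [Set.mem_ofPred_eq] at ha hb ⊢
    rw [cj_add hF, ha, hb]
  zero_mem' := cj_zero hF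
  neg_mem' := by
    intro a ha
    simp only [Set.mem_ofPred_eq] at ha ⊢
    rw [cj_neg hF, ha]
  inv_mem' := by
    intro a ha
    simp only [Set.mem_ofPred_eq] at ha ⊢
    rw [inv_pow, ha]

theorem mem_fixedSubfield (hF : Fintype.card F = q ^ 2) {x : F} :
    x ∈ fixedSubfield hF ↔ x ^ q = x := Iff.rfl

theorem exists_fixed_model (hF : Fintype.card F = q ^ 2) :
    ∃ (L : Type) (_ : Field L) (_ : Fintype L) (ι : L →+* F), Fintype.card L = q ∧
      (∀ s, (ι s) ^ q = ι s) ∧ (∀ x : F, x ^ q = x → ∃ s, ι s = x) := by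
  classical
  haveI : Fintype ↥(fixedSubfield hF) := Fintype.ofFinite _
  have hK : Fintype.card ↥(fixedSubfield hF) = q :=
    (Fintype.card_of_subtype (Finset.univ.filter fun x : F => x ^ q = x) (fun x => by
      simp only [Finset.mem_filter, Finset.mem_univ, true_and]
      exact (mem_fixedSubfield hF).symm)).trans (card_fixed hF)
  obtain ⟨p, hp⟩ := CharP.exists ↥(fixedSubfield hF)
  haveI := hp
  haveI : Fact p.Prime := ⟨CharP.char_is_prime ↥(fixedSubfield hF) p⟩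
  obtain ⟨k, -, hk⟩ := FiniteField.card ↥(fixedSubfield hF) p
  haveI : Fintype (GaloisField p k) := Fintype.ofFinite _
  have hL : Fintype.card (GaloisField p k) = p ^ (k : ℕ) := by
    rw [← Nat.card_eq_fintype_card]
    exact GaloisField.card p k k.ne_zero
  have e : GaloisField p k ≃+* ↥(fixedSubfield hF) :=
    FiniteField.ringEquivOfCardEq (by rw [hL, hk])
  refine ⟨GaloisField p k, inferInstance, inferInstance,
    (fixedSubfield hF).subtype.comp e.toRingHom, ?_, ?_, ?_⟩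
  · rw [hL, ← hk, hK]
  · intro s
    exact (e s).2
  · intro x hx
    refine ⟨e.symm ⟨x, hx⟩, ?_⟩
    show ((e (e.symm ⟨x, hx⟩) : ↥(fixedSubfield hF)) : F) = x
    rw [RingEquiv.apply_symm_apply]

/-! ### The `SL₂` attached to a hyperbolic pair -/

/-- The functional `x ↦ θ h(x, p)`. -/
def phiY (q : ℕ) (θ : F) (p : Fin n → F) : Fin n → F := θ • fun j => p j ^ q

theorem phiY_dot (θ : F) (p x : Fin n → F) :
    phiY q θ p ⬝ᵥ x = θ * hermForm n F q x p := by
  unfold phiY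
  rw [smul_dotProduct, hf_dot, smul_eq_mul]

/-- The lift of a unitary transvection, as a matrix of `SL`. -/
theorem lt_coe (hF : Fintype.card F = q ^ 2) {v : Fin n → F} (hv : hermForm n F q v v = 0)
    {θ t : F} (hc : t * θ + (t * θ) ^ q = 0) :
    ((lt hF v (t * θ) : ↥(Cfsg.SU n F q)) : Matrix.SpecialLinearGroup (Fin n) F) =
      SLTransv.tvl v (phiY q θ v) t := by
  have h0 : phiY q θ v ⬝ᵥ v = 0 := by rw [phiY_dot, hv, mul_zero]
  apply Subtype.ext
  rw [SLTransv.tvl_coe h0]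
  have h1 : ((phi n F q (lt hF v (t * θ)) : GL (Fin n) F) : Matrix (Fin n) (Fin n) F) =
      unitaryTransvection n q v (t * θ) := by
    rw [phi_lt hF v hc, tv_coe hv]
  rw [phi_coe] at h1
  rw [h1]
  unfold unitaryTransvection phiY
  congr 1
  ext i j
  simp only [Matrix.smul_apply, Matrix.vecMulVec_apply, Pi.smul_apply, smul_eq_mul]
  ring

/-- The inclusion of `G0` into `SL`. -/
def jG (hF : Fintype.card F = q ^ 2) (n : ℕ) :
    ↥(G0 hF n) →* Matrix.SpecialLinearGroup (Fin n) F :=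
  (Cfsg.SU n F q).subtype.comp (G0 hF n).subtype

theorem jG_injective (hF : Fintype.card F = q ^ 2) (n : ℕ) : Function.Injective (jG hF n) := by
  intro x y h
  apply Subtype.ext
  apply Subtype.ext
  exact h

theorem jG_apply (hF : Fintype.card F = q ^ 2) (x : ↥(G0 hF n)) :
    jG hF n x = ((x : ↥(Cfsg.SU n F q)) : Matrix.SpecialLinearGroup (Fin n) F) := rfl

section rep

variable (hF : Fintype.card F = q ^ 2) {L : Type*} [Field L] (ι : L →+* F)
  {p r : Fin n → F} {θ : F}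

/-- The homomorphism `SL₂(F) → SL_n(F)` of a normalised hyperbolic pair. -/
noncomputable def rhoF (hp : hermForm n F q p p = 0) (hr : hermForm n F q r r = 0)
    (h3 : θ * hermForm n F q r p = 1) (h4 : -θ * hermForm n F q p r = 1) :
    Matrix.SpecialLinearGroup (Fin 2) F →* Matrix.SpecialLinearGroup (Fin n) F :=
  SLTransv.rho2 (a := p) (φ := phiY q θ p) (b := r) (ψ := phiY q (-θ) r)
    (by rw [phiY_dot, hp, mul_zero]) (by rw [phiY_dot, hr, mul_zero])
    (by rw [phiY_dot]; exact h3) (by rw [phiY_dot]; exact h4)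

/-- Its restriction to `SL₂(L)`. -/
noncomputable def rho1 (hp : hermForm n F q p p = 0) (hr : hermForm n F q r r = 0)
    (h3 : θ * hermForm n F q r p = 1) (h4 : -θ * hermForm n F q p r = 1) :
    Matrix.SpecialLinearGroup (Fin 2) L →* Matrix.SpecialLinearGroup (Fin n) F :=
  (rhoF hp hr h3 h4).comp (Matrix.SpecialLinearGroup.map ι)

theorem map_entry (M : Matrix.SpecialLinearGroup (Fin 2) L) (i j : Fin 2) :
    ((Matrix.SpecialLinearGroup.map ι M : Matrix.SpecialLinearGroup (Fin 2) F) :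
      Matrix (Fin 2) (Fin 2) F) i j = ι (M.1 i j) := rfl

theorem rho1_upper (hι : ∀ s, (ι s) ^ q = ι s) (hθ : θ + θ ^ q = 0)
    (hp : hermForm n F q p p = 0) (hr : hermForm n F q r r = 0)
    (h3 : θ * hermForm n F q r p = 1) (h4 : -θ * hermForm n F q p r = 1)
    (M : Matrix.SpecialLinearGroup (Fin 2) L)
    (h10 : M.1 1 0 = 0) (h00 : M.1 0 0 = 1) (h11 : M.1 1 1 = 1) :
    rho1 ι hp hr h3 h4 M =
      ((lt hF p (ι (M.1 0 1) * θ) : ↥(Cfsg.SU n F q)) : Matrix.SpecialLinearGroup (Fin n) F) := by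
  rw [lt_coe hF hp (tz_mul_fixed (hι _) hθ)]
  have e1 : phiY q θ p ⬝ᵥ p = 0 := by rw [phiY_dot, hp, mul_zero]
  have e2 : phiY q (-θ) r ⬝ᵥ r = 0 := by rw [phiY_dot, hr, mul_zero]
  have e3 : phiY q θ p ⬝ᵥ r = 1 := by rw [phiY_dot]; exact h3
  have e4 : phiY q (-θ) r ⬝ᵥ p = 1 := by rw [phiY_dot]; exact h4
  have h : rho1 ι hp hr h3 h4 M =
      SLTransv.rho2 e1 e2 e3 e4 (Matrix.SpecialLinearGroup.map ι M) := rfl
  rw [h, SLTransv.rho2_upper e1 e2 e3 e4 _ (by rw [map_entry, h10, map_zero])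
    (by rw [map_entry, h00, map_one]) (by rw [map_entry, h11, map_one]), map_entry]

theorem rho1_lower (hι : ∀ s, (ι s) ^ q = ι s) (hθ : θ + θ ^ q = 0)
    (hp : hermForm n F q p p = 0) (hr : hermForm n F q r r = 0)
    (h3 : θ * hermForm n F q r p = 1) (h4 : -θ * hermForm n F q p r = 1)
    (M : Matrix.SpecialLinearGroup (Fin 2) L)
    (h01 : M.1 0 1 = 0) (h00 : M.1 0 0 = 1) (h11 : M.1 1 1 = 1) :
    rho1 ι hp hr h3 h4 M =
      ((lt hF r (ι (M.1 1 0) * -θ) : ↥(Cfsg.SU n F q)) :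
        Matrix.SpecialLinearGroup (Fin n) F) := by
  rw [lt_coe hF hr (tz_mul_fixed (hι _) (tz_neg hF hθ))]
  have e1 : phiY q θ p ⬝ᵥ p = 0 := by rw [phiY_dot, hp, mul_zero]
  have e2 : phiY q (-θ) r ⬝ᵥ r = 0 := by rw [phiY_dot, hr, mul_zero]
  have e3 : phiY q θ p ⬝ᵥ r = 1 := by rw [phiY_dot]; exact h3
  have e4 : phiY q (-θ) r ⬝ᵥ p = 1 := by rw [phiY_dot]; exact h4
  have h : rho1 ι hp hr h3 h4 M =
      SLTransv.rho2 e1 e2 e3 e4 (Matrix.SpecialLinearGroup.map ι M) := rfl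
  rw [h, SLTransv.rho2_lower e1 e2 e3 e4 _ (by rw [map_entry, h01, map_zero])
    (by rw [map_entry, h00, map_one]) (by rw [map_entry, h11, map_one]), map_entry]

theorem rho1_range_le (hι : ∀ s, (ι s) ^ q = ι s) (hθ : θ + θ ^ q = 0)
    (hp0 : p ≠ 0) (hr0 : r ≠ 0)
    (hp : hermForm n F q p p = 0) (hr : hermForm n F q r r = 0)
    (h3 : θ * hermForm n F q r p = 1) (h4 : -θ * hermForm n F q p r = 1) :
    (rho1 ι hp hr h3 h4).range ≤ (jG hF n).range := by
  rw [MonoidHom.range_eq_map, ← SpRoot.sl2_generated, Subgroup.map_sup]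
  apply sup_le
  · unfold upperUnipotentSL2
    rw [MonoidHom.map_closure, Subgroup.closure_le]
    rintro _ ⟨M, ⟨h10, h00, h11⟩, rfl⟩
    rw [rho1_upper hF ι hι hθ hp hr h3 h4 M h10 h00 h11]
    exact ⟨⟨lt hF p _, Tu_le_G0 hF hp0 hp
      (lt_mem_Tu hF p (tz_mul_fixed (hι _) hθ))⟩, rfl⟩
  · unfold lowerUnipotentSL2
    rw [MonoidHom.map_closure, Subgroup.closure_le]
    rintro _ ⟨M, ⟨h01, h00, h11⟩, rfl⟩
    rw [rho1_lower hF ι hι hθ hp hr h3 h4 M h01 h00 h11]
    exact ⟨⟨lt hF r _, Tu_le_G0 hF hr0 hr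
      (lt_mem_Tu hF r (tz_mul_fixed (hι _) (tz_neg hF hθ)))⟩, rfl⟩

/-- The homomorphism into `G0`. -/
noncomputable def rhoG (hι : ∀ s, (ι s) ^ q = ι s) (hθ : θ + θ ^ q = 0)
    (hp0 : p ≠ 0) (hr0 : r ≠ 0)
    (hp : hermForm n F q p p = 0) (hr : hermForm n F q r r = 0)
    (h3 : θ * hermForm n F q r p = 1) (h4 : -θ * hermForm n F q p r = 1) :
    Matrix.SpecialLinearGroup (Fin 2) L →* ↥(G0 hF n) :=
  (MonoidHom.ofInjective (jG_injective hF n)).symm.toMonoidHom.comp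
    ((rho1 ι hp hr h3 h4).codRestrict (jG hF n).range
      (fun M => rho1_range_le hF ι hι hθ hp0 hr0 hp hr h3 h4 ⟨M, rfl⟩))

theorem jG_rhoG (hι : ∀ s, (ι s) ^ q = ι s) (hθ : θ + θ ^ q = 0)
    (hp0 : p ≠ 0) (hr0 : r ≠ 0)
    (hp : hermForm n F q p p = 0) (hr : hermForm n F q r r = 0)
    (h3 : θ * hermForm n F q r p = 1) (h4 : -θ * hermForm n F q p r = 1)
    (M : Matrix.SpecialLinearGroup (Fin 2) L) :
    jG hF n (rhoG hF ι hι hθ hp0 hr0 hp hr h3 h4 M) = rho1 ι hp hr h3 h4 M := by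
  have h := (MonoidHom.ofInjective (jG_injective hF n)).apply_symm_apply
    ((rho1 ι hp hr h3 h4).codRestrict (jG hF n).range
      (fun M => rho1_range_le hF ι hι hθ hp0 hr0 hp hr h3 h4 ⟨M, rfl⟩) M)
  exact congrArg Subtype.val h

/-- Every member of `Tu p` inside `G0` is the image of an upper unitriangular matrix. -/
theorem exists_upper (hι : ∀ s, (ι s) ^ q = ι s) (hιs : ∀ x : F, x ^ q = x → ∃ s, ι s = x)
    (hθ0 : θ ≠ 0) (hθ : θ + θ ^ q = 0)
    (hp0 : p ≠ 0) (hr0 : r ≠ 0)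
    (hp : hermForm n F q p p = 0) (hr : hermForm n F q r r = 0)
    (h3 : θ * hermForm n F q r p = 1) (h4 : -θ * hermForm n F q p r = 1)
    (x : ↥(G0 hF n)) (hx : x ∈ (Tu hF p).subgroupOf (G0 hF n)) :
    ∃ s : L, rhoG hF ι hι hθ hp0 hr0 hp hr h3 h4 (SpRoot.Uu s) = x := by
  obtain ⟨c, hc, hxc⟩ := Subgroup.mem_subgroupOf.mp hx
  have hθq : θ ^ q = -θ := eq_neg_of_add_eq_zero_right hθ
  have hcq : c ^ q = -c := eq_neg_of_add_eq_zero_right hc
  have hfix : (c / θ) ^ q = c / θ := by rw [div_pow, hθq, hcq, neg_div_neg_eq]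
  obtain ⟨s, hs⟩ := hιs _ hfix
  refine ⟨s, ?_⟩
  apply jG_injective hF n
  rw [jG_rhoG, rho1_upper hF ι hι hθ hp hr h3 h4 (SpRoot.Uu s) (by simp [SpRoot.Uu])
    (by simp [SpRoot.Uu]) (by simp [SpRoot.Uu]), jG_apply]
  congr 1
  apply phi_injective
  have e : ι ((SpRoot.Uu s).1 0 1) * θ = c := by
    have : (SpRoot.Uu s).1 0 1 = s := by simp [SpRoot.Uu]
    rw [this, hs, div_mul_cancel₀ _ hθ0]
  rw [e, phi_lt hF p hc, hxc]

theorem exists_lower (hι : ∀ s, (ι s) ^ q = ι s) (hιs : ∀ x : F, x ^ q = x → ∃ s, ι s = x)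
    (hθ0 : θ ≠ 0) (hθ : θ + θ ^ q = 0)
    (hp0 : p ≠ 0) (hr0 : r ≠ 0)
    (hp : hermForm n F q p p = 0) (hr : hermForm n F q r r = 0)
    (h3 : θ * hermForm n F q r p = 1) (h4 : -θ * hermForm n F q p r = 1)
    (x : ↥(G0 hF n)) (hx : x ∈ (Tu hF r).subgroupOf (G0 hF n)) :
    ∃ s : L, rhoG hF ι hι hθ hp0 hr0 hp hr h3 h4 (SpRoot.Ll s) = x := by
  obtain ⟨c, hc, hxc⟩ := Subgroup.mem_subgroupOf.mp hx
  have hθq : θ ^ q = -θ := eq_neg_of_add_eq_zero_right hθ
  have hcq : c ^ q = -c := eq_neg_of_add_eq_zero_right hc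
  have hnθ0 : -θ ≠ 0 := neg_ne_zero.mpr hθ0
  have hfix : (c / -θ) ^ q = c / -θ := by
    rw [div_pow, cj_neg hF, hθq, hcq, neg_neg, div_neg, neg_div]
  obtain ⟨s, hs⟩ := hιs _ hfix
  refine ⟨s, ?_⟩
  apply jG_injective hF n
  rw [jG_rhoG, rho1_lower hF ι hι hθ hp hr h3 h4 (SpRoot.Ll s) (by simp [SpRoot.Ll])
    (by simp [SpRoot.Ll]) (by simp [SpRoot.Ll]), jG_apply]
  congr 1
  apply phi_injective
  have e : ι ((SpRoot.Ll s).1 1 0) * -θ = c := by
    have : (SpRoot.Ll s).1 1 0 = s := by simp [SpRoot.Ll]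
    rw [this, hs, div_mul_cancel₀ _ hnθ0]
  rw [e, phi_lt hF r hc, hxc]

theorem rhoG_map_upper (hι : ∀ s, (ι s) ^ q = ι s) (hιs : ∀ x : F, x ^ q = x → ∃ s, ι s = x)
    (hθ0 : θ ≠ 0) (hθ : θ + θ ^ q = 0)
    (hp0 : p ≠ 0) (hr0 : r ≠ 0)
    (hp : hermForm n F q p p = 0) (hr : hermForm n F q r r = 0)
    (h3 : θ * hermForm n F q r p = 1) (h4 : -θ * hermForm n F q p r = 1) :
    (upperUnipotentSL2 L).map (rhoG hF ι hι hθ hp0 hr0 hp hr h3 h4) =
      (Tu hF p).subgroupOf (G0 hF n) := by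
  apply le_antisymm
  · unfold upperUnipotentSL2
    rw [MonoidHom.map_closure, Subgroup.closure_le]
    rintro _ ⟨M, ⟨h10, h00, h11⟩, rfl⟩
    show rhoG hF ι hι hθ hp0 hr0 hp hr h3 h4 M ∈ (Tu hF p).subgroupOf (G0 hF n)
    rw [Subgroup.mem_subgroupOf]
    have h := jG_rhoG hF ι hι hθ hp0 hr0 hp hr h3 h4 M
    rw [rho1_upper hF ι hι hθ hp hr h3 h4 M h10 h00 h11, jG_apply] at h
    have h' : ((rhoG hF ι hι hθ hp0 hr0 hp hr h3 h4 M : ↥(G0 hF n)) : ↥(Cfsg.SU n F q)) =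
        lt hF p (ι (M.1 0 1) * θ) := Subtype.ext h
    rw [h']
    exact lt_mem_Tu hF p (tz_mul_fixed (hι _) hθ)
  · intro x hx
    obtain ⟨s, hs⟩ := exists_upper hF ι hι hιs hθ0 hθ hp0 hr0 hp hr h3 h4 x hx
    exact ⟨SpRoot.Uu s, SpRoot.Uu_mem s, hs⟩

theorem rhoG_map_lower (hι : ∀ s, (ι s) ^ q = ι s) (hιs : ∀ x : F, x ^ q = x → ∃ s, ι s = x)
    (hθ0 : θ ≠ 0) (hθ : θ + θ ^ q = 0)
    (hp0 : p ≠ 0) (hr0 : r ≠ 0)
    (hp : hermForm n F q p p = 0) (hr : hermForm n F q r r = 0)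
    (h3 : θ * hermForm n F q r p = 1) (h4 : -θ * hermForm n F q p r = 1) :
    (lowerUnipotentSL2 L).map (rhoG hF ι hι hθ hp0 hr0 hp hr h3 h4) =
      (Tu hF r).subgroupOf (G0 hF n) := by
  apply le_antisymm
  · unfold lowerUnipotentSL2
    rw [MonoidHom.map_closure, Subgroup.closure_le]
    rintro _ ⟨M, ⟨h01, h00, h11⟩, rfl⟩
    show rhoG hF ι hι hθ hp0 hr0 hp hr h3 h4 M ∈ (Tu hF r).subgroupOf (G0 hF n)
    rw [Subgroup.mem_subgroupOf]
    have h := jG_rhoG hF ι hι hθ hp0 hr0 hp hr h3 h4 M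
    rw [rho1_lower hF ι hι hθ hp hr h3 h4 M h01 h00 h11, jG_apply] at h
    have h' : ((rhoG hF ι hι hθ hp0 hr0 hp hr h3 h4 M : ↥(G0 hF n)) : ↥(Cfsg.SU n F q)) =
        lt hF r (ι (M.1 1 0) * -θ) := Subtype.ext h
    rw [h']
    exact lt_mem_Tu hF r (tz_mul_fixed (hι _) (tz_neg hF hθ))
  · intro x hx
    obtain ⟨s, hs⟩ := exists_lower hF ι hι hιs hθ0 hθ hp0 hr0 hp hr h3 h4 x hx
    exact ⟨SpRoot.Ll s, SpRoot.Ll_mem s, hs⟩

theorem rhoG_ker (hι : ∀ s, (ι s) ^ q = ι s) (hθ : θ + θ ^ q = 0)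
    (hp0 : p ≠ 0) (hr0 : r ≠ 0)
    (hp : hermForm n F q p p = 0) (hr : hermForm n F q r r = 0)
    (h3 : θ * hermForm n F q r p = 1) (h4 : -θ * hermForm n F q p r = 1) :
    (rhoG hF ι hι hθ hp0 hr0 hp hr h3 h4).ker = ⊥ := by
  rw [eq_bot_iff]
  intro M hM
  rw [MonoidHom.mem_ker] at hM
  rw [Subgroup.mem_bot]
  have h := jG_rhoG hF ι hι hθ hp0 hr0 hp hr h3 h4 M
  rw [hM, map_one] at h
  have e1 : phiY q θ p ⬝ᵥ p = 0 := by rw [phiY_dot, hp, mul_zero]
  have e2 : phiY q (-θ) r ⬝ᵥ r = 0 := by rw [phiY_dot, hr, mul_zero]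
  have e3 : phiY q θ p ⬝ᵥ r = 1 := by rw [phiY_dot]; exact h3
  have e4 : phiY q (-θ) r ⬝ᵥ p = 1 := by rw [phiY_dot]; exact h4
  have h5 : rho1 ι hp hr h3 h4 M =
      SLTransv.rho2 e1 e2 e3 e4 (Matrix.SpecialLinearGroup.map ι M) := rfl
  rw [h5] at h
  have h6 : Matrix.SpecialLinearGroup.map ι M ∈ (SLTransv.rho2 e1 e2 e3 e4).ker :=
    MonoidHom.mem_ker.mpr h.symm
  rw [SLTransv.rho2_ker, Subgroup.mem_bot] at h6
  have h7 : ∀ i j, ι (M.1 i j) = ι ((1 : Matrix.SpecialLinearGroup (Fin 2) L).1 i j) := by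
    intro i j
    rw [← map_entry, ← map_entry, h6, map_one]
  apply Subtype.ext
  ext i j
  exact ι.injective (h7 i j)

end rep

/-- A hyperbolic pair of transvection subgroups generates an image of `SL₂` over the fixed
field. -/
theorem isPSL2Pair_Tu (hF : Fintype.card F = q ^ 2) {L : Type*} [Field L] (ι : L →+* F)
    (hι : ∀ s, (ι s) ^ q = ι s) (hιs : ∀ x : F, x ^ q = x → ∃ s, ι s = x)
    {p p' : Fin n → F} (hp : hermForm n F q p p = 0) (hp' : hermForm n F q p' p' = 0)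
    (hγ : hermForm n F q p p' ≠ 0) :
    IsPSL2PairOver L ((Tu hF p).subgroupOf (G0 hF n)) ((Tu hF p').subgroupOf (G0 hF n)) := by
  obtain ⟨θ, hθ0, hθ⟩ := exists_theta hF
  have hθq : θ ^ q = -θ := eq_neg_of_add_eq_zero_right hθ
  have hp0 := ne_zero_of_hf_left hF hγ
  have hp'0 := ne_zero_of_hf_right hF hγ
  have hγ' : hermForm n F q p' p ≠ 0 := hf_ne_zero_swap hF hγ
  obtain ⟨d, hd⟩ : ∃ d, d = θ * hermForm n F q p' p := ⟨_, rfl⟩
  have hd0 : d ≠ 0 := by rw [hd]; exact mul_ne_zero hθ0 hγ'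
  obtain ⟨r, hr'⟩ : ∃ r, r = d⁻¹ • p' := ⟨_, rfl⟩
  have hr0 : r ≠ 0 := by
    rw [hr']
    exact smul_ne_zero (inv_ne_zero hd0) hp'0
  have hr : hermForm n F q r r = 0 := by rw [hr', hf_smul_self, hp', mul_zero]
  have h3 : θ * hermForm n F q r p = 1 := by
    rw [hr', hf_smul_left, ← mul_assoc, mul_comm θ, mul_assoc, ← hd, inv_mul_cancel₀ hd0]
  have h4 : -θ * hermForm n F q p r = 1 := by
    rw [hf_swap hF r p, ← hθq, ← mul_pow, h3, one_pow]
  have hTr : Tu hF r = Tu hF p' := by rw [hr', Tu_smul hF hp' (inv_ne_zero hd0)]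
  refine ⟨rhoG hF ι hι hθ hp0 hr0 hp hr h3 h4, ?_, ?_, ?_, ?_⟩
  · rw [MonoidHom.range_eq_map, ← SpRoot.sl2_generated, Subgroup.map_sup,
      rhoG_map_upper hF ι hι hιs hθ0, rhoG_map_lower hF ι hι hιs hθ0, hTr]
  · rw [rhoG_ker]
    exact bot_le
  · rw [rhoG_map_upper hF ι hι hιs hθ0]
  · rw [rhoG_map_lower hF ι hι hιs hθ0, hTr]

theorem isKRootSubgroupSet_U (hF : Fintype.card F = q ^ 2) {L : Type*} [Field L] (ι : L →+* F)
    (hι : ∀ s, (ι s) ^ q = ι s) (hιs : ∀ x : F, x ^ q = x → ∃ s, ι s = x) :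
    IsKRootSubgroupSet L (Sig0 hF n) := by
  refine ⟨isRootSubgroupSet hF, ?_⟩
  rintro _ ⟨_, ⟨p, hp0, hp, rfl⟩, rfl⟩ _ ⟨_, ⟨p', hp'0, hp', rfl⟩, rfl⟩ hpair
  exact isPSL2Pair_Tu hF ι hι hιs hp hp' (hyp_of_rankOnePair hF hp0 hp hp' hpair)

end Cfsg.Agent.Lib.Helper27.URoot
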