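import Mathlib
import Cfsg.Prelude.Def_GeometricClasses
import Cfsg.Agent.Lib.Helper27.UTensor

set_option autoImplicit false

/-!
The stabiliser in `SU_n(2)` of a tensor decomposition `GU₂(2) ⊗ GU_{n₂}(2)` is not maximal:
it lies strictly inside the stabiliser of the set of pure tensors `v ⊗ w` with `v` anisotropic.
-/

namespace Cfsg.Agent.Lib.Helper27.UTensor

open Cfsg Matrix Cfsg.Agent.Lib.Helper27.TensorForm Cfsg.Agent.Lib.Helper27.Unitary
open scoped Kronecker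

variable {F : Type*} [Field F] [Fintype F]

/-- The set of (images of) pure tensors whose first factor is anisotropic. -/
def goodSet {n n₂ : ℕ} (e : Fin n ≃ Fin 2 × Fin n₂) (P : GL (Fin n) F)
    (f₁ : (Fin 2 → F) → (Fin 2 → F) → F) : Set (Fin n → F) :=
  {s | ∃ (v : Fin 2 → F) (w : Fin n₂ → F), f₁ v v ≠ 0 ∧ s = theta e P (tens v w)}

/-- The stabiliser of `goodSet` inside the special unitary group. -/
def goodStab {n n₂ : ℕ} (e : Fin n ≃ Fin 2 × Fin n₂) (P : GL (Fin n) F)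
    (f₁ : (Fin 2 → F) → (Fin 2 → F) → F) : Subgroup (GL (Fin n) F) where
  carrier := {g | g ∈ GU n F 2 ⊓ Cfsg.Geo.specialLinear (Fin n) F ∧
    ∀ s ∈ goodSet e P f₁, gact g s ∈ goodSet e P f₁ ∧ gact g⁻¹ s ∈ goodSet e P f₁}
  one_mem' := by
    refine ⟨one_mem _, fun s hs => ?_⟩
    rw [inv_one, gact_one]
    exact ⟨hs, hs⟩
  mul_mem' := by
    rintro g h ⟨hg, hg2⟩ ⟨hh, hh2⟩
    refine ⟨mul_mem hg hh, fun s hs => ?_⟩
    rw [_root_.mul_inv_rev, gact_mul, gact_mul]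
    exact ⟨(hg2 _ (hh2 s hs).1).1, (hh2 _ (hg2 s hs).2).2⟩
  inv_mem' := by
    rintro g ⟨hg, hg2⟩
    refine ⟨inv_mem hg, fun s hs => ?_⟩
    rw [inv_inv]
    exact ⟨(hg2 s hs).2, (hg2 s hs).1⟩

theorem exists_between (n : ℕ) (hF : Fintype.card F = 4) (hn : 13 ≤ n) (n₂ : ℕ)
    (e : Fin n ≃ Fin 2 × Fin n₂) (P : Matrix.GeneralLinearGroup (Fin n) F)
    (f₁ : (Fin 2 → F) → (Fin 2 → F) → F) (f₂ : (Fin n₂ → F) → (Fin n₂ → F) → F)
    (hf₁ : Cfsg.Geo.IsUnitaryFormPow 2 f₁) (hf₂ : Cfsg.Geo.IsUnitaryFormPow 2 f₂)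
    (hT : Cfsg.Geo.IsTensorFormStructure (fun x : F => x ^ 2) (Cfsg.hermForm n F 2) f₁ f₂ e P) :
    ∃ K : Subgroup (Matrix.GeneralLinearGroup (Fin n) F),
      Cfsg.Geo.tensorProductSubgroup 2 n₂ e P ⊓
        (Cfsg.GU n F 2 ⊓ Cfsg.Geo.specialLinear (Fin n) F) < K ∧
      K < (Cfsg.GU n F 2 ⊓ Cfsg.Geo.specialLinear (Fin n) F) := by
  classical
  have hF' : Fintype.card F = 2 ^ 2 := by rw [hF]; norm_num
  have hcard : n = 2 * n₂ := by
    have h := Fintype.card_congr e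
    simpa using h
  have hn₂ : 2 ≤ n₂ := by omega
  obtain ⟨c, hc0, hc⟩ := hT
  have hS₁ := sesq hF hf₁
  have hS₂ := sesq hF hf₂
  have hσ : ∀ a b : F, (fun x : F => x ^ 2) (a * b) = (fun x : F => x ^ 2) a * (fun x : F => x ^ 2) b :=
    fun a b => mul_pow a b 2
  -- the ambient form on pure tensors
  have key : ∀ (v v' : Fin 2 → F) (w w' : Fin n₂ → F),
      hermForm n F 2 (theta e P (tens v w)) (theta e P (tens v' w')) = c * (f₁ v v' * f₂ w w') :=
    fun v v' w w' => form_theta_tens hσ hS₁ hS₂ hc v v' w w'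
  -- the frame of the first factor
  obtain ⟨v₁, v₂, h11, h22, h12, h21, hframe⟩ := frame2 hF hf₁
  -- vectors of the second factor
  obtain ⟨u, huu⟩ := exists_aniso hF hf₂ (by omega)
  obtain ⟨w', hw'0, hw'u⟩ := exists_perp hf₂ hn₂ u
  obtain ⟨w₀, hw₀0, hw₀⟩ := exists_iso hF hf₂ hn₂
  obtain ⟨⟨wz, hwz⟩, _⟩ := hf₂.nondegenerate w₀ hw₀0
  have hu0 : u ≠ 0 := by
    rintro rfl
    rw [hS₂.zero_left] at huu
    exact zero_ne_one huu
  have hone : (1 : F) + 1 ^ 2 = 0 := by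
    rw [one_pow]; exact add_self hF 1
  -- the tensor subgroup preserves the good set
  have hpres : ∀ g ∈ Cfsg.Geo.tensorProductSubgroup 2 n₂ e P ⊓
      (Cfsg.GU n F 2 ⊓ Cfsg.Geo.specialLinear (Fin n) F),
      ∀ s ∈ goodSet e P f₁, gact g s ∈ goodSet e P f₁ := by
    rintro g ⟨hg1, hg2⟩ s ⟨v, w, hv, rfl⟩
    obtain ⟨a, b, hab⟩ := mem_tensor_imp hg1
    have hgU : g ∈ GU n F 2 := hg2.1
    refine ⟨(a : Matrix (Fin 2) (Fin 2) F) *ᵥ v, (b : Matrix (Fin n₂) (Fin n₂) F) *ᵥ w, ?_, ?_⟩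
    · have h1 := GU_preserves hgU (theta e P (tens v u)) (theta e P (tens v u))
      rw [gact_def, hab, kron_mulVec_tens, key, key, huu, mul_one] at h1
      intro hz
      rw [hz, zero_mul, mul_zero] at h1
      rcases mul_eq_zero.mp h1.symm with h2 | h2
      · exact hc0 h2
      · exact hv h2
    · rw [gact_def, hab, kron_mulVec_tens]
  have hle : Cfsg.Geo.tensorProductSubgroup 2 n₂ e P ⊓
      (Cfsg.GU n F 2 ⊓ Cfsg.Geo.specialLinear (Fin n) F) ≤ goodStab e P f₁ := by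
    intro g hg
    exact ⟨hg.2, fun s hs => ⟨hpres g hg s hs, hpres g⁻¹ (inv_mem hg) s hs⟩⟩
  -- the transvection with centre v₁ ⊗ w₀
  have hp₀ : hermForm n F 2 (theta e P (tens v₁ w₀)) (theta e P (tens v₁ w₀)) = 0 := by
    rw [key, hw₀, mul_zero, mul_zero]
  have hg₀S : ∀ κ : F, ∀ s ∈ goodSet e P f₁,
      gact (tv 2 (theta e P (tens v₁ w₀)) κ) s ∈ goodSet e P f₁ := by
    rintro κ s ⟨v, w, hv, rfl⟩
    rw [tv_gact hp₀, key]
    rcases hframe v hv with ⟨α, rfl⟩ | ⟨α, rfl⟩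
    · refine ⟨v₁, α • w + (κ * (c * (f₁ (α • v₁) v₁ * f₂ w w₀))) • w₀, by rw [h11]; exact one_ne_zero, ?_⟩
      rw [tens_add_right, theta_add, tens_smul_right, tens_smul_left, tens_smul_right, theta_smul,
        theta_smul]
    · refine ⟨α • v₂, w, hv, ?_⟩
      rw [hS₁.smul_left, h21, mul_zero, zero_mul, mul_zero, mul_zero, zero_smul, add_zero]
  have hg₀K : tv 2 (theta e P (tens v₁ w₀)) 1 ∈ goodStab e P f₁ := by
    refine ⟨tv_mem_SUg hF' _ hone, fun s hs => ⟨hg₀S 1 s hs, ?_⟩⟩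
    rw [tv_inv hF' hp₀]
    exact hg₀S (-1) s hs
  have hg₀T : tv 2 (theta e P (tens v₁ w₀)) 1 ∉ Cfsg.Geo.tensorProductSubgroup 2 n₂ e P := by
    intro hmem
    obtain ⟨a, b, hab⟩ := mem_tensor_imp hmem
    -- action on v₂ ⊗ w
    have hA : ∀ w : Fin n₂ → F,
        tens ((a : Matrix (Fin 2) (Fin 2) F) *ᵥ v₂) ((b : Matrix (Fin n₂) (Fin n₂) F) *ᵥ w) =
          tens v₂ w := by
      intro w
      have h1 := hab (tens v₂ w)
      rw [← gact_def, tv_gact hp₀, key, h21, zero_mul, mul_zero, mul_zero, zero_smul, add_zero,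
        kron_mulVec_tens] at h1
      exact (theta_injective e P h1).symm
    -- action on v₁ ⊗ w
    have hB : ∀ w : Fin n₂ → F,
        tens ((a : Matrix (Fin 2) (Fin 2) F) *ᵥ v₁) ((b : Matrix (Fin n₂) (Fin n₂) F) *ᵥ w) =
          tens v₁ (w + (c * f₂ w w₀) • w₀) := by
      intro w
      have h1 := hab (tens v₁ w)
      rw [← gact_def, tv_gact hp₀, key, h11, one_mul, one_mul, kron_mulVec_tens, ← theta_smul,
        ← theta_add, ← tens_smul_right, ← tens_add_right] at h1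
      exact (theta_injective e P h1).symm
    -- contract
    have hA' : ∀ w : Fin n₂ → F,
        f₁ ((a : Matrix (Fin 2) (Fin 2) F) *ᵥ v₂) v₂ • ((b : Matrix (Fin n₂) (Fin n₂) F) *ᵥ w) = w := by
      intro w
      have h1 := congrArg (contr₁ f₁ v₂) (hA w)
      rw [contr₁_tens hS₁.smul_left, contr₁_tens hS₁.smul_left, h22, one_smul] at h1
      exact h1
    have hB' : ∀ w : Fin n₂ → F,
        f₁ ((a : Matrix (Fin 2) (Fin 2) F) *ᵥ v₁) v₁ • ((b : Matrix (Fin n₂) (Fin n₂) F) *ᵥ w) =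
          w + (c * f₂ w w₀) • w₀ := by
      intro w
      have h1 := congrArg (contr₁ f₁ v₁) (hB w)
      rw [contr₁_tens hS₁.smul_left, contr₁_tens hS₁.smul_left, h11, one_smul] at h1
      exact h1
    set lam := f₁ ((a : Matrix (Fin 2) (Fin 2) F) *ᵥ v₂) v₂ with hlam
    set mu := f₁ ((a : Matrix (Fin 2) (Fin 2) F) *ᵥ v₁) v₁ with hmu
    have hlam0 : lam ≠ 0 := by
      intro hz
      have := hA' u
      rw [hz, zero_smul] at this
      exact hu0 this.symm
    have hb : ∀ w : Fin n₂ → F, (b : Matrix (Fin n₂) (Fin n₂) F) *ᵥ w = lam⁻¹ • w := by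
      intro w
      have := hA' w
      rw [show (b : Matrix (Fin n₂) (Fin n₂) F) *ᵥ w =
        lam⁻¹ • (lam • ((b : Matrix (Fin n₂) (Fin n₂) F) *ᵥ w)) by
          rw [smul_smul, inv_mul_cancel₀ hlam0, one_smul], this]
    have h3 := hB' wz
    rw [hb, smul_smul] at h3
    -- so w₀ is a multiple of wz
    have hcz : c * f₂ wz w₀ ≠ 0 := mul_ne_zero hc0 hwz
    have h4 : w₀ = ((c * f₂ wz w₀)⁻¹ * (mu * lam⁻¹ - 1)) • wz := by
      have h5 : (c * f₂ wz w₀) • w₀ = (mu * lam⁻¹ - 1) • wz := by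
        rw [sub_smul, one_smul, h3]; abel
      rw [← smul_smul, ← h5, smul_smul, inv_mul_cancel₀ hcz, one_smul]
    set γ := (c * f₂ wz w₀)⁻¹ * (mu * lam⁻¹ - 1) with hγ
    have h6 : f₂ wz w₀ = γ ^ 2 * f₂ wz wz := by
      conv_lhs => rw [h4]
      rw [hS₂.smul_right]
    have h7 : f₂ w₀ w₀ = γ * (γ ^ 2 * f₂ wz wz) := by
      conv_lhs => rw [h4]
      rw [hS₂.smul_left, hS₂.smul_right]
    have hγ0 : γ ≠ 0 := by
      intro hz
      rw [hz] at h6
      apply hwz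
      rw [h6]; ring
    rw [hw₀, ← h6] at h7
    rcases mul_eq_zero.mp h7.symm with h8 | h8
    · exact hγ0 h8
    · exact hwz h8
  -- the transvection with centre (v₁ + v₂) ⊗ u
  have hp₁ : hermForm n F 2 (theta e P (tens (v₁ + v₂) u)) (theta e P (tens (v₁ + v₂) u)) = 0 := by
    rw [key, hS₁.add_left, hS₁.add_right, hS₁.add_right, h11, h12, h21, h22, huu]
    have := add_self hF (1 : F)
    linear_combination c * this
  have hg₁ : tv 2 (theta e P (tens (v₁ + v₂) u)) 1 ∉ goodStab e P f₁ := by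
    rintro ⟨_, hmem⟩
    have hs : theta e P (tens v₁ (u + w')) ∈ goodSet e P f₁ :=
      ⟨v₁, u + w', by rw [h11]; exact one_ne_zero, rfl⟩
    obtain ⟨v, w, hv, hvw⟩ := (hmem _ hs).1
    rw [tv_gact hp₁, key, hS₁.add_right, h11, h12, add_zero, one_mul, hS₂.add_left, huu, hw'u,
      add_zero, mul_one, mul_one, ← theta_smul, ← theta_add] at hvw
    have h1 := theta_injective e P hvw
    have hC1 := congrArg (contr₁ f₁ v₁) h1
    have hC2 := congrArg (contr₁ f₁ v₂) h1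
    rw [contr₁_add hS₁.add_left, contr₁_tens hS₁.smul_left, contr₁_tens hS₁.smul_left, h11,
      one_smul] at hC1
    rw [contr₁_add hS₁.add_left, contr₁_tens hS₁.smul_left, contr₁_tens hS₁.smul_left, h12,
      zero_smul, zero_add] at hC2
    have hsm1 : contr₁ f₁ v₁ (c • tens (v₁ + v₂) u) = c • u := by
      rw [← tens_smul_right, contr₁_tens hS₁.smul_left, hS₁.add_left, h11, h21, add_zero, one_smul]
    have hsm2 : contr₁ f₁ v₂ (c • tens (v₁ + v₂) u) = c • u := by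
      rw [← tens_smul_right, contr₁_tens hS₁.smul_left, hS₁.add_left, h12, h22, zero_add, one_smul]
    rw [hsm1] at hC1
    rw [hsm2] at hC2
    rcases hframe v hv with ⟨α, rfl⟩ | ⟨α, rfl⟩
    · rw [hS₁.smul_left, h12, mul_zero, zero_smul] at hC2
      rcases smul_eq_zero.mp hC2 with h2 | h2
      · exact hc0 h2
      · exact hu0 h2
    · rw [hS₁.smul_left, h21, mul_zero, zero_smul] at hC1
      -- u + w' + c • u = 0 forces w' = 0
      have h2 : f₂ (u + w' + c • u) u = 0 := by rw [hC1, hS₂.zero_left]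
      rw [hS₂.add_left, hS₂.add_left, hS₂.smul_left, huu, hw'u, add_zero, mul_one] at h2
      have h3 : c = 1 := by
        have := add_self hF (1 : F)
        linear_combination h2 - this
      rw [h3, one_smul] at hC1
      have h4 : w' = 0 := by
        have h5 : u + w' + u = w' + (u + u) := by abel
        rw [h5] at hC1
        have h6 : u + u = 0 := by
          funext i
          exact add_self hF (u i)
        rw [h6, add_zero] at hC1
        exact hC1
      exact hw'0 h4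
  have hg₁S : tv 2 (theta e P (tens (v₁ + v₂) u)) 1 ∈
      GU n F 2 ⊓ Cfsg.Geo.specialLinear (Fin n) F := tv_mem_SUg hF' _ hone
  refine ⟨goodStab e P f₁, ?_, ?_⟩
  · refine lt_of_le_of_ne hle ?_
    intro heq
    have := hg₀K
    rw [← heq] at this
    exact hg₀T this.1
  · have hle2 : goodStab e P f₁ ≤ GU n F 2 ⊓ Cfsg.Geo.specialLinear (Fin n) F :=
      fun g hg => hg.1
    refine lt_of_le_of_ne hle2 ?_
    intro heq
    apply hg₁
    rw [heq]
    exact hg₁S

end Cfsg.Agent.Lib.Helper27.UTensor
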