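import Mathlib
import Cfsg.Agent.Lib.Helper27.UOnb
import Cfsg.Agent.Lib.Helper27.UIso
import Cfsg.Agent.S0285

set_option autoImplicit false

/-!
Counting totally isotropic two-dimensional subspaces of the standard Hermitian space.
-/

namespace Cfsg.Agent.Lib.Helper27.Unitary

open Cfsg Matrix

variable {F : Type*} [Field F] [Fintype F] {q n m : ℕ}

/-- Non-zero isotropic vectors. -/
def IsoNZ (n : ℕ) (F : Type*) [Field F] (q : ℕ) : Type _ :=
  {u : Fin n → F // hermForm n F q u u = 0 ∧ u ≠ 0}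

instance : Finite (IsoNZ n F q) := by
  unfold IsoNZ
  infer_instance

theorem card_IsoNZ_succ : Nat.card (IsoNZ n F q) + 1 =
    Nat.card {v : Fin n → F // hermForm n F q v v = 0} := by
  classical
  rw [← Finite.card_option]
  refine Nat.card_congr ⟨fun o => match o with
    | none => ⟨0, hf_zero_left _⟩
    | some u => ⟨u.1, u.2.1⟩,
    fun v => if h : v.1 = 0 then none else some ⟨v.1, v.2, h⟩, ?_, ?_⟩
  · intro o
    cases o with
    | none => simp
    | some u =>
      have : u.1 ≠ 0 := u.2.2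
      simp only [this, dite_false]
      rfl
  · intro v
    by_cases h : v.1 = 0
    · simp only [h, dif_pos]
      apply Subtype.ext
      exact h.symm
    · simp [h]

theorem card_IsoNZ (hF : Fintype.card F = q ^ 2) (n : ℕ) :
    Nat.card (IsoNZ n F q) = (if Even n then (q ^ n - 1) * (q ^ (n - 1) + 1)
      else (q ^ n + 1) * (q ^ (n - 1) - 1)) := by
  have h1 := card_IsoNZ_succ (n := n) (F := F) (q := q)
  rw [Cfsg.Agent.S0285.result hF n] at h1
  exact Nat.add_right_cancel h1

theorem HypPair.finrank_span (hF : Fintype.card F = q ^ 2) {e f : Fin n → F}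
    (h : HypPair q e f) : Module.finrank F (Submodule.span F ({e, f} : Set (Fin n → F))) = 2 := by
  have h1 := finrank_span_eq_card (h.linearIndependent hF)
  have h2 : Set.range ![e, f] = {e, f} := by
    ext v
    simp only [Set.mem_range, Set.mem_insert_iff, Set.mem_singleton_iff]
    constructor
    · rintro ⟨i, rfl⟩
      fin_cases i
      · left; rfl
      · right; rfl
    · rintro (rfl | rfl)
      · exact ⟨0, rfl⟩
      · exact ⟨1, rfl⟩
  rw [h2] at h1
  simpa using h1

section Fib

variable {u f : Fin n → F}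

/-- Decomposition of a vector orthogonal to `u` along `u` and the complement of a hyperbolic
plane. -/
theorem perp_iso_decomp (hF : Fintype.card F = q ^ 2) (hp : HypPair q u f)
    (fr : Frame q (uperp q (Submodule.span F ({u, f} : Set (Fin n → F)))) m)
    {v : Fin n → F} (hv : hermForm n F q v u = 0) :
    v = hermForm n F q v f • u + fr.E (fr.D hF v) := by
  have hH := unondeg_span_hyp hF hp
  obtain ⟨h, hh, x', hx', rfl⟩ := exists_decomp hF hH v
  obtain ⟨α, β, rfl⟩ := Submodule.mem_span_pair.mp hh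
  have huH : u ∈ Submodule.span F ({u, f} : Set (Fin n → F)) := Submodule.subset_span (by simp)
  have hfH : f ∈ Submodule.span F ({u, f} : Set (Fin n → F)) := Submodule.subset_span (by simp)
  have hβ : β = 0 := by
    rw [hf_add_left, hf_add_left, hf_smul_left, hf_smul_left, hp.ee, hp.fe hF, hx' u huH] at hv
    linear_combination hv
  have hα : hermForm n F q (α • u + β • f + x') f = α := by
    rw [hf_add_left, hf_add_left, hf_smul_left, hf_smul_left, hp.ef, hp.ff, hx' f hfH]
    ring
  have hD : fr.D hF (α • u + β • f + x') = fr.D hF x' := by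
    rw [map_add]
    have : α • u + β • f ∈ uperp q (uperp q (Submodule.span F ({u, f} : Set (Fin n → F)))) := by
      rw [uperp_uperp hF]
      exact hh
    rw [fr.D_perp hF this, zero_add]
  rw [hα, hD, fr.E_D hF hx', hβ, zero_smul, add_zero]

theorem hf_comb_E (hF : Fintype.card F = q ^ 2) (hp : HypPair q u f)
    (fr : Frame q (uperp q (Submodule.span F ({u, f} : Set (Fin n → F)))) m) (a : F)
    (x : Fin m → F) :
    hermForm n F q (a • u + fr.E x) (a • u + fr.E x) = hermForm m F q x x := by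
  have huH : u ∈ Submodule.span F ({u, f} : Set (Fin n → F)) := Submodule.subset_span (by simp)
  have h1 : hermForm n F q (fr.E x) u = 0 := fr.E_mem x u huH
  have h2 : hermForm n F q u (fr.E x) = 0 := hf_eq_zero_swap hF h1
  rw [hf_add_self hF, hf_smul_self, hp.ee, hf_smul_left, h2, fr.hf_E hF, mul_zero, mul_zero,
    cj_zero hF]
  ring

theorem hf_u_comb_E (hF : Fintype.card F = q ^ 2) (hp : HypPair q u f)
    (fr : Frame q (uperp q (Submodule.span F ({u, f} : Set (Fin n → F)))) m) (a : F)
    (x : Fin m → F) : hermForm n F q u (a • u + fr.E x) = 0 := by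
  have huH : u ∈ Submodule.span F ({u, f} : Set (Fin n → F)) := Submodule.subset_span (by simp)
  have h1 : hermForm n F q (fr.E x) u = 0 := fr.E_mem x u huH
  rw [hf_add_right hF, hf_smul_right, hp.ee, hf_eq_zero_swap hF h1, mul_zero, add_zero]

theorem hf_comb_E_f (hF : Fintype.card F = q ^ 2) (hp : HypPair q u f)
    (fr : Frame q (uperp q (Submodule.span F ({u, f} : Set (Fin n → F)))) m) (a : F)
    (x : Fin m → F) : hermForm n F q (a • u + fr.E x) f = a := by
  have hfH : f ∈ Submodule.span F ({u, f} : Set (Fin n → F)) := Submodule.subset_span (by simp)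
  rw [hf_add_left, hf_smul_left, hp.ef, fr.E_mem x f hfH, mul_one, add_zero]

theorem D_comb_E (hF : Fintype.card F = q ^ 2)
    (fr : Frame q (uperp q (Submodule.span F ({u, f} : Set (Fin n → F)))) m) (a : F)
    (x : Fin m → F) : fr.D hF (a • u + fr.E x) = x := by
  have huH : u ∈ Submodule.span F ({u, f} : Set (Fin n → F)) := Submodule.subset_span (by simp)
  have : a • u ∈ uperp q (uperp q (Submodule.span F ({u, f} : Set (Fin n → F)))) := by
    rw [uperp_uperp hF]
    exact Submodule.smul_mem _ _ huH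
  rw [map_add, fr.D_perp hF this, zero_add, fr.D_E hF]

end Fib

/-- The isotropic vectors orthogonal to and independent of `u`. -/
def Fib (u : IsoNZ n F q) : Type _ :=
  {v : Fin n → F // hermForm n F q v v = 0 ∧ hermForm n F q v u.1 = 0 ∧ ∀ a : F, v ≠ a • u.1}

instance (u : IsoNZ n F q) : Finite (Fib u) := by
  unfold Fib
  infer_instance

theorem card_Fib (hF : Fintype.card F = q ^ 2) (u : IsoNZ (m + 2) F q) :
    Nat.card (Fib u) = q ^ 2 * Nat.card (IsoNZ m F q) := by
  obtain ⟨f, hp⟩ := exists_hyp hF u.1 u.2.2 u.2.1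
  have hU : UNondeg q (uperp q (Submodule.span F ({u.1, f} : Set (Fin (m + 2) → F)))) :=
    unondeg_uperp hF (unondeg_span_hyp hF hp)
  obtain ⟨fr⟩ := exists_frame hF _ hU m (by rw [finrank_uperp hF, hp.finrank_span hF]; rfl)
  rw [← hF, ← Nat.card_eq_fintype_card, ← Nat.card_prod]
  refine Nat.card_congr ⟨fun v => (hermForm (m + 2) F q v.1 f, ⟨fr.D hF v.1, ?_, ?_⟩),
    fun p => ⟨p.1 • u.1 + fr.E p.2.1, ?_, ?_, ?_⟩, ?_, ?_⟩
  · have h1 := perp_iso_decomp hF hp fr v.2.2.1
    have h2 := v.2.1
    rw [h1, hf_comb_E hF hp fr] at h2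
    exact h2
  · intro h0
    have h1 := perp_iso_decomp hF hp fr v.2.2.1
    rw [h0, map_zero, add_zero] at h1
    exact v.2.2.2 _ h1
  · rw [hf_comb_E hF hp fr]
    exact p.2.2.1
  · exact hf_eq_zero_swap hF (hf_u_comb_E hF hp fr p.1 p.2.1)
  · intro a h
    have h1 := congrArg (fr.D hF) h
    rw [D_comb_E hF fr] at h1
    have huH : u.1 ∈ Submodule.span F ({u.1, f} : Set (Fin (m + 2) → F)) :=
      Submodule.subset_span (by simp)
    have : a • u.1 ∈ uperp q (uperp q (Submodule.span F ({u.1, f} : Set (Fin (m + 2) → F)))) := by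
      rw [uperp_uperp hF]
      exact Submodule.smul_mem _ _ huH
    rw [fr.D_perp hF this] at h1
    exact p.2.2.2 h1
  · intro v
    apply Subtype.ext
    exact (perp_iso_decomp hF hp fr v.2.2.1).symm
  · intro p
    apply Prod.ext
    · exact hf_comb_E_f hF hp fr p.1 p.2.1
    · apply Subtype.ext
      exact D_comb_E hF fr p.1 p.2.1

/-- Totally isotropic two-dimensional subspaces. -/
def TI2 (n : ℕ) (F : Type*) [Field F] (q : ℕ) : Type _ :=
  {W : Submodule F (Fin n → F) // Module.finrank F W = 2 ∧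
    ∀ u ∈ W, ∀ v ∈ W, hermForm n F q u v = 0}

instance : Finite (TI2 n F q) := by
  unfold TI2
  infer_instance

theorem pair_indep (u : IsoNZ n F q) (v : Fib u) : LinearIndependent F ![u.1, v.1] := by
  rw [LinearIndependent.pair_iff' u.2.2]
  intro a h
  exact v.2.2.2 a h.symm

theorem pair_ti (hF : Fintype.card F = q ^ 2) (u : IsoNZ n F q) (v : Fib u) :
    ∀ x ∈ Submodule.span F ({u.1, v.1} : Set (Fin n → F)),
      ∀ y ∈ Submodule.span F ({u.1, v.1} : Set (Fin n → F)), hermForm n F q x y = 0 := by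
  intro x hx y hy
  obtain ⟨a, b, rfl⟩ := Submodule.mem_span_pair.mp hx
  obtain ⟨a', b', rfl⟩ := Submodule.mem_span_pair.mp hy
  have h1 : hermForm n F q u.1 v.1 = 0 := hf_eq_zero_swap hF v.2.2.1
  have h2 : hermForm n F q v.1 u.1 = 0 := v.2.2.1
  have h3 : hermForm n F q u.1 u.1 = 0 := u.2.1
  have h4 : hermForm n F q v.1 v.1 = 0 := v.2.1
  simp only [hf_add_left, hf_add_right hF, hf_smul_left, hf_smul_right, h1, h2, h3, h4]
  ring

theorem pair_finrank (u : IsoNZ n F q) (v : Fib u) :
    Module.finrank F (Submodule.span F ({u.1, v.1} : Set (Fin n → F))) = 2 := by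
  have h1 := finrank_span_eq_card (pair_indep u v)
  have h2 : Set.range ![u.1, v.1] = {u.1, v.1} := by
    ext w
    simp only [Set.mem_range, Set.mem_insert_iff, Set.mem_singleton_iff]
    constructor
    · rintro ⟨i, rfl⟩
      fin_cases i
      · left; rfl
      · right; rfl
    · rintro (rfl | rfl)
      · exact ⟨0, rfl⟩
      · exact ⟨1, rfl⟩
  rw [h2] at h1
  simpa using h1

/-- The span of an orthogonal isotropic independent pair. -/
def spanTI (hF : Fintype.card F = q ^ 2) (b : Σ u : IsoNZ n F q, Fib u) : TI2 n F q :=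
  ⟨Submodule.span F {b.1.1, b.2.1}, pair_finrank b.1 b.2, pair_ti hF b.1 b.2⟩

/-- The fibre of `spanTI` over `W` is the set of ordered bases of `W`. -/
noncomputable def fiberEquiv (hF : Fintype.card F = q ^ 2) (W : TI2 n F q) :
    {b : Σ u : IsoNZ n F q, Fib u // spanTI hF b = W} ≃
      {s : Fin 2 → ↥W.1 // LinearIndependent F s} where
  toFun b :=
    have hW : Submodule.span F {b.1.1.1, b.1.2.1} = W.1 := congrArg Subtype.val b.2
    have hu : b.1.1.1 ∈ W.1 := by rw [← hW]; exact Submodule.subset_span (by simp)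
    have hv : b.1.2.1 ∈ W.1 := by rw [← hW]; exact Submodule.subset_span (by simp)
    ⟨![⟨b.1.1.1, hu⟩, ⟨b.1.2.1, hv⟩], by
      have hu0 : (⟨b.1.1.1, hu⟩ : ↥W.1) ≠ 0 := by
        intro h
        exact b.1.1.2.2 (congrArg Subtype.val h)
      rw [LinearIndependent.pair_iff' hu0]
      intro a h
      exact b.1.2.2.2.2 a (congrArg Subtype.val h).symm⟩
  invFun s :=
    have h0 : s.1 0 ≠ 0 := s.2.ne_zero 0
    have hind := (LinearIndependent.pair_iff' h0).mp (by
      have : ![s.1 0, s.1 1] = s.1 := by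
        ext i
        fin_cases i <;> rfl
      rw [this]
      exact s.2)
    ⟨⟨⟨(s.1 0).1, W.2.2 _ (s.1 0).2 _ (s.1 0).2, fun h => h0 (Subtype.ext h)⟩,
      ⟨(s.1 1).1, W.2.2 _ (s.1 1).2 _ (s.1 1).2, W.2.2 _ (s.1 1).2 _ (s.1 0).2, fun a h =>
        hind a (Subtype.ext h.symm)⟩⟩, by
      apply Subtype.ext
      change Submodule.span F {(s.1 0).1, (s.1 1).1} = W.1
      apply Submodule.eq_of_le_of_finrank_eq
      · rw [Submodule.span_le]
        rintro x (rfl | rfl)
        · exact (s.1 0).2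
        · exact (s.1 1).2
      · rw [W.2.1]
        exact pair_finrank ⟨(s.1 0).1, W.2.2 _ (s.1 0).2 _ (s.1 0).2,
          fun h => h0 (Subtype.ext h)⟩
          ⟨(s.1 1).1, W.2.2 _ (s.1 1).2 _ (s.1 1).2, W.2.2 _ (s.1 1).2 _ (s.1 0).2, fun a h =>
            hind a (Subtype.ext h.symm)⟩⟩
  left_inv b := by
    apply Subtype.ext
    apply Sigma.subtype_ext
    · apply Subtype.ext
      rfl
    · rfl
  right_inv s := by
    apply Subtype.ext
    funext i
    fin_cases i <;> rfl

/-- The main double count. -/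
theorem card_TI2_mul (hF : Fintype.card F = q ^ 2) (m : ℕ) :
    Nat.card (TI2 (m + 2) F q) * (((q ^ 2) ^ 2 - 1) * ((q ^ 2) ^ 2 - q ^ 2)) =
      Nat.card (IsoNZ (m + 2) F q) * (q ^ 2 * Nat.card (IsoNZ m F q)) := by
  classical
  have : Fintype (TI2 (m + 2) F q) := Fintype.ofFinite _
  have : Fintype (IsoNZ (m + 2) F q) := Fintype.ofFinite _
  have hbases : ∀ W : TI2 (m + 2) F q,
      Nat.card {b : Σ u : IsoNZ (m + 2) F q, Fib u // spanTI hF b = W} =
        ((q ^ 2) ^ 2 - 1) * ((q ^ 2) ^ 2 - q ^ 2) := by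
    intro W
    rw [Nat.card_congr (fiberEquiv hF W), card_linearIndependent (by rw [W.2.1]), W.2.1, hF]
    simp [Fin.prod_univ_two]
  have h1 : Nat.card (Σ u : IsoNZ (m + 2) F q, Fib u) =
      Nat.card (TI2 (m + 2) F q) * (((q ^ 2) ^ 2 - 1) * ((q ^ 2) ^ 2 - q ^ 2)) := by
    rw [← Nat.card_congr (Equiv.sigmaFiberEquiv (spanTI hF)), Nat.card_sigma]
    simp only [hbases, Finset.sum_const, Finset.card_univ, smul_eq_mul, Nat.card_eq_fintype_card]
  have h2 : Nat.card (Σ u : IsoNZ (m + 2) F q, Fib u) =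
      Nat.card (IsoNZ (m + 2) F q) * (q ^ 2 * Nat.card (IsoNZ m F q)) := by
    rw [Nat.card_sigma]
    simp only [card_Fib hF, Finset.sum_const, Finset.card_univ, smul_eq_mul,
      Nat.card_eq_fintype_card]
  rw [← h1, h2]

end Cfsg.Agent.Lib.Helper27.Unitary
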