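import Mathlib
import Cfsg.Agent.Lib.Helper27.UTi2
import Cfsg.Agent.Lib.Helper27.UOrder

set_option autoImplicit false

/-!
Counting totally isotropic `k`-frames and `k`-subspaces of the standard Hermitian space.
-/

namespace Cfsg.Agent.Lib.Helper27.Unitary

open Cfsg Matrix

variable {F : Type*} [Field F] [Fintype F] {q n m k : ℕ}

/-- Totally isotropic `k`-frames: linearly independent `k`-tuples of mutually orthogonal
isotropic vectors. -/
def TIF (k n : ℕ) (F : Type*) [Field F] (q : ℕ) : Type _ :=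
  {v : Fin k → (Fin n → F) // LinearIndependent F v ∧
    ∀ i j, hermForm n F q (v i) (v j) = 0}

instance : Finite (TIF k n F q) := by
  unfold TIF
  infer_instance

/-- Totally isotropic `k`-dimensional subspaces. -/
def TIk (k n : ℕ) (F : Type*) [Field F] (q : ℕ) : Type _ :=
  {W : Submodule F (Fin n → F) // Module.finrank F W = k ∧
    ∀ u ∈ W, ∀ v ∈ W, hermForm n F q u v = 0}

instance : Finite (TIk k n F q) := by
  unfold TIk
  infer_instance

theorem span_ti (hF : Fintype.card F = q ^ 2) (v : TIF k n F q) :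
    ∀ x ∈ Submodule.span F (Set.range v.1), ∀ y ∈ Submodule.span F (Set.range v.1),
      hermForm n F q x y = 0 := by
  intro x hx y hy
  obtain ⟨a, rfl⟩ := (Submodule.mem_span_range_iff_exists_fun F).mp hx
  obtain ⟨b, rfl⟩ := (Submodule.mem_span_range_iff_exists_fun F).mp hy
  rw [hf_sum_left]
  apply Finset.sum_eq_zero
  intro i _
  rw [hf_sum_right hF]
  apply Finset.sum_eq_zero
  intro j _
  rw [hf_smul_left, hf_smul_right, v.2.2 i j, mul_zero, mul_zero]

theorem span_finrank (v : TIF k n F q) :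
    Module.finrank F (Submodule.span F (Set.range v.1)) = k := by
  rw [finrank_span_eq_card v.2.1, Fintype.card_fin]

/-- The span of a totally isotropic frame. -/
def spanK (hF : Fintype.card F = q ^ 2) (v : TIF k n F q) : TIk k n F q :=
  ⟨Submodule.span F (Set.range v.1), span_finrank v, span_ti hF v⟩

/-- The fibre of `spanK` over `W` is the set of ordered bases of `W`. -/
noncomputable def fiberEquivK (hF : Fintype.card F = q ^ 2) (W : TIk k n F q) :
    {v : TIF k n F q // spanK hF v = W} ≃ {s : Fin k → ↥W.1 // LinearIndependent F s} where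
  toFun v :=
    have hW : Submodule.span F (Set.range v.1.1) = W.1 := congrArg Subtype.val v.2
    ⟨fun i => ⟨v.1.1 i, by rw [← hW]; exact Submodule.subset_span ⟨i, rfl⟩⟩, by
      apply LinearIndependent.of_comp W.1.subtype
      exact v.1.2.1⟩
  invFun s :=
    ⟨⟨fun i => (s.1 i).1, s.2.map' W.1.subtype (Submodule.ker_subtype _),
      fun i j => W.2.2 _ (s.1 i).2 _ (s.1 j).2⟩, by
      apply Subtype.ext
      change Submodule.span F (Set.range fun i => (s.1 i).1) = W.1
      apply Submodule.eq_of_le_of_finrank_eq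
      · rw [Submodule.span_le]
        rintro x ⟨i, rfl⟩
        exact (s.1 i).2
      · rw [W.2.1]
        have h := finrank_span_eq_card (s.2.map' W.1.subtype (Submodule.ker_subtype _))
        rw [Fintype.card_fin] at h
        exact h⟩
  left_inv v := by
    apply Subtype.ext
    apply Subtype.ext
    rfl
  right_inv s := by
    apply Subtype.ext
    funext i
    rfl

/-- The number of `k`-frames is the number of `k`-subspaces times `|GL_k(q²)|`. -/
theorem card_TIF_eq (hF : Fintype.card F = q ^ 2) (k n : ℕ) :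
    Nat.card (TIF k n F q) =
      Nat.card (TIk k n F q) * ∏ i : Fin k, ((q ^ 2) ^ k - (q ^ 2) ^ (i : ℕ)) := by
  classical
  have : Fintype (TIk k n F q) := Fintype.ofFinite _
  have hbases : ∀ W : TIk k n F q,
      Nat.card {v : TIF k n F q // spanK hF v = W} =
        ∏ i : Fin k, ((q ^ 2) ^ k - (q ^ 2) ^ (i : ℕ)) := by
    intro W
    rw [Nat.card_congr (fiberEquivK hF W), card_linearIndependent (by rw [W.2.1]), W.2.1, hF]
  rw [← Nat.card_congr (Equiv.sigmaFiberEquiv (spanK hF)), Nat.card_sigma]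
  simp only [hbases, Finset.sum_const, Finset.card_univ, smul_eq_mul, Nat.card_eq_fintype_card]

/-! ### The recursion for frames -/

/-- The completions of `u` to a totally isotropic `(k+1)`-frame. -/
def FibK (k : ℕ) (u : IsoNZ n F q) : Type _ :=
  {w : Fin k → (Fin n → F) //
    LinearIndependent F (Fin.cons u.1 w : Fin (k + 1) → (Fin n → F)) ∧
    (∀ i, hermForm n F q (w i) u.1 = 0) ∧ ∀ i j, hermForm n F q (w i) (w j) = 0}

instance (u : IsoNZ n F q) : Finite (FibK k u) := by
  unfold FibK
  infer_instance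

/-- Splitting off the first vector of a frame. -/
noncomputable def splitEquiv (hF : Fintype.card F = q ^ 2) (k n : ℕ) :
    TIF (k + 1) n F q ≃ Σ u : IsoNZ n F q, FibK k u where
  toFun v := ⟨⟨v.1 0, v.2.2 0 0, v.2.1.ne_zero 0⟩, ⟨Fin.tail v.1, by
    change LinearIndependent F (Fin.cons (v.1 0) (Fin.tail v.1) : Fin (k + 1) → (Fin n → F))
    rw [Fin.cons_self_tail]
    exact v.2.1, fun i => v.2.2 i.succ 0, fun i j => v.2.2 i.succ j.succ⟩⟩
  invFun p := ⟨Fin.cons p.1.1 p.2.1, p.2.2.1, by
    intro i j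
    refine Fin.cases ?_ (fun i' => ?_) i <;> refine Fin.cases ?_ (fun j' => ?_) j
    · simp only [Fin.cons_zero]
      exact p.1.2.1
    · simp only [Fin.cons_zero, Fin.cons_succ]
      exact hf_eq_zero_swap hF (p.2.2.2.1 j')
    · simp only [Fin.cons_zero, Fin.cons_succ]
      exact p.2.2.2.1 i'
    · simp only [Fin.cons_succ]
      exact p.2.2.2.2 i' j'⟩
  left_inv v := by
    apply Subtype.ext
    exact Fin.cons_self_tail v.1
  right_inv p := by
    apply Sigma.subtype_ext
    · apply Subtype.ext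
      rfl
    · rfl

section FibKcount

variable {u f : Fin n → F}

theorem D_u (hF : Fintype.card F = q ^ 2)
    (fr : Frame q (uperp q (Submodule.span F ({u, f} : Set (Fin n → F)))) m) :
    fr.D hF u = 0 := by
  have := D_comb_E hF fr (1 : F) (0 : Fin m → F)
  rwa [map_zero, add_zero, one_smul] at this

theorem hf_comb_E₂ (hF : Fintype.card F = q ^ 2) (hp : HypPair q u f)
    (fr : Frame q (uperp q (Submodule.span F ({u, f} : Set (Fin n → F)))) m) (a b : F)
    (x y : Fin m → F) :
    hermForm n F q (a • u + fr.E x) (b • u + fr.E y) = hermForm m F q x y := by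
  have huH : u ∈ Submodule.span F ({u, f} : Set (Fin n → F)) := Submodule.subset_span (by simp)
  have h1 : hermForm n F q (fr.E x) u = 0 := fr.E_mem x u huH
  have h2 : hermForm n F q u (fr.E y) = 0 := hf_eq_zero_swap hF (fr.E_mem y u huH)
  simp only [hf_add_left, hf_add_right hF, hf_smul_left, hf_smul_right, hp.ee, h1, h2,
    fr.hf_E hF]
  ring

/-- Linear independence of the completed frame in coordinates. -/
theorem li_cons_iff (hF : Fintype.card F = q ^ 2) (hu0 : u ≠ 0)
    (fr : Frame q (uperp q (Submodule.span F ({u, f} : Set (Fin n → F)))) m) (c : Fin k → F)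
    (x : Fin k → (Fin m → F)) :
    LinearIndependent F
      (Fin.cons u (fun i => c i • u + fr.E (x i)) : Fin (k + 1) → (Fin n → F)) ↔
      LinearIndependent F x := by
  rw [Fintype.linearIndependent_iff, Fintype.linearIndependent_iff]
  constructor
  · intro h g hg i
    have := h (Fin.cons (-∑ i, g i * c i) g) (by
      rw [Fin.sum_univ_succ]
      simp only [Fin.cons_zero, Fin.cons_succ, smul_add, smul_smul]
      rw [Finset.sum_add_distrib, ← Finset.sum_smul]
      have : ∑ i, g i • fr.E (x i) = fr.E (∑ i, g i • x i) := by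
        rw [map_sum]
        simp only [map_smul]
      rw [this, hg, map_zero, add_zero, neg_smul, neg_add_cancel]) i.succ
    simpa using this
  · intro h g hg
    rw [Fin.sum_univ_succ] at hg
    simp only [Fin.cons_zero, Fin.cons_succ] at hg
    have hD := congrArg (fr.D hF) hg
    rw [map_add, map_smul, D_u hF fr, smul_zero, zero_add, map_sum, map_zero] at hD
    simp only [map_smul, D_comb_E hF fr] at hD
    have hg' := h (fun i => g i.succ) hD
    have h0 : g 0 = 0 := by
      simp only [hg', zero_smul, Finset.sum_const_zero, add_zero] at hg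
      rcases smul_eq_zero.mp hg with h | h
      · exact h
      · exact absurd h hu0
    intro j
    refine Fin.cases h0 (fun i => hg' i) j

end FibKcount

theorem card_FibK (hF : Fintype.card F = q ^ 2) (k : ℕ) (u : IsoNZ (m + 2) F q) :
    Nat.card (FibK k u) = (q ^ 2) ^ k * Nat.card (TIF k m F q) := by
  obtain ⟨f, hp⟩ := exists_hyp hF u.1 u.2.2 u.2.1
  have hU : UNondeg q (uperp q (Submodule.span F ({u.1, f} : Set (Fin (m + 2) → F)))) :=
    unondeg_uperp hF (unondeg_span_hyp hF hp)
  obtain ⟨fr⟩ := exists_frame hF _ hU m (by rw [finrank_uperp hF, hp.finrank_span hF]; rfl)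
  have hdecomp : ∀ w : FibK k u, ∀ i,
      w.1 i = hermForm (m + 2) F q (w.1 i) f • u.1 + fr.E (fr.D hF (w.1 i)) :=
    fun w i => perp_iso_decomp hF hp fr (w.2.2.1 i)
  have hfun : ∀ w : FibK k u,
      w.1 = fun i => hermForm (m + 2) F q (w.1 i) f • u.1 + fr.E (fr.D hF (w.1 i)) :=
    fun w => funext (hdecomp w)
  have hcard : Nat.card ((Fin k → F) × TIF k m F q) = (q ^ 2) ^ k * Nat.card (TIF k m F q) := by
    rw [Nat.card_prod, Nat.card_fun, Nat.card_eq_fintype_card (α := F), hF, Nat.card_fin]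
  rw [← hcard]
  refine Nat.card_congr ⟨fun w => (fun i => hermForm (m + 2) F q (w.1 i) f,
      ⟨fun i => fr.D hF (w.1 i), ?_, ?_⟩),
    fun p => ⟨fun i => p.1 i • u.1 + fr.E (p.2.1 i), ?_, ?_, ?_⟩, ?_, ?_⟩
  · have h1 := w.2.1
    rw [hfun w] at h1
    exact (li_cons_iff hF u.2.2 fr _ _).mp h1
  · intro i j
    have h1 := w.2.2.2 i j
    rw [hdecomp w i, hdecomp w j, hf_comb_E₂ hF hp fr] at h1
    exact h1
  · exact (li_cons_iff hF u.2.2 fr _ _).mpr p.2.2.1
  · intro i
    exact hf_eq_zero_swap hF (hf_u_comb_E hF hp fr (p.1 i) (p.2.1 i))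
  · intro i j
    rw [hf_comb_E₂ hF hp fr]
    exact p.2.2.2 i j
  · intro w
    apply Subtype.ext
    exact (hfun w).symm
  · intro p
    apply Prod.ext
    · funext i
      exact hf_comb_E_f hF hp fr (p.1 i) (p.2.1 i)
    · apply Subtype.ext
      funext i
      exact D_comb_E hF fr (p.1 i) (p.2.1 i)

theorem card_TIF_zero : Nat.card (TIF 0 n F q) = 1 := by
  rw [Nat.card_eq_one_iff_unique]
  refine ⟨⟨fun a b => ?_⟩, ⟨⟨fun i => i.elim0, linearIndependent_empty_type, fun i => i.elim0⟩⟩⟩
  apply Subtype.ext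
  funext i
  exact i.elim0

theorem card_TIF_succ (hF : Fintype.card F = q ^ 2) (k m : ℕ) :
    Nat.card (TIF (k + 1) (m + 2) F q) =
      Nat.card (IsoNZ (m + 2) F q) * ((q ^ 2) ^ k * Nat.card (TIF k m F q)) := by
  classical
  have : Fintype (IsoNZ (m + 2) F q) := Fintype.ofFinite _
  rw [Nat.card_congr (splitEquiv hF k (m + 2)), Nat.card_sigma]
  simp only [card_FibK hF, Finset.sum_const, Finset.card_univ, smul_eq_mul,
    Nat.card_eq_fintype_card]

/-! ### Comparison with the order of `GU` -/

theorem card_N1_mul (hF : Fintype.card F = q ^ 2) (N : ℕ) :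
    Nat.card (N1 (N + 1) F q) * Nat.card (N1 (N + 2) F q) =
      Nat.card (IsoNZ (N + 2) F q) * q ^ (2 * N + 1) := by
  have h1 : Nat.card (N1 (N + 1) F q) =
      (if Even (N + 1) then q ^ (N + 1 - 1) * (q ^ (N + 1) - 1)
        else q ^ (N + 1 - 1) * (q ^ (N + 1) + 1)) := Cfsg.Agent.S0284.result hF (N + 1)
  have h2 : Nat.card (N1 (N + 2) F q) =
      (if Even (N + 2) then q ^ (N + 2 - 1) * (q ^ (N + 2) - 1)
        else q ^ (N + 2 - 1) * (q ^ (N + 2) + 1)) := Cfsg.Agent.S0284.result hF (N + 2)
  rw [h1, h2, card_IsoNZ hF]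
  have e1 : N + 1 - 1 = N := by omega
  have e2 : N + 2 - 1 = N + 1 := by omega
  rw [e1, e2]
  have e3 : 2 * N + 1 = N + (N + 1) := by omega
  rw [e3, pow_add]
  by_cases hN : Even N
  · have h3 : ¬ Even (N + 1) := by
      rw [Nat.even_add_one]; exact not_not.mpr hN
    have h4 : Even (N + 2) := by
      rw [Nat.even_add]; simp [hN]
    rw [if_neg h3, if_pos h4, if_pos h4]
    ring
  · have h3 : Even (N + 1) := by
      rw [Nat.even_add_one]; exact hN
    have h4 : ¬ Even (N + 2) := by
      rw [Nat.even_add]; simp [hN]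
    rw [if_pos h3, if_neg h4, if_neg h4]
    ring

theorem card_GU_add_two (hF : Fintype.card F = q ^ 2) (N : ℕ) :
    Nat.card ↥(GU (N + 2) F q) =
      Nat.card (IsoNZ (N + 2) F q) * q ^ (2 * N + 1) * Nat.card ↥(GU N F q) := by
  rw [card_GU_succ hF (N + 1), card_GU_succ hF N, ← card_N1_mul hF N]
  ring

/-- `|GU_{m+2k}| = #(t.i. k-frames) · q^{k(2m+k)} · |GU_m|`. -/
theorem card_GU_eq_TIF (hF : Fintype.card F = q ^ 2) (m k : ℕ) :
    Nat.card ↥(GU (m + 2 * k) F q) =
      Nat.card (TIF k (m + 2 * k) F q) * q ^ (k * (2 * m + k)) * Nat.card ↥(GU m F q) := by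
  induction k with
  | zero =>
    rw [card_TIF_zero]
    simp
  | succ k ih =>
    have e : m + 2 * (k + 1) = m + 2 * k + 2 := by ring
    rw [e, card_GU_add_two hF, card_TIF_succ hF, ih]
    have e3 : q ^ (2 * (m + 2 * k) + 1) * q ^ (k * (2 * m + k)) =
        (q ^ 2) ^ k * q ^ ((k + 1) * (2 * m + (k + 1))) := by
      rw [← pow_mul, ← pow_add, ← pow_add]
      congr 1
      ring
    calc Nat.card (IsoNZ (m + 2 * k + 2) F q) * q ^ (2 * (m + 2 * k) + 1) *
          (Nat.card (TIF k (m + 2 * k) F q) * q ^ (k * (2 * m + k)) * Nat.card ↥(GU m F q))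
        = Nat.card (IsoNZ (m + 2 * k + 2) F q) * Nat.card (TIF k (m + 2 * k) F q) *
          (q ^ (2 * (m + 2 * k) + 1) * q ^ (k * (2 * m + k))) * Nat.card ↥(GU m F q) := by ring
      _ = _ := by rw [e3]; ring

end Cfsg.Agent.Lib.Helper27.Unitary
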